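import Mathlib

/-!
# Basic facts on commutator subgroups `⁅H, L⁆` (helper1's shared library)
-/

set_option autoImplicit false

namespace Cfsg.Agent.Helper1

open Subgroup
open scoped commutatorElement

variable {G : Type*} [Group G]

/-- To be in the normaliser it is enough to conjugate into the subgroup, for a whole subgroup of
elements. -/
theorem le_normalizer_of_forall_conj_mem {H N : Subgroup G}
    (h : ∀ g ∈ H, ∀ x ∈ N, g * x * g⁻¹ ∈ N) : H ≤ normalizer (N : Set G) := by
  intro g hg
  rw [Subgroup.mem_normalizer_iff]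
  intro x
  constructor
  · exact h g hg x
  · intro hx
    have := h g⁻¹ (H.inv_mem hg) _ hx
    have h2 : g⁻¹ * (g * x * g⁻¹) * g⁻¹⁻¹ = x := by group
    rwa [h2] at this

theorem conj_mem_commutator_left {H L : Subgroup G} {g : G} (hg : g ∈ H) {x : G}
    (hx : x ∈ ⁅H, L⁆) : g * x * g⁻¹ ∈ ⁅H, L⁆ := by
  rw [Subgroup.commutator_def] at hx
  induction hx using Subgroup.closure_induction with
  | mem y hy =>
    obtain ⟨h, hh, l, hl, rfl⟩ := hy
    have : g * ⁅h, l⁆ * g⁻¹ = ⁅g * h, l⁆ * ⁅g, l⁆⁻¹ := by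
      simp only [commutatorElement_def]; group
    rw [this]
    exact Subgroup.mul_mem _ (Subgroup.commutator_mem_commutator (H.mul_mem hg hh) hl)
      (Subgroup.inv_mem _ (Subgroup.commutator_mem_commutator hg hl))
  | one => simp
  | mul y z _ _ hy hz =>
    have : g * (y * z) * g⁻¹ = (g * y * g⁻¹) * (g * z * g⁻¹) := by group
    rw [this]; exact Subgroup.mul_mem _ hy hz
  | inv y _ hy =>
    have : g * y⁻¹ * g⁻¹ = (g * y * g⁻¹)⁻¹ := by group
    rw [this]; exact Subgroup.inv_mem _ hy

theorem conj_mem_commutator_right {H L : Subgroup G} {g : G} (hg : g ∈ L) {x : G}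
    (hx : x ∈ ⁅H, L⁆) : g * x * g⁻¹ ∈ ⁅H, L⁆ := by
  rw [Subgroup.commutator_comm] at hx ⊢
  exact conj_mem_commutator_left hg hx

theorem le_normalizer_commutator_left (H L : Subgroup G) :
    H ≤ normalizer ((⁅H, L⁆ : Subgroup G) : Set G) :=
  le_normalizer_of_forall_conj_mem fun _ hg _ hx => conj_mem_commutator_left hg hx

theorem le_normalizer_commutator_right (H L : Subgroup G) :
    L ≤ normalizer ((⁅H, L⁆ : Subgroup G) : Set G) :=
  le_normalizer_of_forall_conj_mem fun _ hg _ hx => conj_mem_commutator_right hg hx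

/-- If `A` normalises `K` then `⁅K, A⁆ ≤ K`. -/
theorem commutator_le_of_le_normalizer {K A : Subgroup G} (hAK : A ≤ normalizer (K : Set G)) :
    ⁅K, A⁆ ≤ K := by
  rw [Subgroup.commutator_le]
  intro k hk a ha
  have h1 : a * k⁻¹ * a⁻¹ ∈ K := (Subgroup.mem_normalizer_iff.mp (hAK ha) k⁻¹).mp (K.inv_mem hk)
  have : ⁅k, a⁆ = k * (a * k⁻¹ * a⁻¹) := by simp only [commutatorElement_def]; group
  rw [this]
  exact K.mul_mem hk h1

/-- An element normalising `H` and `L` normalises `⁅H, L⁆`. -/
theorem normalizer_inf_normalizer_le_normalizer_commutator (H L : Subgroup G) :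
    normalizer (H : Set G) ⊓ normalizer (L : Set G) ≤ normalizer ((⁅H, L⁆ : Subgroup G) : Set G) := by
  intro g hg
  simp_rw [Subgroup.mem_inf, Subgroup.mem_normalizer_iff_map_conj_eq] at hg ⊢
  rw [Subgroup.map_commutator, hg.1, hg.2]

theorem centralizer_le_normalizer (L : Subgroup G) :
    centralizer (L : Set G) ≤ normalizer (L : Set G) := by
  intro c hc
  rw [Subgroup.mem_normalizer_iff]
  intro x
  rw [Subgroup.mem_centralizer_iff] at hc
  constructor
  · intro hx
    have : c * x * c⁻¹ = x := by rw [← hc x hx]; group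
    rwa [this]
  · intro hx
    have h1 := hc _ hx
    have : x = c * x * c⁻¹ := by
      calc x = c⁻¹ * (c * x * c⁻¹ * c) := by group
        _ = c⁻¹ * (c * (c * x * c⁻¹)) := by rw [h1]
        _ = c * x * c⁻¹ := by group
    rwa [this]

end Cfsg.Agent.Helper1
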