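import Mathlib
import Cfsg.Agent.Lib.Helper1.CommutatorBasic

/-!
# Characteristic subgroups of a subgroup, seen in the ambient group (helper1's shared library)
-/

set_option autoImplicit false

namespace Cfsg.Agent.Helper1

open Subgroup

variable {G : Type*} [Group G]

/-- A characteristic subgroup `C` of `K`, mapped into `G`, is normalised by `N_G(K)`. -/
theorem normalizer_le_normalizer_map_of_characteristic (K : Subgroup G) (C : Subgroup K)
    [hC : C.Characteristic] :
    normalizer (K : Set G) ≤ normalizer ((C.map K.subtype : Subgroup G) : Set G) := by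
  apply le_normalizer_of_forall_conj_mem
  intro g hg x hx
  obtain ⟨c, hc, rfl⟩ := Subgroup.mem_map.mp hx
  let φ : MulAut K := K.normalizerMonoidHom ⟨g, hg⟩
  have h1 : φ c ∈ C := by
    have := (Subgroup.characteristic_iff_le_map.mp hC φ)
    have h2 : C.map φ.toMonoidHom = C := Subgroup.characteristic_iff_map_eq.mp hC φ
    rw [← h2]
    exact Subgroup.mem_map.mpr ⟨c, hc, rfl⟩
  refine Subgroup.mem_map.mpr ⟨φ c, h1, ?_⟩
  rfl

theorem card_map_subtype (K : Subgroup G) (C : Subgroup K) :
    Nat.card (C.map K.subtype : Subgroup G) = Nat.card C :=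
  (Nat.card_congr (C.equivMapOfInjective K.subtype K.subtype_injective).toEquiv).symm

theorem isSolvable_map_subtype (K : Subgroup G) (C : Subgroup K) [h : Group.IsSolvable C] :
    Group.IsSolvable (C.map K.subtype : Subgroup G) :=
  Group.isSolvable_of_isSolvable_injective
    (f := (C.equivMapOfInjective K.subtype K.subtype_injective).symm.toMonoidHom)
    (C.equivMapOfInjective K.subtype K.subtype_injective).symm.injective

end Cfsg.Agent.Helper1
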