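import Mathlib

set_option autoImplicit false

namespace Cfsg.Agent.Helper1

open Subgroup
open scoped Pointwise

variable {G : Type*} [Group G]

theorem mem_conj_smul_iff {H : Subgroup G} {g x : G} :
    x ∈ MulAut.conj g • H ↔ g⁻¹ * x * g ∈ H := by
  rw [Subgroup.mem_pointwise_smul_iff_inv_smul_mem]
  simp [MulAut.smul_def]

/-- Elementwise description of complements. -/
theorem isComplement'_of_forall {A H : Subgroup G} (hdisj : A ⊓ H = ⊥)
    (hmul : ∀ g : G, ∃ a ∈ A, ∃ h ∈ H, g = a * h) : IsComplement' A H := by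
  apply isComplement'_of_disjoint_and_mul_eq_univ (disjoint_iff.mpr hdisj)
  apply Set.eq_univ_of_forall
  intro g
  obtain ⟨a, ha, h, hh, rfl⟩ := hmul g
  exact Set.mul_mem_mul ha hh

theorem IsComplement'.exists_mul {A H : Subgroup G} (hc : IsComplement' A H) (g : G) :
    ∃ a ∈ A, ∃ h ∈ H, g = a * h := by
  obtain ⟨⟨⟨a, ha⟩, ⟨h, hh⟩⟩, hah⟩ := hc.existsUnique g |>.exists
  exact ⟨a, ha, h, hh, hah.symm⟩

/-- Complements restrict to a subgroup `L` containing the complement `H`. -/
theorem isComplement'_subgroupOf {A H L : Subgroup G} (hdisj : A ⊓ H = ⊥) (hHL : H ≤ L)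
    (hmul : ∀ l ∈ L, ∃ a ∈ A, ∃ h ∈ H, l = a * h) :
    IsComplement' (A.subgroupOf L) (H.subgroupOf L) := by
  apply isComplement'_of_forall
  · rw [eq_bot_iff]
    intro x hx
    rw [Subgroup.mem_inf, Subgroup.mem_subgroupOf, Subgroup.mem_subgroupOf] at hx
    have : (x : G) ∈ A ⊓ H := hx
    rw [hdisj, Subgroup.mem_bot] at this
    rw [Subgroup.mem_bot]
    exact Subtype.ext this
  · intro l
    obtain ⟨a, ha, h, hh, hl⟩ := hmul l l.2
    have haL : a ∈ L := by
      have : a = l * h⁻¹ := by rw [hl]; group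
      rw [this]
      exact L.mul_mem l.2 (L.inv_mem (hHL hh))
    exact ⟨⟨a, haL⟩, Subgroup.mem_subgroupOf.mpr ha, ⟨h, hHL hh⟩, Subgroup.mem_subgroupOf.mpr hh,
      Subtype.ext hl⟩

/-- Conjugacy inside a subgroup gives conjugacy in the group. -/
theorem conj_of_conj_subgroupOf {H K L : Subgroup G} (hHL : H ≤ L) (hKL : K ≤ L) (l : L)
    (h : MulAut.conj l • H.subgroupOf L = K.subgroupOf L) : MulAut.conj (l : G) • H = K := by
  ext x
  rw [Subgroup.mem_pointwise_smul_iff_inv_smul_mem]
  constructor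
  · intro hx
    have hxL : x ∈ L := by
      have h1 : (MulAut.conj (l : G))⁻¹ • x ∈ L := hHL hx
      simp only [MulAut.smul_def, map_inv, MulAut.inv_apply, MulAut.conj_symm_apply] at h1
      have : x = (l : G) * ((l : G)⁻¹ * x * l) * (l : G)⁻¹ := by group
      rw [this]
      exact L.mul_mem (L.mul_mem l.2 h1) (L.inv_mem l.2)
    have h2 : (⟨x, hxL⟩ : L) ∈ MulAut.conj l • H.subgroupOf L := by
      rw [Subgroup.mem_pointwise_smul_iff_inv_smul_mem, Subgroup.mem_subgroupOf]
      simpa [MulAut.smul_def] using hx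
    rw [h, Subgroup.mem_subgroupOf] at h2
    exact h2
  · intro hx
    have hxL : x ∈ L := hKL hx
    have h2 : (⟨x, hxL⟩ : L) ∈ K.subgroupOf L := Subgroup.mem_subgroupOf.mpr hx
    rw [← h, Subgroup.mem_pointwise_smul_iff_inv_smul_mem, Subgroup.mem_subgroupOf] at h2
    simpa [MulAut.smul_def] using h2

/-- Image of a complement pair in a quotient by a normal subgroup contained in the normal
factor. -/
theorem isComplement'_map_mk'_of_le_left {N H M : Subgroup G} [N.Normal] [M.Normal]
    (hc : IsComplement' N H) (hMN : M ≤ N) :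
    IsComplement' (N.map (QuotientGroup.mk' M)) (H.map (QuotientGroup.mk' M)) := by
  apply isComplement'_of_forall
  · rw [eq_bot_iff]
    rintro x ⟨⟨n, hn, rfl⟩, ⟨h, hh, hnh⟩⟩
    rw [Subgroup.mem_bot]
    have h1 : n⁻¹ * h ∈ M := by
      rw [← QuotientGroup.eq_one_iff]
      change (QuotientGroup.mk' M) (n⁻¹ * h) = 1
      rw [map_mul, map_inv, hnh, inv_mul_cancel]
    have h2 : h ∈ N := by
      have : h = n * (n⁻¹ * h) := by group
      rw [this]; exact N.mul_mem hn (hMN h1)
    have h3 : h ∈ N ⊓ H := ⟨h2, hh⟩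
    rw [hc.disjoint.eq_bot, Subgroup.mem_bot] at h3
    rw [← hnh, h3, map_one]
  · intro x
    obtain ⟨g, rfl⟩ := QuotientGroup.mk'_surjective M x
    obtain ⟨n, hn, h, hh, rfl⟩ := IsComplement'.exists_mul hc g
    exact ⟨_, Subgroup.mem_map_of_mem _ hn, _, Subgroup.mem_map_of_mem _ hh, map_mul _ _ _⟩

/-- Image of a complement pair in a quotient by a normal subgroup contained in the complement. -/
theorem isComplement'_map_mk'_of_le_right {N H M : Subgroup G} [N.Normal] [M.Normal]
    (hc : IsComplement' N H) (hMH : M ≤ H) :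
    IsComplement' (N.map (QuotientGroup.mk' M)) (H.map (QuotientGroup.mk' M)) := by
  apply isComplement'_of_forall
  · rw [eq_bot_iff]
    rintro x ⟨⟨n, hn, rfl⟩, ⟨h, hh, hnh⟩⟩
    rw [Subgroup.mem_bot]
    have h1 : h⁻¹ * n ∈ M := by
      rw [← QuotientGroup.eq_one_iff]
      change (QuotientGroup.mk' M) (h⁻¹ * n) = 1
      rw [map_mul, map_inv, hnh, inv_mul_cancel]
    have h2 : n ∈ H := by
      have : n = h * (h⁻¹ * n) := by group
      rw [this]; exact H.mul_mem hh (hMH h1)
    have h3 : n ∈ N ⊓ H := ⟨hn, h2⟩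
    rw [hc.disjoint.eq_bot, Subgroup.mem_bot] at h3
    rw [h3, map_one]
  · intro x
    obtain ⟨g, rfl⟩ := QuotientGroup.mk'_surjective M x
    obtain ⟨n, hn, h, hh, rfl⟩ := IsComplement'.exists_mul hc g
    exact ⟨_, Subgroup.mem_map_of_mem _ hn, _, Subgroup.mem_map_of_mem _ hh, map_mul _ _ _⟩

/-- Conjugacy of images in a quotient lifts to conjugacy modulo the kernel. -/
theorem sup_eq_of_conj_map_mk' {H K M : Subgroup G} [M.Normal] (g : G)
    (h : MulAut.conj ((QuotientGroup.mk' M) g) • H.map (QuotientGroup.mk' M) =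
      K.map (QuotientGroup.mk' M)) :
    (MulAut.conj g • H) ⊔ M = K ⊔ M := by
  have h1 : (MulAut.conj g • H).map (QuotientGroup.mk' M) =
      MulAut.conj ((QuotientGroup.mk' M) g) • H.map (QuotientGroup.mk' M) := by
    ext x
    rw [mem_conj_smul_iff]
    constructor
    · rintro ⟨y, hy, rfl⟩
      have hy' : g⁻¹ * y * g ∈ H := mem_conj_smul_iff.mp hy
      refine ⟨_, hy', ?_⟩
      simp only [map_mul, map_inv]
    · rintro ⟨y, hy, hyx⟩
      refine ⟨g * y * g⁻¹, ?_, ?_⟩
      · apply SetLike.mem_coe.mpr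
        rw [mem_conj_smul_iff]
        have : g⁻¹ * (g * y * g⁻¹) * g = y := by group
        rw [this]; exact hy
      · rw [map_mul, map_mul, hyx, map_inv]
        group
  rw [← h1] at h
  have h2 := congrArg (Subgroup.comap (QuotientGroup.mk' M)) h
  rw [QuotientGroup.comap_map_mk', QuotientGroup.comap_map_mk'] at h2
  rw [sup_comm, h2, sup_comm]

/-- A conjugate of a complement of a normal subgroup is a complement. -/
theorem isComplement'_conj {N H : Subgroup G} [N.Normal] (hc : IsComplement' N H) (g : G) :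
    IsComplement' N (MulAut.conj g • H) := by
  apply isComplement'_of_forall
  · rw [eq_bot_iff]
    intro x hx
    obtain ⟨hxN, hxH⟩ := Subgroup.mem_inf.mp hx
    rw [Subgroup.mem_pointwise_smul_iff_inv_smul_mem] at hxH
    simp only [MulAut.smul_def, map_inv, MulAut.inv_apply, MulAut.conj_symm_apply] at hxH
    have h1 : g⁻¹ * x * g ∈ N ⊓ H := ⟨‹N.Normal›.conj_mem' x hxN g, hxH⟩
    rw [hc.disjoint.eq_bot, Subgroup.mem_bot] at h1
    rw [Subgroup.mem_bot]
    have : x = g * (g⁻¹ * x * g) * g⁻¹ := by group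
    rw [this, h1]; group
  · intro x
    obtain ⟨n, hn, h, hh, hx⟩ := IsComplement'.exists_mul hc (g⁻¹ * x * g)
    refine ⟨g * n * g⁻¹, ‹N.Normal›.conj_mem n hn g, g * h * g⁻¹, ?_, ?_⟩
    · rw [Subgroup.mem_pointwise_smul_iff_inv_smul_mem]
      simpa [MulAut.smul_def, mul_assoc] using hh
    · have : x = g * (g⁻¹ * x * g) * g⁻¹ := by group
      rw [this, hx]; group

theorem conj_smul_conj_smul (g h : G) (H : Subgroup G) :
    MulAut.conj g • (MulAut.conj h • H) = MulAut.conj (g * h) • H := by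
  rw [← mul_smul, ← map_mul]

end Cfsg.Agent.Helper1
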