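import Mathlib

set_option autoImplicit false

namespace Cfsg.Agent.Helper1

open Subgroup
open scoped Pointwise

variable {G : Type*} [Group G]

/-- Cardinality of the preimage of a subgroup of a quotient. -/
theorem card_comap_mk' (M : Subgroup G) [M.Normal] (X : Subgroup (G ⧸ M)) :
    Nat.card (X.comap (QuotientGroup.mk' M)) = Nat.card M * Nat.card X :=
  QuotientGroup.card_preimage_mk M (X : Set (G ⧸ M))

/-- Cardinality of the image in a quotient of a subgroup containing the kernel. -/
theorem card_map_mk'_of_le (M : Subgroup G) [M.Normal] {X : Subgroup G} (h : M ≤ X) :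
    Nat.card M * Nat.card (X.map (QuotientGroup.mk' M)) = Nat.card X := by
  rw [← card_comap_mk', QuotientGroup.comap_map_mk', sup_eq_right.mpr h]

/-- Cardinality of the image in a quotient of a subgroup meeting the kernel trivially. -/
theorem card_map_mk'_of_disjoint (M : Subgroup G) [M.Normal] {X : Subgroup G} (h : M ⊓ X = ⊥) :
    Nat.card (X.map (QuotientGroup.mk' M)) = Nat.card X := by
  symm
  apply Nat.card_congr
  refine Equiv.ofBijective ((QuotientGroup.mk' M).subgroupMap X) ⟨?_, ?_⟩
  · intro x y hxy
    have h1 : (QuotientGroup.mk' M) (x : G) = (QuotientGroup.mk' M) (y : G) :=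
      congrArg Subtype.val hxy
    have h2 : (x : G)⁻¹ * (y : G) ∈ M := by
      rw [← QuotientGroup.eq_one_iff]
      change (QuotientGroup.mk' M) ((x : G)⁻¹ * (y : G)) = 1
      rw [map_mul, map_inv, h1, inv_mul_cancel]
    have h3 : (x : G)⁻¹ * (y : G) ∈ M ⊓ X := ⟨h2, X.mul_mem (X.inv_mem x.2) y.2⟩
    rw [h, Subgroup.mem_bot] at h3
    apply Subtype.ext
    calc (x : G) = x * ((x : G)⁻¹ * y) := by rw [h3, mul_one]
      _ = y := by group
  · exact (QuotientGroup.mk' M).subgroupMap_surjective X

theorem card_quotient_mul_card (M : Subgroup G) [M.Normal] :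
    Nat.card M * Nat.card (G ⧸ M) = Nat.card G := by
  have := M.card_mul_index
  rwa [Subgroup.index] at this

/-- Conjugation preserves cardinality. -/
theorem card_conj_smul (g : G) (H : Subgroup G) : Nat.card (MulAut.conj g • H : Subgroup G) = Nat.card H := by
  symm
  apply Nat.card_congr
  exact (Subgroup.equivSMul (MulAut.conj g) H).toEquiv

end Cfsg.Agent.Helper1
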