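import Mathlib

set_option autoImplicit false
set_option linter.style.haveILetI false

namespace Cfsg.Agent.Helper1

open Subgroup
open scoped IsMulCommutative commutatorElement

/-- A nontrivial finite solvable group has a nontrivial abelian normal subgroup. -/
theorem exists_normal_abelian_of_solvable (H : Type*) [Group H] [Group.IsSolvable H] [Nontrivial H] :
    ∃ A : Subgroup H, A.Characteristic ∧ A ≠ ⊥ ∧ IsMulCommutative A := by
  classical
  obtain ⟨n, hn⟩ := Group.IsSolvable.solvable (G := H)
  have hex : ∃ n, derivedSeries H n = ⊥ := ⟨n, hn⟩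
  set m := Nat.find hex with hm
  have hm1 : derivedSeries H m = ⊥ := Nat.find_spec hex
  have hm0 : m ≠ 0 := by
    intro h0
    rw [h0, derivedSeries_zero] at hm1
    exact top_ne_bot hm1
  obtain ⟨k, hk⟩ := Nat.exists_eq_succ_of_ne_zero hm0
  have hkne : derivedSeries H k ≠ ⊥ := by
    intro h
    have : m ≤ k := Nat.find_min' hex h
    omega
  refine ⟨derivedSeries H k, inferInstance, hkne, ?_⟩
  rw [hk, derivedSeries_succ] at hm1
  constructor
  constructor
  intro a b
  have h1 : ⁅(a : H), (b : H)⁆ ∈ ⁅derivedSeries H k, derivedSeries H k⁆ :=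
    Subgroup.commutator_mem_commutator a.2 b.2
  rw [hm1, Subgroup.mem_bot, commutatorElement_eq_one_iff_mul_comm] at h1
  exact Subtype.ext h1

/-- A nontrivial finite solvable group has a nontrivial normal `p`-subgroup for some prime. -/
theorem exists_normal_pSubgroup_of_solvable (H : Type*) [Group H] [Finite H] [Group.IsSolvable H]
    [Nontrivial H] :
    ∃ p : ℕ, p.Prime ∧ ∃ P : Subgroup H, P.Normal ∧ P ≠ ⊥ ∧ IsPGroup p P := by
  obtain ⟨A, hAchar, hAne, hAc⟩ := exists_normal_abelian_of_solvable H
  haveI : A.Normal := inferInstance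
  have hcard : Nat.card A ≠ 1 := by
    intro h
    apply hAne
    exact Subgroup.card_eq_one.mp h
  obtain ⟨p, hp, hpA⟩ := Nat.exists_prime_and_dvd hcard
  haveI : Fact p.Prime := ⟨hp⟩
  obtain ⟨Q⟩ : Nonempty (Sylow p A) := inferInstance
  haveI : (Q : Subgroup A).Normal := inferInstance
  haveI : (Q : Subgroup A).Characteristic := Sylow.characteristic_of_normal Q inferInstance
  refine ⟨p, hp, (Q : Subgroup A).map A.subtype, inferInstance, ?_, Q.2.map _⟩
  intro h
  have h2 : (Q : Subgroup A) = ⊥ := by
    rw [eq_bot_iff]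
    intro x hx
    have : A.subtype x ∈ (Q : Subgroup A).map A.subtype := Subgroup.mem_map_of_mem _ hx
    rw [h, Subgroup.mem_bot] at this
    rw [Subgroup.mem_bot]
    exact Subtype.ext this
  exact Q.ne_bot_of_dvd_card hpA h2

end Cfsg.Agent.Helper1
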