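import Mathlib
import Cfsg.Agent.S0001
import Cfsg.Agent.Lib.Helper1.Complement
import Cfsg.Agent.Lib.Helper1.QuotientCard

/-!
# Coprime action, internal form (helper1's shared library)

`A` and `N` are subgroups of a finite group `G`, `A` normalises `N`, their orders are coprime and one
of them is solvable.
-/

set_option autoImplicit false

namespace Cfsg.Agent.Helper1

open Subgroup
open scoped Pointwise

variable {G : Type*} [Group G]

/-- Elements of `N ⊔ A` are products, when `A` normalises `N`. -/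
theorem exists_mul_of_mem_sup {N A : Subgroup G} (hAN : A ≤ normalizer (N : Set G)) {x : G}
    (hx : x ∈ N ⊔ A) : ∃ n ∈ N, ∃ a ∈ A, x = n * a := by
  have h := Subgroup.coe_mul_of_right_le_normalizer_left N A hAN
  have hx' : x ∈ ((N ⊔ A : Subgroup G) : Set G) := hx
  rw [h] at hx'
  obtain ⟨n, hn, a, ha, rfl⟩ := hx'
  exact ⟨n, hn, a, ha, rfl⟩

theorem disjoint_subgroupOf {N B L : Subgroup G} (h : N ⊓ B = ⊥) :
    Disjoint (N.subgroupOf L) (B.subgroupOf L) := by
  rw [disjoint_iff, eq_bot_iff]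
  intro x hx
  rw [Subgroup.mem_inf, Subgroup.mem_subgroupOf, Subgroup.mem_subgroupOf] at hx
  have : (x : G) ∈ N ⊓ B := hx
  rw [h, Subgroup.mem_bot] at this
  rw [Subgroup.mem_bot]
  exact Subtype.ext this

/-- Internal Schur–Zassenhaus conjugacy: a subgroup `B ≤ N A` with `|B| = |A|` is conjugate to `A` by
an element of `N`. -/
theorem sz_internal [Finite G] (N A B : Subgroup G) (hAN : A ≤ normalizer (N : Set G))
    (hcop : (Nat.card A).Coprime (Nat.card N))
    (hsolv : Group.IsSolvable A ∨ Group.IsSolvable N) (hB : B ≤ N ⊔ A)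
    (hcard : Nat.card B = Nat.card A) : ∃ n ∈ N, MulAut.conj n • B = A := by
  classical
  set L := N ⊔ A with hL
  have hNL : N ≤ L := le_sup_left
  have hAL : A ≤ L := le_sup_right
  have hNA : N ⊓ A = ⊥ := (Subgroup.disjoint_of_coprime_natCard hcop.symm).eq_bot
  have hNB : N ⊓ B = ⊥ := (Subgroup.disjoint_of_coprime_natCard (hcard ▸ hcop.symm)).eq_bot
  haveI hnorm : (N.subgroupOf L).Normal := by
    have := Subgroup.normal_subgroupOf_sup_of_le_normalizer hAN
    rwa [sup_comm] at this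
  have hcA : IsComplement' (N.subgroupOf L) (A.subgroupOf L) :=
    isComplement'_subgroupOf hNA hAL (fun l hl => exists_mul_of_mem_sup hAN hl)
  have hcardL : Nat.card L = Nat.card N * Nat.card A := by
    have := hcA.card_mul_card
    rw [Cfsg.Agent.S0001.card_subgroupOf_of_le hNL, Cfsg.Agent.S0001.card_subgroupOf_of_le hAL] at this
    exact this.symm
  have hcB : IsComplement' (N.subgroupOf L) (B.subgroupOf L) := by
    apply Subgroup.isComplement'_of_card_mul_and_disjoint
    · rw [Cfsg.Agent.S0001.card_subgroupOf_of_le hNL, Cfsg.Agent.S0001.card_subgroupOf_of_le hB,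
        hcard, hcardL]
    · exact disjoint_subgroupOf hNB
  have hidx : (N.subgroupOf L).index = Nat.card A := by
    have h1 := (N.subgroupOf L).card_mul_index
    rw [Cfsg.Agent.S0001.card_subgroupOf_of_le hNL, hcardL] at h1
    exact Nat.eq_of_mul_eq_mul_left Nat.card_pos h1
  have hcop' : (Nat.card (N.subgroupOf L)).Coprime (N.subgroupOf L).index := by
    rw [hidx, Cfsg.Agent.S0001.card_subgroupOf_of_le hNL]; exact hcop.symm
  have hsolv' : Group.IsSolvable (N.subgroupOf L) ∨ Group.IsSolvable (A.subgroupOf L) := by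
    rcases hsolv with h | h
    · right
      exact Group.isSolvable_of_isSolvable_injective
        (f := (Subgroup.subgroupOfEquivOfLe hAL).toMonoidHom) (Subgroup.subgroupOfEquivOfLe hAL).injective
    · left
      exact Group.isSolvable_of_isSolvable_injective
        (f := (Subgroup.subgroupOfEquivOfLe hNL).toMonoidHom) (Subgroup.subgroupOfEquivOfLe hNL).injective
  obtain ⟨l, hl⟩ := Cfsg.Agent.S0001.sz_conj_aux _ L rfl (N.subgroupOf L) hcop'
    (A.subgroupOf L) (B.subgroupOf L) hcA hcB hsolv'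
  have hl' : MulAut.conj (l : G) • A = B := conj_of_conj_subgroupOf hAL hB l hl
  obtain ⟨n, hn, a, ha, hna⟩ := exists_mul_of_mem_sup hAN l.2
  refine ⟨n⁻¹, N.inv_mem hn, ?_⟩
  rw [← hl', hna]
  ext x
  rw [mem_conj_smul_iff, mem_conj_smul_iff]
  simp only [inv_inv]
  constructor
  · intro h
    have : x = a * ((n * a)⁻¹ * (n * x * n⁻¹) * (n * a)) * a⁻¹ := by group
    rw [this]
    exact A.mul_mem (A.mul_mem ha h) (A.inv_mem ha)
  · intro h
    have : (n * a)⁻¹ * (n * x * n⁻¹) * (n * a) = a⁻¹ * x * a := by group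
    rw [this]
    exact A.mul_mem (A.mul_mem (A.inv_mem ha) h) ha

/-- An element normalising `A` whose commutators with `A` lie in a subgroup `D` meeting `A` trivially
centralises `A`. -/
theorem mem_centralizer_of_conj_eq {A D : Subgroup G} (hAD : A ⊓ D = ⊥) {c : G}
    (hc : MulAut.conj c⁻¹ • A = A) (hcD : ∀ a ∈ A, c⁻¹ * a * c * a⁻¹ ∈ D) :
    c ∈ centralizer (A : Set G) := by
  rw [Subgroup.mem_centralizer_iff]
  intro a ha
  have h1 : c⁻¹ * a * c ∈ A := by
    rw [← hc, mem_conj_smul_iff]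
    have h0 : c⁻¹⁻¹ * (c⁻¹ * a * c) * c⁻¹ = a := by group
    rw [h0]; exact ha
  have h2 : c⁻¹ * a * c * a⁻¹ ∈ A ⊓ D :=
    Subgroup.mem_inf.mpr ⟨A.mul_mem h1 (A.inv_mem ha), hcD a ha⟩
  rw [hAD, Subgroup.mem_bot] at h2
  have h3 : c⁻¹ * a * c = a := by
    calc c⁻¹ * a * c = (c⁻¹ * a * c * a⁻¹) * a := by group
      _ = a := by rw [h2, one_mul]
  calc a * c = c * (c⁻¹ * a * c) := by group
    _ = c * a := by rw [h3]

/-- **Fixed points in invariant cosets**: if the coset `x D` is `A`-invariant, where `A` acts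
coprimely on `D`, then it contains an element centralising `A`. -/
theorem exists_centralizer_mem_coset [Finite G] (D A : Subgroup G)
    (hAD : A ≤ normalizer (D : Set G)) (hcop : (Nat.card A).Coprime (Nat.card D))
    (hsolv : Group.IsSolvable A ∨ Group.IsSolvable D) (x : G)
    (hx : ∀ a ∈ A, x⁻¹ * a * x * a⁻¹ ∈ D) :
    ∃ c ∈ centralizer (A : Set G), x⁻¹ * c ∈ D := by
  have hDA : D ⊓ A = ⊥ := (Subgroup.disjoint_of_coprime_natCard hcop.symm).eq_bot
  have hB : MulAut.conj x⁻¹ • A ≤ D ⊔ A := by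
    intro b hb
    rw [mem_conj_smul_iff] at hb
    simp only [inv_inv] at hb
    -- b = x⁻¹ a x with a = x b x⁻¹
    have h1 := hx _ hb
    have : b = (x⁻¹ * (x * b * x⁻¹) * x * (x * b * x⁻¹)⁻¹) * (x * b * x⁻¹) := by group
    rw [this]
    exact Subgroup.mul_mem _ (Subgroup.mem_sup_left h1) (Subgroup.mem_sup_right hb)
  obtain ⟨d, hd, hdB⟩ := sz_internal D A (MulAut.conj x⁻¹ • A) hAD hcop hsolv hB
    (card_conj_smul _ _)
  rw [conj_smul_conj_smul] at hdB
  refine ⟨x * d⁻¹, ?_, ?_⟩
  · apply mem_centralizer_of_conj_eq (D := D) (by rw [inf_comm]; exact hDA)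
    · have : (x * d⁻¹)⁻¹ = d * x⁻¹ := by group
      rw [this]; exact hdB
    · intro a ha
      have h1 := hx a ha
      have h2 : a * d⁻¹ * a⁻¹ ∈ D :=
        (Subgroup.mem_normalizer_iff.mp (hAD ha) d⁻¹).mp (D.inv_mem hd)
      have : (x * d⁻¹)⁻¹ * a * (x * d⁻¹) * a⁻¹ = d * (x⁻¹ * a * x * a⁻¹) * (a * d⁻¹ * a⁻¹) := by
        group
      rw [this]
      exact D.mul_mem (D.mul_mem hd h1) h2
  · have : x⁻¹ * (x * d⁻¹) = d⁻¹ := by group
    rw [this]; exact D.inv_mem hd

end Cfsg.Agent.Helper1
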