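import Mathlib
import Cfsg.Agent.Lib.Helper1.Coprime
import Cfsg.Agent.Lib.Helper1.Complement

/-!
# Fixed-point-free automorphisms: basic lemmas (helper1)
-/

set_option autoImplicit false

namespace Cfsg.Agent.Helper1.Fpf

open Subgroup MonoidHom
open scoped Pointwise

variable {G : Type*} [Group G]

/-- `H` is invariant under the automorphism `φ`. -/
def Inv (φ : G ≃* G) (H : Subgroup G) : Prop := ∀ x ∈ H, φ x ∈ H

theorem pow_apply_succ (φ : G ≃* G) (k : ℕ) (x : G) : (φ ^ (k + 1)) x = φ ((φ ^ k) x) := by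
  rw [pow_succ', MulAut.mul_apply]

theorem Inv.pow {φ : G ≃* G} {H : Subgroup G} (h : Inv φ H) (k : ℕ) : Inv (φ ^ k) H := by
  induction k with
  | zero => intro x hx; simpa using hx
  | succ k ih =>
    intro x hx
    rw [pow_apply_succ]
    exact h _ (ih x hx)

section Finite

variable [Finite G]

theorem Inv.symm {φ : G ≃* G} {H : Subgroup G} (h : Inv φ H) : Inv φ.symm H := by
  intro x hx
  let f : H → H := fun y => ⟨φ y, h y y.2⟩
  have hinj : Function.Injective f := by
    intro a b hab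
    have := congrArg Subtype.val hab
    exact Subtype.ext (φ.injective this)
  obtain ⟨y, hy⟩ := Finite.surjective_of_injective hinj ⟨x, hx⟩
  have h2 : φ (y : G) = x := congrArg Subtype.val hy
  rw [← h2, MulEquiv.symm_apply_apply]
  exact y.2

theorem Inv.map_eq {φ : G ≃* G} {H : Subgroup G} (h : Inv φ H) : H.map φ.toMonoidHom = H := by
  apply le_antisymm
  · rintro _ ⟨x, hx, rfl⟩
    exact h x hx
  · intro x hx
    exact ⟨φ.symm x, h.symm x hx, by simp⟩

/-- Restriction of an automorphism to an invariant subgroup. -/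
noncomputable def restrict (φ : G ≃* G) (H : Subgroup G) (h : Inv φ H) : H ≃* H where
  toFun x := ⟨φ x, h x x.2⟩
  invFun x := ⟨φ.symm x, h.symm x x.2⟩
  left_inv x := Subtype.ext (φ.symm_apply_apply x)
  right_inv x := Subtype.ext (φ.apply_symm_apply x)
  map_mul' x y := Subtype.ext (map_mul φ (x : G) (y : G))

@[simp] theorem restrict_apply (φ : G ≃* G) (H : Subgroup G) (h : Inv φ H) (x : H) :
    ((restrict φ H h x : H) : G) = φ x := rfl

theorem restrict_pow_apply (φ : G ≃* G) (H : Subgroup G) (h : Inv φ H) (k : ℕ) (x : H) :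
    (((restrict φ H h) ^ k) x : G) = (φ ^ k) (x : G) := by
  induction k with
  | zero => simp
  | succ k ih => rw [pow_apply_succ, pow_apply_succ, restrict_apply, ih]

theorem restrict_pow_eq_one (φ : G ≃* G) (H : Subgroup G) (h : Inv φ H) {r : ℕ}
    (hr : φ ^ r = 1) : (restrict φ H h) ^ r = 1 := by
  ext x
  rw [restrict_pow_apply, hr]
  rfl

theorem restrict_fpf {φ : G ≃* G} (hφ : FixedPointFree φ) (H : Subgroup G) (h : Inv φ H) :
    FixedPointFree (restrict φ H h) := by
  intro x hx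
  have h1 : φ (x : G) = x := congrArg Subtype.val hx
  exact Subtype.ext (hφ _ h1)

/-- The induced automorphism on a quotient by an invariant normal subgroup. -/
noncomputable def quot (φ : G ≃* G) (N : Subgroup G) [N.Normal] (h : Inv φ N) :
    G ⧸ N ≃* G ⧸ N :=
  QuotientGroup.congr N N φ h.map_eq

@[simp] theorem quot_mk (φ : G ≃* G) (N : Subgroup G) [N.Normal] (h : Inv φ N) (g : G) :
    quot φ N h (g : G ⧸ N) = ((φ g : G) : G ⧸ N) := rfl

theorem quot_pow_mk (φ : G ≃* G) (N : Subgroup G) [N.Normal] (h : Inv φ N) (k : ℕ) (g : G) :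
    ((quot φ N h) ^ k) (g : G ⧸ N) = (((φ ^ k) g : G) : G ⧸ N) := by
  induction k with
  | zero => simp
  | succ k ih => rw [pow_apply_succ, pow_apply_succ, ih, quot_mk]

theorem quot_pow_eq_one (φ : G ≃* G) (N : Subgroup G) [N.Normal] (h : Inv φ N) {r : ℕ}
    (hr : φ ^ r = 1) : (quot φ N h) ^ r = 1 := by
  ext x
  induction x using QuotientGroup.induction_on with
  | H g =>
    rw [quot_pow_mk, hr]
    rfl

theorem quot_fpf {φ : G ≃* G} (hφ : FixedPointFree φ) (N : Subgroup G) [hN : N.Normal]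
    (h : Inv φ N) : FixedPointFree (quot φ N h) := by
  intro x hx
  induction x using QuotientGroup.induction_on with
  | H g =>
    rw [quot_mk, QuotientGroup.eq] at hx
    -- (φ g)⁻¹ * g ∈ N
    have h1 : g * (φ g)⁻¹ ∈ N := by
      have := hN.conj_mem _ hx g
      have e : g * ((φ g)⁻¹ * g) * g⁻¹ = g * (φ g)⁻¹ := by group
      rwa [e] at this
    obtain ⟨n, hn⟩ := (restrict_fpf hφ N h).commutatorMap_surjective ⟨g * (φ g)⁻¹, h1⟩
    have h2 : (n : G) * (φ (n : G))⁻¹ = g * (φ g)⁻¹ := by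
      have := congrArg Subtype.val hn
      simpa [commutatorMap_apply, div_eq_mul_inv] using this
    have h3 : φ ((n : G)⁻¹ * g) = (n : G)⁻¹ * g := by
      rw [map_mul, map_inv]
      have e : (φ (n : G))⁻¹ = (n : G)⁻¹ * (g * (φ g)⁻¹) := by rw [← h2]; group
      rw [e]; group
    have h4 := hφ _ h3
    have h5 : g = n := by
      have e : g = (n : G) * ((n : G)⁻¹ * g) := by group
      rw [e, h4, mul_one]
    rw [(QuotientGroup.eq_one_iff g)]
    rw [h5]; exact n.2

/-- Powers prime to the order of a fixed-point-free automorphism of prime order are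
fixed-point-free. -/
theorem pow_fpf {φ : G ≃* G} (hφ : FixedPointFree φ) {r : ℕ} (hr : r.Prime) (hφr : φ ^ r = 1)
    {i : ℕ} (hi : ¬ r ∣ i) : FixedPointFree (φ ^ i) := by
  intro x hx
  have hcop : Nat.Coprime i r := ((Nat.Prime.coprime_iff_not_dvd hr).mpr hi).symm
  obtain ⟨j, hj⟩ : ∃ j : ℕ, (φ ^ i) ^ j = φ := by
    have h1 : orderOf φ ∣ r := orderOf_dvd_of_pow_eq_one hφr
    have hcop' : Nat.Coprime i (orderOf φ) := Nat.Coprime.coprime_dvd_right h1 hcop
    obtain ⟨j, hj⟩ := exists_pow_eq_self_of_coprime hcop'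
    exact ⟨j, hj⟩
  apply hφ
  rw [← hj]
  have : ∀ j : ℕ, ((φ ^ i) ^ j) x = x := by
    intro j
    induction j with
    | zero => simp
    | succ j ih => rw [pow_apply_succ, ih, hx]
  exact this j

/-- A fixed-point-free automorphism stabilises some Sylow `p`-subgroup. -/
theorem exists_inv_sylow {φ : G ≃* G} (hφ : FixedPointFree φ) (p : ℕ) [Fact p.Prime] :
    ∃ P : Sylow p G, Inv φ (P : Subgroup G) := by
  obtain ⟨P₀⟩ : Nonempty (Sylow p G) := inferInstance
  obtain ⟨Q, hQ⟩ := (P₀.2.map φ.toMonoidHom).exists_le_sylow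
  obtain ⟨g, hg⟩ := MulAction.exists_smul_eq G P₀ Q
  have key : ∀ y ∈ (P₀ : Subgroup G), g⁻¹ * φ y * g ∈ (P₀ : Subgroup G) := by
    intro y hy
    have h1 : φ y ∈ (Q : Subgroup G) := hQ ⟨y, hy, rfl⟩
    rw [← hg] at h1
    change φ y ∈ MulAut.conj g • (P₀ : Subgroup G) at h1
    rw [mem_conj_smul_iff] at h1
    exact h1
  obtain ⟨k, hk⟩ := hφ.commutatorMap_surjective g⁻¹
  rw [commutatorMap_apply, div_eq_mul_inv] at hk
  have hg' : g = φ k * k⁻¹ := by
    have : g = (g⁻¹)⁻¹ := by group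
    rw [this, ← hk]; group
  refine ⟨k⁻¹ • P₀, ?_⟩
  intro x hx
  change x ∈ MulAut.conj k⁻¹ • (P₀ : Subgroup G) at hx
  change φ x ∈ MulAut.conj k⁻¹ • (P₀ : Subgroup G)
  rw [mem_conj_smul_iff] at hx ⊢
  rw [inv_inv] at hx ⊢
  have h1 := key _ hx
  have e : g⁻¹ * φ (k * x * k⁻¹) * g = k * φ x * k⁻¹ := by
    rw [map_mul, map_mul, map_inv, hg']; group
  rwa [e] at h1

end Finite

end Cfsg.Agent.Helper1.Fpf
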