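import Mathlib
import Cfsg.Agent.Lib.Helper1.FpfAut

/-!
# Fixed-point-free automorphisms of prime order: coprime invariant subgroups centralise
abelian invariant normal subgroups (helper1)
-/

set_option autoImplicit false

namespace Cfsg.Agent.Helper1.Fpf

open Subgroup MonoidHom

section Abstract

variable {A Z : Type*} [CommGroup A] [Finite A] [Group Z] [Finite Z]

theorem prod_range_pow_eq_one {α : A ≃* A} (hα : FixedPointFree α) {r : ℕ} (hαr : α ^ r = 1)
    (a : A) : ∏ i ∈ Finset.range r, (α ^ i) a = 1 := by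
  apply hα
  rw [map_prod]
  have h1 : ∀ i, α ((α ^ i) a) = (α ^ (i + 1)) a := fun i => (pow_apply_succ α i a).symm
  simp only [h1]
  have h2 := Finset.prod_range_succ (fun i => (α ^ i) a) r
  have h3 := Finset.prod_range_succ' (fun i => (α ^ i) a) r
  rw [h2] at h3
  simp only [hαr, pow_zero, MulAut.one_apply] at h3
  exact (mul_right_cancel h3).symm

/-- Abstract form: a finite group `Z` acting on a finite abelian group `A` of coprime order,
with compatible fixed-point-free automorphisms of prime order `r` on both, acts trivially. -/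
theorem trivial_of_fpf_coprime (ρ : Z →* MulAut A) (α : A ≃* A) (β : Z ≃* Z)
    (hαβ : ∀ z a, α (ρ z a) = ρ (β z) (α a))
    (hα : FixedPointFree α) (hβ : FixedPointFree β) {r : ℕ} (hr : r.Prime)
    (hαr : α ^ r = 1) (hβr : β ^ r = 1)
    (hcop : (Nat.card Z).Coprime (Nat.card A)) (z : Z) (a : A) : ρ z a = a := by
  classical
  haveI : Fintype Z := Fintype.ofFinite Z
  have hpow : ∀ (i : ℕ) (z : Z) (a : A), (α ^ i) (ρ z a) = ρ ((β ^ i) z) ((α ^ i) a) := by
    intro i
    induction i with
    | zero => intro z a; simp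
    | succ i ih =>
      intro z a
      rw [pow_apply_succ, pow_apply_succ, pow_apply_succ, ih, hαβ]
  let N : A →* A := MonoidHom.mk' (fun a => ∏ z : Z, ρ z a) (by
    intro a b
    simp only [map_mul]
    exact Finset.prod_mul_distrib)
  have hN : ∀ a, N a = ∏ z : Z, ρ z a := fun a => rfl
  have h1 : ∀ (w : Z) (a : A), ∏ i ∈ Finset.range r, ρ (w / (β ^ i) w) ((α ^ i) a) = 1 := by
    intro w a
    have h := prod_range_pow_eq_one hα hαr (ρ w⁻¹ a)
    have h' := congrArg (ρ w) h
    rw [map_prod, map_one] at h'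
    rw [← h']
    apply Finset.prod_congr rfl
    intro i _
    rw [hpow, div_eq_mul_inv, map_mul, MulAut.mul_apply, map_inv, map_inv, map_inv]
  have h3 : ∀ i, ¬ r ∣ i → ∀ b, ∏ w : Z, ρ (w / (β ^ i) w) b = N b := by
    intro i hi b
    have hf := pow_fpf hβ hr hβr hi
    have hbij : Function.Bijective (commutatorMap (β ^ i)) :=
      ⟨hf.commutatorMap_injective, hf.commutatorMap_surjective⟩
    exact Function.Bijective.prod_comp hbij (fun z => ρ z b)
  obtain ⟨r', rfl⟩ : ∃ r', r = r' + 1 := ⟨r - 1, by have := hr.two_le; omega⟩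
  have hNpow : ∀ a : A, a ^ Nat.card Z = N a := by
    intro a
    have h2 : ∏ i ∈ Finset.range (r' + 1), ∏ w : Z, ρ (w / (β ^ i) w) ((α ^ i) a) = 1 := by
      rw [Finset.prod_comm]
      exact Finset.prod_eq_one (fun w _ => h1 w a)
    rw [Finset.prod_range_succ'] at h2
    have e0 : ∏ w : Z, ρ (w / (β ^ 0) w) ((α ^ 0) a) = a ^ Nat.card Z := by
      simp [Nat.card_eq_fintype_card]
    have e1 : ∏ i ∈ Finset.range r', ∏ w : Z, ρ (w / (β ^ (i + 1)) w) ((α ^ (i + 1)) a)
        = ∏ i ∈ Finset.range r', N ((α ^ (i + 1)) a) := by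
      apply Finset.prod_congr rfl
      intro i hi
      rw [Finset.mem_range] at hi
      exact h3 (i + 1) (Nat.not_dvd_of_pos_of_lt (Nat.succ_pos i) (by omega)) _
    rw [e0, e1] at h2
    have h5 := congrArg N (prod_range_pow_eq_one hα hαr a)
    rw [map_prod, map_one, Finset.prod_range_succ'] at h5
    simp only [pow_zero, MulAut.one_apply] at h5
    exact mul_left_cancel (h2.trans h5.symm)
  have hNz : N (ρ z a) = N a := by
    rw [hN, hN]
    have : ∀ w : Z, ρ w (ρ z a) = ρ (w * z) a := by
      intro w; rw [map_mul, MulAut.mul_apply]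
    simp only [this]
    exact Equiv.prod_comp (Equiv.mulRight z) (fun w => ρ w a)
  have hc : (a⁻¹ * ρ z a) ^ Nat.card Z = 1 := by
    rw [hNpow, map_mul, map_inv, hNz, inv_mul_cancel]
  have hc' : (a⁻¹ * ρ z a) ^ Nat.card A = 1 := pow_card_eq_one'
  have h6 := (pow_gcd_eq_one (a := a⁻¹ * ρ z a)).mpr ⟨hc, hc'⟩
  rw [Nat.Coprime.gcd_eq_one hcop, pow_one] at h6
  exact (inv_mul_eq_one.mp h6).symm

end Abstract

section Concrete

variable {G : Type*} [Group G] [Finite G]

/-- If `φ` is a fixed-point-free automorphism with `φ ^ r = 1`, `r` prime, then every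
`φ`-invariant subgroup `Z` centralises every abelian normal `φ`-invariant subgroup `V` of order
prime to `|Z|`. -/
theorem le_centralizer_of_fpf {φ : G ≃* G} (hφ : FixedPointFree φ) {r : ℕ} (hr : r.Prime)
    (hφr : φ ^ r = 1) (V : Subgroup G) [hVn : V.Normal]
    (hVc : ∀ a ∈ V, ∀ b ∈ V, a * b = b * a) (hV : Inv φ V)
    (Z : Subgroup G) (hZ : Inv φ Z) (hcop : (Nat.card Z).Coprime (Nat.card V)) :
    Z ≤ centralizer (V : Set G) := by
  letI : CommGroup V := { (inferInstance : Group V) with
    mul_comm := fun a b => Subtype.ext (hVc a a.2 b b.2) }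
  let ρ : Z →* MulAut V := (MulAut.conjNormal (H := V)).comp Z.subtype
  have key := trivial_of_fpf_coprime ρ (restrict φ V hV) (restrict φ Z hZ)
    (by
      intro z a
      apply Subtype.ext
      simp [ρ, MulAut.conjNormal_apply])
    (restrict_fpf hφ V hV) (restrict_fpf hφ Z hZ) hr
    (restrict_pow_eq_one φ V hV hφr) (restrict_pow_eq_one φ Z hZ hφr) hcop
  intro z hz v hv
  have h := congrArg Subtype.val (key ⟨z, hz⟩ ⟨v, hv⟩)
  simp only [ρ, MonoidHom.comp_apply, Subgroup.coe_subtype, MulAut.conjNormal_apply] at h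
  -- h : z * v * z⁻¹ = v
  calc v * z = (z * v * z⁻¹) * z := by rw [h]
    _ = z * v := by group

end Concrete

end Cfsg.Agent.Helper1.Fpf
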