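import Mathlib
import Cfsg.Agent.S0001
import Cfsg.Agent.Lib.Helper1.Complement
import Cfsg.Agent.Lib.Helper1.SolvableBasic
import Cfsg.Agent.Lib.Helper1.QuotientCard

set_option autoImplicit false
set_option linter.style.haveILetI false

namespace Cfsg.Agent.Helper1

open Subgroup
open scoped Pointwise

universe u

theorem card_lt_of_ne_top' {G : Type*} [Group G] [Finite G] {L : Subgroup G} (hL : L ≠ ⊤) :
    Nat.card L < Nat.card G := Cfsg.Agent.S0001.card_lt_of_ne_top hL

/-- A prime power dividing a product of coprime numbers divides one of them. -/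
theorem prime_pow_dvd_of_coprime {p k m n : ℕ} (hp : p.Prime) (h : p ^ k ∣ m * n)
    (hmn : m.Coprime n) : (p ∣ m ∧ p ^ k ∣ m) ∨ (¬ p ∣ m ∧ p ^ k ∣ n) := by
  by_cases hpm : p ∣ m
  · left
    refine ⟨hpm, ?_⟩
    have hpn : ¬ p ∣ n := fun hpn => hp.one_lt.ne' (Nat.eq_one_of_dvd_coprimes hmn hpm hpn)
    have : (p ^ k).Coprime n := Nat.Coprime.pow_left k ((Nat.Prime.coprime_iff_not_dvd hp).mpr hpn)
    exact this.dvd_of_dvd_mul_right h
  · right
    refine ⟨hpm, ?_⟩
    have : (p ^ k).Coprime m := Nat.Coprime.pow_left k ((Nat.Prime.coprime_iff_not_dvd hp).mpr hpm)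
    exact this.dvd_of_dvd_mul_left h

/-- **Hall's theorem, containment form**: in a finite solvable group of order `m * n` with `m`, `n`
coprime, every subgroup of order coprime to `n` lies in a subgroup of order `m`. -/
theorem hall_contain_aux : ∀ (N : ℕ) (G : Type u) [Group G] [Finite G] [Group.IsSolvable G],
    Nat.card G = N → ∀ m n : ℕ, N = m * n → m.Coprime n → ∀ K : Subgroup G,
    (Nat.card K).Coprime n → ∃ H : Subgroup G, Nat.card H = m ∧ K ≤ H := by
  intro N
  induction N using Nat.strong_induction_on with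
  | _ N ih =>
  intro G _ _ _ hcard m n hN hmn K hK
  have hNpos : 0 < N := hcard ▸ Nat.card_pos
  have hmpos : 0 < m := Nat.pos_of_ne_zero (by rintro rfl; simp at hN; omega)
  have hnpos : 0 < n := Nat.pos_of_ne_zero (by rintro rfl; simp at hN; omega)
  rcases subsingleton_or_nontrivial G with hsub | hnt
  · have h1 : Nat.card G = 1 := Nat.card_unique
    have hm1 : m = 1 := by
      have : m * n = 1 := by rw [← hN, ← hcard, h1]
      exact Nat.eq_one_of_mul_eq_one_right this
    exact ⟨⊤, by rw [Subgroup.card_top, h1, hm1], le_top⟩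
  obtain ⟨p, hp, M, hMn, hMne, hMp⟩ := exists_normal_pSubgroup_of_solvable G
  haveI : Fact p.Prime := ⟨hp⟩
  obtain ⟨k, hk⟩ := hMp.exists_card_eq
  have hk0 : k ≠ 0 := by
    rintro rfl
    rw [pow_zero] at hk
    exact hMne (Subgroup.card_eq_one.mp hk)
  have hMdvd : p ^ k ∣ m * n := by
    rw [← hN, ← hcard, ← hk]; exact Subgroup.card_subgroup_dvd_card M
  set π := QuotientGroup.mk' M with hπ
  have hqcard : p ^ k * Nat.card (G ⧸ M) = m * n := by
    rw [← hk, card_quotient_mul_card, hcard, hN]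
  have hlt : Nat.card (G ⧸ M) < N := by
    have h1 : 2 ≤ p ^ k := by
      calc 2 ≤ p := hp.two_le
        _ = p ^ 1 := (pow_one p).symm
        _ ≤ p ^ k := Nat.pow_le_pow_right hp.pos (Nat.one_le_iff_ne_zero.mpr hk0)
    have h2 : 0 < Nat.card (G ⧸ M) := Nat.card_pos
    rw [hN, ← hqcard]
    nlinarith
  have hKbar : Nat.card (K.map π) ∣ Nat.card K := Subgroup.card_map_dvd K π
  rcases prime_pow_dvd_of_coprime hp hMdvd hmn with ⟨hpm, hpkm⟩ | ⟨hpm, hpkn⟩
  · -- p divides m
    obtain ⟨m', hm'⟩ := hpkm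
    have hq : Nat.card (G ⧸ M) = m' * n := by
      have : p ^ k * Nat.card (G ⧸ M) = p ^ k * (m' * n) := by rw [hqcard, hm']; ring
      exact Nat.eq_of_mul_eq_mul_left (pow_pos hp.pos k) this
    have hcop' : m'.Coprime n := Nat.Coprime.coprime_dvd_left (Dvd.intro_left _ hm'.symm) hmn
    obtain ⟨Hbar, hHbar, hKH⟩ := ih _ hlt (G ⧸ M) rfl m' n hq hcop' (K.map π)
      (Nat.Coprime.coprime_dvd_left hKbar hK)
    refine ⟨Hbar.comap π, ?_, ?_⟩
    · rw [hπ, card_comap_mk', hk, hHbar, hm']
    · exact (Subgroup.le_comap_map π K).trans (Subgroup.comap_mono hKH)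
  · -- p divides n
    obtain ⟨n', hn'⟩ := hpkn
    have hq : Nat.card (G ⧸ M) = m * n' := by
      have : p ^ k * Nat.card (G ⧸ M) = p ^ k * (m * n') := by rw [hqcard, hn']; ring
      exact Nat.eq_of_mul_eq_mul_left (pow_pos hp.pos k) this
    have hcop' : m.Coprime n' := Nat.Coprime.coprime_dvd_right (Dvd.intro_left _ hn'.symm) hmn
    have hKn' : (Nat.card (K.map π)).Coprime n' :=
      Nat.Coprime.coprime_dvd_left hKbar (Nat.Coprime.coprime_dvd_right (Dvd.intro_left _ hn'.symm) hK)
    obtain ⟨Hbar, hHbar, hKH⟩ := ih _ hlt (G ⧸ M) rfl m n' hq hcop' (K.map π) hKn'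
    set L := Hbar.comap π with hLdef
    have hLcard : Nat.card L = m * p ^ k := by
      rw [hLdef, hπ, card_comap_mk', hk, hHbar, mul_comm]
    have hKL : K ≤ L := (Subgroup.le_comap_map π K).trans (Subgroup.comap_mono hKH)
    have hML : M ≤ L := by
      intro x hx
      rw [hLdef, Subgroup.mem_comap]
      have : π x = 1 := (QuotientGroup.eq_one_iff x).mpr hx
      rw [this]; exact Hbar.one_mem
    have hcopmp : m.Coprime (p ^ k) :=
      Nat.Coprime.coprime_dvd_right (Dvd.intro _ hn'.symm) hmn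
    have hKp : (Nat.card K).Coprime (p ^ k) :=
      Nat.Coprime.coprime_dvd_right (Dvd.intro _ hn'.symm) hK
    by_cases hLtop : L = ⊤
    · -- n = p ^ k and M is a normal Hall subgroup
      have hn : n = p ^ k := by
        have h1 : Nat.card G = m * p ^ k := by rw [← hLcard, hLtop, Subgroup.card_top]
        have : m * n = m * p ^ k := by rw [← hN, ← hcard, h1]
        exact Nat.eq_of_mul_eq_mul_left hmpos this
      have hMidx : M.index = m := by
        have h1 := M.card_mul_index
        rw [hk, hcard, hN, hn, mul_comm] at h1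
        exact Nat.eq_of_mul_eq_mul_right (pow_pos hp.pos k) h1
      have hMcop : (Nat.card M).Coprime M.index := by
        rw [hk, hMidx]; exact hcopmp.symm
      obtain ⟨H₀, hH₀⟩ := Subgroup.exists_right_complement'_of_coprime hMcop
      have hH₀card : Nat.card H₀ = m := by
        rw [← hMidx]; exact hH₀.symm.index_eq_card.symm
      set J := K ⊔ M with hJdef
      set K₁ := J ⊓ H₀ with hK₁def
      have hMJ : M ≤ J := le_sup_right
      have hKJ : K ≤ J := le_sup_left
      have hMK : M ⊓ K = ⊥ := Subgroup.inf_eq_bot_of_coprime (by rw [hk]; exact hKp.symm)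
      have hMK₁ : M ⊓ K₁ = ⊥ := by
        rw [eq_bot_iff, ← hH₀.disjoint.eq_bot]
        exact inf_le_inf_left _ inf_le_right
      haveI : (M.subgroupOf J).Normal := hMn.subgroupOf J
      have hcK : IsComplement' (M.subgroupOf J) (K.subgroupOf J) := by
        apply isComplement'_subgroupOf hMK hKJ
        intro l hl
        rw [hJdef, sup_comm, Subgroup.mem_sup_of_normal_left] at hl
        obtain ⟨a, ha, b, hb, rfl⟩ := hl
        exact ⟨a, ha, b, hb, rfl⟩
      have hcK₁ : IsComplement' (M.subgroupOf J) (K₁.subgroupOf J) := by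
        apply isComplement'_subgroupOf hMK₁ inf_le_left
        intro l hl
        obtain ⟨a, ha, b, hb, rfl⟩ := IsComplement'.exists_mul hH₀ l
        refine ⟨a, ha, b, ⟨?_, hb⟩, rfl⟩
        have : b = a⁻¹ * (a * b) := by group
        rw [this]; exact J.mul_mem (J.inv_mem (hMJ ha)) hl
      have hcopJ : (Nat.card (M.subgroupOf J)).Coprime (M.subgroupOf J).index := by
        have h1 : (M.subgroupOf J).index = Nat.card (K.subgroupOf J) := hcK.symm.index_eq_card
        rw [h1, Cfsg.Agent.S0001.card_subgroupOf_of_le hKJ,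
          Cfsg.Agent.S0001.card_subgroupOf_of_le hMJ, hk]
        exact hKp.symm
      obtain ⟨j, hj⟩ := Cfsg.Agent.S0001.result (M.subgroupOf J) hcopJ (Or.inl inferInstance)
        (K₁.subgroupOf J) (K.subgroupOf J) hcK₁ hcK
      have hj' := conj_of_conj_subgroupOf inf_le_left hKJ j hj
      refine ⟨MulAut.conj (j : G) • H₀, ?_, ?_⟩
      · rw [card_conj_smul, hH₀card]
      · rw [← hj']
        intro x hx
        rw [mem_conj_smul_iff] at hx ⊢
        exact hx.2
    · -- work inside L
      have hlt2 : Nat.card L < N := hcard ▸ card_lt_of_ne_top' hLtop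
      have hKLcard : (Nat.card (K.subgroupOf L)).Coprime (p ^ k) := by
        rw [Cfsg.Agent.S0001.card_subgroupOf_of_le hKL]; exact hKp
      obtain ⟨HL, hHL, hKHL⟩ := ih _ hlt2 L rfl m (p ^ k) hLcard hcopmp (K.subgroupOf L) hKLcard
      refine ⟨HL.map L.subtype, ?_, ?_⟩
      · rw [Subgroup.card_map_of_injective L.subtype_injective, hHL]
      · intro x hx
        exact ⟨⟨x, hKL hx⟩, hKHL (Subgroup.mem_subgroupOf.mpr hx), rfl⟩

theorem hall_contain {G : Type*} [Group G] [Finite G] [Group.IsSolvable G] (m n : ℕ)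
    (hG : Nat.card G = m * n) (hmn : m.Coprime n) (K : Subgroup G) (hK : (Nat.card K).Coprime n) :
    ∃ H : Subgroup G, Nat.card H = m ∧ K ≤ H :=
  hall_contain_aux (Nat.card G) G rfl m n hG hmn K hK

theorem hall_exists {G : Type*} [Group G] [Finite G] [Group.IsSolvable G] (m n : ℕ)
    (hG : Nat.card G = m * n) (hmn : m.Coprime n) : ∃ H : Subgroup G, Nat.card H = m := by
  obtain ⟨H, hH, -⟩ := hall_contain m n hG hmn ⊥ (by rw [Subgroup.card_bot]; exact Nat.coprime_one_left n)
  exact ⟨H, hH⟩

end Cfsg.Agent.Helper1
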