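import Mathlib
import Cfsg.Agent.S0001
import Cfsg.Agent.Lib.Helper1.CharacteristicMap

/-!
# Numerical handling of Sylow subgroups of a subgroup (helper1's shared library)
-/

set_option autoImplicit false

namespace Cfsg.Agent.Helper1

open Subgroup

variable {G : Type*} [Group G]

theorem normalizer_subgroupOf {U K : Subgroup G} (hUK : U ≤ K) :
    normalizer ((U.subgroupOf K : Subgroup K) : Set K) = (normalizer (U : Set G)).subgroupOf K := by
  ext x
  rw [Subgroup.mem_subgroupOf, Subgroup.mem_normalizer_iff, Subgroup.mem_normalizer_iff]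
  constructor
  · intro h y
    constructor
    · intro hy
      have := (h ⟨y, hUK hy⟩).mp (Subgroup.mem_subgroupOf.mpr hy)
      exact Subgroup.mem_subgroupOf.mp this
    · intro hy
      have hyK : y ∈ K := by
        have h1 : (x : G) * y * (x : G)⁻¹ ∈ K := hUK hy
        have : y = (x : G)⁻¹ * ((x : G) * y * (x : G)⁻¹) * (x : G) := by group
        rw [this]
        exact K.mul_mem (K.mul_mem (K.inv_mem x.2) h1) x.2
      have := (h ⟨y, hyK⟩).mpr (Subgroup.mem_subgroupOf.mpr hy)
      exact Subgroup.mem_subgroupOf.mp this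
  · intro h y
    rw [Subgroup.mem_subgroupOf, Subgroup.mem_subgroupOf]
    exact h y

variable {p : ℕ} [Fact p.Prime]

theorem card_inf_normalizer_modEq [Finite G] {U K : Subgroup G} (hUK : U ≤ K) {n : ℕ}
    (hU : Nat.card U = p ^ n) :
    Nat.card (K ⊓ normalizer (U : Set G) : Subgroup G) ≡ Nat.card K [MOD p ^ (n + 1)] := by
  have h1 : Nat.card (U.subgroupOf K) = p ^ n := by
    rw [Cfsg.Agent.S0001.card_subgroupOf_of_le hUK, hU]
  have h2 := Sylow.card_normalizer_modEq_card h1
  rw [normalizer_subgroupOf hUK, ← Subgroup.inf_subgroupOf_left,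
    Cfsg.Agent.S0001.card_subgroupOf_of_le inf_le_left] at h2
  exact h2

/-- A `p`-subgroup of `K` of the full `p`-power order is (the image of) a Sylow subgroup of `K`. -/
theorem exists_sylow_map_eq [Finite G] {U K : Subgroup G} (hUK : U ≤ K) {n : ℕ}
    (hU : Nat.card U = p ^ n) (h : ¬ p ^ (n + 1) ∣ Nat.card K) :
    ∃ P : Sylow p K, (P : Subgroup K).map K.subtype = U := by
  have hUp : IsPGroup p (U.subgroupOf K) := by
    apply IsPGroup.of_card (n := n)
    rw [Cfsg.Agent.S0001.card_subgroupOf_of_le hUK, hU]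
  obtain ⟨Q, hQ⟩ := hUp.exists_le_sylow
  refine ⟨Q, ?_⟩
  have hQcard := Q.card_eq_multiplicity
  have hle : (Nat.card K).factorization p ≤ n := by
    by_contra hlt
    push_neg at hlt
    apply h
    exact (pow_dvd_pow p hlt).trans (Nat.ordProj_dvd _ _)
  have heq : U.subgroupOf K = Q := by
    apply Subgroup.eq_of_le_of_card_ge hQ
    rw [hQcard, Cfsg.Agent.S0001.card_subgroupOf_of_le hUK, hU]
    exact Nat.pow_le_pow_right (Fact.out : p.Prime).pos hle
  rw [← heq, Subgroup.map_subgroupOf_eq_of_le hUK]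

end Cfsg.Agent.Helper1
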