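import Mathlib
import Cfsg.Prelude.Def_Solvable
import Cfsg.Agent.Lib.Helper24.CharInduced
import Cfsg.Agent.Lib.Helper24.CharHom
import Cfsg.Agent.Lib.Helper8.CharExtra
import Cfsg.Agent.Lib.Helper8.InnerExtra
import Cfsg.Agent.Lib.Helper23.ClassSep
import Cfsg.Agent.Lib.Helper1.Complement

/-!
# Frobenius' theorem: character-theoretic part (helper1's shared library)

For a Frobenius complement `H` of `G`, every irreducible character of `H` extends to an irreducible
character of `G` which is constant on the Frobenius kernel.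
-/

set_option autoImplicit false

namespace Cfsg.Agent.Helper1

open Cfsg Cfsg.Agent.Helper24
open scoped ComplexConjugate Pointwise

universe u

variable {G : Type u} [Group G]

/-- The elementwise Frobenius property. -/
theorem frobenius_mem_of_conj_mem {H : Subgroup G} (hH : Cfsg.IsFrobeniusComplement H) {x y : G}
    (hy : y ∈ H) (hy1 : y ≠ 1) (hxy : x⁻¹ * y * x ∈ H) : x ∈ H := by
  by_contra hx
  have h1 := hH.2.2 x hx
  have h2 : y ∈ H ⊓ MulAut.conj x • H := Subgroup.mem_inf.mpr ⟨hy, mem_conj_smul_iff.mpr hxy⟩
  rw [h1, Subgroup.mem_bot] at h2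
  exact hy1 h2

variable [Fintype G]

/-- For a Frobenius complement, inducing a class function vanishing at `1` and restricting back gives
the same function. -/
theorem indFun_restrict_of_frobenius {H : Subgroup G} [Fintype H]
    (hH : Cfsg.IsFrobeniusComplement H) {θ : H → ℂ} (hθ : IsClassFunction H θ) (h1 : θ 1 = 0)
    (y : H) : indFun H θ (y : G) = θ y := by
  have hcard : (Nat.card H : ℂ) ≠ 0 := by exact_mod_cast (Nat.card_pos (α := H)).ne'
  rw [indFun_apply]
  by_cases hy : y = 1
  · subst hy
    have : ∀ x : G, extendByZero H θ (x⁻¹ * ((1 : H) : G) * x) = 0 := by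
      intro x
      have h2 : x⁻¹ * ((1 : H) : G) * x = ((1 : H) : G) := by simp
      rw [h2, extendByZero_coe, h1]
    simp only [this, Finset.sum_const_zero, mul_zero, h1]
  · have hy' : (y : G) ≠ 1 := fun h => hy (Subtype.ext h)
    rw [sum_eq_sum_subgroup H]
    · have : ∀ x : H, extendByZero H θ ((x : G)⁻¹ * (y : G) * (x : G)) = θ y := by
        intro x
        have h2 : (x : G)⁻¹ * (y : G) * (x : G) = ((x⁻¹ * y * x⁻¹⁻¹ : H) : G) := by simp
        rw [h2, extendByZero_coe, hθ y x⁻¹]
      simp only [this, Finset.sum_const, Finset.card_univ, nsmul_eq_mul]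
      rw [← Nat.card_eq_fintype_card, ← mul_assoc, inv_mul_cancel₀ hcard, one_mul]
    · intro x hx
      apply extendByZero_of_not_mem
      intro hmem
      exact hx (frobenius_mem_of_conj_mem hH y.2 hy' hmem)

/-- An induced function vanishes off the conjugates of the subgroup. -/
theorem indFun_eq_zero_of_not_conj (H : Subgroup G) (θ : H → ℂ) {g : G}
    (hg : ∀ x : G, g ∉ MulAut.conj x • H) : indFun H θ g = 0 := by
  rw [indFun_apply]
  have : ∀ x : G, extendByZero H θ (x⁻¹ * g * x) = 0 := by
    intro x
    apply extendByZero_of_not_mem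
    intro hmem
    exact hg x (mem_conj_smul_iff.mpr hmem)
  simp only [this, Finset.sum_const_zero, mul_zero]

/-- **Extension of irreducible characters from a Frobenius complement.** -/
theorem exists_extension_of_frobenius {H : Subgroup G} (hH : Cfsg.IsFrobeniusComplement H)
    {ψ : H → ℂ} (hψ : IsIrrCharacter H ψ) :
    ∃ Ψ : G → ℂ, IsCharacter G Ψ ∧ (∀ y : H, Ψ (y : G) = ψ y) ∧
      (∀ g : G, (∀ x : G, g ∉ MulAut.conj x • H) → Ψ g = ψ 1) := by
  classical
  letI : Fintype H := Fintype.ofFinite H
  by_cases hprinc : ψ = fun _ => (1 : ℂ)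
  · refine ⟨fun _ => (1 : ℂ), isCharacter_one, ?_, ?_⟩
    · intro y; rw [hprinc]
    · intro g _; rw [hprinc]
  obtain ⟨n, hn, hψ1⟩ := irr_one_eq hψ
  set oneH : H → ℂ := fun _ => (1 : ℂ) with honeH
  set oneG : G → ℂ := fun _ => (1 : ℂ) with honeG
  have hirrH : IsIrrCharacter H oneH := isIrrCharacter_one
  have hirrG : IsIrrCharacter G oneG := isIrrCharacter_one
  set θ : H → ℂ := ψ + (-(n : ℂ)) • oneH with hθ
  have hψcf : IsClassFunction H ψ := isClassFunction_of_isIrrCharacter hψ
  have hθcf : IsClassFunction H θ := by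
    intro g h
    simp only [hθ, Pi.add_apply, Pi.smul_apply, honeH]
    rw [hψcf g h]
  have hθ1 : θ 1 = 0 := by
    simp only [hθ, Pi.add_apply, Pi.smul_apply, honeH, hψ1, smul_eq_mul, mul_one]
    ring
  set I : G → ℂ := indFun H θ with hI
  have hIcf : IsClassFunction G I := isClassFunction_indFun H θ
  have hIres : ∀ y : H, I (y : G) = θ y := fun y => indFun_restrict_of_frobenius hH hθcf hθ1 y
  set Ψ : G → ℂ := I + (n : ℂ) • oneG with hΨ
  -- inner products on `H`
  have h11 : classInner ψ ψ = 1 := by rw [irr_orthogonality hψ hψ, if_pos rfl]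
  have h12 : classInner ψ oneH = 0 := by rw [irr_orthogonality hψ hirrH, if_neg hprinc]
  have h21 : classInner oneH ψ = 0 := by
    rw [irr_orthogonality hirrH hψ, if_neg (fun h => hprinc h.symm)]
  have h22 : classInner oneH oneH = 1 := by rw [irr_orthogonality hirrH hirrH, if_pos rfl]
  have hθθ : classInner θ θ = 1 + (n : ℂ) ^ 2 := by
    simp only [hθ, classInner_add_left, classInner_add_right, classInner_smul_left,
      classInner_smul_right, h11, h12, h21, h22, map_neg, Complex.conj_natCast]
    ring
  have hθ1' : classInner θ oneH = -(n : ℂ) := by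
    simp only [hθ, classInner_add_left, classInner_smul_left, h12, h22]
    ring
  -- inner products on `G`
  have hG11 : classInner oneG oneG = 1 := by rw [irr_orthogonality hirrG hirrG, if_pos rfl]
  have hI1 : classInner I oneG = -(n : ℂ) := by
    rw [hI, frobenius_reciprocity H θ (isClassFunction_of_isIrrCharacter hirrG)]
    exact hθ1'
  have h1I : classInner oneG I = -(n : ℂ) := by
    rw [← classInner_conj_symm, hI1]
    simp
  have hII : classInner I I = 1 + (n : ℂ) ^ 2 := by
    have h : classInner (indFun H θ) I = classInner θ (fun h : H => I h) :=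
      frobenius_reciprocity H θ hIcf
    have h2 : (fun h : H => I h) = θ := funext hIres
    rw [h2, hθθ] at h
    exact h
  have hnorm : classInner Ψ Ψ = 1 := by
    simp only [hΨ, classInner_add_left, classInner_add_right, classInner_smul_left,
      classInner_smul_right, hII, hI1, h1I, hG11, Complex.conj_natCast]
    ring
  -- `Ψ` is a generalized character
  have hgen : IsGeneralizedCharacter G Ψ := by
    refine ⟨indFun H ψ + (n : ℂ) • oneG, (n : ℂ) • indFun H oneH, ?_, ?_, ?_⟩
    · exact isCharacter_add (isCharacter_indFun H (isCharacter_of_isIrrCharacter hψ))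
        (isCharacter_natCast_smul n isCharacter_one)
    · exact isCharacter_natCast_smul n (isCharacter_indFun H isCharacter_one)
    · rw [hΨ, hI, hθ, indFun_add, indFun_smul]
      ext g
      simp only [Pi.add_apply, Pi.smul_apply, Pi.sub_apply, smul_eq_mul]
      ring
  have hΨy : ∀ y : H, Ψ (y : G) = ψ y := by
    intro y
    simp only [hΨ, Pi.add_apply, Pi.smul_apply, honeG, hIres y, hθ, honeH, smul_eq_mul, mul_one]
    ring
  have hΨ1 : Ψ 1 = (n : ℂ) := by
    have := hΨy 1
    rw [hψ1] at this
    exact this
  have hchar : IsCharacter G Ψ := by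
    rcases Cfsg.Agent.Helper8.genChar_norm_one hgen hnorm with h | h
    · exact isCharacter_of_isIrrCharacter h
    · exfalso
      obtain ⟨m, hm, hm1⟩ := irr_one_eq h
      rw [Pi.neg_apply, hΨ1] at hm1
      have : ((m + n : ℕ) : ℂ) = 0 := by push_cast; rw [← hm1]; ring
      have h0 : m + n = 0 := by exact_mod_cast this
      omega
  refine ⟨Ψ, hchar, hΨy, ?_⟩
  intro g hg
  simp only [hΨ, Pi.add_apply, Pi.smul_apply, honeG, hI, indFun_eq_zero_of_not_conj H θ hg, hψ1,
    smul_eq_mul, mul_one, zero_add]

end Cfsg.Agent.Helper1
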