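import Mathlib
import Cfsg.Prelude.Def_Transfer

/-!
# Normal complements of Hall subgroups from `p`-nilpotence at each prime (helper1's shared library)
-/

set_option autoImplicit false

namespace Cfsg.Agent.Helper1

open Subgroup

variable {G : Type*} [Group G]

/-- The subgroup generated by the elements of order prime to `n`. -/
def coprimeResidual (n : ℕ) (G : Type*) [Group G] : Subgroup G :=
  Subgroup.closure {g : G | (orderOf g).Coprime n}

theorem coprimeResidual_normal (n : ℕ) : (coprimeResidual n G).Normal := by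
  constructor
  intro x hx g
  unfold coprimeResidual at hx ⊢
  induction hx using Subgroup.closure_induction with
  | mem x hx =>
    apply Subgroup.subset_closure
    change Nat.Coprime (orderOf (g * x * g⁻¹)) n
    have : g * x * g⁻¹ = MulAut.conj g x := by simp [MulAut.conj_apply]
    rw [this, (MulAut.conj g).orderOf_eq x]
    exact hx
  | one => simp
  | mul x y _ _ hx hy =>
    have : g * (x * y) * g⁻¹ = (g * x * g⁻¹) * (g * y * g⁻¹) := by group
    rw [this]
    exact Subgroup.mul_mem _ hx hy
  | inv x _ hx =>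
    have : g * x⁻¹ * g⁻¹ = (g * x * g⁻¹)⁻¹ := by group
    rw [this]
    exact Subgroup.inv_mem _ hx

theorem coprimeResidual_le_pResidual {n p : ℕ} (hpn : p ∣ n) :
    coprimeResidual n G ≤ Cfsg.pResidual p G := by
  apply Subgroup.closure_mono
  intro g hg
  exact Nat.Coprime.coprime_dvd_right hpn hg

/-- The index of `coprimeResidual n G` only involves primes dividing `n`. -/
theorem dvd_of_prime_dvd_index_coprimeResidual [Finite G] {n q : ℕ} (hq : q.Prime)
    (hdvd : q ∣ (coprimeResidual n G).index) : q ∣ n := by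
  by_contra hqn
  haveI := coprimeResidual_normal (G := G) n
  haveI : Fact q.Prime := ⟨hq⟩
  rw [Subgroup.index_eq_card] at hdvd
  obtain ⟨gb, hgb⟩ := exists_prime_orderOf_dvd_card' q hdvd
  obtain ⟨g, rfl⟩ := QuotientGroup.mk_surjective gb
  have hne : orderOf g ≠ 0 := (orderOf_pos g).ne'
  obtain ⟨a, m, hm, ham⟩ := Nat.exists_eq_pow_mul_and_not_dvd hne q hq.ne_one
  have h1 : orderOf (g ^ m) ∣ q ^ a := by
    apply orderOf_dvd_of_pow_eq_one
    rw [← pow_mul, mul_comm, ← ham]
    exact pow_orderOf_eq_one g
  have h2 : (orderOf (g ^ m)).Coprime n :=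
    Nat.Coprime.coprime_dvd_left h1 (Nat.Coprime.pow_left a ((Nat.Prime.coprime_iff_not_dvd hq).mpr hqn))
  have h3 : g ^ m ∈ coprimeResidual n G := Subgroup.subset_closure h2
  have h4 : (QuotientGroup.mk g : G ⧸ coprimeResidual n G) ^ m = 1 := by
    rw [← QuotientGroup.mk_pow]
    exact (QuotientGroup.eq_one_iff _).mpr h3
  have h5 : q ∣ m := by
    rw [← hgb]
    exact orderOf_dvd_of_pow_eq_one h4
  exact hm h5

/-- A Hall subgroup `H` has a normal complement as soon as `O^p(G)` is a `p'`-group for every
prime `p` dividing `|H|`. -/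
theorem exists_normal_complement_of_forall_pResidual [Finite G] (H : Subgroup G)
    (hHall : Nat.Coprime (Nat.card H) H.index)
    (h : ∀ p : ℕ, p.Prime → p ∣ Nat.card H → ¬ p ∣ Nat.card (Cfsg.pResidual p G)) :
    ∃ N : Subgroup G, N.Normal ∧ N.IsComplement' H := by
  set N := coprimeResidual (Nat.card H) G with hN
  haveI hNn : N.Normal := coprimeResidual_normal _
  refine ⟨N, hNn, ?_⟩
  apply Subgroup.isComplement'_of_disjoint_and_mul_eq_univ
  · rw [Subgroup.disjoint_def]
    intro x hxN hxH
    by_contra hx1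
    have hord : orderOf x ≠ 1 := fun h1 => hx1 (orderOf_eq_one_iff.mp h1)
    obtain ⟨p, hp, hpx⟩ := Nat.exists_prime_and_dvd hord
    have h1 : orderOf x ∣ Nat.card H := by
      have := orderOf_dvd_natCard (⟨x, hxH⟩ : H)
      rwa [Subgroup.orderOf_mk] at this
    have hpH : p ∣ Nat.card H := dvd_trans hpx h1
    have h2 : x ∈ Cfsg.pResidual p G := coprimeResidual_le_pResidual hpH hxN
    have h3 : orderOf x ∣ Nat.card (Cfsg.pResidual p G) := by
      have := orderOf_dvd_natCard (⟨x, h2⟩ : Cfsg.pResidual p G)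
      rwa [Subgroup.orderOf_mk] at this
    exact h p hp hpH (dvd_trans hpx h3)
  · rw [← Subgroup.normal_mul]
    have htop : N ⊔ H = ⊤ := by
      rw [← Subgroup.index_eq_one]
      by_contra hI
      obtain ⟨q, hq, hqI⟩ := Nat.exists_prime_and_dvd hI
      have d1 : q ∣ H.index := dvd_trans hqI (Subgroup.index_dvd_of_le le_sup_right)
      have d2 : q ∣ N.index := dvd_trans hqI (Subgroup.index_dvd_of_le le_sup_left)
      have d3 : q ∣ Nat.card H := dvd_of_prime_dvd_index_coprimeResidual hq d2
      have := Nat.Coprime.eq_one_of_dvd (Nat.Coprime.coprime_dvd_left d3 hHall) d1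
      exact hq.one_lt.ne' this
    rw [htop]
    rfl

end Cfsg.Agent.Helper1
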