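import Mathlib
import Cfsg.Agent.Lib.Helper1.Complement
import Cfsg.Agent.Lib.Helper1.QuotientCard

/-!
# Crossed homomorphisms into an abelian normal subgroup, complements, and Gaschütz averaging
(helper1's shared library)
-/

set_option autoImplicit false

namespace Cfsg.Agent.Helper1

open Subgroup
open scoped IsMulCommutative Pointwise

variable {G : Type*} [Group G]

/-- `β : G → K` is a crossed homomorphism with respect to the conjugation action of `G` on the
normal subgroup `K`. -/
def IsCrossedHom (K : Subgroup G) [K.Normal] (β : G → K) : Prop :=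
  ∀ x y : G, β (x * y) = β x * MulAut.conjNormal x (β y)

namespace IsCrossedHom

variable {K : Subgroup G} [K.Normal] {β : G → K}

theorem map_one (h : IsCrossedHom K β) : β 1 = 1 := by
  have := h 1 1
  simpa using this

theorem map_inv_of_eq_one (h : IsCrossedHom K β) {x : G} (hx : β x = 1) : β x⁻¹ = 1 := by
  have := h x x⁻¹
  rw [mul_inv_cancel, h.map_one, hx, one_mul] at this
  have h2 : MulAut.conjNormal x (β x⁻¹) = MulAut.conjNormal x 1 := by rw [← this, _root_.map_one]
  exact (MulAut.conjNormal x).injective h2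

/-- The kernel of a crossed homomorphism. -/
def ker (h : IsCrossedHom K β) : Subgroup G where
  carrier := {x | β x = 1}
  mul_mem' := by
    intro a b ha hb
    change β a = 1 at ha
    change β b = 1 at hb
    change β (a * b) = 1
    rw [h a b, ha, hb, _root_.map_one, one_mul]
  one_mem' := h.map_one
  inv_mem' := by
    intro a ha
    exact h.map_inv_of_eq_one ha

theorem mem_ker (h : IsCrossedHom K β) {x : G} : x ∈ h.ker ↔ β x = 1 := Iff.rfl

end IsCrossedHom

/-- Conjugation by an element of an abelian normal subgroup is trivial on it. -/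
theorem conjNormal_of_mem (K : Subgroup G) [K.Normal] [IsMulCommutative K] (k l : K) :
    MulAut.conjNormal (k : G) l = l := by
  apply Subtype.ext
  rw [MulAut.conjNormal_apply]
  have : (k * l * k⁻¹ : K) = l := by rw [mul_comm k l, mul_inv_cancel_right]
  exact congrArg Subtype.val this

/-- A crossed homomorphism `G → K` restricting to the `n`-th power map on `K`, with `n` coprime to
`|K|`, yields a complement of `K`. -/
theorem isComplement'_ker_of_crossedHom [Finite G] (K : Subgroup G) [K.Normal] [IsMulCommutative K]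
    (β : G → K) (hβ : IsCrossedHom K β) (n : ℕ) (hn : (Nat.card K).Coprime n)
    (hK : ∀ k : K, β k = k ^ n) : Subgroup.IsComplement' K hβ.ker := by
  apply Subgroup.isComplement'_of_disjoint_and_mul_eq_univ
  · rw [Subgroup.disjoint_def]
    intro x hxK hx
    rw [hβ.mem_ker] at hx
    have h1 : (⟨x, hxK⟩ : K) ^ n = 1 := by rw [← hK ⟨x, hxK⟩]; exact hx
    have h2 : orderOf (⟨x, hxK⟩ : K) ∣ n := orderOf_dvd_of_pow_eq_one h1
    have h3 : orderOf (⟨x, hxK⟩ : K) ∣ Nat.card K := orderOf_dvd_natCard _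
    have h4 : orderOf (⟨x, hxK⟩ : K) = 1 := Nat.eq_one_of_dvd_coprimes hn h3 h2
    have h5 : (⟨x, hxK⟩ : K) = 1 := orderOf_eq_one_iff.mp h4
    exact congrArg Subtype.val h5
  · rw [Set.eq_univ_iff_forall]
    intro g
    obtain ⟨k, hk⟩ := (powCoprime hn).surjective (β g)
    rw [powCoprime_apply] at hk
    refine ⟨k, k.2, (k : G)⁻¹ * g, ?_, by group⟩
    change β ((k : G)⁻¹ * g) = 1
    rw [hβ]
    have h1 : β ((k : G)⁻¹) = (k⁻¹) ^ n := by
      have := hK k⁻¹
      simpa using this
    rw [h1]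
    have h2 : MulAut.conjNormal ((k : G)⁻¹) (β g) = β g := by
      have := conjNormal_of_mem K k⁻¹ (β g)
      simpa using this
    rw [h2, ← hk, inv_pow, inv_mul_cancel]

/-- The projection of `K ⊔ A` onto `K` along `A` (total function, junk outside `K ⊔ A`). -/
noncomputable def projAlong (K A : Subgroup G) (g : G) : K :=
  open Classical in if h : ∃ k : K, (k : G)⁻¹ * g ∈ A then h.choose else 1

theorem projAlong_mul (K A : Subgroup G) (hKA : A ⊓ K = ⊥) (k : K) (a : G) (ha : a ∈ A) :
    projAlong K A (k * a) = k := by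
  have h : ∃ k' : K, (k' : G)⁻¹ * (k * a) ∈ A := ⟨k, by simpa using ha⟩
  unfold projAlong
  rw [dif_pos h]
  have h1 := h.choose_spec
  set k' := h.choose
  have h2 : (k' : G)⁻¹ * k ∈ A := by
    have := A.mul_mem h1 (A.inv_mem ha)
    simpa [mul_assoc] using this
  have h3 : (k' : G)⁻¹ * k ∈ K := K.mul_mem (K.inv_mem k'.2) k.2
  have h4 : (k' : G)⁻¹ * k ∈ A ⊓ K := ⟨h2, h3⟩
  rw [hKA, Subgroup.mem_bot] at h4
  apply Subtype.ext
  exact (inv_mul_eq_one.mp h4)

theorem exists_mul_of_mem_normal_sup (K A : Subgroup G) [K.Normal] {g : G} (hg : g ∈ K ⊔ A) :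
    ∃ k : K, ∃ a ∈ A, g = k * a := by
  have : g ∈ ((K ⊔ A : Subgroup G) : Set G) := hg
  rw [Subgroup.normal_mul] at this
  obtain ⟨k, hk, a, ha, rfl⟩ := this
  exact ⟨⟨k, hk⟩, a, ha, rfl⟩

theorem projAlong_inv_mul_mem (K A : Subgroup G) [K.Normal] (hKA : A ⊓ K = ⊥) {g : G}
    (hg : g ∈ K ⊔ A) : (projAlong K A g : G)⁻¹ * g ∈ A := by
  obtain ⟨k, a, ha, rfl⟩ := exists_mul_of_mem_normal_sup K A hg
  rw [projAlong_mul K A hKA k a ha]
  simpa using ha

theorem projAlong_of_mem (K A : Subgroup G) (hKA : A ⊓ K = ⊥) (k : K) :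
    projAlong K A (k : G) = k := by
  have := projAlong_mul K A hKA k 1 A.one_mem
  simpa using this

theorem projAlong_eq_one_iff (K A : Subgroup G) [K.Normal] (hKA : A ⊓ K = ⊥) {g : G}
    (hg : g ∈ K ⊔ A) : projAlong K A g = 1 ↔ g ∈ A := by
  constructor
  · intro h
    have := projAlong_inv_mul_mem K A hKA hg
    rw [h] at this
    simpa using this
  · intro h
    have := projAlong_mul K A hKA 1 g h
    simpa using this

/-- The projection along a complement is a crossed homomorphism on `K ⊔ A`. -/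
theorem projAlong_crossed (K A : Subgroup G) [K.Normal] [IsMulCommutative K] (hKA : A ⊓ K = ⊥)
    {u v : G} (hu : u ∈ K ⊔ A) (hv : v ∈ K ⊔ A) :
    projAlong K A (u * v) = projAlong K A u * MulAut.conjNormal u (projAlong K A v) := by
  obtain ⟨k₁, a₁, ha₁, rfl⟩ := exists_mul_of_mem_normal_sup K A hu
  obtain ⟨k₂, a₂, ha₂, rfl⟩ := exists_mul_of_mem_normal_sup K A hv
  rw [projAlong_mul K A hKA k₁ a₁ ha₁, projAlong_mul K A hKA k₂ a₂ ha₂]
  have h1 : (k₁ : G) * a₁ * (k₂ * a₂) = ((k₁ * MulAut.conjNormal a₁ k₂ : K) : G) * (a₁ * a₂) := by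
    rw [Subgroup.coe_mul, MulAut.conjNormal_apply]
    group
  rw [h1, projAlong_mul K A hKA _ _ (A.mul_mem ha₁ ha₂)]
  congr 1
  rw [map_mul, MulAut.mul_apply, conjNormal_of_mem]


section Transfer

variable (K U : Subgroup G) [K.Normal]

theorem out_smul_inv_mul_mem (x : G) (q : G ⧸ U) :
    ((x • q).out)⁻¹ * (x * q.out) ∈ U := by
  rw [← QuotientGroup.eq]
  rw [QuotientGroup.out_eq']
  conv_lhs => rw [← QuotientGroup.out_eq' q]
  rfl

variable [IsMulCommutative K] [Finite G]

/-- "Corestriction" of a crossed homomorphism `π` defined on `U` to the whole group. -/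
noncomputable def transferCrossed (π : G → K) (x : G) : K :=
  letI := Fintype.ofFinite (G ⧸ U)
  ∏ q : G ⧸ U, MulAut.conjNormal ((x • q).out) (π (((x • q).out)⁻¹ * (x * q.out)))

theorem transferCrossed_isCrossedHom (π : G → K)
    (hπ : ∀ u ∈ U, ∀ v ∈ U, π (u * v) = π u * MulAut.conjNormal u (π v)) :
    IsCrossedHom K (transferCrossed K U π) := by
  intro x y
  unfold transferCrossed
  letI := Fintype.ofFinite (G ⧸ U)
  have key : ∀ q : G ⧸ U,
      MulAut.conjNormal (((x * y) • q).out) (π ((((x * y) • q).out)⁻¹ * ((x * y) * q.out))) =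
      MulAut.conjNormal ((x • (y • q)).out) (π (((x • (y • q)).out)⁻¹ * (x * (y • q).out))) *
      MulAut.conjNormal x (MulAut.conjNormal ((y • q).out) (π (((y • q).out)⁻¹ * (y * q.out)))) := by
    intro q
    rw [mul_smul]
    have h1 : ((x • y • q).out)⁻¹ * ((x * y) * q.out) =
        (((x • y • q).out)⁻¹ * (x * (y • q).out)) * (((y • q).out)⁻¹ * (y * q.out)) := by group
    rw [h1, hπ _ (out_smul_inv_mul_mem U x (y • q)) _ (out_smul_inv_mul_mem U y q), map_mul]
    congr 1
    rw [← MulAut.mul_apply, ← map_mul, ← MulAut.mul_apply, ← map_mul]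
    congr 2
    group
  rw [Finset.prod_congr rfl (fun q _ => key q), Finset.prod_mul_distrib, ← map_prod]
  congr 1
  exact Fintype.prod_equiv (MulAction.toPerm y) _ _ (fun q => rfl)

omit [IsMulCommutative K] [Finite G] in
theorem smul_eq_self_of_mem_normal (hKU : K ≤ U) (k : K) (q : G ⧸ U) : (k : G) • q = q := by
  induction q using QuotientGroup.induction_on with
  | H g =>
    rw [MulAction.Quotient.smul_mk, QuotientGroup.eq]
    apply hKU
    have : ((k : G) • g)⁻¹ * g = g⁻¹ * (k : G)⁻¹ * g⁻¹⁻¹ := by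
      rw [smul_eq_mul]; group
    rw [this]
    exact ‹K.Normal›.conj_mem _ (K.inv_mem k.2) _

theorem transferCrossed_of_mem (π : G → K) (hKU : K ≤ U) (hπK : ∀ k : K, π k = k) (k : K) :
    transferCrossed K U π k = k ^ U.index := by
  unfold transferCrossed
  letI := Fintype.ofFinite (G ⧸ U)
  have key : ∀ q : G ⧸ U,
      MulAut.conjNormal ((((k : G)) • q).out) (π (((((k : G)) • q).out)⁻¹ * ((k : G) * q.out))) = k := by
    intro q
    rw [smul_eq_self_of_mem_normal K U hKU k q]
    have h1 : (q.out)⁻¹ * ((k : G) * q.out) = ((MulAut.conjNormal (q.out)⁻¹ k : K) : G) := by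
      rw [MulAut.conjNormal_apply]; group
    rw [h1, hπK, ← MulAut.mul_apply, ← map_mul, mul_inv_cancel, map_one, MulAut.one_apply]
  rw [Finset.prod_congr rfl (fun q _ => key q), Finset.prod_const, Finset.card_univ,
    Subgroup.index, Nat.card_eq_fintype_card]

end Transfer

/-- **Gaschütz, existence.** -/
theorem gaschutz_exists [Finite G] (K U : Subgroup G) [K.Normal] [IsMulCommutative K]
    (hKU : K ≤ U) (hcop : (Nat.card K).Coprime U.index)
    (A : Subgroup G) (hAK : A ⊓ K = ⊥) (hKA : K ⊔ A = U) :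
    ∃ H : Subgroup G, Subgroup.IsComplement' K H := by
  have hβ : IsCrossedHom K (transferCrossed K U (projAlong K A)) := by
    apply transferCrossed_isCrossedHom
    intro u hu v hv
    rw [← hKA] at hu hv
    exact projAlong_crossed K A hAK hu hv
  exact ⟨hβ.ker, isComplement'_ker_of_crossedHom K _ hβ U.index hcop
    (transferCrossed_of_mem K U _ hKU (projAlong_of_mem K A hAK))⟩


/-- A crossed homomorphism `δ : G → K` vanishing on `U` (index coprime to `|K|`) is principal. -/
theorem crossedHom_principal_of_vanish [Finite G] (K U : Subgroup G) [K.Normal] [IsMulCommutative K]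
    (hcop : (Nat.card K).Coprime U.index) (δ : G → K) (hδ : IsCrossedHom K δ)
    (hU : ∀ u ∈ U, δ u = 1) :
    ∃ d : K, ∀ x : G, δ x = d * (MulAut.conjNormal x d)⁻¹ := by
  letI := Fintype.ofFinite (G ⧸ U)
  have hinv : ∀ x : G, ∀ u ∈ U, δ (x * u) = δ x := by
    intro x u hu
    rw [hδ, hU u hu, map_one, mul_one]
  set c : K := ∏ q : G ⧸ U, δ q.out with hc
  have h1 : ∀ x : G, ∏ q : G ⧸ U, δ (x * q.out) = c := by
    intro x
    have h2 : ∀ q : G ⧸ U, δ (x * q.out) = δ ((x • q).out) := by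
      intro q
      have h3 := hinv ((x • q).out) _ (out_smul_inv_mul_mem U x q)
      rw [← h3]
      congr 1
      group
    rw [Finset.prod_congr rfl (fun q _ => h2 q)]
    exact Fintype.prod_equiv (MulAction.toPerm x) _ _ (fun q => rfl)
  have h2 : ∀ x : G, δ x ^ U.index * MulAut.conjNormal x c = c := by
    intro x
    conv_rhs => rw [← h1 x]
    rw [Finset.prod_congr rfl (fun q _ => hδ x q.out), Finset.prod_mul_distrib, ← map_prod,
      Finset.prod_const, Finset.card_univ, Subgroup.index, Nat.card_eq_fintype_card]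
  obtain ⟨d, hd⟩ := (powCoprime hcop).surjective c
  rw [powCoprime_apply] at hd
  refine ⟨d, fun x => ?_⟩
  apply (powCoprime hcop).injective
  rw [powCoprime_apply, powCoprime_apply, mul_pow, inv_pow, ← map_pow, hd]
  rw [eq_mul_inv_iff_mul_eq]
  exact h2 x

/-- **Gaschütz, conjugacy.** -/
theorem gaschutz_conj [Finite G] (K U : Subgroup G) [K.Normal] [IsMulCommutative K]
    (hKU : K ≤ U) (hcop : (Nat.card K).Coprime U.index)
    (H₀ H₁ : Subgroup G) (h₀ : Subgroup.IsComplement' K H₀) (h₁ : Subgroup.IsComplement' K H₁)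
    (hU : H₀ ⊓ U = H₁ ⊓ U) :
    ∃ g : G, MulAut.conj g • H₀ = H₁ := by
  have hd₀ : H₀ ⊓ K = ⊥ := by rw [inf_comm]; exact disjoint_iff.mp h₀.disjoint
  have hd₁ : H₁ ⊓ K = ⊥ := by rw [inf_comm]; exact disjoint_iff.mp h₁.disjoint
  have ht₀ : ∀ g : G, g ∈ K ⊔ H₀ := fun g => by rw [h₀.sup_eq_top]; exact Subgroup.mem_top g
  have ht₁ : ∀ g : G, g ∈ K ⊔ H₁ := fun g => by rw [h₁.sup_eq_top]; exact Subgroup.mem_top g
  set δ : G → K := fun x => projAlong K H₀ x * (projAlong K H₁ x)⁻¹ with hδdef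
  have hδ : IsCrossedHom K δ := by
    intro x y
    simp only [hδdef]
    rw [projAlong_crossed K H₀ hd₀ (ht₀ x) (ht₀ y), projAlong_crossed K H₁ hd₁ (ht₁ x) (ht₁ y),
      map_mul, map_inv, mul_inv]
    rw [mul_mul_mul_comm]
  have hδU : ∀ u ∈ U, δ u = 1 := by
    intro u hu
    obtain ⟨k, h, hh, rfl⟩ := exists_mul_of_mem_normal_sup K H₀ (ht₀ u)
    have hhU : h ∈ U := by
      have := U.mul_mem (U.inv_mem (hKU k.2)) hu
      simpa using this
    have hh1 : h ∈ H₁ := by
      have : h ∈ H₀ ⊓ U := ⟨hh, hhU⟩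
      rw [hU] at this
      exact this.1
    simp only [hδdef]
    rw [projAlong_mul K H₀ hd₀ k h hh, projAlong_mul K H₁ hd₁ k h hh1, mul_inv_cancel]
  obtain ⟨d, hd⟩ := crossedHom_principal_of_vanish K U hcop δ hδ hδU
  refine ⟨d, ?_⟩
  symm
  apply Subgroup.eq_of_le_of_card_ge
  · intro x hx
    rw [mem_conj_smul_iff]
    have h2 : projAlong K H₁ x = 1 := (projAlong_eq_one_iff K H₁ hd₁ (ht₁ x)).mpr hx
    have h3 : projAlong K H₀ x = d * (MulAut.conjNormal x d)⁻¹ := by
      rw [← hd x]
      simp only [hδdef]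
      rw [h2, inv_one, mul_one]
    have h4 := projAlong_inv_mul_mem K H₀ hd₀ (ht₀ x)
    rw [h3] at h4
    have h5 : (d * (MulAut.conjNormal x d)⁻¹)⁻¹ = d⁻¹ * MulAut.conjNormal x d := by
      rw [mul_inv, inv_inv, mul_comm]
    have h6 : (((d * (MulAut.conjNormal x d)⁻¹ : K) : G))⁻¹ * x = (d : G)⁻¹ * x * d := by
      rw [← Subgroup.coe_inv, h5, Subgroup.coe_mul, MulAut.conjNormal_apply, Subgroup.coe_inv]
      group
    rw [h6] at h4
    exact h4
  · rw [card_conj_smul]
    have e₀ := h₀.card_mul_card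
    have e₁ := h₁.card_mul_card
    have hpos : 0 < Nat.card K := Nat.card_pos
    have : Nat.card K * Nat.card H₀ = Nat.card K * Nat.card H₁ := by rw [e₀, e₁]
    exact le_of_eq (Nat.eq_of_mul_eq_mul_left hpos this)

end Cfsg.Agent.Helper1
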