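import Mathlib

set_option autoImplicit false

namespace Cfsg.Agent.Helper1

open Subgroup
open scoped commutatorElement

/-- To show that the focal subgroup of `H` is contained in `K`, it suffices to treat the
generators `x * (u * x * u⁻¹)⁻¹` with `x ∈ H` and `u * x * u⁻¹ ∈ H`. -/
theorem focalSubgroup_le_of_forall {G : Type*} [Group G] (H K : Subgroup G)
    (h : ∀ x ∈ H, ∀ u : G, u * x * u⁻¹ ∈ H → x * (u * x * u⁻¹)⁻¹ ∈ K) :
    focalSubgroup H ≤ K := by
  rw [focalSubgroup_def, closure_le]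
  rintro g ⟨hgH, x, hx, u, rfl⟩
  have h1 : ⁅x, u⁆ = x * (u * x * u⁻¹)⁻¹ := by rw [commutatorElement_def]; group
  have h2 : u * x * u⁻¹ ∈ H := by
    have : u * x * u⁻¹ = ⁅x, u⁆⁻¹ * x := by rw [commutatorElement_def]; group
    rw [this]
    exact H.mul_mem (H.inv_mem hgH) hx
  change ⁅x, u⁆ ∈ K
  rw [h1]
  exact h x hx u h2

end Cfsg.Agent.Helper1
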