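import Mathlib
import Cfsg.Prelude.Def_Transfer
import Cfsg.Agent.Lib.Helper1.CrossedHom
import Cfsg.Agent.Lib.Helper9.FrattiniElem
import Cfsg.Agent.Lib.Helper21.PGroupFrattini
import Cfsg.Agent.Lib.Helper22.PResidual
import Cfsg.Agent.Lib.Helper25.PResidual
import Cfsg.Agent.Lib.Helper1.Focal

/-!
# Tate's theorem via Gaschütz (helper1's shared library)
-/

set_option autoImplicit false

namespace Cfsg.Agent.Helper1

open Subgroup
open scoped Pointwise commutatorElement

section CentralComplement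

variable {T : Type*} [Group T] {p : ℕ} [Fact p.Prime]

theorem normal_of_le_center' (K : Subgroup T) (hK : K ≤ center T) : K.Normal := by
  constructor
  intro n hn g
  have := Subgroup.mem_center_iff.mp (hK hn) g
  have h2 : g * n * g⁻¹ = n := by rw [this]; group
  rw [h2]
  exact hn

theorem exists_mul_of_central_complement (K H : Subgroup T) (hK : K ≤ center T)
    (hc : IsComplement' K H) (t : T) : ∃ k ∈ K, ∃ h ∈ H, t = k * h := by
  haveI := normal_of_le_center' K hK
  have ht : t ∈ K ⊔ H := by rw [hc.sup_eq_top]; exact mem_top t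
  obtain ⟨k, h, hh, rfl⟩ := exists_mul_of_mem_normal_sup K H ht
  exact ⟨k, k.2, h, hh, rfl⟩

/-- In a group with a central subgroup `K` of exponent `p` and a complement `H`,
every `p'`-element lies in `H`. -/
theorem mem_of_coprime_of_central_complement (K H : Subgroup T) (hK : K ≤ center T)
    (hexp : ∀ k ∈ K, k ^ p = 1) (hc : IsComplement' K H) (z : T) (hz : (orderOf z).Coprime p) :
    z ∈ H := by
  obtain ⟨k, hk, h, hh, rfl⟩ := exists_mul_of_central_complement K H hK hc z
  have hcomm : Commute k h := (Subgroup.mem_center_iff.mp (hK hk) h).symm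
  set n := orderOf (k * h) with hn
  have h1 : (k * h) ^ n = 1 := pow_orderOf_eq_one _
  rw [hcomm.mul_pow] at h1
  have h2 : k ^ n ∈ K ⊓ H := by
    refine ⟨K.pow_mem hk n, ?_⟩
    have : k ^ n = (h ^ n)⁻¹ := eq_inv_of_mul_eq_one_left h1
    rw [this]
    exact H.inv_mem (H.pow_mem hh n)
  have h3 : K ⊓ H = ⊥ := disjoint_iff.mp hc.disjoint
  rw [h3, Subgroup.mem_bot] at h2
  have h4 : orderOf k ∣ n := orderOf_dvd_of_pow_eq_one h2
  have h5 : orderOf k ∣ p := orderOf_dvd_of_pow_eq_one (hexp k hk)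
  have h6 : orderOf k = 1 := Nat.eq_one_of_dvd_coprimes hz h4 h5
  rw [orderOf_eq_one_iff] at h6
  rw [h6, one_mul]
  exact hh

theorem normal_of_central_complement (K H : Subgroup T) (hK : K ≤ center T)
    (hc : IsComplement' K H) : H.Normal := by
  constructor
  intro n hn g
  obtain ⟨k, hk, h, hh, rfl⟩ := exists_mul_of_central_complement K H hK hc g
  have hkc := Subgroup.mem_center_iff.mp (hK hk)
  have : k * h * n * (k * h)⁻¹ = h * n * h⁻¹ := by
    have e1 : k * h * n * (k * h)⁻¹ = k * (h * n * h⁻¹) * k⁻¹ := by group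
    rw [e1, ← hkc (h * n * h⁻¹)]
    group
  rw [this]
  exact H.mul_mem (H.mul_mem hh hn) (H.inv_mem hh)

/-- With a central subgroup `K` of exponent `p` and a complement `H`, any homomorphism from a
finite group into `T` sends the Frattini subgroup into `H`. -/
theorem frattini_le_comap_of_central_complement (K H : Subgroup T) (hK : K ≤ center T)
    (hexp : ∀ k ∈ K, k ^ p = 1) (hc : IsComplement' K H) {P' : Type*} [Group P'] [Finite P']
    (f : P' →* T) : frattini P' ≤ H.comap f := by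
  haveI := normal_of_central_complement K H hK hc
  have hrep : ∀ a : T ⧸ H, ∃ k ∈ K, a = QuotientGroup.mk' H k := by
    intro a
    obtain ⟨t, rfl⟩ := QuotientGroup.mk'_surjective H a
    obtain ⟨k, hk, h, hh, rfl⟩ := exists_mul_of_central_complement K H hK hc t
    refine ⟨k, hk, ?_⟩
    rw [map_mul]
    have : QuotientGroup.mk' H h = 1 := (QuotientGroup.eq_one_iff h).mpr hh
    rw [this, mul_one]
  have hcomm : ∀ a b : T ⧸ H, a * b = b * a := by
    intro a b
    obtain ⟨k₁, hk₁, rfl⟩ := hrep a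
    obtain ⟨k₂, hk₂, rfl⟩ := hrep b
    rw [← map_mul, ← map_mul, Subgroup.mem_center_iff.mp (hK hk₁) k₂]
  have hexp' : ∀ a : T ⧸ H, a ^ p = 1 := by
    intro a
    obtain ⟨k, hk, rfl⟩ := hrep a
    rw [← map_pow, hexp k hk, map_one]
  have h1 := Cfsg.Agent.Helper9.frattini_le_ker_of_elementary (p := p)
    ((QuotientGroup.mk' H).comp f) hcomm hexp'
  intro x hx
  have h2 := h1 hx
  rw [MonoidHom.mem_ker, MonoidHom.comp_apply] at h2
  rw [Subgroup.mem_comap]
  exact (QuotientGroup.eq_one_iff (f x)).mp h2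

end CentralComplement


section TateStep

variable {G : Type*} [Group G] (P M : Subgroup G) (R R' : Subgroup P) [R'.Normal]

/-- The image of `R` in `P ⧸ R'`. -/
def tV : Subgroup (P ⧸ R') := R.map (QuotientGroup.mk' R')

/-- `1 × V`. -/
def tK : Subgroup (G × (P ⧸ R')) := Subgroup.prod ⊥ (tV P R R')

/-- `M × V`. -/
def tW : Subgroup (G × (P ⧸ R')) := Subgroup.prod M (tV P R R')

/-- The diagonal embedding `y ↦ (y, ȳ)`. -/
def tDiag : P →* G × (P ⧸ R') := MonoidHom.prod P.subtype (QuotientGroup.mk' R')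

/-- The diagonal copy of `P`. -/
def tA : Subgroup (G × (P ⧸ R')) := (tDiag P R').range

/-- The fibre product group. -/
def tG : Subgroup (G × (P ⧸ R')) := tW P M R R' ⊔ tA P R'

variable {P M R R'}

theorem tV_le_center (hc : ⁅R, (⊤ : Subgroup P)⁆ ≤ R') : tV P R R' ≤ center (P ⧸ R') := by
  rintro v ⟨r, hr, rfl⟩
  rw [Subgroup.mem_center_iff]
  intro x
  obtain ⟨y, rfl⟩ := QuotientGroup.mk'_surjective R' x
  rw [← map_mul, ← map_mul]
  apply (QuotientGroup.eq).mpr
  have h2 : (y * r)⁻¹ * (r * y) = ⁅r⁻¹, y⁻¹⁆ := by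
    rw [commutatorElement_def]; group
  rw [h2]
  apply hc
  exact Subgroup.commutator_mem_commutator (R.inv_mem hr) (mem_top _)

theorem tV_pow {p : ℕ} (hpow : ∀ r ∈ R, r ^ p ∈ R') : ∀ v ∈ tV P R R', v ^ p = 1 := by
  rintro v ⟨r, hr, rfl⟩
  rw [← map_pow]
  exact (QuotientGroup.eq_one_iff _).mpr (hpow r hr)

theorem tK_le_center (hc : ⁅R, (⊤ : Subgroup P)⁆ ≤ R') :
    tK P R R' ≤ center (G × (P ⧸ R')) := by
  intro z hz
  obtain ⟨h1, h2⟩ := Subgroup.mem_prod.mp hz
  rw [Subgroup.mem_bot] at h1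
  rw [Subgroup.mem_center_iff]
  intro x
  have h3 := Subgroup.mem_center_iff.mp (tV_le_center hc h2) x.2
  ext
  · simp [h1]
  · simpa using h3

theorem tK_pow {p : ℕ} (hpow : ∀ r ∈ R, r ^ p ∈ R') : ∀ z ∈ tK P R R', z ^ p = 1 := by
  intro z hz
  obtain ⟨h1, h2⟩ := Subgroup.mem_prod.mp hz
  rw [Subgroup.mem_bot] at h1
  ext
  · simp [h1]
  · simpa using tV_pow hpow z.2 h2

theorem tK_le_tW : tK P R R' ≤ tW P M R R' := by
  intro z hz
  obtain ⟨h1, h2⟩ := Subgroup.mem_prod.mp hz
  rw [Subgroup.mem_bot] at h1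
  exact Subgroup.mem_prod.mpr ⟨by rw [h1]; exact M.one_mem, h2⟩

theorem tK_le_tG : tK P R R' ≤ tG P M R R' := le_trans tK_le_tW le_sup_left

theorem tA_le_tG : tA P R' ≤ tG P M R R' := le_sup_right

theorem tA_inf_tK : tA P R' ⊓ tK P R R' = ⊥ := by
  rw [eq_bot_iff]
  rintro z ⟨⟨y, rfl⟩, hz⟩
  obtain ⟨h1, -⟩ := Subgroup.mem_prod.mp hz
  rw [Subgroup.mem_bot] at h1 ⊢
  have hy : y = 1 := by
    apply Subtype.ext
    simpa [tDiag] using h1
  rw [hy, map_one]

theorem tW_normal [M.Normal] (hc : ⁅R, (⊤ : Subgroup P)⁆ ≤ R') : (tW P M R R').Normal := by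
  haveI : (tV P R R').Normal := normal_of_le_center' _ (tV_le_center hc)
  unfold tW
  infer_instance

/-- Elements of the fibre product whose first coordinate lies in `P` are in `K̃ Ã`. -/
theorem tG_inf_comap_le [M.Normal] (hc : ⁅R, (⊤ : Subgroup P)⁆ ≤ R') (hQ : M.subgroupOf P ≤ R) :
    tG P M R R' ⊓ (P.comap (MonoidHom.fst G (P ⧸ R'))) ≤ tK P R R' ⊔ tA P R' := by
  haveI := tW_normal (M := M) hc
  rintro z ⟨hz1, hz2⟩
  obtain ⟨w, a, ha, rfl⟩ := exists_mul_of_mem_normal_sup (tW P M R R') (tA P R') hz1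
  obtain ⟨y, rfl⟩ := ha
  obtain ⟨hw1, hw2⟩ := Subgroup.mem_prod.mp w.2
  -- first coordinate: w.1 * y ∈ P so w.1 ∈ P
  have h1 : (w : G × (P ⧸ R')).1 ∈ P := by
    have h3 : (w : G × (P ⧸ R')).1 * (y : G) ∈ P := by
      simpa [tDiag] using hz2
    have := P.mul_mem h3 (P.inv_mem y.2)
    simpa using this
  set m : P := ⟨(w : G × (P ⧸ R')).1, h1⟩ with hm
  have hmR : m ∈ R := hQ (Subgroup.mem_subgroupOf.mpr hw1)
  -- w = (m, m̄) * (1, m̄⁻¹ v)
  have h4 : (w : G × (P ⧸ R')) = ((1 : G), (QuotientGroup.mk' R' m)⁻¹ * (w : G × (P ⧸ R')).2) *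
      tDiag P R' m := by
    ext
    · simp [tDiag, hm]
    · simp [tDiag]
      have := Subgroup.mem_center_iff.mp (tV_le_center hc hw2) ((QuotientGroup.mk m : P ⧸ R'))⁻¹
      rw [this]
      simp
  rw [h4]
  apply Subgroup.mul_mem
  · apply Subgroup.mul_mem
    · apply Subgroup.mem_sup_left
      refine Subgroup.mem_prod.mpr ⟨Subgroup.mem_bot.mpr rfl, ?_⟩
      exact Subgroup.mul_mem _ (Subgroup.inv_mem _ ⟨m, hmR, rfl⟩) hw2
    · exact Subgroup.mem_sup_right ⟨m, rfl⟩
  · exact Subgroup.mem_sup_right ⟨y, rfl⟩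


/-- **Tate step**: if `P ∩ M ≤ R ≤ Φ(P)` and `R / R'` is central of exponent `p` in `P / R'`,
then `P ∩ M ≤ R'`, provided `M` is normal and generated by `p'`-elements and `p ∤ |G : P|`. -/
theorem tate_step [Finite G] {p : ℕ} [Fact p.Prime] (hidx : ¬ p ∣ P.index) [M.Normal]
    (hM : M ≤ Subgroup.closure {g : G | g ∈ M ∧ (orderOf g).Coprime p})
    (hc : ⁅R, (⊤ : Subgroup P)⁆ ≤ R') (hpow : ∀ r ∈ R, r ^ p ∈ R')
    (hΦ : R ≤ frattini P) (hQ : M.subgroupOf P ≤ R) :
    M.subgroupOf P ≤ R' := by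
  have hp : p.Prime := Fact.out
  set Gt := tG P M R R' with hGt
  set K' : Subgroup Gt := (tK P R R').subgroupOf Gt with hK'
  set A' : Subgroup Gt := (tA P R').subgroupOf Gt with hA'
  set U' : Subgroup Gt := (tK P R R' ⊔ tA P R').subgroupOf Gt with hU'
  have hKc : K' ≤ center Gt := by
    intro z hz
    rw [mem_center_iff]; intro x
    have := mem_center_iff.mp (tK_le_center hc (mem_subgroupOf.mp hz)) (x : G × (P ⧸ R'))
    exact Subtype.ext this
  have hKp : ∀ k ∈ K', k ^ p = 1 := by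
    intro k hk
    apply Subtype.ext
    have := tK_pow hpow _ (mem_subgroupOf.mp hk)
    simpa using this
  haveI : K'.Normal := normal_of_le_center' K' hKc
  haveI : IsMulCommutative K' :=
    ⟨⟨fun a b => by
      apply Subtype.ext
      rw [Subgroup.coe_mul, Subgroup.coe_mul]
      exact mem_center_iff.mp (hKc b.2) a⟩⟩
  have hKpg : IsPGroup p K' := by
    intro k
    refine ⟨1, ?_⟩
    rw [pow_one]
    apply Subtype.ext
    have := hKp k k.2
    simpa using this
  -- the index of U' is prime to p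
  have hnd : ¬ p ∣ U'.index := by
    have d1 : (tK P R R' ⊔ tA P R').relIndex Gt ∣
        (Gt ⊓ P.comap (MonoidHom.fst G (P ⧸ R'))).relIndex Gt :=
      relIndex_dvd_of_le_left Gt (tG_inf_comap_le hc hQ)
    have d2 : (Gt ⊓ P.comap (MonoidHom.fst G (P ⧸ R'))).relIndex Gt =
        (P.comap (MonoidHom.fst G (P ⧸ R'))).relIndex Gt := by
      rw [inf_comm, inf_relIndex_right]
    have d3 : (P.comap (MonoidHom.fst G (P ⧸ R'))).relIndex Gt =
        P.relIndex (Gt.map (MonoidHom.fst G (P ⧸ R'))) := relIndex_comap _ _ _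
    have d4 : P ≤ Gt.map (MonoidHom.fst G (P ⧸ R')) := by
      intro y hy
      exact ⟨tDiag P R' ⟨y, hy⟩, tA_le_tG ⟨⟨y, hy⟩, rfl⟩, rfl⟩
    have d5 : P.relIndex (Gt.map (MonoidHom.fst G (P ⧸ R'))) ∣ P.index :=
      Dvd.intro _ (relIndex_mul_index d4)
    intro hdvd
    apply hidx
    refine dvd_trans hdvd (dvd_trans ?_ d5)
    rw [← d3, ← d2]
    exact d1
  have hcop : (Nat.card K').Coprime U'.index := by
    obtain ⟨n, hn⟩ := hKpg.exists_card_eq
    rw [hn]
    exact Nat.Coprime.pow_left n ((Nat.Prime.coprime_iff_not_dvd hp).mpr hnd)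
  have hKU : K' ≤ U' := by
    intro x hx
    exact mem_subgroupOf.mpr (mem_sup_left (mem_subgroupOf.mp hx))
  have hAK : A' ⊓ K' = ⊥ := by
    rw [eq_bot_iff]
    rintro x ⟨h1, h2⟩
    have : (x : G × (P ⧸ R')) ∈ tA P R' ⊓ tK P R R' :=
      ⟨mem_subgroupOf.mp h1, mem_subgroupOf.mp h2⟩
    rw [tA_inf_tK, mem_bot] at this
    rw [mem_bot]
    exact Subtype.ext this
  have hKA : K' ⊔ A' = U' := (subgroupOf_sup tK_le_tG tA_le_tG).symm
  obtain ⟨H', hH'⟩ := gaschutz_exists K' U' hKU hcop A' hAK hKA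
  have hb := mem_of_coprime_of_central_complement K' H' hKc hKp hH'
  set f : P →* Gt := (tDiag P R').codRestrict Gt (fun y => tA_le_tG ⟨y, rfl⟩) with hf
  have hfr := frattini_le_comap_of_central_complement K' H' hKc hKp hH' f
  set j : G →* G × (P ⧸ R') := MonoidHom.inl G (P ⧸ R') with hj
  have hjG : ∀ m ∈ M, j m ∈ Gt := by
    intro m hm
    apply mem_sup_left
    exact mem_prod.mpr ⟨hm, Subgroup.one_mem _⟩
  have hMH : M ≤ (H'.map Gt.subtype).comap j := by
    refine le_trans hM ((closure_le _).mpr ?_)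
    rintro g ⟨hgM, hgc⟩
    refine ⟨⟨j g, hjG g hgM⟩, ?_, rfl⟩
    apply hb
    have hjinj : Function.Injective j := fun a b hab => by
      have := congrArg Prod.fst hab
      simpa [hj] using this
    rw [Subgroup.orderOf_mk, orderOf_injective j hjinj g]
    exact hgc
  intro w hw
  have hwM : (w : G) ∈ M := mem_subgroupOf.mp hw
  obtain ⟨h₁, hh₁, hh₁j⟩ := hMH hwM
  have hfw : f w ∈ H' := hfr (hΦ (hQ hw))
  have ht : h₁⁻¹ * f w ∈ H' := H'.mul_mem (H'.inv_mem hh₁) hfw
  have hval : ((h₁⁻¹ * f w : Gt) : G × (P ⧸ R')) = ((1 : G), QuotientGroup.mk' R' w) := by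
    have e1 : (h₁ : G × (P ⧸ R')) = j w := hh₁j
    rw [Subgroup.coe_mul, Subgroup.coe_inv, e1]
    ext
    · simp [hj, hf, tDiag]
    · simp [hj, hf, tDiag]
  have htK : h₁⁻¹ * f w ∈ K' := by
    rw [hK', mem_subgroupOf, hval]
    exact mem_prod.mpr ⟨Subgroup.mem_bot.mpr rfl, ⟨w, hQ hw, rfl⟩⟩
  have h3 : K' ⊓ H' = ⊥ := disjoint_iff.mp hH'.disjoint
  have h4 : h₁⁻¹ * f w ∈ K' ⊓ H' := ⟨htK, ht⟩
  rw [h3, mem_bot] at h4
  have h5 := congrArg Subtype.val h4
  rw [hval] at h5
  have h6 : QuotientGroup.mk' R' w = 1 := by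
    have := congrArg Prod.snd h5
    simpa using this
  exact (QuotientGroup.eq_one_iff w).mp h6

end TateStep


section CentralStep

variable {P : Type*} [Group P] [Finite P] {p : ℕ} [Fact p.Prime]

theorem commutator_top_ne_self (hP : IsPGroup p P) (R : Subgroup P) [R.Normal] (hR : R ≠ ⊥) :
    ⁅R, (⊤ : Subgroup P)⁆ ≠ R := by
  haveI : Group.IsNilpotent P := hP.isNilpotent
  intro h
  have key : ∀ n : ℕ, R ≤ Subgroup.lowerCentralSeries (⊤ : Subgroup P) n := by
    intro n
    induction n with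
    | zero => rw [Subgroup.lowerCentralSeries_zero]; exact le_top
    | succ n ih =>
      rw [Subgroup.lowerCentralSeries_succ]
      calc R = ⁅R, (⊤ : Subgroup P)⁆ := h.symm
        _ ≤ ⁅Subgroup.lowerCentralSeries (⊤ : Subgroup P) n, ⊤⁆ := Subgroup.commutator_mono ih le_rfl
  have := key (Group.nilpotencyClass P)
  rw [Subgroup.lowerCentralSeries_nilpotencyClass, le_bot_iff] at this
  exact hR this

/-- Below any nontrivial normal subgroup `R` of a finite `p`-group `P` there is a normal subgroup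
`R' < R` with `R / R'` central of exponent `p`. -/
theorem exists_central_step (hP : IsPGroup p P) (R : Subgroup P) [R.Normal] (hR : R ≠ ⊥) :
    ∃ R' : Subgroup P, R'.Normal ∧ R' < R ∧ ⁅R, (⊤ : Subgroup P)⁆ ≤ R' ∧ ∀ r ∈ R, r ^ p ∈ R' := by
  have h1 : ⁅R, (⊤ : Subgroup P)⁆ ≤ R := Subgroup.commutator_le_left R ⊤
  have h2 := commutator_top_ne_self hP R hR
  have h3 : (⁅R, (⊤ : Subgroup P)⁆).subgroupOf R ≠ ⊤ := by
    intro h
    rw [Subgroup.subgroupOf_eq_top] at h
    exact h2 (le_antisymm h1 h)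
  obtain ⟨K, hK, hle⟩ := (eq_top_or_exists_le_coatom _).resolve_left h3
  have hRp : IsPGroup p R := hP.to_subgroup R
  have hcomm : ⁅R, (⊤ : Subgroup P)⁆ ≤ K.map R.subtype := by
    rw [← Subgroup.map_subgroupOf_eq_of_le h1]
    exact Subgroup.map_mono hle
  have hle' : K.map R.subtype ≤ R := Subgroup.map_subtype_le K
  refine ⟨K.map R.subtype, ?_, ?_, hcomm, ?_⟩
  · constructor
    intro x hx g
    have hxR : x ∈ R := hle' hx
    have e : g * x * g⁻¹ = ⁅x, g⁆⁻¹ * x := by rw [commutatorElement_def]; group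
    rw [e]
    apply Subgroup.mul_mem _ _ hx
    apply Subgroup.inv_mem
    exact hcomm (Subgroup.commutator_mem_commutator hxR (mem_top g))
  · refine lt_of_le_of_ne hle' ?_
    intro h
    apply hK.1
    have := Subgroup.comap_map_eq_self_of_injective (Subgroup.subtype_injective R) K
    rw [h] at this
    rw [← this]
    exact Subgroup.subgroupOf_self R
  · intro r hr
    have := Cfsg.Agent.Helper21.pow_mem_frattini_of_isPGroup hRp (⟨r, hr⟩ : R)
    have h5 := frattini_le_coatom hK this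
    exact ⟨_, h5, rfl⟩

end CentralStep

section TateMain

variable {G : Type*} [Group G] [Finite G] {p : ℕ} [Fact p.Prime]

/-- **Tate, core form**: if `M` is normal, generated by `p'`-elements, and `P ∩ M ≤ Φ(P)` for a
Sylow `p`-subgroup `P`, then `P ∩ M = 1`. -/
theorem tate_core (P : Sylow p G) (M : Subgroup G) [M.Normal]
    (hM : M ≤ Subgroup.closure {g : G | g ∈ M ∧ (orderOf g).Coprime p})
    (h : M.subgroupOf (P : Subgroup G) ≤ frattini (P : Subgroup G)) :
    M.subgroupOf (P : Subgroup G) = ⊥ := by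
  classical
  have hP : IsPGroup p (P : Subgroup G) := P.2
  -- the set of admissible R
  let S : Set (Subgroup (P : Subgroup G)) :=
    {R | R.Normal ∧ R ≤ frattini (P : Subgroup G) ∧ M.subgroupOf (P : Subgroup G) ≤ R}
  have hSne : S.Nonempty := ⟨frattini (P : Subgroup G), inferInstance, le_rfl, h⟩
  have hSfin : S.Finite := Set.toFinite S
  obtain ⟨R, hRS, hRmin⟩ := hSfin.exists_minimal hSne
  obtain ⟨hRn, hRΦ, hRQ⟩ := hRS
  by_cases hR : R = ⊥
  · rw [hR] at hRQ
    exact le_bot_iff.mp hRQ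
  · exfalso
    obtain ⟨R', hR'n, hlt, hc, hpow⟩ := exists_central_step hP R hR
    have hstep := tate_step (P := (P : Subgroup G)) (M := M) (R := R) (R' := R')
      P.not_dvd_index hM hc hpow hRΦ hRQ
    have hR'S : R' ∈ S := ⟨hR'n, le_trans hlt.le hRΦ, hstep⟩
    have := hRmin hR'S hlt.le
    exact absurd hlt (not_lt_of_ge this)


/-- If a Sylow `p`-subgroup meets a normal subgroup `M` trivially then `p ∤ |M|`. -/
theorem not_dvd_card_of_sylow_inf_eq_bot (P : Sylow p G) (M : Subgroup G) [hMn : M.Normal]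
    (h : (P : Subgroup G) ⊓ M = ⊥) : ¬ p ∣ Nat.card M := by
  intro hdvd
  have hp : p.Prime := Fact.out
  obtain ⟨x, hx⟩ := exists_prime_orderOf_dvd_card' p hdvd
  have hxp : IsPGroup p (zpowers (x : G)) := by
    apply IsPGroup.of_card (n := 1)
    rw [Nat.card_zpowers, Subgroup.orderOf_coe, hx, pow_one]
  obtain ⟨Q, hQ⟩ := hxp.exists_le_sylow
  obtain ⟨g, hg⟩ := MulAction.exists_smul_eq G Q P
  have h1 : (x : G) ∈ (Q : Subgroup G) := hQ (mem_zpowers _)
  have h2 : g * (x : G) * g⁻¹ ∈ (P : Subgroup G) := by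
    rw [← hg, Sylow.coe_subgroup_smul]
    have := Subgroup.smul_mem_pointwise_smul (x : G) (MulAut.conj g) (Q : Subgroup G) h1
    simpa [MulAut.smul_def] using this
  have h3 : g * (x : G) * g⁻¹ ∈ M := hMn.conj_mem _ x.2 g
  have h4 : g * (x : G) * g⁻¹ ∈ (P : Subgroup G) ⊓ M := ⟨h2, h3⟩
  rw [h, mem_bot] at h4
  have h5 : (x : G) = 1 := by
    have : (x : G) = g⁻¹ * (g * (x : G) * g⁻¹) * g := by group
    rw [this, h4]; group
  have h6 : x = 1 := Subtype.ext h5
  rw [h6, orderOf_one] at hx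
  exact hp.one_lt.ne hx

omit [Finite G] [Fact p.Prime] in
/-- `O^p(N)` of a normal subgroup `N` is normal in the whole group. -/
theorem map_pResidual_normal (N : Subgroup G) [N.Normal] :
    ((Cfsg.pResidual p N).map N.subtype).Normal := by
  constructor
  rintro _ ⟨n, hn, rfl⟩ g
  have h1 := Cfsg.Agent.Helper25.map_pResidual_equiv p (MulAut.conjNormal g : N ≃* N)
  have h2 : (MulAut.conjNormal g : N ≃* N) n ∈ Cfsg.pResidual p N := by
    rw [← h1]
    exact ⟨n, hn, rfl⟩
  refine ⟨_, h2, ?_⟩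
  simp [MulAut.conjNormal_apply]

/-- **Tate's theorem**, residual form: if `N ⊴ G` and `N ∩ P ≤ Φ(P)` for a Sylow `p`-subgroup `P`
of `G`, then `O^p(N)` is a `p'`-group. -/
theorem tate_pResidual (P : Sylow p G) (N : Subgroup G) [N.Normal]
    (h : N ⊓ (P : Subgroup G) ≤ (frattini P).map (P : Subgroup G).subtype) :
    ¬ p ∣ Nat.card (Cfsg.pResidual p N) := by
  set L : Subgroup N := Cfsg.pResidual p N with hL
  set M : Subgroup G := L.map N.subtype with hMdef
  have hMN : M ≤ N := Subgroup.map_subtype_le L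
  haveI hMn : M.Normal := map_pResidual_normal N
  have hM : M ≤ Subgroup.closure {g : G | g ∈ M ∧ (orderOf g).Coprime p} := by
    rw [hMdef, Subgroup.map_le_iff_le_comap]
    have hLc : L = Subgroup.closure {g : N | Nat.Coprime (orderOf g) p} := rfl
    rw [hLc, Subgroup.closure_le]
    intro n hn
    have hn' : Nat.Coprime (orderOf n) p := hn
    rw [SetLike.mem_coe, Subgroup.mem_comap]
    apply Subgroup.subset_closure
    refine ⟨⟨n, ?_, rfl⟩, ?_⟩
    · exact Subgroup.subset_closure hn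
    · change (orderOf ((n : N) : G)).Coprime p
      rw [Subgroup.orderOf_coe]
      exact hn'
  have hΦ : M.subgroupOf (P : Subgroup G) ≤ frattini (P : Subgroup G) := by
    intro w hw
    have hwM : (w : G) ∈ M := mem_subgroupOf.mp hw
    have : (w : G) ∈ N ⊓ (P : Subgroup G) := ⟨hMN hwM, w.2⟩
    obtain ⟨w', hw', hww'⟩ := h this
    have : w' = w := Subtype.ext hww'
    rw [← this]
    exact hw'
  have hcore := tate_core P M hM hΦ
  have hdisj : (P : Subgroup G) ⊓ M = ⊥ := by
    rw [Subgroup.subgroupOf_eq_bot] at hcore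
    rw [inf_comm]
    exact disjoint_iff.mp hcore
  have hnd : ¬ p ∣ Nat.card M := not_dvd_card_of_sylow_inf_eq_bot P M hdisj
  have hcardL : Nat.card L = Nat.card M := by
    rw [hMdef, Subgroup.card_map_of_injective (Subgroup.subtype_injective N)]
  rw [hcardL]
  exact hnd

/-- A group whose `O^p` is a `p'`-group has a normal `p`-complement. -/
theorem hasNormalPComplement_of_not_dvd_card_pResidual
    (h : ¬ p ∣ Nat.card (Cfsg.pResidual p G)) : Cfsg.HasNormalPComplement p G := by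
  have hp : p.Prime := Fact.out
  haveI hLn : (Cfsg.pResidual p G).Normal := Cfsg.Agent.Helper22.pResidual_normal
  obtain ⟨Q⟩ := (inferInstance : Nonempty (Sylow p G))
  refine ⟨Q, Cfsg.pResidual p G, hLn, ?_⟩
  apply Subgroup.isComplement'_of_disjoint_and_mul_eq_univ
  · apply Subgroup.disjoint_of_coprime_natCard
    obtain ⟨k, hk⟩ := Q.2.exists_card_eq
    rw [hk]
    apply Nat.Coprime.pow_right
    exact ((Nat.Prime.coprime_iff_not_dvd hp).mpr h).symm
  · have h1 := Cfsg.Agent.Helper22.sylow_sup_pResidual_eq_top Q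
    rw [sup_comm] at h1
    rw [← Subgroup.normal_mul, h1]
    rfl

/-- **Frobenius' normal `p`-complement theorem, fusion form**: if a Sylow `p`-subgroup controls
its own fusion then `O^p(G)` is a `p'`-group. -/
theorem not_dvd_card_pResidual_of_control (P : Sylow p G)
    (hfus : ∀ x ∈ (P : Subgroup G), ∀ u : G, u * x * u⁻¹ ∈ (P : Subgroup G) →
      ∃ a ∈ (P : Subgroup G), a * x * a⁻¹ = u * x * u⁻¹) :
    ¬ p ∣ Nat.card (Cfsg.pResidual p G) := by
  have hp : p.Prime := Fact.out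
  set N₀ : Subgroup G := (P : Subgroup G).transferFocal.ker with hN₀
  have hfoc : N₀ ⊓ (P : Subgroup G) = (P : Subgroup G).focalSubgroup :=
    Subgroup.ker_transferFocal_inf_eq_focalSubgroup P
  have h1 : (P : Subgroup G).focalSubgroup ≤ ⁅(P : Subgroup G), (P : Subgroup G)⁆ := by
    apply focalSubgroup_le_of_forall
    intro x hx u hu
    obtain ⟨a, ha, hax⟩ := hfus x hx u hu
    rw [← hax]
    have : x * (a * x * a⁻¹)⁻¹ = ⁅x, a⁆ := by rw [commutatorElement_def]; group
    rw [this]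
    exact Subgroup.commutator_mem_commutator hx ha
  have h2 : ⁅(P : Subgroup G), (P : Subgroup G)⁆ ≤ (frattini P).map (P : Subgroup G).subtype := by
    rw [← Subgroup.map_subtype_commutator]
    apply Subgroup.map_mono
    rw [_root_.commutator_def, Subgroup.commutator_le]
    intro x _ y _
    have := Cfsg.Agent.Helper21.commutator_mem_frattini_of_isPGroup P.2 x y
    rw [commutatorElement_def]
    exact this
  have h3 : N₀ ⊓ (P : Subgroup G) ≤ (frattini P).map (P : Subgroup G).subtype := by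
    rw [hfoc]; exact le_trans h1 h2
  have h4 := tate_pResidual P N₀ h3
  have hle : Cfsg.pResidual p G ≤ (Cfsg.pResidual p N₀).map N₀.subtype := by
    unfold Cfsg.pResidual
    rw [Subgroup.closure_le]
    intro g hg
    have hg' : Nat.Coprime (orderOf g) p := hg
    have hgN : g ∈ N₀ := by
      rw [hN₀, MonoidHom.mem_ker]
      have hQ : IsPGroup p ((P : Subgroup G) ⧸ (P : Subgroup G).focalSubgroupOf) :=
        P.2.to_quotient _
      obtain ⟨k, hk⟩ := hQ ((P : Subgroup G).transferFocal g)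
      have d1 : orderOf ((P : Subgroup G).transferFocal g) ∣ p ^ k := orderOf_dvd_of_pow_eq_one hk
      have d2 : orderOf ((P : Subgroup G).transferFocal g) ∣ orderOf g := orderOf_map_dvd _ g
      have d3 : orderOf ((P : Subgroup G).transferFocal g) = 1 :=
        Nat.eq_one_of_dvd_coprimes (Nat.Coprime.pow_right k hg') d2 d1
      exact orderOf_eq_one_iff.mp d3
    refine ⟨⟨g, hgN⟩, ?_, rfl⟩
    apply Subgroup.subset_closure
    change Nat.Coprime (orderOf (⟨g, hgN⟩ : N₀)) p
    rw [Subgroup.orderOf_mk]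
    exact hg'
  intro hdvd
  apply h4
  have := Subgroup.card_dvd_of_le hle
  rw [Subgroup.card_map_of_injective (Subgroup.subtype_injective N₀)] at this
  exact dvd_trans hdvd this

end TateMain

end Cfsg.Agent.Helper1
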