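import Mathlib
import Cfsg.Agent.Lib.Helper1.Coprime
import Cfsg.Agent.Lib.Helper1.CharacteristicMap

/-!
# Glauberman's lemma (helper1's shared library)

`A` acts coprimely on `K` (inside a finite group `G`), and `G` acts on a set `Ω`.
-/

set_option autoImplicit false

namespace Cfsg.Agent.Helper1

open Subgroup
open scoped Pointwise

variable {G : Type*} [Group G]

/-- **Glauberman's lemma, transitivity on fixed points**: two `A`-fixed points in the same `K`-orbit
are conjugate under `C_K(A)`. -/
theorem glauberman_fixed_conj [Finite G] (A K : Subgroup G)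
    (hAK : A ≤ normalizer (K : Set G)) (hcop : (Nat.card A).Coprime (Nat.card K))
    (hsolv : Group.IsSolvable A ∨ Group.IsSolvable K) {Ω : Type*} [MulAction G Ω] (ω : Ω)
    (hω : ∀ a ∈ A, a • ω = ω) (k : G) (hk : k ∈ K) (hkω : ∀ a ∈ A, a • (k • ω) = k • ω) :
    ∃ c ∈ K ⊓ centralizer (A : Set G), c • ω = k • ω := by
  set S := MulAction.stabilizer G (k • ω) with hS
  set D := K ⊓ S with hD
  have hDK : D ≤ K := inf_le_left
  have hAS : A ≤ S := fun a ha => MulAction.mem_stabilizer_iff.mpr (hkω a ha)
  have hAD : A ≤ normalizer (D : Set G) :=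
    (le_inf hAK (hAS.trans le_normalizer)).trans Subgroup.inf_normalizer_le_normalizer_inf
  have hcop' : (Nat.card A).Coprime (Nat.card D) :=
    Nat.Coprime.coprime_dvd_right (Subgroup.card_dvd_of_le hDK) hcop
  have hsolv' : Group.IsSolvable A ∨ Group.IsSolvable D := by
    rcases hsolv with h | h
    · exact Or.inl h
    · right
      exact Group.isSolvable_of_isSolvable_injective (f := Subgroup.inclusion hDK)
        (Subgroup.inclusion_injective hDK)
  obtain ⟨c', hc', hc'D⟩ := exists_centralizer_mem_coset D A hAD hcop' hsolv' k⁻¹ (by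
    intro a ha
    simp only [inv_inv]
    apply Subgroup.mem_inf.mpr
    constructor
    · have h1 : a * k⁻¹ * a⁻¹ ∈ K := (Subgroup.mem_normalizer_iff.mp (hAK ha) k⁻¹).mp (K.inv_mem hk)
      have : k * a * k⁻¹ * a⁻¹ = k * (a * k⁻¹ * a⁻¹) := by group
      rw [this]
      exact K.mul_mem hk h1
    · rw [hS, MulAction.mem_stabilizer_iff]
      have h1 : a⁻¹ • (k • ω) = k • ω := by
        have := hkω a ha
        rw [inv_smul_eq_iff, this]
      rw [mul_smul, h1, mul_smul, mul_smul, inv_smul_smul, hω a ha])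
  simp only [inv_inv] at hc'D
  obtain ⟨hcK, hcS⟩ := Subgroup.mem_inf.mp hc'D
  refine ⟨c'⁻¹, Subgroup.mem_inf.mpr ⟨?_, Subgroup.inv_mem _ hc'⟩, ?_⟩
  · have : c'⁻¹ = (k * c')⁻¹ * k := by group
    rw [this]
    exact K.mul_mem (K.inv_mem hcK) hk
  · rw [hS, MulAction.mem_stabilizer_iff] at hcS
    have : c'⁻¹ = (k * c')⁻¹ * k := by group
    rw [this, mul_smul, inv_smul_eq_iff, hcS]

/-- **Glauberman's lemma, existence of a fixed point** (with `K` normal in the ambient group): if `A`
preserves the `K`-orbit of `ω`, some point of that orbit is fixed by `A`. -/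
theorem glauberman_exists_fixed [Finite G] (A K : Subgroup G) [hKn : K.Normal]
    (hcop : (Nat.card A).Coprime (Nat.card K))
    (hsolv : Group.IsSolvable A ∨ Group.IsSolvable K) {Ω : Type*} [MulAction G Ω] (ω : Ω)
    (h : ∀ a ∈ A, ∃ k ∈ K, a • ω = k • ω) :
    ∃ k ∈ K, ∀ a ∈ A, a • (k • ω) = k • ω := by
  have hAK : A ≤ normalizer (K : Set G) := by
    rw [Subgroup.normalizer_eq_top]; exact le_top
  set S := MulAction.stabilizer G ω with hS
  set M := (K ⊔ A) ⊓ S with hM
  have hMK : M ⊔ K = K ⊔ A := by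
    apply le_antisymm (sup_le inf_le_left le_sup_left)
    apply sup_le le_sup_right
    intro a ha
    obtain ⟨k, hk, hka⟩ := h a ha
    have h1 : k⁻¹ * a ∈ M := by
      apply Subgroup.mem_inf.mpr
      constructor
      · exact Subgroup.mul_mem _ (Subgroup.mem_sup_left (K.inv_mem hk)) (Subgroup.mem_sup_right ha)
      · rw [hS, MulAction.mem_stabilizer_iff, mul_smul, hka, inv_smul_smul]
    have : a = k * (k⁻¹ * a) := by group
    rw [this]
    exact Subgroup.mul_mem _ (Subgroup.mem_sup_right hk) (Subgroup.mem_sup_left h1)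
  have hKA : Disjoint K A := Subgroup.disjoint_of_coprime_natCard hcop.symm
  have hrel : K.relIndex M = Nat.card A := by
    rw [← Subgroup.relIndex_sup_right M K, hMK, sup_comm, Subgroup.relIndex_sup_right A K,
      Subgroup.relIndex, Subgroup.subgroupOf_eq_bot.mpr hKA, Subgroup.index_bot]
  -- Schur–Zassenhaus inside `M`
  have hcopM : (Nat.card (K.subgroupOf M)).Coprime (K.subgroupOf M).index := by
    have h1 : Nat.card (K.subgroupOf M) ∣ Nat.card K := by
      rw [← Subgroup.inf_subgroupOf_right, Cfsg.Agent.S0001.card_subgroupOf_of_le inf_le_right]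
      exact Subgroup.card_dvd_of_le inf_le_left
    have h2 : (K.subgroupOf M).index = Nat.card A := hrel
    rw [h2]
    exact (Nat.Coprime.coprime_dvd_right h1 hcop).symm
  obtain ⟨B', hB'⟩ := Subgroup.exists_right_complement'_of_coprime hcopM
  have hB'card : Nat.card B' = Nat.card A := by
    have := hB'.symm.index_eq_card
    rw [← this]; exact hrel
  set B : Subgroup G := B'.map M.subtype with hB
  have hBcard : Nat.card B = Nat.card A := by
    rw [hB, card_map_subtype, hB'card]
  have hBM : B ≤ M := by rw [hB]; exact Subgroup.map_subtype_le _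
  obtain ⟨k, hk, hkB⟩ := sz_internal K A B hAK hcop hsolv (hBM.trans inf_le_left) hBcard
  refine ⟨k, hk, ?_⟩
  intro a ha
  rw [← hkB, mem_conj_smul_iff] at ha
  have hb : k⁻¹ * a * k ∈ S := (hBM ha).2
  rw [hS, MulAction.mem_stabilizer_iff] at hb
  have : a = k * (k⁻¹ * a * k) * k⁻¹ := by group
  rw [this, mul_smul, inv_smul_smul, mul_smul, hb]

end Cfsg.Agent.Helper1
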