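import Mathlib
import Cfsg.Agent.Lib.Helper1.Glauberman

/-!
# Coprime action and Sylow subgroups (helper1's shared library)
-/

set_option autoImplicit false

namespace Cfsg.Agent.Helper1

open Subgroup
open scoped Pointwise

variable {G : Type*} [Group G] {K : Subgroup G} {p : ℕ} [Fact p.Prime]

theorem mem_normalizer_smul_sylow_iff (g : normalizer (K : Set G)) (P : Sylow p K) (x : K) :
    x ∈ g • P ↔ g⁻¹ • x ∈ P := by
  change x ∈ ((g • P : Sylow p K) : Subgroup K) ↔ _
  rw [Sylow.pointwise_smul_def, Subgroup.mem_pointwise_smul_iff_inv_smul_mem]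
  rfl

theorem coe_normalizer_smul (g : normalizer (K : Set G)) (x : K) :
    ((g • x : K) : G) = g * x * (g : G)⁻¹ := rfl

/-- The action of `N_G(K)` on `Sylow p K` fixes `P` iff the element normalises `P` seen in `G`. -/
theorem normalizer_smul_sylow_eq_iff (g : normalizer (K : Set G)) (P : Sylow p K) :
    g • P = P ↔ (g : G) ∈ normalizer (((P : Subgroup K).map K.subtype : Subgroup G) : Set G) := by
  constructor
  · intro h
    have hle : ∀ (g : normalizer (K : Set G)), g • P = P → ∀ x ∈ (P : Subgroup K).map K.subtype,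
        (g : G) * x * (g : G)⁻¹ ∈ (P : Subgroup K).map K.subtype := by
      intro g h x hx
      obtain ⟨y, hy, rfl⟩ := Subgroup.mem_map.mp hx
      refine Subgroup.mem_map.mpr ⟨g • y, ?_, rfl⟩
      have : g • y ∈ g • P := by
        rw [mem_normalizer_smul_sylow_iff, inv_smul_smul]; exact hy
      rw [h] at this
      exact this
    rw [Subgroup.mem_normalizer_iff]
    intro x
    constructor
    · exact hle g h x
    · intro hx
      have h' : g⁻¹ • P = P := by rw [inv_smul_eq_iff, h]
      have := hle g⁻¹ h' _ hx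
      have h2 : ((g⁻¹ : normalizer (K : Set G)) : G) * ((g : G) * x * (g : G)⁻¹) *
          ((g⁻¹ : normalizer (K : Set G)) : G)⁻¹ = x := by
        simp only [Subgroup.coe_inv]; group
      rwa [h2] at this
  · intro h
    have hsub : ∀ (g : normalizer (K : Set G)),
        (g : G) ∈ normalizer (((P : Subgroup K).map K.subtype : Subgroup G) : Set G) →
        ∀ x : K, x ∈ P → g • x ∈ P := by
      intro g h x hx
      have h1 : (x : G) ∈ (P : Subgroup K).map K.subtype := Subgroup.mem_map.mpr ⟨x, hx, rfl⟩
      have h2 := (Subgroup.mem_normalizer_iff.mp h _).mp h1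
      obtain ⟨y, hy, hyx⟩ := Subgroup.mem_map.mp h2
      have : y = g • x := Subtype.ext hyx
      rw [← this]; exact hy
    apply Sylow.ext
    ext x
    change x ∈ g • P ↔ x ∈ P
    rw [mem_normalizer_smul_sylow_iff]
    constructor
    · intro hx
      have := hsub g h _ hx
      rwa [smul_inv_smul] at this
    · intro hx
      exact hsub g⁻¹ (Subgroup.inv_mem _ h) x hx

/-- The two actions of `K` on its Sylow subgroups agree. -/
theorem normalizer_smul_sylow_eq_smul (k : K) (P : Sylow p K) :
    (⟨(k : G), le_normalizer k.2⟩ : normalizer (K : Set G)) • P = k • P := by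
  apply Sylow.ext
  ext x
  change x ∈ (⟨(k : G), le_normalizer k.2⟩ : normalizer (K : Set G)) • P ↔ x ∈ k • P
  rw [mem_normalizer_smul_sylow_iff, Sylow.smul_def]
  change _ ↔ x ∈ ((MulAut.conj k • P : Sylow p K) : Subgroup K)
  rw [Sylow.pointwise_smul_def, Subgroup.mem_pointwise_smul_iff_inv_smul_mem]
  have : (⟨(k : G), le_normalizer k.2⟩ : normalizer (K : Set G))⁻¹ • x = (MulAut.conj k)⁻¹ • x := by
    apply Subtype.ext
    simp [coe_normalizer_smul, MulAut.smul_def]
  rw [this]
  exact Iff.rfl

section Main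

variable [Finite G] (A : Subgroup G) (hAK : A ≤ normalizer (K : Set G))
  (hcop : (Nat.card A).Coprime (Nat.card K)) (hsolv : Group.IsSolvable A ∨ Group.IsSolvable K)

include hAK hcop hsolv

omit [Finite G] hsolv in
theorem coprime_subgroupOf_normalizer :
    (Nat.card (A.subgroupOf (normalizer (K : Set G)))).Coprime
      (Nat.card (K.subgroupOf (normalizer (K : Set G)))) := by
  rw [Cfsg.Agent.S0001.card_subgroupOf_of_le hAK, Cfsg.Agent.S0001.card_subgroupOf_of_le le_normalizer]
  exact hcop

theorem solvable_subgroupOf_normalizer :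
    Group.IsSolvable (A.subgroupOf (normalizer (K : Set G))) ∨
      Group.IsSolvable (K.subgroupOf (normalizer (K : Set G))) := by
  rcases hsolv with h | h
  · left
    exact Group.isSolvable_of_isSolvable_injective
      (f := (Subgroup.subgroupOfEquivOfLe hAK).toMonoidHom) (Subgroup.subgroupOfEquivOfLe hAK).injective
  · right
    exact Group.isSolvable_of_isSolvable_injective
      (f := (Subgroup.subgroupOfEquivOfLe (Subgroup.le_normalizer (H := K))).toMonoidHom)
      (Subgroup.subgroupOfEquivOfLe (Subgroup.le_normalizer (H := K))).injective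

/-- Existence of an `A`-invariant Sylow `p`-subgroup. -/
theorem exists_invariant_sylow :
    ∃ P : Sylow p K, A ≤ normalizer (((P : Subgroup K).map K.subtype : Subgroup G) : Set G) := by
  obtain ⟨P₀⟩ : Nonempty (Sylow p K) := inferInstance
  obtain ⟨k', hk', hfix⟩ := glauberman_exists_fixed (G := normalizer (K : Set G))
    (A.subgroupOf (normalizer (K : Set G))) (K.subgroupOf (normalizer (K : Set G)))
    (coprime_subgroupOf_normalizer A hAK hcop)
    (solvable_subgroupOf_normalizer A hAK hcop hsolv) P₀ (by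
      intro a' _
      obtain ⟨k, hk⟩ := MulAction.exists_smul_eq K P₀ (a' • P₀)
      refine ⟨⟨(k : G), le_normalizer k.2⟩, Subgroup.mem_subgroupOf.mpr k.2, ?_⟩
      rw [normalizer_smul_sylow_eq_smul, hk])
  refine ⟨k' • P₀, ?_⟩
  intro a ha
  have := hfix ⟨a, hAK ha⟩ (Subgroup.mem_subgroupOf.mpr ha)
  exact (normalizer_smul_sylow_eq_iff _ _).mp this

/-- Two `A`-invariant Sylow `p`-subgroups are conjugate under `C_K(A)`. -/
theorem invariant_sylow_conj (P Q : Sylow p K)
    (hP : A ≤ normalizer (((P : Subgroup K).map K.subtype : Subgroup G) : Set G))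
    (hQ : A ≤ normalizer (((Q : Subgroup K).map K.subtype : Subgroup G) : Set G)) :
    ∃ c : K, (c : G) ∈ centralizer (A : Set G) ∧ MulAut.conj c • P = Q := by
  obtain ⟨k, hk⟩ := MulAction.exists_smul_eq K P Q
  have hk' : (⟨(k : G), le_normalizer k.2⟩ : normalizer (K : Set G)) • P = Q := by
    rw [normalizer_smul_sylow_eq_smul, hk]
  have hnorm : A.subgroupOf (normalizer (K : Set G)) ≤
      normalizer ((K.subgroupOf (normalizer (K : Set G)) : Subgroup _) : Set _) := by
    have := Subgroup.normalizer_eq_top (H := K.subgroupOf (normalizer (K : Set G)))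
    rw [this]; exact le_top
  obtain ⟨c', hc', hc'P⟩ := glauberman_fixed_conj (G := normalizer (K : Set G))
    (A.subgroupOf (normalizer (K : Set G))) (K.subgroupOf (normalizer (K : Set G))) hnorm
    (coprime_subgroupOf_normalizer A hAK hcop)
    (solvable_subgroupOf_normalizer A hAK hcop hsolv) P
    (fun a' ha' => (normalizer_smul_sylow_eq_iff _ _).mpr (hP (Subgroup.mem_subgroupOf.mp ha')))
    ⟨(k : G), le_normalizer k.2⟩ (Subgroup.mem_subgroupOf.mpr k.2)
    (fun a' ha' => by
      rw [hk']
      exact (normalizer_smul_sylow_eq_iff _ _).mpr (hQ (Subgroup.mem_subgroupOf.mp ha')))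
  obtain ⟨hc'K, hc'A⟩ := Subgroup.mem_inf.mp hc'
  have hcK : (c' : G) ∈ K := Subgroup.mem_subgroupOf.mp hc'K
  refine ⟨⟨(c' : G), hcK⟩, ?_, ?_⟩
  · rw [Subgroup.mem_centralizer_iff]
    intro a ha
    have := (Subgroup.mem_centralizer_iff.mp hc'A) ⟨a, hAK ha⟩ (Subgroup.mem_subgroupOf.mpr ha)
    exact congrArg Subtype.val this
  · rw [← Sylow.smul_def, ← normalizer_smul_sylow_eq_smul]
    rw [← hk', ← hc'P]

end Main

end Cfsg.Agent.Helper1
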