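import Mathlib
import Cfsg.Agent.Lib.Helper1.FpfNorm
import Cfsg.Agent.Lib.Helper1.CharacteristicMap
import Cfsg.Agent.Lib.Helper1.Hall
import Cfsg.Agent.Lib.Helper3.NilpotentHall
import Cfsg.Agent.S0087
import Cfsg.Agent.S0658
import Cfsg.Agent.S0659

/-!
# Thompson's theorem: a finite group with a fixed-point-free automorphism of prime order is
nilpotent (helper1)
-/

set_option autoImplicit false

namespace Cfsg.Agent.Helper1.Fpf

open Subgroup MonoidHom
open scoped Pointwise

universe u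

section Basic

variable {G : Type*} [Group G] [Finite G]

theorem Inv.normalizer {φ : G ≃* G} {H : Subgroup G} (h : Inv φ H) :
    Inv φ (normalizer (H : Set G)) := by
  intro x hx
  apply Cfsg.Agent.S0087.mem_normalizer_of_forall
  intro a ha
  have h1 : φ.symm a ∈ H := h.symm a ha
  have h2 : x * φ.symm a * x⁻¹ ∈ H := by
    rw [Subgroup.mem_normalizer_iff] at hx
    exact (hx _).mp h1
  have h3 := h _ h2
  simpa using h3

theorem Inv.map_char {φ : G ≃* G} {K : Subgroup G} (h : Inv φ K) (C : Subgroup K)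
    [hC : C.Characteristic] : Inv φ (C.map K.subtype) := by
  rintro _ ⟨c, hc, rfl⟩
  have h2 : C.map (restrict φ K h).toMonoidHom = C :=
    Subgroup.characteristic_iff_map_eq.mp hC (restrict φ K h)
  have h1 : restrict φ K h c ∈ C := by
    rw [← h2]
    exact Subgroup.mem_map.mpr ⟨c, hc, rfl⟩
  exact Subgroup.mem_map.mpr ⟨restrict φ K h c, h1, rfl⟩

theorem normal_map_char (K : Subgroup G) [hK : K.Normal] (C : Subgroup K)
    [hC : C.Characteristic] : (C.map K.subtype).Normal := by
  rw [← Subgroup.normalizer_eq_top_iff]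
  have h1 := Cfsg.Agent.Helper1.normalizer_le_normalizer_map_of_characteristic K C
  rw [Subgroup.normalizer_eq_top_iff.mpr hK] at h1
  exact top_le_iff.mp h1

end Basic

/-- Reduction step: if `G` has a nontrivial abelian normal invariant `q`-subgroup and all smaller
groups with such an automorphism are nilpotent, then `G` is nilpotent. -/
theorem nilpotent_of_normal_abelian {G : Type u} [Group G] [Finite G] {φ : G ≃* G}
    (hφ : FixedPointFree φ) {r : ℕ} (hr : r.Prime) (hφr : φ ^ r = 1)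
    (ih : ∀ (H : Type u) [Group H] [Finite H], Nat.card H < Nat.card G →
      ∀ ψ : H ≃* H, FixedPointFree ψ → ψ ^ r = 1 → Group.IsNilpotent H)
    {q : ℕ} [hq : Fact q.Prime] (V : Subgroup G) [hVn : V.Normal] (hVq : IsPGroup q V)
    (hVc : ∀ a ∈ V, ∀ b ∈ V, a * b = b * a) (hV : Inv φ V) (hV1 : V ≠ ⊥) :
    Group.IsNilpotent G := by
  have hquot : Group.IsNilpotent (G ⧸ V) := by
    apply ih (G ⧸ V) _ (quot φ V hV) (quot_fpf hφ V hV) (quot_pow_eq_one φ V hV hφr)
    rw [← Subgroup.index_eq_card, ← Subgroup.card_mul_index V]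
    have h1 : 1 < Nat.card V := by
      rw [Subgroup.one_lt_card_iff_ne_bot]; exact hV1
    have h2 : 0 < V.index := Nat.pos_of_ne_zero Subgroup.index_ne_zero_of_finite
    nlinarith
  have hsyl : ∀ (p : ℕ) (_ : Fact p.Prime) (P : Sylow p G), Inv φ (P : Subgroup G) →
      (P : Subgroup G).Normal := by
    intro p hp P hP
    have hsurj : Function.Surjective (QuotientGroup.mk' V) := QuotientGroup.mk'_surjective V
    have hbar : ((P.mapSurjective hsurj : Sylow p (G ⧸ V)) : Subgroup (G ⧸ V)).Normal :=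
      ((Group.isNilpotent_of_finite_tfae (G := G ⧸ V)).out 0 3 rfl rfl).mp hquot p hp _
    rw [Sylow.coe_mapSurjective] at hbar
    have hPV : (V ⊔ (P : Subgroup G)).Normal := by
      rw [← QuotientGroup.comap_map_mk']
      exact hbar.comap _
    by_cases hpq : p = q
    · subst hpq
      have hle : V ≤ (P : Subgroup G) := by
        obtain ⟨Q, hQ⟩ := hVq.exists_le_sylow
        obtain ⟨g, hg⟩ := MulAction.exists_smul_eq G Q P
        intro v hv
        have h1 : g⁻¹ * v * g ∈ V := by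
          have := hVn.conj_mem v hv g⁻¹
          simpa using this
        have h2 := hQ h1
        rw [← hg]
        change v ∈ MulAut.conj g • (Q : Subgroup G)
        rw [mem_conj_smul_iff]
        exact h2
      rwa [sup_eq_right.mpr hle] at hPV
    · have hcop : (Nat.card (P : Subgroup G)).Coprime (Nat.card V) :=
        IsPGroup.coprime_card_of_ne p q hpq (P : Subgroup G) V P.2 hVq
      have hcent := le_centralizer_of_fpf hφ hr hφr V hVc hV (P : Subgroup G) hP hcop
      have hle : V ⊔ (P : Subgroup G) ≤ normalizer ((P : Subgroup G) : Set G) := by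
        apply sup_le _ Subgroup.le_normalizer
        intro v hv
        apply Cfsg.Agent.S0087.mem_normalizer_of_forall
        intro a ha
        have := hcent ha v hv
        -- this : v * a = a * v
        have e : v * a * v⁻¹ = a := by rw [this]; group
        rw [e]; exact ha
      have h1 : normalizer ((P : Subgroup G) : Set G) ⊔ (V ⊔ (P : Subgroup G)) = ⊤ :=
        Sylow.normalizer_sup_eq_top' P (le_sup_right : (P : Subgroup G) ≤ V ⊔ P)
      rw [sup_eq_left.mpr hle] at h1
      exact Subgroup.normalizer_eq_top_iff.mp h1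
  apply ((Group.isNilpotent_of_finite_tfae (G := G)).out 0 3 rfl rfl).mpr
  intro p hp P
  haveI := hp
  obtain ⟨P₀, hP₀⟩ := exists_inv_sylow hφ p
  haveI := hsyl p hp P₀ hP₀
  obtain ⟨g, hg⟩ := MulAction.exists_smul_eq G P₀ P
  rw [← hg, Sylow.smul_eq_of_normal]
  infer_instance

theorem fpf_nilpotent_aux {r : ℕ} (hr : r.Prime) : ∀ (n : ℕ) (G : Type u) [Group G] [Finite G],
    Nat.card G = n → ∀ φ : G ≃* G, FixedPointFree φ → φ ^ r = 1 → Group.IsNilpotent G := by
  intro n
  induction n using Nat.strong_induction_on with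
  | _ n ih =>
  intro G _ _ hcard φ hφ hφr
  have ih' : ∀ (H : Type u) [Group H] [Finite H], Nat.card H < Nat.card G →
      ∀ ψ : H ≃* H, FixedPointFree ψ → ψ ^ r = 1 → Group.IsNilpotent H := by
    intro H _ _ hH ψ hψ hψr
    exact ih (Nat.card H) (hcard ▸ hH) H rfl ψ hψ hψr
  by_cases hpg : ∃ p : ℕ, p.Prime ∧ IsPGroup p G
  · obtain ⟨p, hp, hG⟩ := hpg
    haveI : Fact p.Prime := ⟨hp⟩
    exact hG.isNilpotent
  -- an odd prime divisor
  obtain ⟨p, hp, hpdvd, hp2⟩ : ∃ p : ℕ, p.Prime ∧ p ∣ Nat.card G ∧ p ≠ 2 := by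
    by_contra hcon
    push Not at hcon
    apply hpg
    refine ⟨2, Nat.prime_two, ?_⟩
    have h1 : Nat.card G = 2 ^ (Nat.card G).primeFactorsList.length :=
      Nat.eq_prime_pow_of_unique_prime_dvd Nat.card_pos.ne' (fun {d} hd hdd => hcon d hd hdd)
    exact IsPGroup.of_card h1
  haveI : Fact p.Prime := ⟨hp⟩
  obtain ⟨P, hP⟩ := exists_inv_sylow hφ p
  have hP1 : (P : Subgroup G) ≠ ⊥ := P.ne_bot_of_dvd_card hpdvd
  set W : Subgroup G := Cfsg.centerThompsonAOf (P : Subgroup G) with hW
  have hW1 : W ≠ ⊥ := Cfsg.Agent.S0658.centerThompsonAOf_ne_bot (P : Subgroup G) P.2 hP1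
  have hWP : W ≤ (P : Subgroup G) := (Cfsg.Agent.S0659.cfA hp2).le_self G (P : Subgroup G)
  have hWp : IsPGroup p W := P.2.to_le hWP
  have hWc : ∀ a ∈ W, ∀ b ∈ W, a * b = b * a := by
    intro a ha b hb
    have h1 := (Subgroup.mem_inf.mp ha).2
    rw [Subgroup.mem_centralizer_iff] at h1
    exact (h1 b (Subgroup.mem_inf.mp hb).1).symm
  have hWinv : Inv φ W := by
    have h1 := Cfsg.Agent.Helper4.ZJ.centerThompsonAOf_map_of_injOn φ.toMonoidHom (P : Subgroup G)
      φ.injective.injOn
    rw [hP.map_eq] at h1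
    intro x hx
    rw [hW, h1]
    exact Subgroup.mem_map_of_mem _ hx
  by_cases hM : normalizer (W : Set G) = ⊤
  · haveI : W.Normal := Subgroup.normalizer_eq_top_iff.mp hM
    exact nilpotent_of_normal_abelian hφ hr hφr ih' W hWp hWc hWinv hW1
  -- the normalizer is proper, hence nilpotent
  have hMinv : Inv φ (normalizer (W : Set G)) := hWinv.normalizer
  have hMnil : Group.IsNilpotent ↥(normalizer (W : Set G)) :=
    ih' _ (card_lt_of_ne_top' hM) (restrict φ _ hMinv) (restrict_fpf hφ _ hMinv)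
      (restrict_pow_eq_one φ _ hMinv hφr)
  have hnpcM : Cfsg.Agent.Helper10.NPC p ↥(normalizer (W : Set G)) :=
    Cfsg.Agent.Helper3.exists_normal_compl_of_isNilpotent hMnil p
  obtain ⟨K, hKn, hKcop, k, hk⟩ : Cfsg.Agent.Helper10.NPC p G :=
    Cfsg.Agent.Helper4.GT.gt (Cfsg.Agent.S0659.cfA hp2) hp2 P hnpcM
  haveI := hKn
  have hKtop : K ≠ ⊤ := by
    intro h
    rw [h, Subgroup.card_top] at hKcop
    exact (Nat.Prime.coprime_iff_not_dvd hp).mp hKcop.symm hpdvd
  have hKbot : K ≠ ⊥ := by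
    intro h
    apply hpg
    refine ⟨p, hp, IsPGroup.of_card (n := k) ?_⟩
    rw [← hk, h, Subgroup.index_bot]
  have hKinv : Inv φ K := by
    intro x hx
    apply Cfsg.Agent.Helper3.mem_of_coprime_orderOf_of_index_pow K hk
    rw [MulEquiv.orderOf_eq]
    exact Nat.Coprime.coprime_dvd_left (Subgroup.orderOf_dvd_natCard K hx) hKcop
  have hKnil : Group.IsNilpotent ↥K :=
    ih' _ (card_lt_of_ne_top' hKtop) (restrict φ _ hKinv) (restrict_fpf hφ _ hKinv)
      (restrict_pow_eq_one φ _ hKinv hφr)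
  have hKcard : Nat.card K ≠ 1 := by
    intro h
    exact hKbot (Subgroup.card_eq_one.mp h)
  obtain ⟨q, hq, hqdvd⟩ := Nat.exists_prime_and_dvd hKcard
  haveI : Fact q.Prime := ⟨hq⟩
  let S : Sylow q ↥K := default
  haveI hSn : (S : Subgroup ↥K).Normal :=
    ((Group.isNilpotent_of_finite_tfae (G := ↥K)).out 0 3 rfl rfl).mp hKnil q ⟨hq⟩ S
  haveI hSc : (S : Subgroup ↥K).Characteristic := Sylow.characteristic_of_normal S hSn
  have hS1 : (S : Subgroup ↥K) ≠ ⊥ := S.ne_bot_of_dvd_card hqdvd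
  set Q₀ : Subgroup G := (S : Subgroup ↥K).map K.subtype with hQ₀
  haveI hQ₀n : Q₀.Normal := normal_map_char K (S : Subgroup ↥K)
  have hQ₀inv : Inv φ Q₀ := hKinv.map_char (S : Subgroup ↥K)
  have hQ₀q : IsPGroup q Q₀ := S.2.map K.subtype
  have hQ₀1 : Q₀ ≠ ⊥ := by
    intro h
    apply hS1
    rwa [hQ₀, Subgroup.map_eq_bot_iff_of_injective _ K.subtype_injective] at h
  haveI : Nontrivial ↥Q₀ := (Subgroup.nontrivial_iff_ne_bot Q₀).mpr hQ₀1
  set V : Subgroup G := (Subgroup.center ↥Q₀).map Q₀.subtype with hV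
  haveI hVn : V.Normal := normal_map_char Q₀ (Subgroup.center ↥Q₀)
  have hVinv : Inv φ V := hQ₀inv.map_char (Subgroup.center ↥Q₀)
  have hVq : IsPGroup q V := hQ₀q.to_le (Subgroup.map_subtype_le _)
  have hV1 : V ≠ ⊥ := by
    intro h
    rw [hV, Subgroup.map_eq_bot_iff_of_injective _ Q₀.subtype_injective] at h
    have h2 : IsPGroup q ↥Q₀ := hQ₀q
    have := h2.center_nontrivial
    rw [h] at this
    exact not_nontrivial _ this
  have hVc : ∀ a ∈ V, ∀ b ∈ V, a * b = b * a := by
    rintro _ ⟨a, ha, rfl⟩ _ ⟨b, hb, rfl⟩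
    have := Subgroup.mem_center_iff.mp ha b
    have h2 := congrArg Subtype.val this
    simpa using h2.symm
  exact nilpotent_of_normal_abelian hφ hr hφr ih' V hVq hVc hVinv hV1

/-- **Thompson's theorem**: a finite group with a fixed-point-free automorphism `φ` such that
`φ ^ r = 1` for a prime `r` is nilpotent. -/
theorem fpf_nilpotent {G : Type u} [Group G] [Finite G] (φ : G ≃* G) (hφ : FixedPointFree φ)
    {r : ℕ} (hr : r.Prime) (hφr : φ ^ r = 1) : Group.IsNilpotent G :=
  fpf_nilpotent_aux hr _ G rfl φ hφ hφr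

end Cfsg.Agent.Helper1.Fpf
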