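import Mathlib

set_option autoImplicit false

namespace Cfsg.Agent.Helper1

open Subgroup

/-- In a finite `p`-group every maximal subgroup is normal of index `p`. -/
theorem coatom_normal_index_of_isPGroup {G : Type*} [Group G] [Finite G] {p : ℕ} [Fact p.Prime]
    (hG : IsPGroup p G) (M : Subgroup G) (hM : IsCoatom M) : M.Normal ∧ M.index = p := by
  have hp : p.Prime := Fact.out
  haveI : Group.IsNilpotent G := hG.isNilpotent
  have hMn : M.Normal := (normalizerCondition_of_isNilpotent (G := G)).normal_of_coatom _ hM
  refine ⟨hMn, ?_⟩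
  -- G ⧸ M is a nontrivial p-group
  obtain ⟨k, hk⟩ := (hG.to_quotient M).exists_card_eq
  have hk0 : k ≠ 0 := by
    rintro rfl
    rw [pow_zero] at hk
    have : M.index = 1 := hk
    rw [Subgroup.index_eq_one] at this
    exact hM.1 this
  have hdvd : p ^ 1 ∣ Nat.card (G ⧸ M) := by
    rw [hk]; exact pow_dvd_pow p (Nat.one_le_iff_ne_zero.mpr hk0)
  obtain ⟨K, hK⟩ := Sylow.exists_subgroup_card_pow_prime p hdvd
  rw [pow_one] at hK
  -- the preimage of K strictly contains M, so is everything
  have hKbot : K ≠ ⊥ := by
    rintro rfl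
    rw [Subgroup.card_bot] at hK
    exact hp.one_lt.ne hK
  have hcomap : M < K.comap (QuotientGroup.mk' M) := by
    rw [lt_iff_le_and_ne]
    constructor
    · intro m hm
      rw [Subgroup.mem_comap]
      have : (QuotientGroup.mk' M) m = 1 := (QuotientGroup.eq_one_iff m).mpr hm
      rw [this]; exact K.one_mem
    · intro heq
      apply hKbot
      rw [eq_bot_iff]
      intro x hx
      obtain ⟨g, rfl⟩ := QuotientGroup.mk'_surjective M x
      have : g ∈ K.comap (QuotientGroup.mk' M) := hx
      rw [← heq] at this
      rw [Subgroup.mem_bot]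
      exact (QuotientGroup.eq_one_iff g).mpr this
  have htop : K.comap (QuotientGroup.mk' M) = ⊤ := hM.2 _ hcomap
  have hKtop : K = ⊤ := by
    rw [eq_top_iff]
    intro x _
    obtain ⟨g, rfl⟩ := QuotientGroup.mk'_surjective M x
    have : g ∈ K.comap (QuotientGroup.mk' M) := by rw [htop]; trivial
    exact this
  rw [hKtop, Subgroup.card_top] at hK
  exact hK

end Cfsg.Agent.Helper1
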