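import Mathlib
import Cfsg.Agent.Lib.Helper24.CharBasic

/-!
# Elements acting as scalars (helper1's shared library)
-/

set_option autoImplicit false

namespace Cfsg.Agent.Helper1

open Cfsg.Agent.Helper24

universe u v

open scoped ComplexConjugate

/-- If norm-one complex numbers `μ i` have a sum of norm `n`, they are all equal. -/
theorem eq_of_norm_sum_eq {n : ℕ} (μ : Fin n → ℂ) (hμ : ∀ i, ‖μ i‖ = 1)
    (h : ‖∑ i, μ i‖ = n) : ∃ c : ℂ, ∀ i, μ i = c := by
  rcases Nat.eq_zero_or_pos n with rfl | hn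
  · exact ⟨0, fun i => Fin.elim0 i⟩
  have hnR : (0 : ℝ) < n := by exact_mod_cast hn
  have hnC : (n : ℂ) ≠ 0 := by exact_mod_cast hn.ne'
  set s := ∑ i, μ i with hs
  refine ⟨s / n, ?_⟩
  set c := s / n with hc
  have hcn : ‖c‖ = 1 := by
    rw [hc, norm_div, h, Complex.norm_natCast, div_self hnR.ne']
  have hcc : c * conj c = 1 := by
    rw [Complex.mul_conj, Complex.normSq_eq_norm_sq, hcn]; simp
  -- each `μ i * conj c` has real part at most one, and they sum to `n`
  have hre_le : ∀ i, (μ i * conj c).re ≤ 1 := by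
    intro i
    calc (μ i * conj c).re ≤ ‖μ i * conj c‖ := Complex.re_le_norm _
      _ = 1 := by rw [norm_mul, hμ i, Complex.norm_conj, hcn, mul_one]
  have hsum : ∑ i, (μ i * conj c).re = ∑ _i : Fin n, (1 : ℝ) := by
    have h1 : ∑ i, (μ i * conj c) = s * conj c := by rw [hs, Finset.sum_mul]
    have h2 : s = c * n := by rw [hc]; field_simp
    have h3 : s * conj c = n := by rw [h2, mul_comm c, mul_assoc, hcc, mul_one]
    have := congrArg Complex.re (h1.trans h3)
    simpa using this
  have hre : ∀ i, (μ i * conj c).re = 1 := by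
    intro i
    exact (Finset.sum_eq_sum_iff_of_le (fun i _ => hre_le i)).mp hsum i (Finset.mem_univ i)
  intro i
  have h2 : ‖μ i * conj c‖ = 1 := by rw [norm_mul, hμ i, Complex.norm_conj, hcn, mul_one]
  have h3 := hre i
  have h4 : (μ i * conj c).im = 0 := by
    have := Complex.sq_norm (μ i * conj c)
    rw [h2, Complex.normSq_apply, h3] at this
    nlinarith
  have h5 : μ i * conj c = 1 := by
    apply Complex.ext <;> simp [h3, h4]
  calc μ i = μ i * (conj c * c) := by rw [mul_comm (conj c), hcc, mul_one]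
    _ = (μ i * conj c) * c := by ring
    _ = c := by rw [h5, one_mul]

variable {G : Type u} [Group G] [Finite G] {V : Type v} [AddCommGroup V] [Module ℂ V]
  [FiniteDimensional ℂ V] (ρ : Representation ℂ G V)

/-- If `|χ(g)| = χ(1)` then `g` acts as a scalar. -/
theorem rep_scalar_of_norm_char_eq (g : G)
    (h : ‖ρ.character g‖ = (Module.finrank ℂ V : ℝ)) : ∃ c : ℂ, ρ g = c • (1 : Module.End ℂ V) := by
  obtain ⟨n, b, μ, hμ, hb⟩ := exists_eigenbasis ρ g
  have hn : Module.finrank ℂ V = n := finrank_eq_of_basis b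
  have htr : ρ.character g = ∑ i, μ i := trace_eq_sum_of_eigenbasis b μ (ρ g) hb
  rw [htr, hn] at h
  have hnorm : ∀ i, ‖μ i‖ = 1 := fun i =>
    Complex.norm_eq_one_of_pow_eq_one (hμ i) Nat.card_pos.ne'
  obtain ⟨c, hc⟩ := eq_of_norm_sum_eq μ hnorm h
  refine ⟨c, ?_⟩
  apply b.ext
  intro i
  rw [hb i, hc i]
  simp

/-- An element acting as a scalar has all its commutators in the kernel. -/
theorem rep_commutator_eq_one_of_scalar {g : G} {c : ℂ} (h : ρ g = c • (1 : Module.End ℂ V))
    (x : G) : ρ (g * x * g⁻¹ * x⁻¹) = 1 := by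
  have hcomm : ρ g * ρ x = ρ x * ρ g := by
    rw [h]; simp
  have h1 : ρ (g * x) = ρ (x * g) := by rw [map_mul, map_mul, hcomm]
  have : g * x * g⁻¹ * x⁻¹ = (g * x) * (x * g)⁻¹ := by group
  rw [this, map_mul, h1, ← map_mul, mul_inv_cancel, map_one]

end Cfsg.Agent.Helper1
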