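import Mathlib

/-!
# Number-theoretic input to Burnside's `p^a q^b` theorem (helper1's shared library)

An average of roots of unity which is an algebraic integer is zero or has absolute value one.
-/

set_option autoImplicit false

namespace Cfsg.Agent.Helper1

/-- If `(μ₁ + ⋯ + μₙ)/n` is an algebraic integer, with the `μᵢ` roots of unity, then the sum is zero
or has absolute value `n`. -/
theorem sum_roots_eq_zero_or_norm_eq {n m : ℕ} (hm : 0 < m) (μ : Fin n → ℂ)
    (hμ : ∀ i, μ i ^ m = 1) (hint : IsIntegral ℤ ((∑ i, μ i) / (n : ℂ))) :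
    (∑ i, μ i) = 0 ∨ ‖∑ i, μ i‖ = n := by
  classical
  rcases Nat.eq_zero_or_pos n with rfl | hn
  · left; simp
  have hn0 : (n : ℂ) ≠ 0 := by exact_mod_cast hn.ne'
  have hnR : (0 : ℝ) < n := by exact_mod_cast hn
  let S : Set ℂ := Set.range μ
  have hSint : ∀ x ∈ S, IsIntegral ℚ x := by
    rintro x ⟨i, rfl⟩
    refine IsIntegral.of_pow hm ?_
    rw [hμ i]; exact isIntegral_one
  haveI : Finite S := (Set.finite_range μ).to_subtype
  let K := IntermediateField.adjoin ℚ S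
  haveI : FiniteDimensional ℚ K := IntermediateField.finiteDimensional_adjoin hSint
  let ν : Fin n → K := fun i => ⟨μ i, IntermediateField.subset_adjoin ℚ S ⟨i, rfl⟩⟩
  let β : K := (∑ i, ν i) / (n : K)
  have hβ : ((β : K) : ℂ) = (∑ i, μ i) / n := by
    simp [β, ν]
  have hβint : IsIntegral ℤ β := by
    rw [← isIntegral_algebraMap_iff (B := ℂ) (algebraMap K ℂ).injective]
    change IsIntegral ℤ ((β : K) : ℂ)
    rw [hβ]; exact hint
  have hν : ∀ (σ : K →ₐ[ℚ] ℂ) i, ‖σ (ν i)‖ = 1 := by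
    intro σ i
    apply Complex.norm_eq_one_of_pow_eq_one (n := m) _ hm.ne'
    rw [← map_pow]
    have : ν i ^ m = 1 := by
      apply Subtype.ext
      simp [ν, hμ i]
    rw [this, map_one]
  have hσ : ∀ σ : K →ₐ[ℚ] ℂ, ‖σ β‖ ≤ 1 := by
    intro σ
    have : σ β = (∑ i, σ (ν i)) / n := by
      simp [β, map_div₀, map_sum]
    rw [this, norm_div, Complex.norm_natCast, div_le_one hnR]
    calc ‖∑ i, σ (ν i)‖ ≤ ∑ i, ‖σ (ν i)‖ := norm_sum_le _ _
      _ = ∑ _i : Fin n, (1 : ℝ) := Finset.sum_congr rfl fun i _ => hν σ i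
      _ = n := by simp
  have hnorm := Algebra.norm_eq_prod_embeddings ℚ ℂ β
  have hNint : IsIntegral ℤ (Algebra.norm ℚ β) := Algebra.isIntegral_norm ℚ hβint
  obtain ⟨z, hz⟩ := IsIntegrallyClosed.isIntegral_iff.mp hNint
  -- the identity embedding
  let ι : K →ₐ[ℚ] ℂ := K.val
  have hι : ι β = (∑ i, μ i) / n := hβ
  have hle : ‖(∑ i, μ i) / (n : ℂ)‖ ≤ 1 := hι ▸ hσ ι
  by_cases h1 : ‖(∑ i, μ i) / (n : ℂ)‖ = 1
  · right
    rw [norm_div, Complex.norm_natCast, div_eq_one_iff_eq hnR.ne'] at h1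
    exact h1
  · left
    have hlt : ‖(∑ i, μ i) / (n : ℂ)‖ < 1 := lt_of_le_of_ne hle h1
    have hprod : ‖∏ σ : K →ₐ[ℚ] ℂ, σ β‖ < 1 := by
      rw [norm_prod]
      rw [← Finset.mul_prod_erase Finset.univ _ (Finset.mem_univ ι)]
      calc ‖ι β‖ * ∏ σ ∈ Finset.univ.erase ι, ‖σ β‖ ≤ ‖ι β‖ * 1 := by
            apply mul_le_mul_of_nonneg_left _ (norm_nonneg _)
            exact Finset.prod_le_one (fun σ _ => norm_nonneg _) (fun σ _ => hσ σ)
        _ < 1 := by rw [mul_one, hι]; exact hlt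
    rw [← hnorm, ← hz] at hprod
    have hz0 : z = 0 := by
      have : ‖((z : ℤ) : ℂ)‖ < 1 := by simpa using hprod
      rw [Complex.norm_intCast] at this
      have h2 : |z| < 1 := by exact_mod_cast this
      exact Int.abs_lt_one_iff.mp h2
    rw [hz0, map_zero] at hz
    have hβ0 : β = 0 := Algebra.norm_eq_zero_iff.mp hz.symm
    rw [hβ0] at hβ
    have : (∑ i, μ i) / (n : ℂ) = 0 := by rw [← hβ]; simp
    rcases div_eq_zero_iff.mp this with h | h
    · exact h
    · exact absurd h hn0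

end Cfsg.Agent.Helper1
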