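import Mathlib

/-!
# Permutable subgroups (helper1's shared library)

Subgroups `H`, `K` with `H K = K H` as sets.
-/

set_option autoImplicit false

namespace Cfsg.Agent.Helper1

open Subgroup
open scoped Pointwise

variable {G : Type*} [Group G]

/-- If `H K = K H` then `H ⊔ K = H K` as sets. -/
theorem coe_sup_of_mul_comm {H K : Subgroup G}
    (h : (H : Set G) * (K : Set G) = (K : Set G) * (H : Set G)) :
    ((H ⊔ K : Subgroup G) : Set G) = (H : Set G) * (K : Set G) := by
  apply Set.Subset.antisymm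
  · intro x hx
    rw [SetLike.mem_coe, Subgroup.sup_eq_closure_mul] at hx
    induction hx using Subgroup.closure_induction'' with
    | one => exact ⟨1, H.one_mem, 1, K.one_mem, mul_one 1⟩
    | mem y hy => exact hy
    | inv_mem y hy =>
      obtain ⟨a, ha, b, hb, rfl⟩ := hy
      have : (a * b)⁻¹ ∈ (K : Set G) * (H : Set G) :=
        ⟨b⁻¹, K.inv_mem hb, a⁻¹, H.inv_mem ha, by group⟩
      rwa [← h] at this
    | mul y z _ _ hy hz =>
      obtain ⟨a, ha, b, hb, rfl⟩ := hy
      obtain ⟨c, hc, d, hd, rfl⟩ := hz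
      have h1 : b * c ∈ (K : Set G) * (H : Set G) := ⟨b, hb, c, hc, rfl⟩
      rw [← h] at h1
      obtain ⟨c', hc', b', hb', hcb⟩ := h1
      have hcb' : c' * b' = b * c := hcb
      refine ⟨a * c', H.mul_mem ha hc', b' * d, K.mul_mem hb' hd, ?_⟩
      calc a * c' * (b' * d) = a * (c' * b') * d := by group
        _ = a * (b * c) * d := by rw [hcb']
        _ = a * b * (c * d) := by group
  · rintro x ⟨a, ha, b, hb, rfl⟩
    exact Subgroup.mul_mem _ (Subgroup.mem_sup_left ha) (Subgroup.mem_sup_right hb)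

/-- Permutability with `B` and `C` gives permutability with `B ⊔ C` (when `B`, `C` permute). -/
theorem mul_comm_sup {A B C : Subgroup G}
    (hAB : (A : Set G) * (B : Set G) = (B : Set G) * (A : Set G))
    (hAC : (A : Set G) * (C : Set G) = (C : Set G) * (A : Set G))
    (hBC : (B : Set G) * (C : Set G) = (C : Set G) * (B : Set G)) :
    (A : Set G) * ((B ⊔ C : Subgroup G) : Set G) = ((B ⊔ C : Subgroup G) : Set G) * (A : Set G) := by
  rw [coe_sup_of_mul_comm hBC, ← mul_assoc, hAB, mul_assoc, hAC, ← mul_assoc]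

/-- Order of the join of two permutable subgroups meeting trivially. -/
theorem card_sup_of_mul_comm {H K : Subgroup G}
    (h : (H : Set G) * (K : Set G) = (K : Set G) * (H : Set G)) (hd : H ⊓ K = ⊥) :
    Nat.card (H ⊔ K : Subgroup G) = Nat.card H * Nat.card K := by
  rw [← Nat.card_prod]
  symm
  have hmem : ∀ x : H × K, (x.1 : G) * (x.2 : G) ∈ H ⊔ K := fun x =>
    Subgroup.mul_mem _ (Subgroup.mem_sup_left x.1.2) (Subgroup.mem_sup_right x.2.2)
  apply Nat.card_congr
  refine Equiv.ofBijective (fun x => ⟨(x.1 : G) * (x.2 : G), hmem x⟩) ⟨?_, ?_⟩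
  · rintro ⟨a, b⟩ ⟨c, d⟩ hxy
    have hxy' : (a : G) * b = c * d := congrArg Subtype.val hxy
    have h1 : (c : G)⁻¹ * a = d * (b : G)⁻¹ := by
      calc (c : G)⁻¹ * a = (c : G)⁻¹ * (a * b) * (b : G)⁻¹ := by group
        _ = (c : G)⁻¹ * (c * d) * (b : G)⁻¹ := by rw [hxy']
        _ = d * (b : G)⁻¹ := by group
    have h2 : (c : G)⁻¹ * a ∈ H ⊓ K := by
      refine Subgroup.mem_inf.mpr ⟨H.mul_mem (H.inv_mem c.2) a.2, ?_⟩
      rw [h1]; exact K.mul_mem d.2 (K.inv_mem b.2)
    rw [hd, Subgroup.mem_bot] at h2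
    have hac : (a : G) = c := by
      calc (a : G) = c * ((c : G)⁻¹ * a) := by group
        _ = c := by rw [h2, mul_one]
    have hbd : (b : G) = d := by
      have : (d : G) * (b : G)⁻¹ = 1 := by rw [← h1, h2]
      calc (b : G) = (d * (b : G)⁻¹)⁻¹ * d := by group
        _ = d := by rw [this]; simp
    exact Prod.ext (Subtype.ext hac) (Subtype.ext hbd)
  · rintro ⟨x, hx⟩
    have hx' : x ∈ ((H ⊔ K : Subgroup G) : Set G) := hx
    rw [coe_sup_of_mul_comm h] at hx'
    obtain ⟨a, ha, b, hb, rfl⟩ := hx'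
    exact ⟨(⟨a, ha⟩, ⟨b, hb⟩), rfl⟩

end Cfsg.Agent.Helper1
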