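import Mathlib
import Cfsg.Prelude.Def_Blocks
import Cfsg.Agent.Lib.Helper24.CharLinear
import Cfsg.Agent.Lib.Helper24.CharOrtho
import Cfsg.Agent.Lib.Helper24.CharAlgebra
import Cfsg.Agent.Lib.Helper24.CharComplete

/-!
# S4503 piece COUNT (helper1), core: the final count with the conclusion of S4441 as a hypothesis
-/

set_option autoImplicit false
set_option linter.unusedSectionVars false
set_option linter.unusedVariables false
set_option linter.style.haveILetI false

namespace Cfsg.Agent.Helper14.BRB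

open scoped ComplexConjugate
open Cfsg Cfsg.Agent.Helper24

universe u

variable {G : Type u} [Group G] [Fintype G] (p : ℕ) [Fact p.Prime]

/-- the degree of the principal character -/
theorem count_charDegree_principal : charDegree ((principalChar G : IrrCharacter G) : G → ℂ) = 1 :=
  charDegree_natCast 1 (by simp [principalChar])

/-- the value at `1` of a character, in terms of its multiplicities -/
theorem count_degree_sum [Fintype (IrrCharacter G)] {Ξ : G → ℂ} (hΞ : IsCharacter G Ξ)
    (mN : IrrCharacter G → ℕ) (hmN : ∀ χ : IrrCharacter G, classInner Ξ (χ : G → ℂ) = mN χ)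
    (d : ℕ) (hd : Ξ 1 = (d : ℂ)) :
    d = ∑ χ : IrrCharacter G, mN χ * charDegree (χ : G → ℂ) := by
  have hdec := (isCharacter_decomp hΞ).2
  have h1 := congrFun hdec 1
  rw [Finset.sum_apply] at h1
  simp only [Pi.smul_apply, smul_eq_mul] at h1
  have h2 : ∀ χ : IrrCharacter G, classInner Ξ (χ : G → ℂ) * (χ : G → ℂ) 1 =
      ((mN χ * charDegree (χ : G → ℂ) : ℕ) : ℂ) := by
    intro χ
    rw [hmN χ, irr_one_eq_charDegree χ.2]
    push_cast
    ring
  rw [hd, Finset.sum_congr rfl (fun χ _ => h2 χ), ← Nat.cast_sum] at h1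
  exact_mod_cast h1

/-- degree `≡ -1 (mod p)` and positive: at least `p - 1` -/
theorem count_deg_ge_of_neg {d : ℕ} (hd : 0 < d) (h : (d : ℤ) ≡ -1 [ZMOD p]) : p - 1 ≤ d := by
  have h1 : (p : ℤ) ∣ -1 - (d : ℤ) := (Int.modEq_iff_dvd).1 h
  have h2 : (p : ℤ) ∣ (d : ℤ) + 1 := by
    have := (dvd_neg (a := (p : ℤ)) (b := -1 - (d : ℤ))).2 h1
    have e : -(-1 - (d : ℤ)) = (d : ℤ) + 1 := by ring
    rwa [e] at this
  have h3 := Int.le_of_dvd (by positivity) h2
  omega

/-- degree `≡ 1 (mod p)`, not `1`: at least `p + 1` -/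
theorem count_deg_ge_of_pos {d : ℕ} (hd : 0 < d) (hd1 : d ≠ 1) (h : (d : ℤ) ≡ 1 [ZMOD p]) :
    p + 1 ≤ d := by
  have h1 : (p : ℤ) ∣ 1 - (d : ℤ) := (Int.modEq_iff_dvd).1 h
  have h2 : (p : ℤ) ∣ (d : ℤ) - 1 := by
    have := (dvd_neg (a := (p : ℤ)) (b := 1 - (d : ℤ))).2 h1
    have e : -(1 - (d : ℤ)) = (d : ℤ) - 1 := by ring
    rwa [e] at this
  have hpos : (0 : ℤ) < (d : ℤ) - 1 := by omega
  have h3 := Int.le_of_dvd hpos h2
  omega

/-- the arithmetic at the end -/
theorem count_arith {p f a b : ℕ} (hf2 : 2 ≤ f) (hdvd : f ∣ p - 1) (h2 : 2 * f + 1 < p)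
    (ha : a * (p - 1) ≤ f * f) (hb : 1 + b * (p + 1) ≤ f * f) (hab : a + b + 1 = f) : False := by
  obtain ⟨k, hk⟩ := hdvd
  have hk3 : 3 ≤ k := by
    by_contra hlt
    push Not at hlt
    have : f * k ≤ f * 2 := Nat.mul_le_mul_left f (by omega)
    omega
  have h3f : 3 * f ≤ p - 1 := by
    rw [hk]
    calc 3 * f = f * 3 := by ring
      _ ≤ f * k := Nat.mul_le_mul_left f hk3
  have ha' : a * (3 * f) ≤ f * f := le_trans (Nat.mul_le_mul_left a h3f) ha
  have hb' : b * (3 * f) + 1 ≤ f * f := by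
    have : b * (3 * f) ≤ b * (p + 1) := Nat.mul_le_mul_left b (by omega)
    omega
  have hfpos : 0 < f := by omega
  have ha'' : 3 * a ≤ f := by
    have : (3 * a) * f ≤ f * f := by
      calc (3 * a) * f = a * (3 * f) := by ring
        _ ≤ f * f := ha'
    exact Nat.le_of_mul_le_mul_right this hfpos
  have hb'' : 3 * b < f := by
    have : (3 * b) * f < f * f := by
      calc (3 * b) * f = b * (3 * f) := by ring
        _ < f * f := by omega
    exact Nat.lt_of_mul_lt_mul_right this
  omega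

variable (P : Sylow p G)

local notation "𝒞" => Subgroup.centralizer ((P : Subgroup G) : Set G)
local notation "𝒩" => Subgroup.normalizer ((P : Subgroup G) : Set G)

/-- PIECE COUNT, with the conclusion of S4441 as hypotheses -/
theorem count_false_of (hP : Nat.card P = p) (f : ℕ) (hfdvd : f ∣ p - 1)
    (hlin : ∀ χ : IrrCharacter G, charDegree (χ : G → ℂ) = 1 → χ = principalChar G)
    (ζ ζ' : IrrCharacter G)
    (hn : charDegree (ζ : G → ℂ) = f) (hn' : charDegree (ζ' : G → ℂ) = f)
    (hf2 : 2 ≤ f) (h2 : 2 * f + 1 < p)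
    (hsign : ∀ (χ : IrrCharacter G) (s : ℤ),
      (∀ x : G, x ∈ (P : Subgroup G) → x ≠ 1 → ∀ y : G, y ∈ 𝒞 → ¬ p ∣ orderOf y →
        (χ : G → ℂ) (x * y) = (s : ℂ)) →
      ∃ c : ℝ, 0 < c ∧
        classInner (fun g => (ζ : G → ℂ) g * conj ((ζ : G → ℂ) g)) (χ : G → ℂ) -
          classInner (fun g => (ζ : G → ℂ) g * conj ((ζ' : G → ℂ) g)) (χ : G → ℂ) =
            ((s : ℝ) * c : ℝ))
    (X Y : Set (IrrCharacter G)) (hXY : principalChar G ∈ X ∪ Y) (hcardX : Nat.card X = f)
    (εX : IrrCharacter G → ℤ) (ε : ℤ)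
    (hX : ∀ χ ∈ X, (εX χ = 1 ∨ εX χ = -1) ∧ (charDegree (χ : G → ℂ) : ℤ) ≡ εX χ [ZMOD p] ∧
      ∀ x : G, x ∈ (P : Subgroup G) → x ≠ 1 → ∀ y : G, y ∈ 𝒞 → ¬ p ∣ orderOf y →
        (χ : G → ℂ) (x * y) = (εX χ : ℂ))
    (hε : ε = 1 ∨ ε = -1)
    (hY : ∀ θ ∈ Y, (charDegree (θ : G → ℂ) : ℤ) ≡ ε * (f : ℤ) [ZMOD p]) : False := by
  classical
  haveI : Fintype (IrrCharacter G) := irrFintype
  have hpp : p.Prime := Fact.out
  -- the principal character lies in `X`
  have h1X : principalChar G ∈ X := by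
    rcases hXY with h | h
    · exact h
    · exfalso
      have h3 := hY _ h
      rw [count_charDegree_principal] at h3
      have h4 : (p : ℤ) ∣ ε * (f : ℤ) - 1 := by
        have := (Int.modEq_iff_dvd).1 h3
        simpa using this
      rcases hε with rfl | rfl
      · have hpos : (0 : ℤ) < 1 * (f : ℤ) - 1 := by omega
        have := Int.le_of_dvd hpos h4
        omega
      · have h5 : (p : ℤ) ∣ (f : ℤ) + 1 := by
          have := (dvd_neg (a := (p : ℤ)) (b := -1 * (f : ℤ) - 1)).2 h4
          have e : -(-1 * (f : ℤ) - 1) = (f : ℤ) + 1 := by ring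
          rwa [e] at this
        have := Int.le_of_dvd (by positivity) h5
        omega
  -- a non-trivial element of `P`
  have hPne : (P : Subgroup G) ≠ ⊥ := by
    intro hbot
    have : Nat.card (P : Subgroup G) = 1 := by rw [hbot]; exact Subgroup.card_bot
    have h3 : Nat.card P = Nat.card (P : Subgroup G) := rfl
    rw [h3, this] at hP
    exact hpp.one_lt.ne hP
  obtain ⟨x0, hx01⟩ := (Subgroup.ne_bot_iff_exists_ne_one.1 hPne)
  have hx0' : (x0 : G) ≠ 1 := fun h => hx01 (Subtype.ext h)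
  -- the sign of the principal character
  have hε1 : εX (principalChar G) = 1 := by
    have := (hX _ h1X).2.2 x0 x0.2 hx0' 1 (Subgroup.one_mem _) (by
      rw [orderOf_one]; exact hpp.one_lt.ne' ∘ Nat.dvd_one.1)
    have h3 : ((principalChar G : IrrCharacter G) : G → ℂ) ((x0 : G) * 1) = 1 := rfl
    rw [h3] at this
    exact_mod_cast this.symm
  -- the two characters
  set Ξ : G → ℂ := fun g => (ζ : G → ℂ) g * conj ((ζ : G → ℂ) g) with hΞdef
  set Ξ' : G → ℂ := fun g => (ζ : G → ℂ) g * conj ((ζ' : G → ℂ) g) with hΞ'def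
  have hζc := isCharacter_of_isIrrCharacter ζ.2
  have hζ'c := isCharacter_of_isIrrCharacter ζ'.2
  have hΞ : IsCharacter G Ξ := isCharacter_mul hζc (isCharacter_conj hζc)
  have hΞ' : IsCharacter G Ξ' := isCharacter_mul hζc (isCharacter_conj hζ'c)
  choose mN hmN using (isCharacter_decomp hΞ).1
  choose mN' hmN' using (isCharacter_decomp hΞ').1
  have hζ1 : (ζ : G → ℂ) 1 = (f : ℂ) := by rw [irr_one_eq_charDegree ζ.2, hn]
  have hζ'1 : (ζ' : G → ℂ) 1 = (f : ℂ) := by rw [irr_one_eq_charDegree ζ'.2, hn']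
  have hΞ1 : Ξ 1 = ((f * f : ℕ) : ℂ) := by
    show (ζ : G → ℂ) 1 * conj ((ζ : G → ℂ) 1) = _
    rw [hζ1]; simp
  have hΞ'1 : Ξ' 1 = ((f * f : ℕ) : ℂ) := by
    show (ζ : G → ℂ) 1 * conj ((ζ' : G → ℂ) 1) = _
    rw [hζ1, hζ'1]; simp
  have hsum := count_degree_sum hΞ mN hmN (f * f) hΞ1
  have hsum' := count_degree_sum hΞ' mN' hmN' (f * f) hΞ'1
  -- the multiplicity of the principal character in `Ξ`
  have hm1 : mN (principalChar G) = 1 := by
    have h3 : classInner Ξ ((principalChar G : IrrCharacter G) : G → ℂ) =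
        classInner (ζ : G → ℂ) (ζ : G → ℂ) := by
      simp [classInner, hΞdef, principalChar]
    rw [hmN, irr_orthogonality ζ.2 ζ.2, if_pos rfl] at h3
    exact_mod_cast h3
  -- the sign rule
  have hrule : ∀ χ ∈ X, ((mN χ : ℝ) - (mN' χ : ℝ)) * (εX χ : ℝ) > 0 := by
    intro χ hχ
    obtain ⟨c, hc, hcc⟩ := hsign χ (εX χ) (hX χ hχ).2.2
    rw [hmN, hmN'] at hcc
    have h3 : ((mN χ : ℝ) - (mN' χ : ℝ)) = (εX χ : ℝ) * c := by
      have : (((mN χ : ℝ) - (mN' χ : ℝ) : ℝ) : ℂ) = (((εX χ : ℝ) * c : ℝ) : ℂ) := by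
        rw [← hcc]; push_cast; ring
      exact Complex.ofReal_injective this
    rw [h3]
    rcases (hX χ hχ).1 with h | h <;> rw [h] <;> simp <;> linarith
  -- the two sets
  set A : Finset (IrrCharacter G) := Finset.univ.filter (fun χ => χ ∈ X ∧ εX χ = -1) with hA
  set B : Finset (IrrCharacter G) :=
    Finset.univ.filter (fun χ => χ ∈ X ∧ εX χ = 1 ∧ χ ≠ principalChar G) with hB
  have hAB : Disjoint A B := by
    rw [Finset.disjoint_left]
    intro χ h3 h4
    rw [hA, Finset.mem_filter] at h3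
    rw [hB, Finset.mem_filter] at h4
    have := h3.2.2
    rw [h4.2.2.1] at this
    omega
  have h1A : principalChar G ∉ A := by
    intro h3
    rw [hA, Finset.mem_filter] at h3
    have := h3.2.2
    rw [hε1] at this
    omega
  have h1B : principalChar G ∉ B := by
    intro h3
    rw [hB, Finset.mem_filter] at h3
    exact h3.2.2.2 rfl
  have hXfin : X.toFinset = insert (principalChar G) (A ∪ B) := by
    ext χ
    rw [Set.mem_toFinset, Finset.mem_insert, Finset.mem_union, hA, hB, Finset.mem_filter,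
      Finset.mem_filter]
    constructor
    · intro hχ
      by_cases h3 : χ = principalChar G
      · exact Or.inl h3
      · right
        rcases (hX χ hχ).1 with h | h
        · exact Or.inr ⟨Finset.mem_univ _, hχ, h, h3⟩
        · exact Or.inl ⟨Finset.mem_univ _, hχ, h⟩
    · rintro (h3 | h3 | h3)
      · rw [h3]; exact h1X
      · exact h3.2.1
      · exact h3.2.1
  have hcard : A.card + B.card + 1 = f := by
    rw [← hcardX, Nat.card_eq_fintype_card, ← Set.toFinset_card, hXfin,
      Finset.card_insert_of_notMem (by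
        rw [Finset.mem_union]; exact fun h => h.elim h1A h1B),
      Finset.card_union_of_disjoint hAB]
  -- the bound for `A`
  have hboundA : A.card * (p - 1) ≤ f * f := by
    rw [hsum']
    calc A.card * (p - 1) = A.card • (p - 1) := by rw [smul_eq_mul]
      _ ≤ ∑ χ ∈ A, mN' χ * charDegree (χ : G → ℂ) := by
        apply Finset.card_nsmul_le_sum
        intro χ hχ
        rw [hA, Finset.mem_filter] at hχ
        have hr := hrule χ hχ.2.1
        rw [hχ.2.2] at hr
        have hm : 1 ≤ mN' χ := by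
          have : (mN χ : ℝ) < (mN' χ : ℝ) := by
            have e : ((-1 : ℤ) : ℝ) = -1 := by norm_num
            rw [e] at hr
            linarith
          have : mN χ < mN' χ := by exact_mod_cast this
          omega
        have hdeg : p - 1 ≤ charDegree (χ : G → ℂ) := by
          apply count_deg_ge_of_neg p (charDegree_pos χ.2)
          have := (hX χ hχ.2.1).2.1
          rwa [hχ.2.2] at this
        calc p - 1 = 1 * (p - 1) := (one_mul _).symm
          _ ≤ mN' χ * charDegree (χ : G → ℂ) := Nat.mul_le_mul hm hdeg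
      _ ≤ ∑ χ : IrrCharacter G, mN' χ * charDegree (χ : G → ℂ) :=
        Finset.sum_le_sum_of_subset (Finset.subset_univ A)
  -- the bound for `B`
  have hboundB : 1 + B.card * (p + 1) ≤ f * f := by
    rw [hsum]
    calc 1 + B.card * (p + 1) = 1 + B.card • (p + 1) := by rw [smul_eq_mul]
      _ ≤ 1 + ∑ χ ∈ B, mN χ * charDegree (χ : G → ℂ) := by
        apply Nat.add_le_add_left
        apply Finset.card_nsmul_le_sum
        intro χ hχ
        rw [hB, Finset.mem_filter] at hχ
        have hr := hrule χ hχ.2.1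
        rw [hχ.2.2.1] at hr
        have hm : 1 ≤ mN χ := by
          have : (mN' χ : ℝ) < (mN χ : ℝ) := by
            have e : ((1 : ℤ) : ℝ) = 1 := by norm_num
            rw [e] at hr
            linarith
          have : mN' χ < mN χ := by exact_mod_cast this
          omega
        have hdeg : p + 1 ≤ charDegree (χ : G → ℂ) := by
          apply count_deg_ge_of_pos p (charDegree_pos χ.2)
          · intro h3
            exact hχ.2.2.2 (hlin χ h3)
          · have := (hX χ hχ.2.1).2.1
            rwa [hχ.2.2.1] at this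
        calc p + 1 = 1 * (p + 1) := (one_mul _).symm
          _ ≤ mN χ * charDegree (χ : G → ℂ) := Nat.mul_le_mul hm hdeg
      _ = ∑ χ ∈ insert (principalChar G) B, mN χ * charDegree (χ : G → ℂ) := by
        rw [Finset.sum_insert h1B, hm1, count_charDegree_principal]
      _ ≤ ∑ χ : IrrCharacter G, mN χ * charDegree (χ : G → ℂ) :=
        Finset.sum_le_sum_of_subset (Finset.subset_univ _)
  exact count_arith hf2 hfdvd h2 hboundA hboundB hcard

end Cfsg.Agent.Helper14.BRB
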