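import Mathlib
import Cfsg.Prelude.Def_Blocks
import Cfsg.Agent.S4441
import Cfsg.Agent.Lib.Helper15.TLGT
import Cfsg.Agent.Lib.Helper23.BlockDefect
import Cfsg.Agent.Lib.Helper1.BRBCOUNTCore

/-!
# S4503 piece COUNT (helper1): the final count

`count_false_of` (`BRBCOUNTCore.lean`) applied to the conclusion of S4441.
-/

set_option autoImplicit false
set_option linter.unusedSectionVars false
set_option linter.unusedVariables false
set_option linter.style.haveILetI false

namespace Cfsg.Agent.Helper14.BRB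

open scoped ComplexConjugate
open Cfsg Cfsg.Agent.Helper24

universe u

variable {G : Type u} [Group G] [Fintype G] (p : ℕ) [Fact p.Prime]

variable (P : Sylow p G)

local notation "𝒞" => Subgroup.centralizer ((P : Subgroup G) : Set G)
local notation "𝒩" => Subgroup.normalizer ((P : Subgroup G) : Set G)

/-- PIECE COUNT (Step E, second half; uses `Cfsg.Agent.S4441.result`). -/
theorem count_false (M : Ideal AlgInt) (hM : IsPModular p M) (hP : Nat.card P = p)
    (f : ℕ) (hf : (𝒞).relIndex 𝒩 = f)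
    (hlin : ∀ χ : IrrCharacter G, charDegree (χ : G → ℂ) = 1 → χ = principalChar G)
    (ζ ζ' : IrrCharacter G) (hζ1 : ζ ≠ principalChar G)
    (hn : charDegree (ζ : G → ℂ) = f) (hn' : charDegree (ζ' : G → ℂ) = f)
    (h2 : 2 * f + 1 < p)
    (hsign : ∀ (χ : IrrCharacter G) (s : ℤ),
      (∀ x : G, x ∈ (P : Subgroup G) → x ≠ 1 → ∀ y : G, y ∈ 𝒞 → ¬ p ∣ orderOf y →
        (χ : G → ℂ) (x * y) = (s : ℂ)) →
      ∃ c : ℝ, 0 < c ∧
        classInner (fun g => (ζ : G → ℂ) g * conj ((ζ : G → ℂ) g)) (χ : G → ℂ) -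
          classInner (fun g => (ζ : G → ℂ) g * conj ((ζ' : G → ℂ) g)) (χ : G → ℂ) =
            ((s : ℝ) * c : ℝ)) : False := by
  have hpp : p.Prime := Fact.out
  have hfpos : 0 < f := by rw [← hn]; exact charDegree_pos ζ.2
  rcases Nat.lt_or_ge f 2 with hlt | hf2
  · have hf1 : f = 1 := by omega
    exact hζ1 (hlin ζ (by rw [hn, hf1]))
  · have hodd : p ≠ 2 := by omega
    obtain ⟨X, Y, hXY, hdisj, hcX, hcY, εX, ε, hX, hε, hY, -, -⟩ :=
      Cfsg.Agent.S4441.result p M hM hodd P hP f hf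
    have hfdvd : f ∣ p - 1 := by
      rw [← hf]
      exact Cfsg.Agent.Helper5.TL.relIndex_dvd p P hP
    haveI : M.IsPrime := hM.2.1.isPrime
    have h1 : principalChar G ∈ X ∪ Y := by
      rw [← hXY]
      exact Cfsg.Agent.Helper23.Blk.principalChar_mem_principalBlock
    exact count_false_of p P hP f hfdvd hlin ζ ζ' hn hn' hf2 h2 hsign X Y h1 hcX εX ε hX hε hY

end Cfsg.Agent.Helper14.BRB
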