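import Mathlib
import Cfsg.Prelude.Def_Blocks
import Cfsg.Agent.Lib.Helper5.TLRDefs
import Cfsg.Agent.Lib.Helper5.TLDDefs

/-!
# S4442, piece FPK (helper1): `FP` as a `Fintype` sum over the subgroup `K` of `p`-regular elements
of `C_G(P)`.
-/

set_option autoImplicit false

namespace Cfsg.Agent.Helper5.TLD

open scoped ComplexConjugate
open Cfsg Cfsg.Agent.Helper5.TLR

section GT

variable (p : ℕ) [Fact p.Prime] {G : Type*} [Group G] [Finite G]

/-- the bijection between `K` and the set of `p`-regular elements of `C_G(P)`. -/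
noncomputable def fpkEquiv (P : Sylow p G) (K : Subgroup G)
    (hK1 : ∀ y : G, y ∈ K ↔
      (y ∈ Subgroup.centralizer ((P : Subgroup G) : Set G) ∧ ¬ p ∣ orderOf y)) :
    K ≃ {c : Subgroup.centralizer ((P : Subgroup G) : Set G) | ¬ p ∣ orderOf c} where
  toFun k := ⟨⟨(k : G), ((hK1 k).1 k.2).1⟩, by
    show ¬ p ∣ orderOf (⟨(k : G), ((hK1 k).1 k.2).1⟩ :
      Subgroup.centralizer ((P : Subgroup G) : Set G))
    rw [Subgroup.orderOf_mk]
    exact ((hK1 k).1 k.2).2⟩
  invFun c := ⟨((c : Subgroup.centralizer ((P : Subgroup G) : Set G)) : G), (hK1 _).2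
    ⟨(c : Subgroup.centralizer ((P : Subgroup G) : Set G)).2, by
      have h := c.2
      rw [Set.mem_setOf_eq, ← Subgroup.orderOf_coe] at h
      exact h⟩⟩
  left_inv k := by
    apply Subtype.ext
    rfl
  right_inv c := by
    apply Subtype.ext
    apply Subtype.ext
    rfl

omit [Finite G] [Fact p.Prime] in
theorem fpkEquiv_coe (P : Sylow p G) (K : Subgroup G)
    (hK1 : ∀ y : G, y ∈ K ↔
      (y ∈ Subgroup.centralizer ((P : Subgroup G) : Set G) ∧ ¬ p ∣ orderOf y)) (k : K) :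
    ((fpkEquiv p P K hK1 k : Subgroup.centralizer ((P : Subgroup G) : Set G))) =
      ⟨(k : G), ((hK1 k).1 k.2).1⟩ := rfl

/-- PIECE FPK: `FP` as a sum over the subgroup `K` of `p`-regular elements of `C_G(P)`. -/
theorem FP_eq_sum (P : Sylow p G) (K : Subgroup G) [Fintype K]
    (hK1 : ∀ y : G, y ∈ K ↔
      (y ∈ Subgroup.centralizer ((P : Subgroup G) : Set G) ∧ ¬ p ∣ orderOf y))
    (θ : Subgroup.centralizer ((P : Subgroup G) : Set G) → ℂ) (χ : G → ℂ) (a : G) :
    FP p P θ χ a = (Fintype.card K : ℂ)⁻¹ *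
      ∑ k : K, χ (a * (k : G)) * conj (θ ⟨(k : G), ((hK1 k).1 k.2).1⟩) := by
  classical
  unfold FP
  have hcard : Nat.card {c : Subgroup.centralizer ((P : Subgroup G) : Set G) | ¬ p ∣ orderOf c} =
      Fintype.card K := by
    rw [← Nat.card_eq_fintype_card]
    exact (Nat.card_congr (fpkEquiv p P K hK1)).symm
  rw [hcard]
  congr 1
  rw [← finsum_set_coe_eq_finsum_mem, ← finsum_comp_equiv (fpkEquiv p P K hK1),
    finsum_eq_sum_of_fintype]
  rfl

end GT

end Cfsg.Agent.Helper5.TLD
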