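import Mathlib
import Cfsg.Prelude.Def_Blocks
import Cfsg.Agent.Lib.Helper5.TLRDefs
import Cfsg.Agent.Lib.Helper5.TLDDefs
import Cfsg.Agent.Lib.Helper15.TLGT
import Cfsg.Agent.Lib.Helper24.CharBasic

/-!
# S4442, piece RES (helper1): the restriction to `K` of an irreducible character of `C = P × K`
with `P` in its kernel is irreducible.
-/

set_option autoImplicit false

namespace Cfsg.Agent.Helper5.TLD

open scoped ComplexConjugate
open Cfsg Cfsg.Agent.Helper5.TLR

section GT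

variable (p : ℕ) [Fact p.Prime] {G : Type*} [Group G] [Finite G]

/-- every element of `C_G(P)` is `u * k` with `u ∈ P`, `k ∈ K`. -/
theorem res_decomp (P : Sylow p G) (hP : Nat.card P = p) (K : Subgroup G)
    (hK1 : ∀ y : G, y ∈ K ↔
      (y ∈ Subgroup.centralizer ((P : Subgroup G) : Set G) ∧ ¬ p ∣ orderOf y))
    (c : G) (hc : c ∈ Subgroup.centralizer ((P : Subgroup G) : Set G)) :
    ∃ u k : G, u ∈ (P : Subgroup G) ∧ k ∈ K ∧ c = u * k := by
  obtain ⟨K', n₀, hK', -, -, hdec, -, -⟩ := Cfsg.Agent.Helper5.TL.exists_pcore p P hP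
  have hKK : K' = K := by
    ext y
    rw [hK' y, hK1 y]
  subst hKK
  apply hdec c
  intro u hu
  rw [Subgroup.mem_centralizer_iff] at hc
  exact (hc u hu).symm

/-- restriction of a representation to a subgroup of a subgroup. -/
def resRep {H : Subgroup G} {n : ℕ} (ρ : Representation ℂ H (Fin n → ℂ)) {K : Subgroup G}
    (hKH : K ≤ H) : Representation ℂ K (Fin n → ℂ) :=
  ρ.comp (Subgroup.inclusion hKH)

/-- a representation of `C_G(P)` whose character is constant on `P` restricts irreducibly to `K`. -/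
theorem res_irr_rep (P : Sylow p G) (hP : Nat.card P = p) (K : Subgroup G)
    (hK1 : ∀ y : G, y ∈ K ↔
      (y ∈ Subgroup.centralizer ((P : Subgroup G) : Set G) ∧ ¬ p ∣ orderOf y))
    {n : ℕ} (ρ : Representation ℂ (Subgroup.centralizer ((P : Subgroup G) : Set G)) (Fin n → ℂ))
    (hρ : ρ.IsIrreducible)
    (hP1 : ∀ x : Subgroup.centralizer ((P : Subgroup G) : Set G), (x : G) ∈ (P : Subgroup G) →
      ρ.character x = ρ.character 1)
    (hKC : K ≤ Subgroup.centralizer ((P : Subgroup G) : Set G)) :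
    (resRep ρ hKC).IsIrreducible := by
  classical
  have hPC := Cfsg.Agent.Helper5.TL.gt_le_centralizer p P hP
  rw [Cfsg.Agent.Helper24.isIrreducible_iff] at hρ ⊢
  obtain ⟨hV, hU⟩ := hρ
  refine ⟨hV, ?_⟩
  intro U hUinv
  apply hU U
  intro c v hv
  obtain ⟨u, k, hu, hk, hck⟩ := res_decomp p P hP K hK1 (c : G) c.2
  have hc : c = (⟨u, hPC hu⟩ : Subgroup.centralizer ((P : Subgroup G) : Set G)) *
      Subgroup.inclusion hKC ⟨k, hk⟩ := by
    apply Subtype.ext
    exact hck
  have hu1 : ρ (⟨u, hPC hu⟩ : Subgroup.centralizer ((P : Subgroup G) : Set G)) = 1 := by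
    rw [← Cfsg.Agent.Helper24.char_eq_finrank_iff, hP1 _ hu, Representation.char_one]
  rw [hc, map_mul, hu1, one_mul]
  exact hUinv ⟨k, hk⟩ v hv

/-- PIECE RES. -/
theorem exists_res_irr (P : Sylow p G) (hP : Nat.card P = p) (K : Subgroup G)
    (hK1 : ∀ y : G, y ∈ K ↔
      (y ∈ Subgroup.centralizer ((P : Subgroup G) : Set G) ∧ ¬ p ∣ orderOf y))
    (θ : IrrCharacter (Subgroup.centralizer ((P : Subgroup G) : Set G)))
    (hθP : ∀ x : Subgroup.centralizer ((P : Subgroup G) : Set G), (x : G) ∈ (P : Subgroup G) →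
      (θ : Subgroup.centralizer ((P : Subgroup G) : Set G) → ℂ) x =
        (θ : Subgroup.centralizer ((P : Subgroup G) : Set G) → ℂ) 1) :
    ∃ ϑ : IrrCharacter K, ∀ k : K, (ϑ : K → ℂ) k =
      (θ : Subgroup.centralizer ((P : Subgroup G) : Set G) → ℂ) ⟨(k : G), ((hK1 k).1 k.2).1⟩ := by
  obtain ⟨n, ρ, hρ, hθ⟩ := θ.2
  have hKC : K ≤ Subgroup.centralizer ((P : Subgroup G) : Set G) := fun y hy => ((hK1 y).1 hy).1
  have hirr := res_irr_rep p P hP K hK1 ρ hρ (by
    intro x hx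
    rw [hθ]
    exact hθP x hx) hKC
  refine ⟨⟨(resRep ρ hKC).character, n, _, hirr, rfl⟩, ?_⟩
  intro k
  show (resRep ρ hKC).character k = _
  rw [← hθ]
  rfl

end GT

end Cfsg.Agent.Helper5.TLD
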