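import Mathlib
import Cfsg.Prelude.Def_Blocks
import Cfsg.Agent.Lib.Helper5.TLRDefs
import Cfsg.Agent.Lib.Helper5.TLDDefs
import Cfsg.Agent.Lib.Helper15.TLGT
import Cfsg.Agent.Lib.Helper24.CharBasic
import Cfsg.Agent.Lib.Helper24.CharOrtho
import Cfsg.Agent.Lib.Helper24.CharComplete
import Cfsg.Agent.Lib.Helper24.CharAlgebra
import Cfsg.Agent.Lib.Helper24.CharHom
import Cfsg.Agent.Lib.Helper24.CharLinear
import Cfsg.Agent.Lib.Helper1.TLDFPK
import Cfsg.Agent.Lib.Helper1.TLDRES

/-!
# S4442, piece DCHAR (helper1): `a ↦ FP p P θ χ a` is a character of `P`.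
-/

set_option autoImplicit false

namespace Cfsg.Agent.Helper5.TLD

open scoped ComplexConjugate
open Cfsg Cfsg.Agent.Helper5.TLR

section Central

variable {H : Type*} [Group H] [Finite H]

/-- central elements act by scalars in an irreducible representation: the central character as a
homomorphism from a central subgroup. -/
theorem dchar_exists_central_hom (Z : Subgroup H) (hZ : ∀ z ∈ Z, ∀ h : H, z * h = h * z)
    (ψ : IrrCharacter H) :
    ∃ lam : Z →* ℂˣ, ∀ (z : Z) (h : H), (ψ : H → ℂ) ((z : H) * h) =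
      ((lam z : ℂˣ) : ℂ) * (ψ : H → ℂ) h := by
  classical
  haveI : Fintype H := Fintype.ofFinite H
  obtain ⟨n, σ, hσ, hψ⟩ := ψ.2
  have hnt : Nontrivial (Fin n → ℂ) := ((Cfsg.Agent.Helper24.isIrreducible_iff σ).1 hσ).1
  haveI := hnt
  have hsc : ∀ z : Z, ∃ c : ℂ, σ (z : H) = c • (1 : Module.End ℂ (Fin n → ℂ)) := by
    intro z
    apply Cfsg.Agent.Helper24.exists_scalar_of_comm σ hσ
    intro h
    rw [← Module.End.mul_eq_comp, ← Module.End.mul_eq_comp, ← map_mul, ← map_mul, hZ z z.2 h]
  choose f hf using hsc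
  have hinj : Function.Injective (fun c : ℂ => c • (1 : Module.End ℂ (Fin n → ℂ))) := by
    intro a b hab
    obtain ⟨v, hv⟩ := exists_ne (0 : Fin n → ℂ)
    have h1 := LinearMap.congr_fun hab v
    simp only [LinearMap.smul_apply, Module.End.one_apply] at h1
    exact smul_left_injective ℂ hv h1
  have f_one : f 1 = 1 := by
    apply hinj
    show f 1 • (1 : Module.End ℂ (Fin n → ℂ)) = (1 : ℂ) • 1
    rw [← hf 1, one_smul]
    simp
  have f_mul : ∀ a b : Z, f (a * b) = f a * f b := by
    intro a b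
    apply hinj
    show f (a * b) • (1 : Module.End ℂ (Fin n → ℂ)) = (f a * f b) • 1
    rw [← hf (a * b)]
    have : ((a * b : Z) : H) = (a : H) * (b : H) := rfl
    rw [this, map_mul, hf a, hf b, smul_mul_smul_comm, mul_one]
  let F : Z →* ℂ := { toFun := f, map_one' := f_one, map_mul' := f_mul }
  refine ⟨F.toHomUnits, ?_⟩
  intro z h
  rw [MonoidHom.coe_toHomUnits]
  show (ψ : H → ℂ) ((z : H) * h) = f z * (ψ : H → ℂ) h
  rw [← hψ]
  show LinearMap.trace ℂ _ (σ ((z : H) * h)) = f z * LinearMap.trace ℂ _ (σ h)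
  rw [map_mul, hf z, smul_mul_assoc, one_mul, map_smul, smul_eq_mul]

end Central

section LayerD

variable (p : ℕ) [Fact p.Prime] {G : Type*} [Group G] [Finite G]

/-- PIECE DCHAR: `a ↦ FP p P θ χ a` is a character of `P` (possibly zero). -/
theorem isCharacter_FP (P : Sylow p G) (hP : Nat.card P = p)
    (θ : IrrCharacter (Subgroup.centralizer ((P : Subgroup G) : Set G)))
    (hθP : ∀ x : Subgroup.centralizer ((P : Subgroup G) : Set G), (x : G) ∈ (P : Subgroup G) →
      (θ : Subgroup.centralizer ((P : Subgroup G) : Set G) → ℂ) x =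
        (θ : Subgroup.centralizer ((P : Subgroup G) : Set G) → ℂ) 1)
    (χ : IrrCharacter G) :
    IsCharacter (P : Subgroup G) (fun a : (P : Subgroup G) => FP p P θ (χ : G → ℂ) (a : G)) := by
  classical
  obtain ⟨K, n₀, hK1, -, -, -, -, -⟩ := Cfsg.Agent.Helper5.TL.exists_pcore p P hP
  haveI : Fintype K := Fintype.ofFinite K
  haveI : Fintype (Subgroup.centralizer ((P : Subgroup G) : Set G)) := Fintype.ofFinite (Subgroup.centralizer ((P : Subgroup G) : Set G))
  letI : Fintype (IrrCharacter (Subgroup.centralizer ((P : Subgroup G) : Set G))) := Cfsg.Agent.Helper24.irrFintype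
  letI : Fintype (IrrCharacter K) := Cfsg.Agent.Helper24.irrFintype
  have hPC : (P : Subgroup G) ≤ (Subgroup.centralizer ((P : Subgroup G) : Set G)) := Cfsg.Agent.Helper5.TL.gt_le_centralizer p P hP
  have hKC : K ≤ (Subgroup.centralizer ((P : Subgroup G) : Set G)) := fun y hy => ((hK1 y).1 hy).1
  obtain ⟨ϑ, hϑ⟩ := exists_res_irr p P hP K hK1 θ hθP
  -- decomposition of χ on (Subgroup.centralizer ((P : Subgroup G) : Set G))
  have hχC : IsCharacter (Subgroup.centralizer ((P : Subgroup G) : Set G)) (fun c : (Subgroup.centralizer ((P : Subgroup G) : Set G)) => (χ : G → ℂ) c) :=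
    Cfsg.Agent.Helper24.isCharacter_restrict (Subgroup.centralizer ((P : Subgroup G) : Set G))
      (Cfsg.Agent.Helper24.isCharacter_of_isIrrCharacter χ.2)
  obtain ⟨hm, hdec⟩ := Cfsg.Agent.Helper24.isCharacter_decomp hχC
  choose m hm using hm
  have hdec' : ∀ c : (Subgroup.centralizer ((P : Subgroup G) : Set G)), (χ : G → ℂ) c = ∑ ψ : IrrCharacter (Subgroup.centralizer ((P : Subgroup G) : Set G)), (m ψ : ℂ) * (ψ : (Subgroup.centralizer ((P : Subgroup G) : Set G)) → ℂ) c := by
    intro c
    have := congrFun hdec c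
    simp only [Finset.sum_apply, Pi.smul_apply, smul_eq_mul, hm] at this
    exact this
  -- central characters of P on the irreducible characters of (Subgroup.centralizer ((P : Subgroup G) : Set G))
  let PC : Subgroup (Subgroup.centralizer ((P : Subgroup G) : Set G)) := (P : Subgroup G).subgroupOf (Subgroup.centralizer ((P : Subgroup G) : Set G))
  have hPCc : ∀ z ∈ PC, ∀ h : (Subgroup.centralizer ((P : Subgroup G) : Set G)), z * h = h * z := by
    intro z hz h
    apply Subtype.ext
    have hz' : (z : G) ∈ (P : Subgroup G) := hz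
    have := h.2
    rw [Subgroup.mem_centralizer_iff] at this
    exact this _ hz'
  have hlam := fun ψ : IrrCharacter (Subgroup.centralizer ((P : Subgroup G) : Set G)) => dchar_exists_central_hom PC hPCc ψ
  choose lam hlam using hlam
  -- multiplicities of ϑ in the restrictions to K
  have hN : ∀ ψ : IrrCharacter (Subgroup.centralizer ((P : Subgroup G) : Set G)), ∃ N : ℕ,
      Cfsg.classInner (fun k : K => (ψ : (Subgroup.centralizer ((P : Subgroup G) : Set G)) → ℂ) (Subgroup.inclusion hKC k)) (ϑ : K → ℂ) = N := by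
    intro ψ
    have hψK : IsCharacter K (fun k : K => (ψ : (Subgroup.centralizer ((P : Subgroup G) : Set G)) → ℂ) (Subgroup.inclusion hKC k)) :=
      Cfsg.Agent.Helper24.isCharacter_comp (Subgroup.inclusion hKC)
        (Cfsg.Agent.Helper24.isCharacter_of_isIrrCharacter ψ.2)
    exact (Cfsg.Agent.Helper24.isCharacter_decomp hψK).1 ϑ
  choose N hN using hN
  -- the embedding of P into PC
  let ι : (P : Subgroup G) →* PC :=
    { toFun := fun a => ⟨⟨(a : G), hPC a.2⟩, a.2⟩
      map_one' := rfl
      map_mul' := fun _ _ => rfl }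
  -- the formula
  have key : (fun a : (P : Subgroup G) => FP p P θ (χ : G → ℂ) (a : G)) =
      ∑ ψ : IrrCharacter (Subgroup.centralizer ((P : Subgroup G) : Set G)), (m ψ * N ψ) • (fun a : (P : Subgroup G) =>
        (((lam ψ).comp ι a : ℂˣ) : ℂ)) := by
    funext a
    rw [FP_eq_sum p P K hK1, Finset.sum_apply]
    have hrhs : ∀ ψ : IrrCharacter (Subgroup.centralizer ((P : Subgroup G) : Set G)), ((m ψ * N ψ) • (fun a : (P : Subgroup G) =>
        (((lam ψ).comp ι a : ℂˣ) : ℂ))) a =
        (m ψ : ℂ) * (N ψ : ℂ) * (((lam ψ).comp ι a : ℂˣ) : ℂ) := by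
      intro ψ
      rw [Pi.smul_apply, nsmul_eq_mul, Nat.cast_mul]
    simp only [hrhs]
    have h1 : ∀ k : K, (χ : G → ℂ) ((a : G) * (k : G)) =
        ∑ ψ : IrrCharacter (Subgroup.centralizer ((P : Subgroup G) : Set G)), (m ψ : ℂ) * ((((lam ψ).comp ι a : ℂˣ) : ℂ) *
          (ψ : (Subgroup.centralizer ((P : Subgroup G) : Set G)) → ℂ) (Subgroup.inclusion hKC k)) := by
      intro k
      have h2 := hdec' (((ι a : PC) : (Subgroup.centralizer ((P : Subgroup G) : Set G))) * Subgroup.inclusion hKC k)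
      have h3 : ((((ι a : PC) : (Subgroup.centralizer ((P : Subgroup G) : Set G))) * Subgroup.inclusion hKC k : (Subgroup.centralizer ((P : Subgroup G) : Set G))) : G) = (a : G) * (k : G) := rfl
      rw [h3] at h2
      rw [h2]
      apply Finset.sum_congr rfl
      intro ψ _
      rw [hlam ψ (ι a) (Subgroup.inclusion hKC k)]
      rfl
    simp only [h1]
    simp only [Finset.sum_mul, Finset.mul_sum]
    rw [Finset.sum_comm]
    apply Finset.sum_congr rfl
    intro ψ _
    have h4 := hN ψ
    unfold Cfsg.classInner at h4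
    rw [Nat.card_eq_fintype_card] at h4
    have h5 : (N ψ : ℂ) = (Fintype.card K : ℂ)⁻¹ *
        ∑ k : K, (ψ : (Subgroup.centralizer ((P : Subgroup G) : Set G)) → ℂ) (Subgroup.inclusion hKC k) *
          conj ((θ : (Subgroup.centralizer ((P : Subgroup G) : Set G)) → ℂ) ⟨(k : G), ((hK1 k).1 k.2).1⟩) := by
      rw [← h4]
      congr 1
      apply Finset.sum_congr rfl
      intro k _
      rw [hϑ k]
    rw [h5, Finset.mul_sum, Finset.mul_sum, Finset.sum_mul]
    apply Finset.sum_congr rfl
    intro k _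
    ring
  rw [key]
  apply Cfsg.Agent.Helper24.isCharacter_sum
  intro ψ _
  apply Cfsg.Agent.Helper24.isCharacter_nsmul
  exact Cfsg.Agent.Helper24.isCharacter_of_isIrrCharacter
    (Cfsg.Agent.Helper24.isIrrCharacter_of_monoidHom ((lam ψ).comp ι))

end LayerD

end Cfsg.Agent.Helper5.TLD
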