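import Mathlib
import Cfsg.Prelude.Def_Blocks
import Cfsg.Agent.Lib.Helper5.TLRDefs
import Cfsg.Agent.Lib.Helper5.TLDDefs

/-!
# S4442, piece DCONJ (helper1): conjugation of `FP` by an element of `N_G(P)`.
-/

set_option autoImplicit false

namespace Cfsg.Agent.Helper5.TLD

open scoped ComplexConjugate
open Cfsg Cfsg.Agent.Helper5.TLR

section LayerD

variable (p : ℕ) [Fact p.Prime] {G : Type*} [Group G] [Finite G]

omit [Finite G] [Fact p.Prime] in
/-- `N_G(P)` normalizes `C_G(P)`. -/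
theorem dconj_mem (P : Sylow p G) (n : G)
    (hn : n ∈ Subgroup.normalizer ((P : Subgroup G) : Set G)) (c : G)
    (hc : c ∈ Subgroup.centralizer ((P : Subgroup G) : Set G)) :
    n * c * n⁻¹ ∈ Subgroup.centralizer ((P : Subgroup G) : Set G) := by
  rw [Subgroup.mem_centralizer_iff] at hc ⊢
  intro u hu
  have hn' : n⁻¹ ∈ Subgroup.normalizer ((P : Subgroup G) : Set G) := inv_mem hn
  have hv : n⁻¹ * u * n⁻¹⁻¹ ∈ (P : Subgroup G) := (Subgroup.mem_normalizer_iff.1 hn' u).1 hu
  have h := hc _ hv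
  have e1 : u * (n * c * n⁻¹) = n * ((n⁻¹ * u * n⁻¹⁻¹) * c) * n⁻¹ := by group
  have e2 : n * c * n⁻¹ * u = n * (c * (n⁻¹ * u * n⁻¹⁻¹)) * n⁻¹ := by group
  rw [e1, e2, h]

/-- conjugation by `n ∈ N_G(P)` as a permutation of `C_G(P)`. -/
def dconjEquiv (P : Sylow p G) (n : G)
    (hn : n ∈ Subgroup.normalizer ((P : Subgroup G) : Set G)) :
    Subgroup.centralizer ((P : Subgroup G) : Set G) ≃
      Subgroup.centralizer ((P : Subgroup G) : Set G) where
  toFun c := ⟨n * (c : G) * n⁻¹, dconj_mem p P n hn c c.2⟩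
  invFun c := ⟨n⁻¹ * (c : G) * n, by
    have := dconj_mem p P n⁻¹ (inv_mem hn) c c.2
    rwa [inv_inv] at this⟩
  left_inv c := by
    apply Subtype.ext
    show n⁻¹ * (n * (c : G) * n⁻¹) * n = c
    group
  right_inv c := by
    apply Subtype.ext
    show n * (n⁻¹ * (c : G) * n) * n⁻¹ = c
    group

/-- PIECE DCONJ: conjugation by `n ∈ N_G(P)`. -/
theorem FP_conj (P : Sylow p G)
    (θ θ' : Subgroup.centralizer ((P : Subgroup G) : Set G) → ℂ) (χ : G → ℂ)
    (hχ : IsClassFunction G χ) (n : G) (hn : n ∈ Subgroup.normalizer ((P : Subgroup G) : Set G))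
    (hθ' : ∀ c c' : Subgroup.centralizer ((P : Subgroup G) : Set G), (c' : G) = n * c * n⁻¹ →
      θ' c = θ c') (a : G) :
    FP p P θ' χ a = FP p P θ χ (n * a * n⁻¹) := by
  classical
  unfold FP
  congr 1
  have hord : ∀ c : Subgroup.centralizer ((P : Subgroup G) : Set G),
      orderOf (dconjEquiv p P n hn c) = orderOf c := by
    intro c
    rw [← Subgroup.orderOf_coe, ← Subgroup.orderOf_coe]
    show orderOf (n * (c : G) * n⁻¹) = orderOf (c : G)
    exact (MulAut.conj n).orderOf_eq (c : G)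
  apply finsum_mem_eq_of_bijOn (dconjEquiv p P n hn)
  · refine ⟨?_, ?_, ?_⟩
    · intro c hc
      simp only [Set.mem_ofPred_eq] at hc ⊢
      rw [hord]
      exact hc
    · exact (dconjEquiv p P n hn).injective.injOn
    · intro c' hc'
      refine ⟨(dconjEquiv p P n hn).symm c', ?_, by simp⟩
      simp only [Set.mem_ofPred_eq] at hc' ⊢
      have := hord ((dconjEquiv p P n hn).symm c')
      rw [Equiv.apply_symm_apply] at this
      rw [← this]
      exact hc'
  · intro c _
    rw [hθ' c (dconjEquiv p P n hn c) rfl]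
    congr 1
    show χ (a * (c : G)) = χ (n * a * n⁻¹ * (n * (c : G) * n⁻¹))
    have : n * a * n⁻¹ * (n * (c : G) * n⁻¹) = n * (a * (c : G)) * n⁻¹ := by group
    rw [this, hχ]

end LayerD

end Cfsg.Agent.Helper5.TLD
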