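import Mathlib
import Cfsg.Prelude.Def_Blocks
import Cfsg.Agent.Lib.Helper5.TLRDefs
import Cfsg.Agent.Lib.Helper5.IrrOfChar
import Cfsg.Agent.Lib.Helper24.CharComplete

/-!
# S4442 lattice side, LAYER B, piece CONV (helper1): complexification of lattices; a lattice whose
complexified character is irreducible has commutant `R`.
-/

set_option autoImplicit false

namespace Cfsg.Agent.Helper5.TLR

section Conv

variable {R : Type*} [CommRing R]

/-- complexification of an `R`-linear map between coordinate spaces along `j : R →+* ℂ`. -/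
noncomputable def convMap (j : R →+* ℂ) {n m : ℕ} (φ : (Fin n → R) →ₗ[R] (Fin m → R)) :
    (Fin n → ℂ) →ₗ[ℂ] (Fin m → ℂ) :=
  Matrix.toLin' ((LinearMap.toMatrix' φ).map j)

theorem convMap_comp (j : R →+* ℂ) {n m k : ℕ} (φ : (Fin m → R) →ₗ[R] (Fin k → R))
    (ψ : (Fin n → R) →ₗ[R] (Fin m → R)) :
    convMap j (φ ∘ₗ ψ) = convMap j φ ∘ₗ convMap j ψ := by
  unfold convMap
  rw [LinearMap.toMatrix'_comp, Matrix.map_mul, Matrix.toLin'_mul]

theorem convMap_mul (j : R →+* ℂ) {n : ℕ} (φ ψ : Module.End R (Fin n → R)) :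
    convMap j (φ * ψ) = convMap j φ * convMap j ψ :=
  convMap_comp j φ ψ

theorem convMap_one (j : R →+* ℂ) {n : ℕ} :
    convMap j (1 : Module.End R (Fin n → R)) = 1 := by
  unfold convMap
  rw [LinearMap.toMatrix'_one, Matrix.map_one _ (map_zero j) (map_one j), Matrix.toLin'_one]
  rfl

theorem trace_convMap (j : R →+* ℂ) {n : ℕ} (φ : Module.End R (Fin n → R)) :
    LinearMap.trace ℂ (Fin n → ℂ) (convMap j φ) = j (LinearMap.trace R (Fin n → R) φ) := by
  unfold convMap
  rw [Matrix.trace_toLin'_eq, LinearMap.trace_eq_matrix_trace R (Pi.basisFun R (Fin n)) φ,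
    LinearMap.toMatrix_eq_toMatrix', AddMonoidHom.map_trace]

theorem convMap_toMatrix' (j : R →+* ℂ) {n m : ℕ} (φ : (Fin n → R) →ₗ[R] (Fin m → R)) :
    LinearMap.toMatrix' (convMap j φ) = (LinearMap.toMatrix' φ).map j := by
  unfold convMap
  rw [LinearMap.toMatrix'_toLin']

theorem convMap_eq_zero (j : R →+* ℂ) (hj : Function.Injective j) {n m : ℕ}
    (φ : (Fin n → R) →ₗ[R] (Fin m → R)) (h : convMap j φ = 0) : φ = 0 := by
  have h1 : (LinearMap.toMatrix' φ).map j = 0 := by
    rw [← convMap_toMatrix', h, map_zero]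
  have h2 : LinearMap.toMatrix' φ = 0 := by
    ext a b
    have := congrFun (congrFun h1 a) b
    simp only [Matrix.map_apply, Matrix.zero_apply] at this ⊢
    exact hj (by rw [this, map_zero])
  exact (LinearMap.toMatrix' (R := R)).injective (by rw [h2, map_zero])

variable {G : Type*} [Group G]

/-- complexification of a lattice representation. -/
noncomputable def convRep (j : R →+* ℂ) {n : ℕ} (𝔛 : Representation R G (Fin n → R)) :
    Representation ℂ G (Fin n → ℂ) where
  toFun g := convMap j (𝔛 g)
  map_one' := by rw [map_one]; exact convMap_one j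
  map_mul' a b := by rw [map_mul]; exact convMap_mul j _ _

theorem convRep_apply (j : R →+* ℂ) {n : ℕ} (𝔛 : Representation R G (Fin n → R)) (g : G) :
    convRep j 𝔛 g = convMap j (𝔛 g) := rfl

theorem convRep_character (j : R →+* ℂ) {n : ℕ} (𝔛 : Representation R G (Fin n → R)) :
    (convRep j 𝔛).character = fun g => j (LinearMap.trace R (Fin n → R) (𝔛 g)) := by
  funext g
  show LinearMap.trace ℂ _ (convRep j 𝔛 g) = _
  rw [convRep_apply, trace_convMap]

theorem convRep_isIrreducible [Finite G] (j : R →+* ℂ) {n : ℕ}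
    (𝔛 : Representation R G (Fin n → R))
    (hirr : Cfsg.IsIrrCharacter G (fun g => j (LinearMap.trace R (Fin n → R) (𝔛 g)))) :
    (convRep j 𝔛).IsIrreducible := by
  haveI : Fintype G := Fintype.ofFinite G
  apply Cfsg.Agent.Helper5.isIrreducible_of_isIrrCharacter
  rw [convRep_character]
  exact hirr

end Conv

section BR

variable {R : Type*} [CommRing R] [IsDomain R] [IsPrincipalIdealRing R]
variable {G : Type*} [Group G] [Finite G]

/-- PIECE CONV: a lattice whose (complexified) character is irreducible has commutant `R`. -/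
theorem commutant_of_irr_char (j : R →+* ℂ) (hj : Function.Injective j) {n : ℕ}
    (𝔛 : Representation R G (Fin n → R))
    (hirr : Cfsg.IsIrrCharacter G (fun g => j (LinearMap.trace R (Fin n → R) (𝔛 g))))
    (φ : Module.End R (Fin n → R)) (hφ : ∀ g, Commute φ (𝔛 g)) : ∃ c : R, φ = c • 1 := by
  haveI : Fintype G := Fintype.ofFinite G
  have hI := convRep_isIrreducible j 𝔛 hirr
  have hcomm : ∀ h : G, convMap j φ ∘ₗ convRep j 𝔛 h = convRep j 𝔛 h ∘ₗ convMap j φ := by
    intro h
    rw [convRep_apply, ← convMap_comp, ← convMap_comp]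
    congr 1
    exact (hφ h).eq
  obtain ⟨c, hc⟩ := Cfsg.Agent.Helper24.exists_scalar_of_comm (convRep j 𝔛) hI (convMap j φ) hcomm
  -- matrix form
  have hM : (LinearMap.toMatrix' φ).map j = c • (1 : Matrix (Fin n) (Fin n) ℂ) := by
    rw [← convMap_toMatrix', hc, map_smul]
    congr 1
    exact LinearMap.toMatrix'_one
  have hoff : ∀ a b : Fin n, a ≠ b → LinearMap.toMatrix' φ a b = 0 := by
    intro a b hab
    have := congrFun (congrFun hM a) b
    simp only [Matrix.map_apply, Matrix.smul_apply, Matrix.one_apply_ne hab, smul_zero] at this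
    exact hj (by rw [this, map_zero])
  have hdiag : ∀ a : Fin n, j (LinearMap.toMatrix' φ a a) = c := by
    intro a
    have := congrFun (congrFun hM a) a
    simpa only [Matrix.map_apply, Matrix.smul_apply, Matrix.one_apply_eq, smul_eq_mul,
      mul_one] using this
  rcases Nat.eq_zero_or_pos n with hn | hn
  · subst hn
    refine ⟨0, ?_⟩
    ext x i
    exact i.elim0
  · let i0 : Fin n := ⟨0, hn⟩
    refine ⟨LinearMap.toMatrix' φ i0 i0, ?_⟩
    apply (LinearMap.toMatrix' (R := R)).injective
    rw [map_smul]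
    ext a b
    by_cases hab : a = b
    · subst hab
      have : LinearMap.toMatrix' φ a a = LinearMap.toMatrix' φ i0 i0 :=
        hj (by rw [hdiag, hdiag])
      rw [this]
      have h1 : LinearMap.toMatrix' (1 : Module.End R (Fin n → R)) = 1 := LinearMap.toMatrix'_one
      rw [h1]
      simp
    · rw [hoff a b hab]
      have h1 : LinearMap.toMatrix' (1 : Module.End R (Fin n → R)) = 1 := LinearMap.toMatrix'_one
      rw [h1]
      simp [Matrix.one_apply_ne hab]

end BR

end Cfsg.Agent.Helper5.TLR
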