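import Mathlib
import Cfsg.Prelude.Def_Blocks
import Cfsg.Agent.Lib.Helper5.TLRDefs
import Cfsg.Agent.Lib.Helper1.TLBCONV

/-!
# S4442 lattice side, LAYER B, piece HOMZERO (helper1): no nonzero homomorphism between lattices
with different irreducible characters.
-/

set_option autoImplicit false

namespace Cfsg.Agent.Helper5.TLR

section Schur

variable {G : Type*} [Group G] [Finite G]

/-- Schur's lemma for two irreducible complex representations: an intertwiner is zero or the
characters agree. -/
theorem homzero_schur {V W : Type*} [AddCommGroup V] [Module ℂ V] [FiniteDimensional ℂ V]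
    [AddCommGroup W] [Module ℂ W] [FiniteDimensional ℂ W]
    (ρ : Representation ℂ G V) (ρ' : Representation ℂ G W)
    (hρ : ρ.IsIrreducible) (hρ' : ρ'.IsIrreducible)
    (T : V →ₗ[ℂ] W) (hT : ∀ g, T ∘ₗ ρ g = ρ' g ∘ₗ T) :
    T = 0 ∨ ρ.character = ρ'.character := by
  haveI : Fintype G := Fintype.ofFinite G
  rw [Cfsg.Agent.Helper24.isIrreducible_iff] at hρ hρ'
  obtain ⟨hV, hρ⟩ := hρ
  obtain ⟨hW, hρ'⟩ := hρ'
  have hker : ∀ g : G, ∀ v ∈ LinearMap.ker T, ρ g v ∈ LinearMap.ker T := by
    intro g v hv
    rw [LinearMap.mem_ker] at hv ⊢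
    have := LinearMap.congr_fun (hT g) v
    simp only [LinearMap.comp_apply] at this
    rw [this, hv, map_zero]
  have hrange : ∀ g : G, ∀ w ∈ LinearMap.range T, ρ' g w ∈ LinearMap.range T := by
    rintro g w ⟨v, rfl⟩
    refine ⟨ρ g v, ?_⟩
    have := LinearMap.congr_fun (hT g) v
    simpa only [LinearMap.comp_apply] using this
  rcases hρ _ hker with hk | hk
  · rcases hρ' _ hrange with hr | hr
    · left
      exact LinearMap.range_eq_bot.mp hr
    · right
      have hinj : Function.Injective T := LinearMap.ker_eq_bot.mp hk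
      have hsurj : Function.Surjective T := LinearMap.range_eq_top.mp hr
      let e : V ≃ₗ[ℂ] W := LinearEquiv.ofBijective T ⟨hinj, hsurj⟩
      funext g
      show LinearMap.trace ℂ V (ρ g) = LinearMap.trace ℂ W (ρ' g)
      have h1 : ρ' g = e.conj (ρ g) := by
        ext w
        obtain ⟨v, rfl⟩ := hsurj w
        rw [LinearEquiv.conj_apply_apply]
        have h2 : e.symm (T v) = v := e.symm_apply_apply v
        rw [h2]
        have := LinearMap.congr_fun (hT g) v
        simp only [LinearMap.comp_apply] at this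
        exact this.symm
      rw [h1, LinearMap.trace_conj']
  · left
    exact LinearMap.ker_eq_top.mp hk

end Schur

section BR

variable {R : Type*} [CommRing R] [IsDomain R] [IsPrincipalIdealRing R]
variable {G : Type*} [Group G] [Finite G]

/-- PIECE HOMZERO: no nonzero homomorphism between lattices with different irreducible characters. -/
theorem hom_eq_zero_of_char_ne (j : R →+* ℂ) (hj : Function.Injective j) {n n' : ℕ}
    (𝔛 : Representation R G (Fin n → R)) (𝔛' : Representation R G (Fin n' → R))
    (hirr : Cfsg.IsIrrCharacter G (fun g => j (LinearMap.trace R (Fin n → R) (𝔛 g))))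
    (hirr' : Cfsg.IsIrrCharacter G (fun g => j (LinearMap.trace R (Fin n' → R) (𝔛' g))))
    (hne : (fun g => j (LinearMap.trace R (Fin n → R) (𝔛 g))) ≠
      (fun g => j (LinearMap.trace R (Fin n' → R) (𝔛' g))))
    (φ : (Fin n → R) →ₗ[R] (Fin n' → R)) (hφ : ∀ g, φ ∘ₗ 𝔛 g = 𝔛' g ∘ₗ φ) : φ = 0 := by
  have hI := convRep_isIrreducible j 𝔛 hirr
  have hI' := convRep_isIrreducible j 𝔛' hirr'
  have hT : ∀ g, convMap j φ ∘ₗ convRep j 𝔛 g = convRep j 𝔛' g ∘ₗ convMap j φ := by
    intro g
    rw [convRep_apply, convRep_apply, ← convMap_comp, ← convMap_comp, hφ g]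
  rcases homzero_schur (convRep j 𝔛) (convRep j 𝔛') hI hI' (convMap j φ) hT with h | h
  · exact convMap_eq_zero j hj φ h
  · exfalso
    apply hne
    rw [← convRep_character, ← convRep_character]
    exact h

end BR

end Cfsg.Agent.Helper5.TLR
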