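import Mathlib
import Cfsg.Prelude.Def_Blocks
import Cfsg.Agent.Lib.Helper5.TLRDefs

/-!
# S4442 lattice side, LAYER B, piece REAL-A (helper1): for a `p'`-group, a lattice whose commutant
has no zero divisors has commutant `R`.  (`commutant_of_injective_core` takes LOC-R as a hypothesis.)
-/

set_option autoImplicit false

namespace Cfsg.Agent.Helper5.TLR

section Red

variable {R S : Type*} [CommRing R] [CommRing S]

/-- base change of endomorphisms of coordinate space along a ring hom, as a ring hom. -/
noncomputable def realaRed (f : R →+* S) (n : ℕ) :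
    Module.End R (Fin n → R) →+* Module.End S (Fin n → S) :=
  ((Matrix.toLinAlgEquiv' (R := S) (n := Fin n)).toAlgHom.toRingHom).comp
    ((f.mapMatrix).comp ((LinearMap.toMatrixAlgEquiv' (R := R) (n := Fin n)).toAlgHom.toRingHom))

theorem realaRed_apply (f : R →+* S) (n : ℕ) (φ : Module.End R (Fin n → R)) :
    realaRed f n φ = Matrix.toLin' ((LinearMap.toMatrix' φ).map f) := rfl

theorem realaRed_toMatrix' (f : R →+* S) (n : ℕ) (φ : Module.End R (Fin n → R)) :
    LinearMap.toMatrix' (realaRed f n φ) = (LinearMap.toMatrix' φ).map f := by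
  rw [realaRed_apply, LinearMap.toMatrix'_toLin']

theorem realaRed_smul (f : R →+* S) (n : ℕ) (c : R) (φ : Module.End R (Fin n → R)) :
    realaRed f n (c • φ) = f c • realaRed f n φ := by
  rw [realaRed_apply, realaRed_apply, map_smul, ← map_smul]
  congr 1
  ext a b
  simp [Matrix.map_apply, Matrix.smul_apply]

theorem realaRed_eq_zero_iff (f : R →+* S) (n : ℕ) (φ : Module.End R (Fin n → R)) :
    realaRed f n φ = 0 ↔ ∀ a b, f (LinearMap.toMatrix' φ a b) = 0 := by
  constructor
  · intro h a b
    have h1 := realaRed_toMatrix' f n φ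
    rw [h, map_zero] at h1
    have := congrFun (congrFun h1 a) b
    simpa [Matrix.map_apply] using this.symm
  · intro h
    apply (LinearMap.toMatrix' (R := S)).injective
    rw [realaRed_toMatrix', map_zero]
    ext a b
    simpa [Matrix.map_apply] using h a b

theorem realaRed_surjective (f : R →+* S) (hf : Function.Surjective f) (n : ℕ)
    (ψ : Module.End S (Fin n → S)) : ∃ φ : Module.End R (Fin n → R), realaRed f n φ = ψ := by
  choose g hg using hf
  refine ⟨Matrix.toLin' (Matrix.of fun a b => g (LinearMap.toMatrix' ψ a b)), ?_⟩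
  apply (LinearMap.toMatrix' (R := S)).injective
  rw [realaRed_toMatrix', LinearMap.toMatrix'_toLin']
  ext a b
  simp [Matrix.map_apply, hg]

end Red

section Real

variable (p : ℕ) [Fact p.Prime] {R : Type*} [CommRing R] [IsDomain R] [IsDiscreteValuationRing R]
  [CharZero R] [PUnif R p]
variable {H : Type*} [Group H] [Finite H]

/-- an endomorphism vanishing mod `p` is divisible by `p`. -/
theorem reala_dvd_of_red_zero {n : ℕ} (φ : Module.End R (Fin n → R))
    (h : realaRed (IsLocalRing.residue R) n φ = 0) :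
    ∃ φ1 : Module.End R (Fin n → R), φ = (p : R) • φ1 := by
  rw [realaRed_eq_zero_iff] at h
  have h1 : ∀ a b, (p : R) ∣ LinearMap.toMatrix' φ a b := fun a b =>
    (residue_eq_zero_iff p).1 (h a b)
  choose q hq using h1
  refine ⟨Matrix.toLin' (Matrix.of q), ?_⟩
  apply (LinearMap.toMatrix' (R := R)).injective
  rw [map_smul, LinearMap.toMatrix'_toLin']
  ext a b
  simp [Matrix.smul_apply, hq a b]

/-- the commutant is saturated. -/
theorem reala_saturated {n : ℕ} (ρ : Representation R H (Fin n → R))
    (φ1 : Module.End R (Fin n → R)) (h : ∀ g, Commute ((p : R) • φ1) (ρ g)) :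
    ∀ g, Commute φ1 (ρ g) := by
  intro g
  have h1 := (h g).eq
  rw [smul_mul_assoc, mul_smul_comm] at h1
  show φ1 * ρ g = ρ g * φ1
  refine LinearMap.ext fun v => funext fun i => ?_
  have h2 := congrFun (LinearMap.congr_fun h1 v) i
  simp only [LinearMap.smul_apply, Pi.smul_apply, smul_eq_mul] at h2
  exact mul_left_cancel₀ (p_ne_zero p) h2

/-- an element divisible by all powers of `p` is zero. -/
theorem reala_eq_zero_of_forall_dvd (x : R) (h : ∀ m : ℕ, (p : R) ^ m ∣ x) : x = 0 := by
  by_contra hx
  obtain ⟨c, k, hk⟩ := exists_unit_mul_pow p hx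
  obtain ⟨y, hy⟩ := h (k + 1)
  rw [hk, pow_succ, mul_assoc] at hy
  have hpk : (p : R) ^ k ≠ 0 := pow_ne_zero _ (p_ne_zero p)
  have h1 : (c : R) = (p : R) * y := by
    have : (p : R) ^ k * (c : R) = (p : R) ^ k * ((p : R) * y) := by
      rw [mul_comm]; exact hy
    exact mul_left_cancel₀ hpk this
  exact not_dvd_of_isUnit p c.isUnit ⟨y, h1⟩

/-- averaging over the group. -/
theorem reala_average (hH : ¬ p ∣ Nat.card H) {n : ℕ} (ρ : Representation R H (Fin n → R))
    (P0 : Module.End R (Fin n → R)) :
    ∃ (e : Module.End R (Fin n → R)) (u : R), (∀ g, Commute e (ρ g)) ∧ u * (Nat.card H : R) = 1 ∧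
      e = u • ∑ᶠ h : H, ρ h * P0 * ρ h⁻¹ := by
  classical
  haveI : Fintype H := Fintype.ofFinite H
  obtain ⟨uu, huu⟩ := isUnit_natCast p (R := R) hH
  refine ⟨((uu⁻¹ : Rˣ) : R) • ∑ᶠ h : H, ρ h * P0 * ρ h⁻¹, ((uu⁻¹ : Rˣ) : R), ?_, ?_, rfl⟩
  · intro g
    rw [finsum_eq_sum_of_fintype]
    apply Commute.smul_left
    show (∑ h : H, ρ h * P0 * ρ h⁻¹) * ρ g = ρ g * ∑ h : H, ρ h * P0 * ρ h⁻¹
    rw [Finset.sum_mul, Finset.mul_sum]
    apply Fintype.sum_equiv (Equiv.mulLeft g⁻¹)
    intro h
    simp only [Equiv.coe_mulLeft, mul_inv_rev, inv_inv, map_mul]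
    simp only [mul_assoc]
    rw [← mul_assoc (ρ g) (ρ g⁻¹), ← map_mul ρ g g⁻¹, mul_inv_cancel, map_one, one_mul]
  · rw [← huu]
    exact Units.inv_mul uu

/-- main step: every element of the commutant is a scalar mod `p`. -/
theorem reala_step (hH : ¬ p ∣ Nat.card H) [IsAlgClosed (kk R)] {n : ℕ} (hn : 0 < n)
    (ρ : Representation R H (Fin n → R))
    (hloc : ∀ lam : Module.End R (Fin n → R), (∀ g, Commute lam (ρ g)) →
      (∃ mu : Module.End R (Fin n → R), (∀ g, Commute mu (ρ g)) ∧ lam * mu = 1 ∧ mu * lam = 1) ∨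
      (∃ (k : ℕ) (nu : Module.End R (Fin n → R)), lam ^ k = (p : R) • nu))
    (lam : Module.End R (Fin n → R)) (hlam : ∀ g, Commute lam (ρ g)) :
    ∃ (c : R) (lam1 : Module.End R (Fin n → R)), (∀ g, Commute lam1 (ρ g)) ∧
      lam = c • 1 + (p : R) • lam1 := by
  classical
  haveI : Fintype H := Fintype.ofFinite H
  set red := realaRed (IsLocalRing.residue R) n with hred
  haveI : Nonempty (Fin n) := ⟨⟨0, hn⟩⟩
  haveI : Nontrivial (Fin n → kk R) := Function.nontrivial
  have hresp : IsLocalRing.residue R (p : R) = 0 := (residue_eq_zero_iff p).2 dvd_rfl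
  obtain ⟨cbar, hcbar⟩ := Module.End.exists_eigenvalue (red lam)
  obtain ⟨c, hc⟩ := IsLocalRing.residue_surjective cbar
  obtain ⟨vbar, hvbar⟩ := hcbar.exists_hasEigenvector
  have hv0 : vbar ≠ 0 := hvbar.2
  have hv1 : red lam vbar = cbar • vbar := hvbar.apply_eq_smul
  set mu := lam - c • 1 with hmu
  have hmuE : ∀ g, Commute mu (ρ g) := by
    intro g
    exact (hlam g).sub_left ((Commute.one_left _).smul_left c)
  have hredmu : red mu = red lam - cbar • 1 := by
    rw [hmu, map_sub, realaRed_smul, map_one, hc]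
  have hmuv : red mu vbar = 0 := by
    rw [hredmu]
    simp [hv1]
  -- generic facts on elements of the commutant killed / fixed
  have hunit_inj : ∀ e : Module.End R (Fin n → R),
      (∃ e' : Module.End R (Fin n → R), (∀ g, Commute e' (ρ g)) ∧ e * e' = 1 ∧ e' * e = 1) →
      Function.Injective (red e) := by
    rintro e ⟨e', -, -, h2⟩
    have h3 : red e' * red e = 1 := by rw [← map_mul, h2, map_one]
    intro x y hxy
    have hx : (red e' * red e) x = (red e' * red e) y := by
      simp only [Module.End.mul_apply, hxy]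
    simpa [h3] using hx
  have hnil : ∀ e : Module.End R (Fin n → R),
      (∃ (k : ℕ) (nu : Module.End R (Fin n → R)), e ^ k = (p : R) • nu) →
      ∃ k : ℕ, (red e) ^ k = 0 := by
    rintro e ⟨k, nu, h⟩
    refine ⟨k, ?_⟩
    rw [← map_pow, h, realaRed_smul, hresp, zero_smul]
  -- `mu` is nilpotent mod p
  have hmunil : ∃ k : ℕ, (red mu) ^ k = 0 := by
    rcases hloc mu hmuE with h | h
    · exfalso
      have := hunit_inj mu h
      apply hv0
      apply this
      rw [hmuv, map_zero]
    · exact hnil mu h
  -- `mu` vanishes mod p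
  have hmu0 : red mu = 0 := by
    by_contra hne
    set U : Submodule (kk R) (Fin n → kk R) := LinearMap.ker (red mu) with hU
    have hUinv : ∀ h : H, ∀ x ∈ U, red (ρ h) x ∈ U := by
      intro h x hx
      rw [hU, LinearMap.mem_ker] at hx ⊢
      have hcm : red mu * red (ρ h) = red (ρ h) * red mu := by
        rw [← map_mul, ← map_mul, (hmuE h).eq]
      have := LinearMap.congr_fun hcm x
      simp only [Module.End.mul_apply] at this
      rw [this, hx, map_zero]
    obtain ⟨g0, hg0⟩ := LinearMap.exists_leftInverse_of_injective U.subtype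
      (Submodule.ker_subtype U)
    set π0 : Module.End (kk R) (Fin n → kk R) := U.subtype ∘ₗ g0 with hπ0
    have hπ0U : ∀ x, π0 x ∈ U := fun x => (g0 x).2
    have hπ0fix : ∀ x ∈ U, π0 x = x := by
      intro x hx
      have := LinearMap.congr_fun hg0 ⟨x, hx⟩
      simp only [LinearMap.comp_apply, LinearMap.id_apply] at this
      show U.subtype (g0 x) = x
      have h2 : g0 x = ⟨x, hx⟩ := this
      rw [h2]
      rfl
    obtain ⟨P0, hP0⟩ := realaRed_surjective (IsLocalRing.residue R)
      IsLocalRing.residue_surjective n π0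
    obtain ⟨e, u, heE, hu, he⟩ := reala_average p hH ρ P0
    have hrede : red e = IsLocalRing.residue R u • ∑ h : H, red (ρ h) * π0 * red (ρ h⁻¹) := by
      rw [he, finsum_eq_sum_of_fintype, realaRed_smul, map_sum]
      congr 1
      apply Finset.sum_congr rfl
      intro h _
      rw [map_mul, map_mul, hP0]
    have hucard : IsLocalRing.residue R u * (Nat.card H : kk R) = 1 := by
      have := congrArg (IsLocalRing.residue R) hu
      simpa using this
    have heU : ∀ x, red e x ∈ U := by
      intro x
      rw [hrede]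
      simp only [LinearMap.smul_apply, LinearMap.sum_apply, Module.End.mul_apply]
      apply U.smul_mem
      apply U.sum_mem
      intro h _
      exact hUinv h _ (hπ0U _)
    have hefix : ∀ x ∈ U, red e x = x := by
      intro x hx
      rw [hrede]
      simp only [LinearMap.smul_apply, LinearMap.sum_apply, Module.End.mul_apply]
      have h1 : ∀ h : H, red (ρ h) (π0 (red (ρ h⁻¹) x)) = x := by
        intro h
        rw [hπ0fix _ (hUinv h⁻¹ x hx), ← Module.End.mul_apply, ← map_mul, ← map_mul,
          mul_inv_cancel, map_one, map_one]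
        rfl
      rw [Finset.sum_congr rfl (fun h _ => h1 h), Finset.sum_const, Finset.card_univ,
        ← Nat.card_eq_fintype_card, ← Nat.cast_smul_eq_nsmul (kk R), smul_smul, hucard, one_smul]
    have hvU : vbar ∈ U := by
      rw [hU, LinearMap.mem_ker]; exact hmuv
    rcases hloc e heE with h | h
    · have hinj := hunit_inj e h
      apply hne
      apply LinearMap.ext
      intro x
      have h1 : red e (red e x) = red e x := hefix _ (heU x)
      have h2 : red e x = x := hinj h1
      have h3 : x ∈ U := h2 ▸ heU x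
      rw [hU, LinearMap.mem_ker] at h3
      rw [h3, LinearMap.zero_apply]
    · obtain ⟨k, hk⟩ := hnil e h
      apply hv0
      have h1 : ∀ m : ℕ, ((red e) ^ m) vbar = vbar := by
        intro m
        induction m with
        | zero => simp
        | succ m ih => rw [pow_succ, Module.End.mul_apply, hefix _ hvU, ih]
      rw [← h1 k, hk, LinearMap.zero_apply]
  obtain ⟨mu1, hmu1⟩ := reala_dvd_of_red_zero p mu hmu0
  refine ⟨c, mu1, ?_, ?_⟩
  · apply reala_saturated p ρ mu1
    rw [← hmu1]
    exact hmuE
  · rw [← hmu1, hmu]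
    abel

/-- PIECE REAL-A with LOC-R as a hypothesis. -/
theorem commutant_of_injective_core (hH : ¬ p ∣ Nat.card H) [IsAlgClosed (kk R)] {n : ℕ}
    (ρ : Representation R H (Fin n → R))
    (hloc : ∀ lam : Module.End R (Fin n → R), (∀ g, Commute lam (ρ g)) →
      (∃ mu : Module.End R (Fin n → R), (∀ g, Commute mu (ρ g)) ∧ lam * mu = 1 ∧ mu * lam = 1) ∨
      (∃ (k : ℕ) (nu : Module.End R (Fin n → R)), lam ^ k = (p : R) • nu))
    (lam : Module.End R (Fin n → R)) (hlam : ∀ g, Commute lam (ρ g)) : ∃ c : R, lam = c • 1 := by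
  rcases Nat.eq_zero_or_pos n with hn | hn
  · subst hn
    refine ⟨0, ?_⟩
    ext x i
    exact i.elim0
  have key : ∀ m : ℕ, ∀ lam : Module.End R (Fin n → R), (∀ g, Commute lam (ρ g)) →
      (∀ a b, a ≠ b → (p : R) ^ m ∣ LinearMap.toMatrix' lam a b) ∧
      (∀ a b, (p : R) ^ m ∣ LinearMap.toMatrix' lam a a - LinearMap.toMatrix' lam b b) := by
    intro m
    induction m with
    | zero =>
      intro lam _
      simp
    | succ m ih =>
      intro lam hlam
      obtain ⟨c, lam1, hlam1, hdec⟩ := reala_step p hH hn ρ hloc lam hlam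
      obtain ⟨ih1, ih2⟩ := ih lam1 hlam1
      have hM : ∀ a b, LinearMap.toMatrix' lam a b =
          c * (1 : Matrix (Fin n) (Fin n) R) a b + (p : R) * LinearMap.toMatrix' lam1 a b := by
        intro a b
        rw [hdec, map_add, map_smul, map_smul]
        have h1 : LinearMap.toMatrix' (1 : Module.End R (Fin n → R)) = 1 :=
          LinearMap.toMatrix'_one
        rw [h1]
        simp [Matrix.add_apply, Matrix.smul_apply]
      constructor
      · intro a b hab
        rw [hM, Matrix.one_apply_ne hab, mul_zero, zero_add, pow_succ']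
        exact mul_dvd_mul_left _ (ih1 a b hab)
      · intro a b
        rw [hM, hM, Matrix.one_apply_eq, Matrix.one_apply_eq, pow_succ']
        have : c * 1 + (p : R) * LinearMap.toMatrix' lam1 a a -
            (c * 1 + (p : R) * LinearMap.toMatrix' lam1 b b) =
            (p : R) * (LinearMap.toMatrix' lam1 a a - LinearMap.toMatrix' lam1 b b) := by ring
        rw [this]
        exact mul_dvd_mul_left _ (ih2 a b)
  let i0 : Fin n := ⟨0, hn⟩
  refine ⟨LinearMap.toMatrix' lam i0 i0, ?_⟩
  apply (LinearMap.toMatrix' (R := R)).injective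
  rw [map_smul]
  have h1 : LinearMap.toMatrix' (1 : Module.End R (Fin n → R)) = 1 := LinearMap.toMatrix'_one
  rw [h1]
  ext a b
  by_cases hab : a = b
  · subst hab
    have : LinearMap.toMatrix' lam a a - LinearMap.toMatrix' lam i0 i0 = 0 :=
      reala_eq_zero_of_forall_dvd p _ (fun m => (key m lam hlam).2 a i0)
    rw [sub_eq_zero] at this
    simp [this]
  · have : LinearMap.toMatrix' lam a b = 0 :=
      reala_eq_zero_of_forall_dvd p _ (fun m => (key m lam hlam).1 a b hab)
    simp [this, Matrix.one_apply_ne hab]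

/-- the idempotent hypothesis of LOC-R follows from `hinj`. -/
theorem reala_hirr_of_hinj {n : ℕ} (ρ : Representation R H (Fin n → R))
    (hinj : ∀ lam : Module.End R (Fin n → R), (∀ g, Commute lam (ρ g)) →
      lam = 0 ∨ Function.Injective lam) :
    ∀ ε : Module.End R (Fin n → R), (∀ g, Commute ε (ρ g)) → ε * ε = ε → ε = 0 ∨ ε = 1 := by
  intro ε hε hidem
  rcases hinj ε hε with h | h
  · left; exact h
  · right
    refine LinearMap.ext fun x => ?_
    apply h
    rw [← Module.End.mul_apply, hidem]
    rfl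

end Real

end Cfsg.Agent.Helper5.TLR
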