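import Mathlib
import Cfsg.Prelude.Def_Blocks
import Cfsg.Agent.Lib.Helper5.TLRDefs
import Cfsg.Agent.Lib.Helper1.TLBREALACore
import Cfsg.Agent.Lib.Helper3.TLRLOC

/-!
# S4442 lattice side, LAYER B, piece REAL-A (helper1): wrapper of `commutant_of_injective_core`
with helper3's LOC-R (`unit_or_nilp`).
-/

set_option autoImplicit false

namespace Cfsg.Agent.Helper5.TLR

section Real

variable (p : ℕ) [Fact p.Prime] {R : Type*} [CommRing R] [IsDomain R] [IsDiscreteValuationRing R]
  [CharZero R] [PUnif R p] [IsAdicComplete (Ideal.span {(p : R)}) R] [IsAlgClosed (kk R)]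
variable {H : Type*} [Group H] [Finite H]

/-- PIECE REAL-A: for a `p'`-group, a lattice whose commutant has no zero divisors has commutant
`R`. -/
theorem commutant_of_injective (hH : ¬ p ∣ Nat.card H) {n : ℕ}
    (ρ : Representation R H (Fin n → R))
    (hinj : ∀ lam : Module.End R (Fin n → R), (∀ g, Commute lam (ρ g)) →
      lam = 0 ∨ Function.Injective lam)
    (lam : Module.End R (Fin n → R)) (hlam : ∀ g, Commute lam (ρ g)) : ∃ c : R, lam = c • 1 :=
  commutant_of_injective_core p hH ρ
    (fun lam' hlam' => unit_or_nilp p ρ (reala_hirr_of_hinj ρ hinj) lam' hlam') lam hlam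

end Real

end Cfsg.Agent.Helper5.TLR
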