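import Mathlib
import Cfsg.Prelude.Def_Blocks
import Cfsg.Agent.Lib.Helper5.TLRDefs
import Cfsg.Agent.Lib.Helper1.TLBREALA
import Cfsg.Agent.Lib.Helper24.TLBBRR
import Cfsg.Agent.Lib.Helper28.TLBREALB
import Cfsg.Agent.Lib.Helper24.CharOrtho
import Cfsg.Agent.Lib.Helper24.CharComplete

/-!
# S4442 lattice side, LAYER B, piece REAL (helper1): every irreducible character of a `p'`-group is
afforded by an `R`-lattice.
-/

set_option autoImplicit false

namespace Cfsg.Agent.Helper5.TLR

open scoped ComplexConjugate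

section Real

variable (p : ℕ) [Fact p.Prime] {R : Type*} [CommRing R] [IsDomain R] [IsDiscreteValuationRing R]
  [CharZero R] [PUnif R p] [IsAdicComplete (Ideal.span {(p : R)}) R] [IsAlgClosed (kk R)]
variable {H : Type*} [Group H] [Finite H]

omit [Finite H] in
theorem real_irr_inv [Finite H] (φ : Cfsg.IrrCharacter H) (h : H) :
    (φ : H → ℂ) h⁻¹ = conj ((φ : H → ℂ) h) := by
  obtain ⟨m, σ, -, hφ⟩ := φ.2
  rw [← hφ]
  exact Cfsg.Agent.Helper24.char_inv σ h

/-- PIECE REAL: every irreducible character of a `p'`-group is afforded by an `R`-lattice. -/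
theorem exists_real_lattice (j : R →+* ℂ) (hj : Function.Injective j) (hH : ¬ p ∣ Nat.card H)
    (ψ : Cfsg.IrrCharacter H) :
    ∃ (n : ℕ) (𝔛 : Representation R H (Fin n → R)),
      ∀ h, j (LinearMap.trace R (Fin n → R) (𝔛 h)) = (ψ : H → ℂ) h := by
  classical
  haveI : Fintype H := Fintype.ofFinite H
  letI : Fintype (Cfsg.IrrCharacter H) := Cfsg.Agent.Helper24.irrFintype
  obtain ⟨n, ρ, mult, hinj, hchar, hmult⟩ := exists_lattice j hj ψ
  refine ⟨n, ρ, ?_⟩
  have hEnd : ∀ lam : Module.End R (Fin n → R), (∀ g, Commute lam (ρ g)) → ∃ c : R, lam = c • 1 :=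
    fun lam hlam => commutant_of_injective p hH ρ hinj lam hlam
  set χ : H → ℂ := fun h => j (LinearMap.trace R (Fin n → R) (ρ h)) with hχ
  have hχ' : χ = ∑ φ : Cfsg.IrrCharacter H, (mult φ : ℂ) • (φ : H → ℂ) := by
    funext h
    show j (LinearMap.trace R (Fin n → R) (ρ h)) = _
    rw [hchar h, finsum_eq_sum_of_fintype, Finset.sum_apply]
    rfl
  have hinner : ∀ φ0 : Cfsg.IrrCharacter H, Cfsg.classInner χ (φ0 : H → ℂ) = (mult φ0 : ℂ) := by
    intro φ0
    rw [hχ', Cfsg.Agent.Helper24.classInner_sum_left]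
    simp only [Cfsg.Agent.Helper24.classInner_smul_left, Cfsg.Agent.Helper24.irr_orthogonality']
    rw [Finset.sum_eq_single φ0]
    · simp
    · intro b _ hb
      rw [if_neg hb, mul_zero]
    · intro hne
      exact absurd (Finset.mem_univ φ0) hne
  have hself : Cfsg.classInner χ χ = ∑ φ : Cfsg.IrrCharacter H, (mult φ : ℂ) * (mult φ : ℂ) := by
    conv_lhs => rw [hχ']
    rw [← hχ', hχ', Cfsg.Agent.Helper24.classInner_sum_right]
    rw [← hχ']
    apply Finset.sum_congr rfl
    intro φ _
    rw [Cfsg.Agent.Helper24.classInner_smul_right, hinner φ, Complex.conj_natCast]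
  -- n > 0
  have hn : 0 < n := by
    rcases Nat.eq_zero_or_pos n with h0 | h0
    · exfalso
      subst h0
      have hz : χ = 0 := by
        funext h
        show j (LinearMap.trace R (Fin 0 → R) (ρ h)) = 0
        have : ρ h = 0 := Subsingleton.elim _ _
        rw [this, map_zero, map_zero]
      have := hinner ψ
      rw [hz, Cfsg.Agent.Helper24.classInner_zero_left] at this
      have h1 : mult ψ = 0 := by exact_mod_cast this.symm
      omega
    · exact h0
  have hB := sum_trace_mul_trace_inv hn ρ hEnd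
  rw [finsum_eq_sum_of_fintype] at hB
  have hB' : ∑ h : H, χ h * χ h⁻¹ = (Nat.card H : ℂ) := by
    have := congrArg j hB
    rw [map_sum, map_natCast] at this
    rw [← this]
    apply Finset.sum_congr rfl
    intro h _
    rw [map_mul]
  have hχinv : ∀ h : H, χ h⁻¹ = conj (χ h) := by
    intro h
    rw [hχ']
    simp only [Finset.sum_apply, Pi.smul_apply, smul_eq_mul, map_sum, map_mul,
      Complex.conj_natCast]
    apply Finset.sum_congr rfl
    intro φ _
    rw [real_irr_inv φ h]
  have hone : Cfsg.classInner χ χ = 1 := by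
    unfold Cfsg.classInner
    have hcard : (Nat.card H : ℂ) ≠ 0 := by exact_mod_cast (Nat.card_pos (α := H)).ne'
    have : ∑ g : H, χ g * conj (χ g) = (Nat.card H : ℂ) := by
      rw [← hB']
      apply Finset.sum_congr rfl
      intro h _
      rw [hχinv h]
    rw [this, inv_mul_cancel₀ hcard]
  rw [hself] at hone
  have hsumN : ∑ φ : Cfsg.IrrCharacter H, mult φ * mult φ = 1 := by
    exact_mod_cast hone
  have hψ1 : mult ψ = 1 := by
    have hle : mult ψ * mult ψ ≤ ∑ φ : Cfsg.IrrCharacter H, mult φ * mult φ :=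
      Finset.single_le_sum (f := fun φ => mult φ * mult φ) (fun _ _ => Nat.zero_le _)
        (Finset.mem_univ ψ)
    rw [hsumN] at hle
    nlinarith
  have hother : ∀ φ : Cfsg.IrrCharacter H, φ ≠ ψ → mult φ = 0 := by
    intro φ hφ
    have h1 := Finset.add_sum_erase Finset.univ (fun φ => mult φ * mult φ) (Finset.mem_univ ψ)
    rw [hsumN] at h1
    simp only [hψ1, mul_one] at h1
    have h2 : ∑ x ∈ Finset.univ.erase ψ, mult x * mult x = 0 := by omega
    rw [Finset.sum_eq_zero_iff] at h2
    have h3 := h2 φ (Finset.mem_erase.mpr ⟨hφ, Finset.mem_univ φ⟩)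
    exact (mul_self_eq_zero.mp h3)
  intro h
  show χ h = _
  rw [hχ']
  simp only [Finset.sum_apply, Pi.smul_apply, smul_eq_mul]
  rw [Finset.sum_eq_single ψ]
  · rw [hψ1]; simp
  · intro b _ hb
    rw [hother b hb]; simp
  · intro hne
    exact absurd (Finset.mem_univ ψ) hne

end Real

end Cfsg.Agent.Helper5.TLR
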