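import Mathlib
import Cfsg.Prelude.Def_Blocks
import Cfsg.Agent.Lib.Helper24.CharLinear
import Cfsg.Agent.Lib.Helper24.CharCentral

/-!
# S4503 piece SCAL (helper1): `|χ(d)| = χ(1)` ⟹ `d` is central modulo the kernel

`∑_y χ(d · y d⁻¹ y⁻¹) = |G| |χ d|² / χ 1 = |G| χ 1`, and every term has real part at most `χ 1`: so every
term equals `χ 1`.
-/

set_option autoImplicit false
set_option linter.unusedSectionVars false
set_option linter.unusedVariables false

namespace Cfsg.Agent.Helper14.BRB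

open scoped ComplexConjugate
open Cfsg Cfsg.Agent.Helper24

universe u

variable {G : Type u} [Group G] [Fintype G] (p : ℕ) [Fact p.Prime]

/-- a complex number with real part `n` and norm at most `n` is `n` -/
theorem scal_eq_of_re_of_norm_le {z : ℂ} {n : ℝ} (hre : z.re = n) (hnorm : ‖z‖ ≤ n) : z = (n : ℂ) := by
  have h0 : 0 ≤ n := le_trans (norm_nonneg z) hnorm
  have h1 : ‖z‖ ^ 2 = z.re * z.re + z.im * z.im := by
    rw [Complex.sq_norm, Complex.normSq_apply]
  have h2 : ‖z‖ ^ 2 ≤ n ^ 2 := pow_le_pow_left₀ (norm_nonneg z) hnorm 2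
  have h3 : z.im * z.im ≤ 0 := by
    rw [h1, hre] at h2
    nlinarith
  have h4 : z.im = 0 := by
    have := mul_self_nonneg z.im
    have h5 : z.im * z.im = 0 := le_antisymm h3 this
    exact mul_self_eq_zero.1 h5
  apply Complex.ext
  · rw [hre, Complex.ofReal_re]
  · rw [h4, Complex.ofReal_im]

/-- PIECE SCAL. -/
theorem comm_mem_ker_of_norm_eq {χ : G → ℂ} (hχ : IsIrrCharacter G χ) (d : G)
    (hd : ‖χ d‖ = (χ 1).re) (c : G) : χ (d * c * d⁻¹ * c⁻¹) = χ 1 := by
  have hchar := isCharacter_of_isIrrCharacter hχ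
  have hn : χ 1 = (charDegree χ : ℂ) := irr_one_eq_charDegree hχ
  have hpos : 0 < charDegree χ := charDegree_pos hχ
  set n : ℕ := charDegree χ with hndef
  have hre : (χ 1).re = (n : ℝ) := by rw [hn]; simp
  rw [hre] at hd
  have hn0 : (n : ℂ) ≠ 0 := by exact_mod_cast hpos.ne'
  -- the sum formula
  have hsum := sum_char_mul_conj hχ d d⁻¹
  have hmul : χ d * χ d⁻¹ = ((n : ℂ)) ^ 2 := by
    rw [irr_inv hchar d, Complex.mul_conj, Complex.normSq_eq_norm_sq, hd]
    push_cast
    ring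
  have hsum' : ∑ y : G, χ (d * (y * d⁻¹ * y⁻¹)) = (Nat.card G : ℂ) * (n : ℂ) := by
    rw [hsum, mul_assoc, hmul, hn]
    field_simp
  -- real parts
  have hle : ∀ y ∈ (Finset.univ : Finset G), (χ (d * (y * d⁻¹ * y⁻¹))).re ≤ (n : ℝ) := by
    intro y _
    exact le_trans (Complex.re_le_norm _) (norm_le_charDegree hchar _)
  have hsumre : ∑ y : G, (χ (d * (y * d⁻¹ * y⁻¹))).re = ∑ _y : G, (n : ℝ) := by
    have := congrArg Complex.re hsum'
    rw [Complex.re_sum] at this
    rw [this, Finset.sum_const, Finset.card_univ, nsmul_eq_mul, Nat.card_eq_fintype_card]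
    simp
  have hall := (Finset.sum_eq_sum_iff_of_le hle).1 hsumre c (Finset.mem_univ c)
  have hval : χ (d * (c * d⁻¹ * c⁻¹)) = ((n : ℝ) : ℂ) :=
    scal_eq_of_re_of_norm_le hall (norm_le_charDegree hchar _)
  have hassoc : d * c * d⁻¹ * c⁻¹ = d * (c * d⁻¹ * c⁻¹) := by group
  rw [hassoc, hval, hn]
  simp

end Cfsg.Agent.Helper14.BRB
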