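import Mathlib
import Cfsg.Prelude.Def_Transfer
import Cfsg.Agent.Lib.Helper15.CoprimeGen

/-!
# Fixed-point-free actions (helper1's shared library)

Internal form: `K` a normal subgroup of a finite group `G`, and elements `h` with
`K ⊓ centralizer {h} = ⊥`.
-/

set_option autoImplicit false

namespace Cfsg.Agent.Helper1

variable {G : Type*} [Group G] [Finite G]

/-- An element of prime order `p` normalizing `K` and acting fixed-point-freely on it
forces `|K| ≡ 1 mod p`. -/
theorem card_modEq_one_of_fpf' {K : Subgroup G} {p : ℕ} [hp : Fact p.Prime] {z : G}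
    (hzN : z ∈ Subgroup.normalizer (K : Set G))
    (hz : orderOf z = p) (hfpf : K ⊓ Subgroup.centralizer {z} = ⊥) :
    Nat.card K ≡ 1 [MOD p] := by
  have hle : Subgroup.zpowers z ≤ Subgroup.normalizer (K : Set G) := (Subgroup.zpowers_le).mpr hzN
  letI : MulAction (Subgroup.zpowers z) K := MulAction.compHom K (Subgroup.inclusion hle)
  have hZ : IsPGroup p (Subgroup.zpowers z) :=
    IsPGroup.of_card (n := 1) (by rw [pow_one, Nat.card_zpowers, hz])
  have hmod := hZ.card_modEq_card_fixedPoints K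
  have hsmul : ∀ (ζ : Subgroup.zpowers z) (k : K), ((ζ • k : K) : G) = ζ * k * (ζ : G)⁻¹ := by
    intro ζ k
    rfl
  have hfix : Nat.card (MulAction.fixedPoints (Subgroup.zpowers z) K) = 1 := by
    rw [Nat.card_eq_one_iff_unique]
    have h1 : ∀ a : MulAction.fixedPoints (Subgroup.zpowers z) K, (a : K) = 1 := by
      intro a
      have h2 := a.2 ⟨z, Subgroup.mem_zpowers z⟩
      have h3 := congrArg Subtype.val h2
      rw [hsmul] at h3
      have h4 : ((a : K) : G) ∈ K ⊓ Subgroup.centralizer {z} := by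
        refine Subgroup.mem_inf.mpr ⟨(a : K).2, ?_⟩
        rw [Subgroup.mem_centralizer_iff]
        intro y hy
        rw [Set.mem_singleton_iff] at hy
        subst hy
        have h5 : y * ((a : K) : G) * y⁻¹ = ((a : K) : G) := h3
        calc y * ((a : K) : G) = (y * ((a : K) : G) * y⁻¹) * y := by group
          _ = ((a : K) : G) * y := by rw [h5]
      rw [hfpf, Subgroup.mem_bot] at h4
      exact Subtype.ext h4
    refine ⟨⟨fun a b => Subtype.ext ((h1 a).trans (h1 b).symm)⟩, ⟨⟨1, ?_⟩⟩⟩
    intro ζ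
    apply Subtype.ext
    rw [hsmul]
    simp
  rw [hfix] at hmod
  exact hmod

theorem card_modEq_one_of_fpf {K : Subgroup G} [K.Normal] {p : ℕ} [hp : Fact p.Prime] {z : G}
    (hz : orderOf z = p) (hfpf : K ⊓ Subgroup.centralizer {z} = ⊥) :
    Nat.card K ≡ 1 [MOD p] :=
  card_modEq_one_of_fpf' (by rw [Subgroup.normalizer_eq_top]; exact Subgroup.mem_top z) hz hfpf

theorem coprime_card_of_fpf' {K : Subgroup G} {p : ℕ} [hp : Fact p.Prime] {z : G}
    (hzN : z ∈ Subgroup.normalizer (K : Set G))
    (hz : orderOf z = p) (hfpf : K ⊓ Subgroup.centralizer {z} = ⊥) :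
    (Nat.card K).Coprime p := by
  have hmod := card_modEq_one_of_fpf' hzN hz hfpf
  apply Nat.Coprime.symm
  rw [Nat.Prime.coprime_iff_not_dvd hp.out]
  intro hd
  have h1 : Nat.card K % p = 0 := Nat.mod_eq_zero_of_dvd hd
  have h2 : Nat.card K % p = 1 % p := hmod
  rw [h1, Nat.mod_eq_of_lt hp.out.one_lt] at h2
  exact absurd h2 (by norm_num)

theorem coprime_card_of_fpf {K : Subgroup G} [K.Normal] {p : ℕ} [hp : Fact p.Prime] {z : G}
    (hz : orderOf z = p) (hfpf : K ⊓ Subgroup.centralizer {z} = ⊥) :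
    (Nat.card K).Coprime p :=
  coprime_card_of_fpf' (by rw [Subgroup.normalizer_eq_top]; exact Subgroup.mem_top z) hz hfpf

/-- In a group acting fixed-point-freely, two commuting elements of prime order `p` generate the
same subgroup. -/
theorem mem_zpowers_of_fpf_of_commute {K H : Subgroup G}
    (hHK : H ≤ Subgroup.normalizer (K : Set G)) (hK : K ≠ ⊥)
    (hfpf : ∀ h ∈ H, h ≠ 1 → K ⊓ Subgroup.centralizer {h} = ⊥) {p : ℕ} [hp : Fact p.Prime]
    {z w : G} (hzH : z ∈ H) (hwH : w ∈ H)
    (hz : orderOf z = p) (hw : orderOf w = p) (hzw : z * w = w * z) :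
    w ∈ Subgroup.zpowers z := by
  by_contra hwz
  have hz1 : z ≠ 1 := by
    intro h; rw [h, orderOf_one] at hz; exact hp.out.one_lt.ne hz
  set U : Subgroup G := Subgroup.closure {z, w} with hU
  have hzU : z ∈ U := Subgroup.subset_closure (by simp)
  have hwU : w ∈ U := Subgroup.subset_closure (by simp)
  have hUQ : U ≤ H := by
    rw [hU, Subgroup.closure_le]
    intro x hx
    rcases hx with rfl | hx
    · exact hzH
    · rw [Set.mem_singleton_iff] at hx; subst hx; exact hwH
  have hUcomm : IsMulCommutative U := by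
    apply Subgroup.isMulCommutative_closure
    intro x hx y hy
    rcases hx with rfl | hx <;> rcases hy with rfl | hy
    · rfl
    · rw [Set.mem_singleton_iff] at hy; subst hy; exact hzw
    · rw [Set.mem_singleton_iff] at hx; subst hx; exact hzw.symm
    · rw [Set.mem_singleton_iff] at hx hy; subst hx; subst hy; rfl
  have hUc : ∀ a ∈ U, ∀ b ∈ U, a * b = b * a := by
    intro a ha b hb
    have := hUcomm.is_comm.comm (⟨a, ha⟩ : U) ⟨b, hb⟩
    exact congrArg Subtype.val this
  have hUexp : ∀ a ∈ U, a ^ p = 1 := by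
    intro a ha
    induction ha using Subgroup.closure_induction with
    | mem x hx =>
      rcases hx with rfl | hx
      · rw [← hz]; exact pow_orderOf_eq_one _
      · rw [Set.mem_singleton_iff] at hx; subst hx; rw [← hw]; exact pow_orderOf_eq_one _
    | one => exact one_pow _
    | mul x y hx hy ihx ihy =>
      have hc : Commute x y := hUc x hx y hy
      rw [hc.mul_pow, ihx, ihy, one_mul]
    | inv x hx ihx => rw [inv_pow, ihx, inv_one]
  have hUp : IsPGroup p U := by
    intro u
    refine ⟨1, ?_⟩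
    rw [pow_one]
    exact Subtype.ext (hUexp u u.2)
  have hcard : p ^ 2 ≤ Nat.card U := by
    obtain ⟨k, hk⟩ := hUp.exists_card_eq
    have hlt : Subgroup.zpowers z < U := by
      refine lt_of_le_of_ne ((Subgroup.zpowers_le).mpr hzU) ?_
      intro h
      apply hwz
      rw [h]; exact hwU
    have h1 : Nat.card (Subgroup.zpowers z) < Nat.card U := by
      have hle := Subgroup.card_le_of_le hlt.le
      rcases Nat.lt_or_ge (Nat.card (Subgroup.zpowers z)) (Nat.card U) with h | h
      · exact h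
      · exact absurd (Subgroup.eq_of_le_of_card_ge hlt.le h) hlt.ne
    rw [Nat.card_zpowers, hz, hk] at h1
    rw [hk]
    have hk2 : 2 ≤ k := by
      by_contra hlt2
      have : k ≤ 1 := by omega
      have h2 : p ^ k ≤ p ^ 1 := Nat.pow_le_pow_right hp.out.pos this
      rw [pow_one] at h2
      omega
    exact Nat.pow_le_pow_right hp.out.pos hk2
  have hcop : (Nat.card K).Coprime p :=
    coprime_card_of_fpf' (hHK hzH) hz (hfpf z hzH hz1)
  apply hK
  apply Cfsg.Agent.Helper15.eq_bot_of_forall_coatom_centralizer_eq_bot (p := p) (U := U)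
    ⟨hUcomm, hUexp⟩ hcard hcop
  · exact hUQ.trans hHK
  · intro U₀ hU₀U hco
    have hU₀ne : U₀ ≠ ⊥ := by
      intro hb
      rw [hb] at hco
      have hbot : (⊥ : Subgroup G).subgroupOf U = ⊥ := by
        rw [Subgroup.subgroupOf_eq_bot]; simp
      rw [hbot] at hco
      have hlt : (⊥ : Subgroup U) < (Subgroup.zpowers z).subgroupOf U := by
        rw [bot_lt_iff_ne_bot]
        intro h
        have : (⟨z, hzU⟩ : U) ∈ (Subgroup.zpowers z).subgroupOf U := by
          rw [Subgroup.mem_subgroupOf]; exact Subgroup.mem_zpowers z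
        rw [h, Subgroup.mem_bot] at this
        exact hz1 (congrArg Subtype.val this)
      have htop := hco.2 _ hlt
      apply hwz
      have : (⟨w, hwU⟩ : U) ∈ (Subgroup.zpowers z).subgroupOf U := by
        rw [htop]; exact Subgroup.mem_top _
      rwa [Subgroup.mem_subgroupOf] at this
    obtain ⟨u, hu1⟩ := (Subgroup.ne_bot_iff_exists_ne_one).mp hU₀ne
    have huH : (u : G) ∈ H := hUQ (hU₀U u.2)
    have hu1' : (u : G) ≠ 1 := fun h => hu1 (Subtype.ext h)
    rw [eq_bot_iff, ← hfpf u huH hu1']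
    refine inf_le_inf_left _ (Subgroup.centralizer_le ?_)
    intro x hx
    rw [Set.mem_singleton_iff] at hx
    rw [hx]; exact u.2

/-- In a group acting fixed-point-freely, a `p`-subgroup `Q` has a unique subgroup of order `p`:
every element of order `p` of `Q` lies in the group generated by a central one. -/
theorem mem_zpowers_of_fpf' {K H : Subgroup G} (hHK : H ≤ Subgroup.normalizer (K : Set G))
    (hK : K ≠ ⊥)
    (hfpf : ∀ h ∈ H, h ≠ 1 → K ⊓ Subgroup.centralizer {h} = ⊥) {p : ℕ} [hp : Fact p.Prime]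
    (Q : Subgroup G) (hQH : Q ≤ H) {z w : G} (hzQ : z ∈ Q)
    (hz : orderOf z = p) (hzc : ∀ q ∈ Q, z * q = q * z) (hwQ : w ∈ Q) (hw : orderOf w = p) :
    w ∈ Subgroup.zpowers z :=
  mem_zpowers_of_fpf_of_commute hHK hK hfpf (hQH hzQ) (hQH hwQ) hz hw (hzc w hwQ)

theorem mem_zpowers_of_fpf {K H : Subgroup G} [K.Normal] (hK : K ≠ ⊥)
    (hfpf : ∀ h ∈ H, h ≠ 1 → K ⊓ Subgroup.centralizer {h} = ⊥) {p : ℕ} [hp : Fact p.Prime]
    (Q : Subgroup G) (hQH : Q ≤ H) (hQ : IsPGroup p Q) {z w : G} (hzQ : z ∈ Q)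
    (hz : orderOf z = p) (hzc : ∀ q ∈ Q, z * q = q * z) (hwQ : w ∈ Q) (hw : orderOf w = p) :
    w ∈ Subgroup.zpowers z :=
  mem_zpowers_of_fpf' (by rw [Subgroup.normalizer_eq_top]; exact le_top) hK hfpf Q hQH hzQ hz hzc
    hwQ hw

end Cfsg.Agent.Helper1
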