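import Mathlib
import Cfsg.Agent.Lib.Helper1.CommutatorBasic

/-!
# Coprime action on an abelian subgroup, internal form (helper1's shared library)
-/

set_option autoImplicit false

namespace Cfsg.Agent.Helper1

open Subgroup
open scoped commutatorElement IsMulCommutative

variable {G : Type*} [Group G] [Finite G]

/-- The norm map `v ↦ ∏_{a ∈ A} a v a⁻¹` on an abelian subgroup `V` normalised by `A`. -/
noncomputable def normMap (A V : Subgroup G) [IsMulCommutative V]
    (hAV : A ≤ normalizer (V : Set G)) (v : V) : V :=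
  letI := Fintype.ofFinite A
  ∏ a : A, (⟨(a : G), hAV a.2⟩ : normalizer (V : Set G)) • v

variable (A V : Subgroup G) [IsMulCommutative V] (hAV : A ≤ normalizer (V : Set G))

theorem normMap_mul (v w : V) : normMap A V hAV (v * w) = normMap A V hAV v * normMap A V hAV w := by
  unfold normMap
  simp only [smul_mul']
  exact Finset.prod_mul_distrib

theorem normMap_one : normMap A V hAV 1 = 1 := by
  unfold normMap
  simp

theorem normMap_inv (v : V) : normMap A V hAV v⁻¹ = (normMap A V hAV v)⁻¹ := by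
  rw [eq_inv_iff_mul_eq_one, ← normMap_mul, inv_mul_cancel, normMap_one]

theorem normMap_smul (b : G) (hb : b ∈ A) (v : V) :
    normMap A V hAV ((⟨b, hAV hb⟩ : normalizer (V : Set G)) • v) = normMap A V hAV v := by
  unfold normMap
  letI := Fintype.ofFinite A
  refine Fintype.prod_equiv (Equiv.mulRight (⟨b, hb⟩ : A)) _ _ ?_
  intro a
  rw [← mul_smul]
  rfl

theorem normMap_of_fixed (v : V) (hv : (v : G) ∈ centralizer (A : Set G)) :
    normMap A V hAV v = v ^ Nat.card A := by
  unfold normMap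
  letI := Fintype.ofFinite A
  have : ∀ a : A, (⟨(a : G), hAV a.2⟩ : normalizer (V : Set G)) • v = v := by
    intro a
    apply Subtype.ext
    change (a : G) * v * (a : G)⁻¹ = v
    rw [(Subgroup.mem_centralizer_iff.mp hv) a a.2]
    group
  simp only [this, Finset.prod_const, Finset.card_univ, Nat.card_eq_fintype_card]

theorem normMap_of_mem_commutator (w : G) (hw : w ∈ ⁅V, A⁆) :
    ∀ hwV : w ∈ V, normMap A V hAV ⟨w, hwV⟩ = 1 := by
  have hle : ⁅V, A⁆ ≤ V := commutator_le_of_le_normalizer hAV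
  rw [Subgroup.commutator_def] at hw
  induction hw using Subgroup.closure_induction with
  | mem y hy =>
    intro hyV
    obtain ⟨v, hv, a, ha, rfl⟩ := hy
    have h1 : (⟨⁅v, a⁆, hyV⟩ : V) =
        ⟨v, hv⟩ * ((⟨a, hAV ha⟩ : normalizer (V : Set G)) • (⟨v, hv⟩ : V))⁻¹ := by
      apply Subtype.ext
      change ⁅v, a⁆ = v * (a * v * a⁻¹)⁻¹
      rw [commutatorElement_def]; group
    rw [h1, normMap_mul, normMap_inv, normMap_smul A V hAV a ha, mul_inv_cancel]
  | one => intro _; exact normMap_one A V hAV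
  | mul y z hy hz ihy ihz =>
    intro hyz
    have hyV : y ∈ V := hle (by rw [Subgroup.commutator_def]; exact hy)
    have hzV : z ∈ V := hle (by rw [Subgroup.commutator_def]; exact hz)
    have : (⟨y * z, hyz⟩ : V) = ⟨y, hyV⟩ * ⟨z, hzV⟩ := rfl
    rw [this, normMap_mul, ihy hyV, ihz hzV, mul_one]
  | inv y hy ihy =>
    intro hyi
    have hyV : y ∈ V := hle (by rw [Subgroup.commutator_def]; exact hy)
    have : (⟨y⁻¹, hyi⟩ : V) = (⟨y, hyV⟩ : V)⁻¹ := rfl
    rw [this, normMap_inv, ihy hyV, inv_one]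

include hAV in
/-- For a coprime action on an abelian group, `[V, A] ∩ C_V(A) = 1`. -/
theorem commutator_inf_centralizer_eq_bot (hcop : (Nat.card A).Coprime (Nat.card V)) :
    ⁅V, A⁆ ⊓ centralizer (A : Set G) = ⊥ := by
  have hle : ⁅V, A⁆ ≤ V := commutator_le_of_le_normalizer hAV
  rw [eq_bot_iff]
  intro w hw
  obtain ⟨hw1, hw2⟩ := Subgroup.mem_inf.mp hw
  have hwV : w ∈ V := hle hw1
  have h1 := normMap_of_mem_commutator A V hAV w hw1 hwV
  rw [normMap_of_fixed A V hAV ⟨w, hwV⟩ hw2] at h1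
  have h2 : (⟨w, hwV⟩ : V) ^ Nat.card V = 1 := pow_card_eq_one'
  have h3 : orderOf (⟨w, hwV⟩ : V) ∣ 1 := by
    rw [← Nat.Coprime.gcd_eq_one hcop]
    exact Nat.dvd_gcd (orderOf_dvd_of_pow_eq_one h1) (orderOf_dvd_of_pow_eq_one h2)
  have h4 : (⟨w, hwV⟩ : V) = 1 := orderOf_eq_one_iff.mp (Nat.dvd_one.mp h3)
  rw [Subgroup.mem_bot]
  exact congrArg Subtype.val h4

end Cfsg.Agent.Helper1
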