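import Mathlib

/-!
# S2372 piece FIELD8 (helper1): extensions of degree 8 of finite fields

`field8_exists`, `field8_frob`, `field8_fixed`, `field8_roots` with the exact signatures of
`plans/F4T_Skel.lean.txt` (the analogue of helper4's G2TFIELD).
-/

set_option autoImplicit false

namespace Cfsg.Agent.Helper13.F4T

/-- an extension of degree `8` -/
theorem field8_exists (F : Type*) [Field F] [Fintype F] :
    ∃ (K : Type) (_ : Field K) (_ : Fintype K) (_ : F →+* K), Fintype.card K = Fintype.card F ^ 8 := by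
  obtain ⟨p, hp⟩ := CharP.exists F
  haveI : Fact p.Prime := ⟨CharP.char_is_prime F p⟩
  refine ⟨FiniteField.Extension F p 8, inferInstance, Fintype.ofFinite _,
    algebraMap F (FiniteField.Extension F p 8), ?_⟩
  rw [Fintype.card_eq_nat_card, FiniteField.natCard_extension, Fintype.card_eq_nat_card]

/-- `t ↦ t^q` is a field automorphism of `K` (`q` is a power of the characteristic: `iterateFrobenius`) -/
theorem field8_frob {F : Type*} [Field F] [Fintype F] {K : Type*} [Field K] [Fintype K] (ι : F →+* K)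
    (q : ℕ) (hF : Fintype.card F = q) : ∃ f : K ≃+* K, ∀ t, f t = t ^ q := by
  classical
  obtain ⟨p, hp⟩ := CharP.exists F
  haveI : Fact p.Prime := ⟨CharP.char_is_prime F p⟩
  haveI : CharP K p := (RingHom.charP_iff ι ι.injective p).mp hp
  obtain ⟨n, -, hn⟩ := FiniteField.card F p
  have hq : q = p ^ (n : ℕ) := by rw [← hF, hn]
  have hbij : Function.Bijective (iterateFrobenius K p n) := by
    have hinj : Function.Injective (iterateFrobenius K p n) := RingHom.injective _
    exact ⟨hinj, Finite.surjective_of_injective hinj⟩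
  refine ⟨RingEquiv.ofBijective (iterateFrobenius K p n) hbij, fun t => ?_⟩
  rw [RingEquiv.ofBijective_apply, iterateFrobenius_def, hq]

/-- the fixed field of `t ↦ t^q` is the image of `F` -/
theorem field8_fixed {F : Type*} [Field F] [Fintype F] {K : Type*} [Field K] [Fintype K] (ι : F →+* K)
    (q : ℕ) (hF : Fintype.card F = q) (t : K) : t ^ q = t ↔ t ∈ Set.range ι := by
  classical
  have hq2 : 2 ≤ q := hF ▸ Fintype.one_lt_card
  constructor
  · intro ht
    -- the polynomial `X^q - X` has at most `q` roots; the image of `ι` gives `q` of them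
    have hne : (Polynomial.X ^ q - Polynomial.X : Polynomial K) ≠ 0 :=
      FiniteField.X_pow_card_sub_X_ne_zero K hq2
    have hdeg : (Polynomial.X ^ q - Polynomial.X : Polynomial K).natDegree = q :=
      FiniteField.X_pow_card_sub_X_natDegree_eq K hq2
    set R : Finset K := (Polynomial.X ^ q - Polynomial.X : Polynomial K).roots.toFinset with hR
    have hRcard : R.card ≤ q := by
      calc R.card ≤ Multiset.card (Polynomial.X ^ q - Polynomial.X : Polynomial K).roots :=
            Multiset.toFinset_card_le _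
        _ ≤ (Polynomial.X ^ q - Polynomial.X : Polynomial K).natDegree := Polynomial.card_roots' _
        _ = q := hdeg
    have hmemR : ∀ x : K, x ∈ R ↔ x ^ q = x := by
      intro x
      rw [hR, Multiset.mem_toFinset, Polynomial.mem_roots hne]
      simp [Polynomial.IsRoot, sub_eq_zero]
    set I : Finset K := Finset.univ.image ι with hI
    have hIcard : I.card = q := by
      rw [hI, Finset.card_image_of_injective _ ι.injective, Finset.card_univ, hF]
    have hIR : I ⊆ R := by
      intro x hx
      rw [hI, Finset.mem_image] at hx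
      obtain ⟨a, -, rfl⟩ := hx
      rw [hmemR, ← map_pow, ← hF, FiniteField.pow_card]
    have hEq : I = R := Finset.eq_of_subset_of_card_le hIR (by rw [hIcard]; exact hRcard)
    have : t ∈ I := by rw [hEq, hmemR]; exact ht
    rw [hI, Finset.mem_image] at this
    obtain ⟨a, -, rfl⟩ := this
    exact ⟨a, rfl⟩
  · rintro ⟨a, rfl⟩
    rw [← map_pow, ← hF, FiniteField.pow_card]

/-- the number of `m`-th roots of unity, `m = q⁴+1` -/
theorem field8_roots {K : Type*} [Field K] [Fintype K] (q : ℕ) (hq : 2 ≤ q) (hK : Fintype.card K = q ^ 8) :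
    Nat.card {ξ : Kˣ // ξ ^ (q ^ 4 + 1) = 1} = q ^ 4 + 1 := by
  classical
  have hcard : Nat.card Kˣ = q ^ 8 - 1 := by
    rw [Nat.card_eq_fintype_card, Fintype.card_units, hK]
  have hker := IsCyclic.card_powMonoidHom_ker Kˣ (q ^ 4 + 1)
  have hset : {ξ : Kˣ // ξ ^ (q ^ 4 + 1) = 1} = ↥(powMonoidHom (q ^ 4 + 1) : Kˣ →* Kˣ).ker := by
    rfl
  rw [hset, hker, hcard]
  have hdvd : q ^ 4 + 1 ∣ q ^ 8 - 1 := by
    refine ⟨q ^ 4 - 1, ?_⟩
    have h1 : 1 ≤ q ^ 4 := Nat.one_le_pow _ _ (by omega)
    obtain ⟨k, hk⟩ : ∃ k, q ^ 4 = k + 1 := ⟨q ^ 4 - 1, by omega⟩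
    have h8 : q ^ 8 = (q ^ 4) ^ 2 := by ring
    rw [h8, hk]
    have : (k + 1) ^ 2 = (k + 1 + 1) * k + 1 := by ring
    rw [this]
    simp
  exact Nat.gcd_eq_right hdvd

end Cfsg.Agent.Helper13.F4T
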