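import Mathlib
import Cfsg.Agent.Lib.Helper9.FrattiniElem
import Cfsg.Agent.Lib.Helper19.PGroupBasic

/-!
# Thompson's critical subgroup (helper1's shared library)
-/

set_option autoImplicit false

namespace Cfsg.Agent.Helper1

open Subgroup
open scoped commutatorElement

section Critical

variable {P : Type*} [Group P]

/-- The elements of `Z(P/D)` of order dividing `p`. -/
def omegaCenterQuot (p : ℕ) (D : Subgroup P) [D.Normal] : Subgroup (P ⧸ D) where
  carrier := {z | z ∈ center (P ⧸ D) ∧ z ^ p = 1}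
  mul_mem' := by
    rintro a b ⟨ha, hap⟩ ⟨hb, hbp⟩
    refine ⟨mul_mem ha hb, ?_⟩
    have hc : Commute a b := (mem_center_iff.mp hb a)
    rw [hc.mul_pow, hap, hbp, one_mul]
  one_mem' := ⟨one_mem _, one_pow _⟩
  inv_mem' := by
    rintro a ⟨ha, hap⟩
    exact ⟨inv_mem ha, by rw [inv_pow, hap, inv_one]⟩

/-- The candidate critical subgroup attached to a normal subgroup `D`: the elements of `C_P(D)`
whose image in `P/D` is central of order dividing `p`. -/
def critSub (p : ℕ) (D : Subgroup P) [D.Normal] : Subgroup P :=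
  centralizer (D : Set P) ⊓ (omegaCenterQuot p D).comap (QuotientGroup.mk' D)

variable {p : ℕ} {D : Subgroup P} [D.Normal]

theorem mem_critSub_iff {x : P} : x ∈ critSub p D ↔
    x ∈ centralizer (D : Set P) ∧ (QuotientGroup.mk' D x) ∈ center (P ⧸ D) ∧
      (QuotientGroup.mk' D x) ^ p = 1 := Iff.rfl

theorem critSub_le_centralizer : critSub p D ≤ centralizer (D : Set P) := inf_le_left

theorem commutator_mem_of_mem_critSub {x : P} (hx : x ∈ critSub p D) (g : P) : ⁅x, g⁆ ∈ D := by
  have h1 := (mem_critSub_iff.mp hx).2.1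
  rw [← QuotientGroup.eq_one_iff]
  have : ((⁅x, g⁆ : P) : P ⧸ D) = ⁅(x : P ⧸ D), (g : P ⧸ D)⁆ := by
    rw [commutatorElement_def, commutatorElement_def]; rfl
  rw [this, commutatorElement_eq_one_iff_mul_comm]
  exact (mem_center_iff.mp h1 (g : P ⧸ D)).symm

theorem pow_mem_of_mem_critSub {x : P} (hx : x ∈ critSub p D) : x ^ p ∈ D := by
  have h1 := (mem_critSub_iff.mp hx).2.2
  rw [← QuotientGroup.eq_one_iff]
  rw [QuotientGroup.mk_pow]
  exact h1

theorem le_critSub (hD : ∀ a ∈ D, ∀ b ∈ D, a * b = b * a) : D ≤ critSub p D := by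
  intro d hd
  rw [mem_critSub_iff]
  have h1 : QuotientGroup.mk' D d = 1 := (QuotientGroup.eq_one_iff d).mpr hd
  refine ⟨?_, ?_, ?_⟩
  · rw [mem_centralizer_iff]
    intro a ha
    exact hD a ha d hd
  · rw [h1]; exact one_mem _
  · rw [h1, one_pow]

theorem critSub_commutator_le : ⁅critSub p D, (⊤ : Subgroup P)⁆ ≤ D := by
  rw [Subgroup.commutator_le]
  intro x hx g _
  exact commutator_mem_of_mem_critSub hx g

/-- `D` is central in `critSub p D`. -/
theorem le_centralizer_critSub : D ≤ centralizer (critSub p D : Set P) := by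
  intro d hd
  rw [mem_centralizer_iff]
  intro x hx
  have := mem_centralizer_iff.mp (critSub_le_centralizer hx) d hd
  exact this.symm

theorem critSub_characteristic [hD : D.Characteristic] : (critSub p D).Characteristic := by
  rw [characteristic_iff_map_le]
  intro φ
  rintro _ ⟨x, hx, rfl⟩
  have hDφ : ∀ (ψ : P ≃* P) (y : P), y ∈ D ↔ ψ y ∈ D := by
    intro ψ y
    have := hD.fixed ψ
    constructor
    · intro hy
      have h2 : y ∈ D.comap ψ.toMonoidHom := by rw [this]; exact hy
      exact h2
    · intro hy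
      have h2 : y ∈ D.comap ψ.toMonoidHom := hy
      rwa [this] at h2
  obtain ⟨h1, h2, h3⟩ := mem_critSub_iff.mp hx
  change φ x ∈ critSub p D
  rw [mem_critSub_iff]
  refine ⟨?_, ?_, ?_⟩
  · rw [mem_centralizer_iff]
    intro d hd
    have hd' : φ.symm d ∈ D := by
      have := (hDφ φ.symm d).mp hd
      exact this
    have := mem_centralizer_iff.mp h1 _ hd'
    have e := congrArg φ this
    simpa using e
  · rw [mem_center_iff]
    intro g
    obtain ⟨g, rfl⟩ := QuotientGroup.mk'_surjective D g
    rw [← map_mul, ← map_mul]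
    apply (QuotientGroup.eq).mpr
    have h4 := mem_center_iff.mp h2 (QuotientGroup.mk' D (φ.symm g))
    rw [← map_mul, ← map_mul] at h4
    have h5 := (QuotientGroup.eq).mp h4
    have h6 := (hDφ φ _).mp h5
    simpa using h6
  · rw [← map_pow, QuotientGroup.mk'_apply, QuotientGroup.eq_one_iff]
    have : x ^ p ∈ D := pow_mem_of_mem_critSub hx
    have := (hDφ φ _).mp this
    simpa using this

end Critical


section Main

variable {P : Type*} [Group P] [Finite P] {p : ℕ} [Fact p.Prime]

/-- **Thompson's critical subgroup.** -/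
theorem exists_critical (hP : IsPGroup p P) :
    ∃ H : Subgroup P, H.Characteristic ∧
      (frattini H).map H.subtype ≤ centralizer (H : Set P) ∧
      ⁅H, (⊤ : Subgroup P)⁆ ≤ H ⊓ centralizer (H : Set P) ∧
      centralizer (H : Set P) ≤ H := by
  classical
  have hp : p.Prime := Fact.out
  let S : Set (Subgroup P) := {D | D.Characteristic ∧ ∀ a ∈ D, ∀ b ∈ D, a * b = b * a}
  have hSne : S.Nonempty := ⟨⊥, inferInstance, by
    intro a ha b hb
    rw [mem_bot] at ha hb
    rw [ha, hb]⟩
  have hSfin : S.Finite := Set.toFinite S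
  obtain ⟨D, hDS, hDmax⟩ := hSfin.exists_maximal hSne
  obtain ⟨hDchar, hDcomm⟩ := hDS
  haveI := hDchar
  set H : Subgroup P := critSub p D with hH
  haveI hHchar : H.Characteristic := critSub_characteristic
  have hDH : D ≤ H := le_critSub hDcomm
  have hDZ : D ≤ H ⊓ centralizer (H : Set P) := le_inf hDH le_centralizer_critSub
  have hZ : H ⊓ centralizer (H : Set P) ≤ D := by
    apply hDmax _ hDZ
    refine ⟨inferInstance, ?_⟩
    intro a ha b hb
    exact (mem_centralizer_iff.mp hb.2 a ha.1)
  refine ⟨H, hHchar, ?_, ?_, ?_⟩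
  · -- Frattini
    set φ : H →* omegaCenterQuot p D :=
      MonoidHom.codRestrict ((QuotientGroup.mk' D).comp H.subtype) (omegaCenterQuot p D)
        (fun x => (mem_critSub_iff.mp x.2).2) with hφ
    have hcomm : ∀ a b : omegaCenterQuot p D, a * b = b * a := by
      intro a b
      apply Subtype.ext
      exact mem_center_iff.mp b.2.1 a
    have hexp : ∀ a : omegaCenterQuot p D, a ^ p = 1 := by
      intro a
      apply Subtype.ext
      exact a.2.2
    have h1 := Cfsg.Agent.Helper9.frattini_le_ker_of_elementary (p := p) φ hcomm hexp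
    rintro _ ⟨x, hx, rfl⟩
    have h2 := h1 hx
    rw [MonoidHom.mem_ker] at h2
    have h3 := congrArg Subtype.val h2
    have h4 : QuotientGroup.mk' D (x : P) = 1 := h3
    have h5 : (x : P) ∈ D := (QuotientGroup.eq_one_iff _).mp h4
    exact (hDZ h5).2
  · exact le_trans critSub_commutator_le hDZ
  · -- self-centralizing
    by_contra hQ
    set Q : Subgroup P := centralizer (H : Set P) with hQdef
    have hQD : ¬ Q ≤ D := fun h => hQ (le_trans h hDH)
    haveI hQn : Q.Normal := inferInstance
    set N : Subgroup (P ⧸ D) := Q.map (QuotientGroup.mk' D) with hN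
    haveI hNn : N.Normal := Subgroup.Normal.map hQn _ (QuotientGroup.mk'_surjective D)
    have hNne : N ≠ ⊥ := by
      intro h
      apply hQD
      intro x hx
      have : QuotientGroup.mk' D x ∈ N := ⟨x, hx, rfl⟩
      rw [h, mem_bot] at this
      exact (QuotientGroup.eq_one_iff x).mp this
    have hPq : IsPGroup p (P ⧸ D) := hP.to_quotient D
    have hK := Cfsg.Agent.Helper19.normal_inf_center_ne_bot hPq N hNne
    have hKp : IsPGroup p (N ⊓ center (P ⧸ D) : Subgroup (P ⧸ D)) := hPq.to_subgroup _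
    haveI : Nontrivial (N ⊓ center (P ⧸ D) : Subgroup (P ⧸ D)) :=
      (Subgroup.nontrivial_iff_ne_bot _).mpr hK
    obtain ⟨n, hn0, hn⟩ := hKp.nontrivial_iff_card.mp inferInstance
    have hdvd : p ∣ Nat.card (N ⊓ center (P ⧸ D) : Subgroup (P ⧸ D)) := by
      rw [hn]; exact dvd_pow_self _ (ne_of_gt hn0)
    obtain ⟨w, hw⟩ := exists_prime_orderOf_dvd_card' p hdvd
    obtain ⟨hwN, hwc⟩ := w.2
    obtain ⟨x, hxQ, hxw⟩ := hwN
    have hwp : (w : P ⧸ D) ^ p = 1 := by
      have : w ^ p = 1 := by rw [← hw]; exact pow_orderOf_eq_one w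
      have := congrArg Subtype.val this
      simpa using this
    have hxC : x ∈ centralizer (D : Set P) := Subgroup.centralizer_le hDH hxQ
    have hxH : x ∈ H := by
      rw [hH, mem_critSub_iff]
      refine ⟨hxC, ?_, ?_⟩
      · rw [hxw]; exact hwc
      · rw [hxw]; exact hwp
    have hxD : x ∈ D := hZ ⟨hxH, hxQ⟩
    have hw1 : (w : P ⧸ D) = 1 := by
      rw [← hxw]; exact (QuotientGroup.eq_one_iff x).mpr hxD
    have hw1' : w = 1 := Subtype.ext hw1
    rw [hw1', orderOf_one] at hw
    exact hp.one_lt.ne hw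

end Main

end Cfsg.Agent.Helper1
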