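import Mathlib
import Cfsg.Prelude.Def_Solvable
import Cfsg.Prelude.Def_Local
import Cfsg.Agent.Lib.Helper7.FStar2
import Cfsg.Agent.Lib.Helper7.Components
import Cfsg.Agent.Lib.Helper7.Fitting
import Cfsg.Agent.Lib.Helper7.PLocal
import Cfsg.Agent.Lib.Helper7.Cores
import Cfsg.Agent.Lib.Helper1.CharacteristicMap

/-!
# The Fitting subgroup of a solvable group (helper1's shared library)
-/

set_option autoImplicit false

namespace Cfsg.Agent.Helper1

open Subgroup Cfsg.Agent.Helper7

universe u

variable {G : Type u} [Group G]

/-- A solvable group has no components. -/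
theorem layer_eq_bot_of_isSolvable [hs : Group.IsSolvable G] : Cfsg.layer G = ⊥ := by
  rw [layer_eq_bot_iff]
  intro L hL
  have hperf : ⁅L, L⁆ = L := component_perfect hL
  obtain ⟨n, hn⟩ := (Group.isSolvable_def G).mp hs
  have key : ∀ m, L ≤ derivedSeries G m := by
    intro m
    induction m with
    | zero => exact le_top
    | succ m ih =>
      rw [derivedSeries_succ]
      calc L = ⁅L, L⁆ := hperf.symm
        _ ≤ _ := Subgroup.commutator_mono ih ih
  apply component_ne_bot hL
  rw [eq_bot_iff, ← hn]
  exact key n

/-- In a finite solvable group the Fitting subgroup contains its centraliser. -/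
theorem centralizer_fittingSubgroup_le_of_isSolvable [Finite G] [Group.IsSolvable G] :
    Subgroup.centralizer (Cfsg.fittingSubgroup G : Set G) ≤ Cfsg.fittingSubgroup G :=
  centralizer_fittingSubgroup_le_iff.mpr layer_eq_bot_of_isSolvable

/-- If `O_{p'}(G) = 1` then `F(G) = O_p(G)`. -/
theorem fittingSubgroup_eq_pCore [Finite G] (p : ℕ) [Fact p.Prime]
    (h : Cfsg.pPrimeCore p G = ⊥) : Cfsg.fittingSubgroup G = Cfsg.pCore p G := by
  haveI hFn : (Cfsg.fittingSubgroup G).Normal := fittingSubgroup_normal'
  haveI hFnil : Group.IsNilpotent (Cfsg.fittingSubgroup G) := fittingSubgroup_isNilpotent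
  apply le_antisymm
  · apply le_pCore hFn
    -- `F(G)` is a `p`-group
    have hcard : Nat.card (Cfsg.fittingSubgroup G) =
        p ^ (Nat.card (Cfsg.fittingSubgroup G)).primeFactorsList.length := by
      apply Nat.eq_prime_pow_of_unique_prime_dvd Nat.card_pos.ne'
      intro q hq hqd
      by_contra hne
      haveI : Fact q.Prime := ⟨hq⟩
      obtain ⟨S⟩ : Nonempty (Sylow q (Cfsg.fittingSubgroup G)) := inferInstance
      have hSne : (S : Subgroup (Cfsg.fittingSubgroup G)) ≠ ⊥ := S.ne_bot_of_dvd_card hqd
      have hSnormal : (S : Subgroup (Cfsg.fittingSubgroup G)).Normal := by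
        have h1 := (isNilpotent_of_finite_tfae (G := Cfsg.fittingSubgroup G)).out 0 3
        exact (h1.mp hFnil) q inferInstance S
      haveI := hSnormal
      haveI : (S : Subgroup (Cfsg.fittingSubgroup G)).Characteristic := S.characteristic_of_normal hSnormal
      set S' : Subgroup G := (S : Subgroup (Cfsg.fittingSubgroup G)).map (Cfsg.fittingSubgroup G).subtype
        with hS'
      have hS'n : S'.Normal := by
        rw [← Subgroup.normalizer_eq_top_iff, eq_top_iff]
        have := normalizer_le_normalizer_map_of_characteristic (Cfsg.fittingSubgroup G)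
          (S : Subgroup (Cfsg.fittingSubgroup G))
        rwa [Subgroup.normalizer_eq_top] at this
      have hS'card : (Nat.card S').Coprime p := by
        rw [hS', card_map_subtype]
        obtain ⟨k, hk⟩ := S.2.exists_card_eq
        rw [hk]
        apply Nat.Coprime.pow_left
        exact (Nat.coprime_primes hq Fact.out).mpr hne
      have hle : S' ≤ Cfsg.pPrimeCore p G := le_sSup ⟨hS'n, hS'card⟩
      rw [h, le_bot_iff] at hle
      apply hSne
      rw [hS'] at hle
      exact (Subgroup.map_eq_bot_iff_of_injective _ (Subgroup.subtype_injective _)).mp hle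
    exact IsPGroup.of_card hcard
  · haveI : (Cfsg.pCore p G).Normal := by
      haveI := pCore_characteristic (G := G) p
      infer_instance
    apply le_fittingSubgroup
    exact (pCore_isPGroup p).isNilpotent

end Cfsg.Agent.Helper1
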