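import Mathlib
import Cfsg.Agent.Lib.Helper1.Hall
import Cfsg.Agent.Lib.Helper21.FittingSubgroup

set_option autoImplicit false
set_option linter.style.haveILetI false

namespace Cfsg.Agent.Helper1

open Subgroup
open scoped Pointwise

universe u

/-- A normal `p`-subgroup lies in every subgroup whose index is prime to `p`. -/
theorem le_of_normal_pGroup_of_coprime_index {G : Type*} [Group G] [Finite G] {p k : ℕ}
    (M H : Subgroup G) [M.Normal] (hM : Nat.card M = p ^ k) (hH : (p ^ k).Coprime H.index) :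
    M ≤ H := by
  rw [← Subgroup.relIndex_eq_one]
  have h1 : H.relIndex M ∣ H.index := Cfsg.Agent.Helper21.relIndex_dvd_index_of_normal_right H M
  have h2 : H.relIndex M ∣ p ^ k := hM ▸ Subgroup.relIndex_dvd_card H M
  exact Nat.eq_one_of_dvd_coprimes hH h2 h1

/-- **Hall's theorem, conjugacy**. -/
theorem hall_conj_aux : ∀ (N : ℕ) (G : Type u) [Group G] [Finite G] [Group.IsSolvable G],
    Nat.card G = N → ∀ m n : ℕ, N = m * n → m.Coprime n → ∀ H K : Subgroup G,
    Nat.card H = m → Nat.card K = m → ∃ g : G, MulAut.conj g • H = K := by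
  intro N
  induction N using Nat.strong_induction_on with
  | _ N ih =>
  intro G _ _ _ hcard m n hN hmn H K hH hK
  have hNpos : 0 < N := hcard ▸ Nat.card_pos
  have hmpos : 0 < m := Nat.pos_of_ne_zero (by rintro rfl; simp at hN; omega)
  have hnpos : 0 < n := Nat.pos_of_ne_zero (by rintro rfl; simp at hN; omega)
  rcases subsingleton_or_nontrivial G with hsub | hnt
  · refine ⟨1, ?_⟩
    rw [map_one, one_smul]
    exact Subsingleton.elim _ _
  have hHidx : H.index = n := by
    have h1 := H.card_mul_index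
    rw [hH, hcard, hN] at h1
    exact Nat.eq_of_mul_eq_mul_left hmpos h1
  have hKidx : K.index = n := by
    have h1 := K.card_mul_index
    rw [hK, hcard, hN] at h1
    exact Nat.eq_of_mul_eq_mul_left hmpos h1
  obtain ⟨p, hp, M, hMn, hMne, hMp⟩ := exists_normal_pSubgroup_of_solvable G
  haveI : Fact p.Prime := ⟨hp⟩
  obtain ⟨k, hk⟩ := hMp.exists_card_eq
  have hk0 : k ≠ 0 := by
    rintro rfl
    rw [pow_zero] at hk
    exact hMne (Subgroup.card_eq_one.mp hk)
  have hMdvd : p ^ k ∣ m * n := by
    rw [← hN, ← hcard, ← hk]; exact Subgroup.card_subgroup_dvd_card M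
  set π := QuotientGroup.mk' M with hπ
  have hπs : Function.Surjective π := QuotientGroup.mk'_surjective M
  have hqcard : p ^ k * Nat.card (G ⧸ M) = m * n := by
    rw [← hk, card_quotient_mul_card, hcard, hN]
  have hlt : Nat.card (G ⧸ M) < N := by
    have h1 : 2 ≤ p ^ k := by
      calc 2 ≤ p := hp.two_le
        _ = p ^ 1 := (pow_one p).symm
        _ ≤ p ^ k := Nat.pow_le_pow_right hp.pos (Nat.one_le_iff_ne_zero.mpr hk0)
    have h2 : 0 < Nat.card (G ⧸ M) := Nat.card_pos
    rw [hN, ← hqcard]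
    nlinarith
  rcases prime_pow_dvd_of_coprime hp hMdvd hmn with ⟨hpm, hpkm⟩ | ⟨hpm, hpkn⟩
  · -- p divides m : M ≤ H, K
    have hpn : (p ^ k).Coprime n := Nat.Coprime.coprime_dvd_left hpkm hmn
    have hMH : M ≤ H := le_of_normal_pGroup_of_coprime_index M H hk (hHidx ▸ hpn)
    have hMK : M ≤ K := le_of_normal_pGroup_of_coprime_index M K hk (hKidx ▸ hpn)
    obtain ⟨m', hm'⟩ := hpkm
    have hq : Nat.card (G ⧸ M) = m' * n := by
      have : p ^ k * Nat.card (G ⧸ M) = p ^ k * (m' * n) := by rw [hqcard, hm']; ring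
      exact Nat.eq_of_mul_eq_mul_left (pow_pos hp.pos k) this
    have hcop' : m'.Coprime n := Nat.Coprime.coprime_dvd_left (Dvd.intro_left _ hm'.symm) hmn
    have hHbar : Nat.card (H.map π) = m' := by
      have h1 := card_map_mk'_of_le M hMH
      rw [hk, hH, hm'] at h1
      exact Nat.eq_of_mul_eq_mul_left (pow_pos hp.pos k) h1
    have hKbar : Nat.card (K.map π) = m' := by
      have h1 := card_map_mk'_of_le M hMK
      rw [hk, hK, hm'] at h1
      exact Nat.eq_of_mul_eq_mul_left (pow_pos hp.pos k) h1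
    obtain ⟨gbar, hgbar⟩ := ih _ hlt (G ⧸ M) rfl m' n hq hcop' (H.map π) (K.map π) hHbar hKbar
    obtain ⟨g, rfl⟩ := hπs gbar
    have hsup := sup_eq_of_conj_map_mk' g hgbar
    refine ⟨g, ?_⟩
    have h1 : M ≤ MulAut.conj g • H := by
      intro y hy
      rw [mem_conj_smul_iff]
      exact hMH (hMn.conj_mem' y hy g)
    rw [sup_eq_left.mpr h1, sup_eq_left.mpr hMK] at hsup
    exact hsup
  · -- p divides n
    obtain ⟨n', hn'⟩ := hpkn
    have hq : Nat.card (G ⧸ M) = m * n' := by
      have : p ^ k * Nat.card (G ⧸ M) = p ^ k * (m * n') := by rw [hqcard, hn']; ring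
      exact Nat.eq_of_mul_eq_mul_left (pow_pos hp.pos k) this
    have hcop' : m.Coprime n' := Nat.Coprime.coprime_dvd_right (Dvd.intro_left _ hn'.symm) hmn
    have hcopmp : m.Coprime (p ^ k) :=
      Nat.Coprime.coprime_dvd_right (Dvd.intro _ hn'.symm) hmn
    have hMH : M ⊓ H = ⊥ := Subgroup.inf_eq_bot_of_coprime (by rw [hk, hH]; exact hcopmp.symm)
    have hMK : M ⊓ K = ⊥ := Subgroup.inf_eq_bot_of_coprime (by rw [hk, hK]; exact hcopmp.symm)
    have hHbar : Nat.card (H.map π) = m := by rw [card_map_mk'_of_disjoint M hMH, hH]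
    have hKbar : Nat.card (K.map π) = m := by rw [card_map_mk'_of_disjoint M hMK, hK]
    obtain ⟨gbar, hgbar⟩ := ih _ hlt (G ⧸ M) rfl m n' hq hcop' (H.map π) (K.map π) hHbar hKbar
    obtain ⟨g, rfl⟩ := hπs gbar
    have hsup := sup_eq_of_conj_map_mk' g hgbar
    set H' := MulAut.conj g • H with hH'def
    have hH'card : Nat.card H' = m := by rw [hH'def, card_conj_smul, hH]
    set L := K ⊔ M with hLdef
    have hH'L : H' ≤ L := by rw [← hsup]; exact le_sup_left
    have hKL : K ≤ L := le_sup_left
    have hLcard : Nat.card L = m * p ^ k := by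
      have h1 : L = (K.map π).comap π := by
        rw [hπ, QuotientGroup.comap_map_mk', sup_comm]
      rw [h1, hπ, card_comap_mk', hk, ← hπ, hKbar, mul_comm]
    suffices hsuff : ∃ x : G, MulAut.conj x • H' = K by
      obtain ⟨x, hx⟩ := hsuff
      exact ⟨x * g, by rw [← conj_smul_conj_smul]; exact hx⟩
    by_cases hLtop : L = ⊤
    · have hGcard : Nat.card G = m * p ^ k := by rw [← hLcard, hLtop, Subgroup.card_top]
      have hcH' : IsComplement' M H' := by
        apply isComplement'_of_coprime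
        · rw [hk, hH'card, hGcard, mul_comm]
        · rw [hk, hH'card]; exact hcopmp.symm
      have hcK : IsComplement' M K := by
        apply isComplement'_of_coprime
        · rw [hk, hK, hGcard, mul_comm]
        · rw [hk, hK]; exact hcopmp.symm
      have hMidx : M.index = m := by
        rw [hcK.symm.index_eq_card, hK]
      have hMcop : (Nat.card M).Coprime M.index := by
        rw [hk, hMidx]; exact hcopmp.symm
      exact Cfsg.Agent.S0001.result M hMcop (Or.inl inferInstance) H' K hcH' hcK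
    · have hlt2 : Nat.card L < N := hcard ▸ card_lt_of_ne_top' hLtop
      obtain ⟨l, hl⟩ := ih _ hlt2 L rfl m (p ^ k) hLcard hcopmp (H'.subgroupOf L) (K.subgroupOf L)
        (by rw [Cfsg.Agent.S0001.card_subgroupOf_of_le hH'L, hH'card])
        (by rw [Cfsg.Agent.S0001.card_subgroupOf_of_le hKL, hK])
      exact ⟨l, conj_of_conj_subgroupOf hH'L hKL l hl⟩

theorem hall_conj {G : Type*} [Group G] [Finite G] [Group.IsSolvable G] (m n : ℕ)
    (hG : Nat.card G = m * n) (hmn : m.Coprime n) (H K : Subgroup G)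
    (hH : Nat.card H = m) (hK : Nat.card K = m) : ∃ g : G, MulAut.conj g • H = K :=
  hall_conj_aux (Nat.card G) G rfl m n hG hmn H K hH hK

end Cfsg.Agent.Helper1
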