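import Mathlib

/-!
# Alperin's theorem on maximal normal abelian subgroups of bounded exponent (helper1)

If `A` is maximal among the normal abelian subgroups of exponent dividing `p ^ n` of a finite
`p`-group `G` and `p ^ n ≠ 2`, then every element of `C_G(A)` of order dividing `p ^ n` lies
in `A`.
-/

set_option autoImplicit false

namespace Cfsg.Agent.Helper1

open Subgroup
open scoped commutatorElement

section ClassTwo

variable {G : Type*} [Group G]

/-- If `y * x = c * x * y` with `c` commuting with `x` and `y` then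
`y ^ n * x = c ^ n * x * y ^ n`. -/
theorem pow_mul_of_commute (x y c : G) (hcx : Commute c x) (hcy : Commute c y)
    (h : y * x = c * x * y) (n : ℕ) : y ^ n * x = c ^ n * x * y ^ n := by
  induction n with
  | zero => simp
  | succ n ih =>
    have h1 : y * c ^ n = c ^ n * y := ((hcy.pow_left n).eq).symm
    calc y ^ (n + 1) * x = y * (y ^ n * x) := by rw [pow_succ', mul_assoc]
    _ = y * (c ^ n * x * y ^ n) := by rw [ih]
    _ = (y * c ^ n) * x * y ^ n := by simp only [mul_assoc]
    _ = c ^ n * (y * x) * y ^ n := by rw [h1]; simp only [mul_assoc]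
    _ = c ^ n * (c * x * y) * y ^ n := by rw [h]
    _ = c ^ (n + 1) * x * y ^ (n + 1) := by rw [pow_succ, pow_succ']; simp only [mul_assoc]

/-- If `y * x = c * x * y` with `c` commuting with `x` and `y` then
`(x * y) ^ n = c ^ (n.choose 2) * x ^ n * y ^ n`. -/
theorem mul_pow_eq_of_commute (x y c : G) (hcx : Commute c x) (hcy : Commute c y)
    (h : y * x = c * x * y) (n : ℕ) : (x * y) ^ n = c ^ (n.choose 2) * x ^ n * y ^ n := by
  induction n with
  | zero => simp
  | succ n ih =>
    have hch : (n + 1).choose 2 = n.choose 2 + n := by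
      rw [Nat.choose_succ_succ' n 1, Nat.choose_one_right, add_comm]
    have h1 : x ^ n * c ^ n = c ^ n * x ^ n := (((hcx.pow_left n).pow_right n).eq).symm
    calc (x * y) ^ (n + 1) = (x * y) ^ n * (x * y) := pow_succ _ _
    _ = c ^ (n.choose 2) * x ^ n * y ^ n * (x * y) := by rw [ih]
    _ = c ^ (n.choose 2) * x ^ n * (y ^ n * x) * y := by simp only [mul_assoc]
    _ = c ^ (n.choose 2) * x ^ n * (c ^ n * x * y ^ n) * y := by
        rw [pow_mul_of_commute x y c hcx hcy h n]
    _ = c ^ (n.choose 2) * (x ^ n * c ^ n) * x * y ^ n * y := by simp only [mul_assoc]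
    _ = c ^ (n.choose 2) * (c ^ n * x ^ n) * x * y ^ n * y := by rw [h1]
    _ = c ^ ((n + 1).choose 2) * x ^ (n + 1) * y ^ (n + 1) := by
        rw [hch, pow_add, pow_succ, pow_succ]; simp only [mul_assoc]

end ClassTwo

section Numeric

/-- `2 * C(k, 2) = k (k - 1)`. -/
theorem two_mul_choose_two (k : ℕ) : 2 * k.choose 2 = k * (k - 1) := by
  rw [Nat.choose_two_right]
  exact Nat.mul_div_cancel' (Nat.even_mul_pred_self k).two_dvd

theorem dvd_prime_mul_choose_two {p : ℕ} (hp : p.Prime) (n : ℕ) :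
    p ^ n ∣ p * (p ^ n).choose 2 := by
  rcases hp.eq_two_or_odd' with h2 | hodd
  · subst h2
    rw [two_mul_choose_two]
    exact dvd_mul_right _ _
  · have hcop : Nat.Coprime (p ^ n) 2 := by
      apply Nat.Coprime.pow_left
      exact (Nat.coprime_two_right.mpr hodd)
    have h : p ^ n ∣ 2 * (p ^ n).choose 2 := by
      rw [two_mul_choose_two]; exact dvd_mul_right _ _
    exact Dvd.dvd.mul_left (hcop.dvd_of_dvd_mul_left h) p

theorem prime_dvd_choose_two_pow {p : ℕ} (hp : p.Prime) (n : ℕ) (hn0 : n ≠ 0) (hn : p ^ n ≠ 2) :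
    p ∣ (p ^ n).choose 2 := by
  rcases hp.eq_two_or_odd' with h2 | hodd
  · subst h2
    obtain ⟨m, rfl⟩ := Nat.exists_eq_succ_of_ne_zero hn0
    rcases Nat.eq_zero_or_pos m with h0 | hpos
    · subst h0; simp at hn
    · obtain ⟨m', rfl⟩ := Nat.exists_eq_succ_of_ne_zero hpos.ne'
      have h : 2 * (2 ^ (m' + 1 + 1)).choose 2 = 2 * (2 * (2 ^ m' * (2 ^ (m' + 1 + 1) - 1))) := by
        rw [two_mul_choose_two]; ring
      have h' := Nat.eq_of_mul_eq_mul_left (by norm_num) h
      rw [h']
      exact dvd_mul_right _ _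
  · have hcop : Nat.Coprime (p ^ n) 2 := by
      apply Nat.Coprime.pow_left
      exact (Nat.coprime_two_right.mpr hodd)
    have h : p ^ n ∣ 2 * (p ^ n).choose 2 := by
      rw [two_mul_choose_two]; exact dvd_mul_right _ _
    exact (dvd_pow_self p hn0).trans (hcop.dvd_of_dvd_mul_left h)

end Numeric

section Alperin

variable {G : Type*} [Group G]

/-- The class-two step. -/
theorem alperin_step (A : Subgroup G) (k p : ℕ) (hpk : p ∣ k.choose 2)
    (hkp : k ∣ p * k.choose 2) (hAk : ∀ a ∈ A, a ^ k = 1) (x z : G)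
    (hx : x ∈ centralizer (A : Set G)) (hz : z ∈ centralizer (A : Set G))
    (hxk : x ^ k = 1) (hzk : z ^ k = 1) (hc : ⁅z, x⁆ ∈ A)
    (hyp : ((x * z) ^ p) ^ k = 1 → (x * z) ^ p ∈ A) : (x * z) ^ k = 1 := by
  set c : G := ⁅z, x⁆ with hcdef
  have hcx : Commute c x := mem_centralizer_iff.mp hx c hc
  have hcz : Commute c z := mem_centralizer_iff.mp hz c hc
  have h : z * x = c * x * z := by rw [hcdef, commutatorElement_def]; group
  have hck : c ^ k = 1 := hAk c hc
  have hform : ∀ m : ℕ, (x * z) ^ m = c ^ (m.choose 2) * x ^ m * z ^ m :=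
    mul_pow_eq_of_commute x z c hcx hcz h
  have hk : (x * z) ^ k = c ^ (k.choose 2) := by
    rw [hform k, hxk, hzk, mul_one, mul_one]
  have hpA : (x * z) ^ p ∈ A := by
    apply hyp
    rw [← pow_mul, mul_comm, pow_mul, hk, ← pow_mul]
    obtain ⟨t, ht⟩ := hkp
    rw [mul_comm, ht, pow_mul, hck, one_pow]
  -- c ^ p = 1
  have hcy : Commute c (x * z) := hcx.mul_right hcz
  have hy : (x * z) * x = c * x * (x * z) := by
    calc (x * z) * x = x * (z * x) := by rw [mul_assoc]
      _ = x * (c * x * z) := by rw [h]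
      _ = (x * c) * x * z := by simp only [mul_assoc]
      _ = (c * x) * x * z := by rw [hcx.eq]
      _ = c * x * (x * z) := by simp only [mul_assoc]
  have h1 := pow_mul_of_commute x (x * z) c hcx hcy hy p
  have h2 : (x * z) ^ p * x = x * (x * z) ^ p := mem_centralizer_iff.mp hx _ hpA
  have hcp : c ^ p = 1 := by
    rw [h2] at h1
    have h3 : c ^ p * (x * (x * z) ^ p) = 1 * (x * (x * z) ^ p) := by
      rw [one_mul, ← mul_assoc]; exact h1.symm
    exact mul_right_cancel h3
  rw [hk]
  obtain ⟨t, ht⟩ := hpk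
  rw [ht, pow_mul, hcp, one_pow]

variable [Finite G]

/-- The central case: an element of `C_G(A)` of order dividing `k` that is central modulo `A`
lies in `A`. -/
theorem alperin_central (k : ℕ) (A : Subgroup G) [A.Normal] (hA : IsMulCommutative A)
    (hAe : ∀ a ∈ A, a ^ k = 1)
    (hmax : ∀ B : Subgroup G, B.Normal → IsMulCommutative B → (∀ b ∈ B, b ^ k = 1) → A ≤ B →
      B = A) (x : G) (hx : x ∈ centralizer (A : Set G)) (hxk : x ^ k = 1)
    (hxc : (QuotientGroup.mk x : G ⧸ A) ∈ center (G ⧸ A)) : x ∈ A := by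
  set B : Subgroup G := (zpowers (QuotientGroup.mk x : G ⧸ A)).comap (QuotientGroup.mk' A) with hB
  haveI hZn : (zpowers (QuotientGroup.mk x : G ⧸ A)).Normal := by
    constructor
    intro y hy g
    obtain ⟨m, rfl⟩ := mem_zpowers_iff.mp hy
    have : g * (QuotientGroup.mk x : G ⧸ A) ^ m * g⁻¹ = (QuotientGroup.mk x : G ⧸ A) ^ m := by
      have hc := mem_center_iff.mp (zpow_mem hxc m) g
      rw [hc, mul_inv_cancel_right]
    rw [this]
    exact zpow_mem (mem_zpowers _) m
  have hBn : B.Normal := by rw [hB]; infer_instance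
  have hAB : A ≤ B := by
    intro a ha
    rw [hB, mem_comap, QuotientGroup.mk'_apply, (QuotientGroup.eq_one_iff a).mpr ha]
    exact one_mem _
  have hform : ∀ b ∈ B, ∃ a ∈ A, ∃ m : ℤ, b = a * x ^ m := by
    intro b hb
    rw [hB, mem_comap, QuotientGroup.mk'_apply] at hb
    obtain ⟨m, hm⟩ := mem_zpowers_iff.mp hb
    refine ⟨b * (x ^ m)⁻¹, ?_, m, by group⟩
    rw [← QuotientGroup.eq_one_iff, QuotientGroup.mk_mul, QuotientGroup.mk_inv,
      QuotientGroup.mk_zpow, hm, mul_inv_cancel]
  have hxA : ∀ a ∈ A, ∀ m : ℤ, Commute a (x ^ m) := by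
    intro a ha m
    have : Commute a x := mem_centralizer_iff.mp hx a ha
    exact this.zpow_right m
  have hAc : ∀ a ∈ A, ∀ a' ∈ A, Commute a a' := by
    intro a ha a' ha'
    have := hA.is_comm.comm (⟨a, ha⟩ : A) ⟨a', ha'⟩
    exact congrArg Subtype.val this
  have hBc : IsMulCommutative B := by
    refine ⟨⟨fun b b' => ?_⟩⟩
    apply Subtype.ext
    obtain ⟨a, ha, m, hb⟩ := hform b b.2
    obtain ⟨a', ha', m', hb'⟩ := hform b' b'.2
    rw [Subgroup.coe_mul, Subgroup.coe_mul, hb, hb']
    have h1 : Commute (x ^ m) a' := (hxA a' ha' m).symm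
    have h2 : Commute (x ^ m') a := (hxA a ha m').symm
    have h3 : Commute (x ^ m) (x ^ m') := (Commute.refl x).zpow_zpow m m'
    calc a * x ^ m * (a' * x ^ m') = a * (x ^ m * a') * x ^ m' := by simp only [mul_assoc]
      _ = a * (a' * x ^ m) * x ^ m' := by rw [h1.eq]
      _ = (a * a') * (x ^ m * x ^ m') := by simp only [mul_assoc]
      _ = (a' * a) * (x ^ m' * x ^ m) := by rw [(hAc a ha a' ha').eq, h3.eq]
      _ = a' * (a * x ^ m') * x ^ m := by simp only [mul_assoc]
      _ = a' * (x ^ m' * a) * x ^ m := by rw [h2.eq]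
      _ = a' * x ^ m' * (a * x ^ m) := by simp only [mul_assoc]
  have hBe : ∀ b ∈ B, b ^ k = 1 := by
    intro b hb
    obtain ⟨a, ha, m, rfl⟩ := hform b hb
    rw [(hxA a ha m).mul_pow, hAe a ha, one_mul, ← zpow_natCast, ← zpow_mul, mul_comm, zpow_mul,
      zpow_natCast, hxk, one_zpow]
  have hBA : B = A := hmax B hBn hBc hBe hAB
  rw [← hBA, hB, mem_comap]
  exact mem_zpowers _

/-- **Alperin's theorem**, inductive form along the upper central series of `G ⧸ A`. -/
theorem alperin_aux {p : ℕ} [Fact p.Prime] (n : ℕ) (hn0 : n ≠ 0) (hn : p ^ n ≠ 2)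
    (A : Subgroup G) [A.Normal] (hA : IsMulCommutative A) (hAe : ∀ a ∈ A, a ^ p ^ n = 1)
    (hmax : ∀ B : Subgroup G, B.Normal → IsMulCommutative B → (∀ b ∈ B, b ^ p ^ n = 1) → A ≤ B →
      B = A) :
    ∀ i : ℕ, ∀ x ∈ centralizer (A : Set G), x ^ p ^ n = 1 →
      (QuotientGroup.mk x : G ⧸ A) ∈ Subgroup.upperCentralSeries (G ⧸ A) i → x ∈ A := by
  have hp : p.Prime := Fact.out
  intro i
  induction i with
  | zero =>
    intro x _ _ hxi
    rw [Subgroup.upperCentralSeries_zero, mem_bot, QuotientGroup.eq_one_iff] at hxi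
    exact hxi
  | succ i ih =>
    intro x hx hxk hxi
    apply alperin_central (p ^ n) A hA hAe hmax x hx hxk
    have hQ : ∀ m ≤ i, ∀ w : G,
        (QuotientGroup.mk ⁅x, w⁆ : G ⧸ A) ∈ Subgroup.upperCentralSeries (G ⧸ A) m → ⁅x, w⁆ ∈ A := by
      intro m
      induction m with
      | zero =>
        intro _ w hw
        rw [Subgroup.upperCentralSeries_zero, mem_bot, QuotientGroup.eq_one_iff] at hw
        exact hw
      | succ m ihm =>
        intro hm w hw
        have hyi : (QuotientGroup.mk ⁅x, ⁅x, w⁆⁆ : G ⧸ A) ∈ Subgroup.upperCentralSeries (G ⧸ A) m := by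
          have h1 := Subgroup.mem_upperCentralSeries_succ_iff.mp hw (QuotientGroup.mk x)
          have h2 : (QuotientGroup.mk ⁅x, ⁅x, w⁆⁆ : G ⧸ A)
              = (⁅(QuotientGroup.mk ⁅x, w⁆ : G ⧸ A), QuotientGroup.mk x⁆)⁻¹ := by
            rw [commutatorElement_inv]; rfl
          rw [h2]
          exact inv_mem h1
        have hcA : ⁅x, ⁅x, w⁆⁆ ∈ A := ihm (by omega) _ hyi
        -- decompose ⁅x, w⁆ = x * z
        set z : G := w * x⁻¹ * w⁻¹ with hz
        have hyz : ⁅x, w⁆ = x * z := by rw [hz, commutatorElement_def]; group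
        have hzC : z ∈ centralizer (A : Set G) := by
          rw [hz]
          exact (normal_centralizer (H := A)).conj_mem _ (inv_mem hx) w
        have hzk : z ^ p ^ n = 1 := by
          rw [hz, conj_pow, inv_pow, hxk, inv_one, mul_one, mul_inv_cancel]
        have hzx : ⁅z, x⁆ ∈ A := by
          have h1 : ⁅z, x⁆ = x⁻¹ * (⁅x, ⁅x, w⁆⁆)⁻¹ * x⁻¹⁻¹ := by
            rw [hyz, commutatorElement_def, commutatorElement_def]; group
          rw [h1]
          exact (inferInstance : A.Normal).conj_mem _ (inv_mem hcA) _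
        have hyC : ⁅x, w⁆ ∈ centralizer (A : Set G) := by
          rw [hyz]; exact mul_mem hx hzC
        have hyk : ⁅x, w⁆ ^ p ^ n = 1 := by
          rw [hyz]
          apply alperin_step A (p ^ n) p (prime_dvd_choose_two_pow hp n hn0 hn)
            (dvd_prime_mul_choose_two hp n) hAe x z hx hzC hxk hzk hzx
          intro hpk
          apply ih _ (pow_mem (mul_mem hx hzC) p) hpk
          rw [QuotientGroup.mk_pow]
          apply pow_mem
          rw [← hyz]
          exact Subgroup.upperCentralSeries_mono _ hm hw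
        exact ih _ hyC hyk (Subgroup.upperCentralSeries_mono _ hm hw)
    rw [mem_center_iff]
    intro g
    induction g using QuotientGroup.induction_on with
    | H g =>
      have h1 := Subgroup.mem_upperCentralSeries_succ_iff.mp hxi (QuotientGroup.mk g)
      have h1' : (QuotientGroup.mk ⁅x, g⁆ : G ⧸ A) ∈ Subgroup.upperCentralSeries (G ⧸ A) i := h1
      have h3 := hQ i le_rfl g h1'
      rw [← QuotientGroup.mk_mul, ← QuotientGroup.mk_mul, QuotientGroup.eq]
      have : (g * x)⁻¹ * (x * g) = (g * x)⁻¹ * ⁅x, g⁆ * (g * x)⁻¹⁻¹ := by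
        rw [commutatorElement_def]; group
      rw [this]
      exact (inferInstance : A.Normal).conj_mem _ h3 _

/-- **Alperin's theorem**: if `A` is maximal among the normal abelian subgroups of exponent
dividing `p ^ n` of a finite `p`-group `G` and `p ^ n ≠ 2`, then every element of `C_G(A)` of
order dividing `p ^ n` lies in `A`. -/
theorem alperin {p : ℕ} [Fact p.Prime] (hG : IsPGroup p G) (n : ℕ) (hn : p ^ n ≠ 2)
    (A : Subgroup G) [A.Normal] (hA : IsMulCommutative A) (hAe : ∀ a ∈ A, a ^ p ^ n = 1)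
    (hmax : ∀ B : Subgroup G, B.Normal → IsMulCommutative B → (∀ b ∈ B, b ^ p ^ n = 1) → A ≤ B →
      B = A) (x : G) (hx : x ∈ centralizer (A : Set G)) (hxn : x ^ p ^ n = 1) : x ∈ A := by
  rcases Nat.eq_zero_or_pos n with h0 | hpos
  · subst h0
    rw [pow_zero, pow_one] at hxn
    rw [hxn]; exact one_mem _
  · haveI : Group.IsNilpotent (G ⧸ A) := (hG.to_quotient A).isNilpotent
    obtain ⟨c, hc⟩ := (inferInstance : Group.IsNilpotent (G ⧸ A)).nilpotent'
    apply alperin_aux n hpos.ne' hn A hA hAe hmax c x hx hxn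
    rw [hc]; exact mem_top _

end Alperin

end Cfsg.Agent.Helper1
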