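import Mathlib
import Cfsg.Agent.Lib.Helper1.Alperin
import Cfsg.Agent.Lib.Helper19.PGroupBasic
import Cfsg.Agent.Lib.Helper22.OddCyclicMax

/-!
# Maximal normal abelian subgroups of `p`-groups (helper1)

* `centralizer_eq_of_max_normal_abelian`: a maximal normal abelian subgroup of a finite `p`-group
  is self-centralising.
* `index_centralizer_le`: a normal subgroup of order `p ^ k` of a finite `p`-group has
  centraliser of index at most `p ^ (k (k - 1) / 2)`.
-/

set_option autoImplicit false

namespace Cfsg.Agent.Helper1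

open Subgroup
open scoped commutatorElement

variable {G : Type*} [Group G]

/-- `|L : C_L(x)| ≤ |K|` if all commutators `⁅g, x⁆`, `g ∈ L`, lie in `K`. -/
theorem relIndex_centralizer_singleton_le (L K : Subgroup G) [Finite K] (x : G)
    (hx : ∀ g ∈ L, ⁅g, x⁆ ∈ K) : (centralizer {x}).relIndex L ≤ Nat.card K := by
  have hrel : ∀ a b : L, (QuotientGroup.leftRel ((centralizer {x}).subgroupOf L)) a b →
      (⟨⁅(a : G), x⁆, hx a a.2⟩ : K) = ⟨⁅(b : G), x⁆, hx b b.2⟩ := by
    intro a b hab
    rw [QuotientGroup.leftRel_apply, mem_subgroupOf, mem_centralizer_singleton_iff] at hab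
    apply Subtype.ext
    show ⁅(a : G), x⁆ = ⁅(b : G), x⁆
    rw [commutatorElement_def, commutatorElement_def]
    have h1 : ((a⁻¹ * b : L) : G) = (a : G)⁻¹ * b := by simp
    rw [h1] at hab
    have h2 : (b : G) * x * (b : G)⁻¹ = (a : G) * x * (a : G)⁻¹ := by
      calc (b : G) * x * (b : G)⁻¹ = a * (((a : G)⁻¹ * b) * x) * (b : G)⁻¹ := by group
        _ = a * (x * ((a : G)⁻¹ * b)) * (b : G)⁻¹ := by rw [hab]
        _ = (a : G) * x * (a : G)⁻¹ := by group
    rw [h2]
  let f : L ⧸ ((centralizer {x}).subgroupOf L) → K :=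
    Quotient.lift (s := QuotientGroup.leftRel ((centralizer {x}).subgroupOf L))
      (fun g : L => (⟨⁅(g : G), x⁆, hx g g.2⟩ : K)) hrel
  have hf : Function.Injective f := by
    intro q₁ q₂
    induction q₁ using QuotientGroup.induction_on with
    | H a =>
    induction q₂ using QuotientGroup.induction_on with
    | H b =>
      intro h
      have h' : ⁅(a : G), x⁆ = ⁅(b : G), x⁆ := congrArg Subtype.val h
      rw [QuotientGroup.eq, mem_subgroupOf, mem_centralizer_singleton_iff]
      rw [commutatorElement_def, commutatorElement_def] at h'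
      have h2 : (a : G) * x * (a : G)⁻¹ = (b : G) * x * (b : G)⁻¹ := by
        have := congrArg (· * x) h'
        simpa using this
      have h1 : ((a⁻¹ * b : L) : G) = (a : G)⁻¹ * b := by simp
      rw [h1]
      calc (a : G)⁻¹ * b * x = (a : G)⁻¹ * ((b : G) * x * (b : G)⁻¹) * b := by group
        _ = (a : G)⁻¹ * ((a : G) * x * (a : G)⁻¹) * b := by rw [h2]
        _ = x * ((a : G)⁻¹ * b) := by group
  exact Nat.card_le_card_of_injective f hf

variable [Finite G]

/-- One step: if `K ≤ K'` are normal in the `p`-group `G` with `|K'| = p |K|` then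
`|G : C(K')| ≤ |G : C(K)| |K|`. -/
theorem index_centralizer_step {p : ℕ} [Fact p.Prime] (hG : IsPGroup p G) (K K' : Subgroup G)
    [K.Normal] [K'.Normal] (hKK' : K ≤ K') (hcard : Nat.card K' = p * Nat.card K) :
    (centralizer (K' : Set G)).index ≤ (centralizer (K : Set G)).index * Nat.card K := by
  have hp : p.Prime := Fact.out
  -- pick x ∈ K' \ K
  have hne : ¬ K' ≤ K := by
    intro h
    have := le_antisymm h hKK'
    rw [this] at hcard
    have hpos : 0 < Nat.card K := Nat.card_pos
    have := hp.two_le
    nlinarith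
  obtain ⟨x, hxK', hxK⟩ := SetLike.not_le_iff_exists.mp hne
  -- K' = K ⊔ zpowers x
  have hsup : K ⊔ zpowers x = K' := by
    have hle : K ⊔ zpowers x ≤ K' := sup_le hKK' (by rw [zpowers_le]; exact hxK')
    apply Subgroup.eq_of_le_of_card_ge hle
    have h1 : Nat.card K ∣ Nat.card (K ⊔ zpowers x : Subgroup G) := card_dvd_of_le le_sup_left
    have h2 : Nat.card (K ⊔ zpowers x : Subgroup G) ∣ Nat.card K' := card_dvd_of_le hle
    obtain ⟨d, hd⟩ := h1
    rw [hd, hcard, mul_comm p] at h2
    have hpos : 0 < Nat.card K := Nat.card_pos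
    have hdp : d ∣ p := (Nat.mul_dvd_mul_iff_left hpos).mp h2
    rcases (Nat.dvd_prime hp).mp hdp with h1 | hp'
    · exfalso
      rw [h1, mul_one] at hd
      have : K ⊔ zpowers x = K := (Subgroup.eq_of_le_of_card_ge le_sup_left hd.le).symm
      apply hxK
      rw [← this]
      exact mem_sup_right (mem_zpowers x)
    · rw [hd, hp', hcard, mul_comm]
  -- commutators with x land in K
  have hcomm : ∀ g : G, ⁅g, x⁆ ∈ K := by
    intro g
    have hQ : IsPGroup p (G ⧸ K) := hG.to_quotient K
    set Kb : Subgroup (G ⧸ K) := K'.map (QuotientGroup.mk' K) with hKb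
    haveI : Kb.Normal := Subgroup.Normal.map inferInstance _ (QuotientGroup.mk'_surjective K)
    have hKbcard : Nat.card Kb = p := by
      have h1 : Nat.card Kb * Nat.card K = Nat.card K' := by
        have h2 := relIndex_map_map (QuotientGroup.mk' K) ⊥ K'
        rw [Subgroup.map_bot, relIndex_bot_left, QuotientGroup.ker_mk', bot_sup_eq, sup_of_le_left hKK']
          at h2
        have h3 : Nat.card (K.subgroupOf K') * (K.subgroupOf K').index = Nat.card K' :=
          card_mul_index _
        rw [Nat.card_congr (subgroupOfEquivOfLe hKK').toEquiv] at h3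
        rw [← h3, hKb, h2, mul_comm]
        rfl
      rw [hcard] at h1
      have hpos : 0 < Nat.card K := Nat.card_pos
      exact Nat.eq_of_mul_eq_mul_right hpos h1
    have hcen := Cfsg.Agent.Helper19.normal_card_prime_le_center hQ Kb hKbcard
    have hxb : (QuotientGroup.mk' K) x ∈ center (G ⧸ K) := hcen (mem_map_of_mem _ hxK')
    rw [← QuotientGroup.eq_one_iff]
    have h3 : ((⁅g, x⁆ : G) : G ⧸ K) = ⁅(QuotientGroup.mk' K) g, (QuotientGroup.mk' K) x⁆ := rfl
    rw [h3, commutatorElement_eq_one_iff_mul_comm]
    exact (mem_center_iff.mp hxb _)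
  set T : Subgroup G := centralizer (K : Set G) ⊓ centralizer {x} with hT
  have hTle : T ≤ centralizer (K' : Set G) := by
    rw [le_centralizer_iff, ← hsup]
    apply sup_le
    · rw [← le_centralizer_iff]; exact inf_le_left
    · rw [zpowers_le, mem_centralizer_iff]
      intro t ht
      exact (mem_centralizer_singleton_iff.mp (mem_inf.mp ht).2)
  have h1 : (centralizer (K' : Set G)).index ≤ T.index := index_antitone hTle
  have h2 : T.relIndex (centralizer (K : Set G)) * (centralizer (K : Set G)).index = T.index :=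
    relIndex_mul_index inf_le_left
  have h3 : T.relIndex (centralizer (K : Set G)) ≤ Nat.card K := by
    rw [hT, inf_comm, inf_relIndex_right]
    exact relIndex_centralizer_singleton_le _ K x (fun g _ => hcomm g)
  calc (centralizer (K' : Set G)).index ≤ T.index := h1
    _ = T.relIndex (centralizer (K : Set G)) * (centralizer (K : Set G)).index := h2.symm
    _ ≤ Nat.card K * (centralizer (K : Set G)).index := Nat.mul_le_mul_right _ h3
    _ = (centralizer (K : Set G)).index * Nat.card K := mul_comm _ _

/-- A normal subgroup of order `p ^ k` of a finite `p`-group has centraliser of index at most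
`p ^ (k (k - 1) / 2)`. -/
theorem index_centralizer_le {p : ℕ} [Fact p.Prime] (hG : IsPGroup p G) (N : Subgroup G)
    [N.Normal] (k : ℕ) (hN : Nat.card N = p ^ k) :
    (centralizer (N : Set G)).index ≤ p ^ (k * (k - 1) / 2) := by
  have hp : p.Prime := Fact.out
  have key : ∀ j ≤ k, ∃ K : Subgroup G, K.Normal ∧ K ≤ N ∧ Nat.card K = p ^ j ∧
      (centralizer (K : Set G)).index ≤ p ^ (j * (j - 1) / 2) := by
    intro j
    induction j with
    | zero =>
      intro _
      refine ⟨⊥, inferInstance, bot_le, by simp, ?_⟩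
      have : centralizer (((⊥ : Subgroup G) : Subgroup G) : Set G) = ⊤ := by
        rw [eq_top_iff, le_centralizer_iff]; exact bot_le
      rw [this, index_top]; simp
    | succ j ih =>
      intro hj
      obtain ⟨K, hKn, hKN, hKc, hKi⟩ := ih (by omega)
      haveI := hKn
      have hne : K ≠ N := by
        intro h
        rw [h, hN] at hKc
        have := Nat.pow_right_injective hp.two_le hKc
        omega
      obtain ⟨K', hK'n, hKK', hK'N, hK'c⟩ :=
        Cfsg.Agent.Helper22.exists_normal_step hG N K hKN hne
      haveI := hK'n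
      refine ⟨K', hK'n, hK'N, by rw [hK'c, hKc, pow_succ, mul_comm], ?_⟩
      have h1 := index_centralizer_step hG K K' hKK' hK'c
      have h2 : (j + 1) * (j + 1 - 1) / 2 = j * (j - 1) / 2 + j := Nat.triangle_succ j
      rw [h2, pow_add]
      calc (centralizer (K' : Set G)).index ≤ (centralizer (K : Set G)).index * Nat.card K := h1
        _ ≤ p ^ (j * (j - 1) / 2) * p ^ j := by
          rw [hKc]; exact Nat.mul_le_mul_right _ hKi
  obtain ⟨K, _, hKN, hKc, hKi⟩ := key k le_rfl
  have : K = N := Subgroup.eq_of_le_of_card_ge hKN (by rw [hKc, hN])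
  rw [← this]
  exact hKi

/-- A maximal normal abelian subgroup of a finite `p`-group is self-centralising. -/
theorem centralizer_eq_of_max_normal_abelian {p : ℕ} [Fact p.Prime] (hG : IsPGroup p G)
    (A : Subgroup G) [A.Normal] (hA : IsMulCommutative A)
    (hmax : ∀ B : Subgroup G, B.Normal → IsMulCommutative B → A ≤ B → B = A) :
    centralizer (A : Set G) = A := by
  have hp : p.Prime := Fact.out
  obtain ⟨m, hm⟩ := IsPGroup.iff_card.mp hG
  have hall : ∀ g : G, g ^ p ^ (m + 2) = 1 := by
    intro g
    rw [pow_add, pow_mul, ← hm, pow_card_eq_one', one_pow]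
  have hn : p ^ (m + 2) ≠ 2 := by
    have h1 : 2 ^ (m + 2) ≤ p ^ (m + 2) := Nat.pow_le_pow_left hp.two_le _
    have h2 : 2 ^ 2 ≤ 2 ^ (m + 2) := Nat.pow_le_pow_right (by norm_num) (by omega)
    omega
  apply le_antisymm
  · intro x hx
    exact alperin hG (m + 2) hn A hA (fun a _ => hall a)
      (fun B hBn hBc _ hAB => hmax B hBn hBc hAB) x hx (hall x)
  · rw [le_centralizer_iff_isMulCommutative]
    exact hA

end Cfsg.Agent.Helper1
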