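import Mathlib

/-!
# Power identities in groups of class at most three (helper1)

For `c = ⁅y, x⁆`, `d = ⁅c, x⁆`, `e = ⁅c, y⁆` with `d`, `e` central:
`(x y)^n = x^n y^n c^(n choose 2) d^(b n) e^(2 b n)` with `b n = (n+1 choose 3)`.
-/

set_option autoImplicit false

namespace Cfsg.Agent.Helper1

open scoped commutatorElement

namespace ClassThree

/-- exponent of `d`: `b n = (n+1) n (n-1) / 6`. -/
def bExp : ℕ → ℕ
  | 0 => 0
  | n + 1 => bExp n + n.choose 2 + n

/-- exponent of `e`: `f n = (n+1) n (n-1) / 3`. -/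
def fExp : ℕ → ℕ
  | 0 => 0
  | n + 1 => fExp n + n * n + n

theorem two_mul_choose_two_add (m : ℕ) : 2 * m.choose 2 + m = m * m := by
  induction m with
  | zero => simp
  | succ m ihm =>
    have : (m + 1).choose 2 = m.choose 2 + m := by
      rw [Nat.choose_succ_succ' m 1, Nat.choose_one_right, add_comm]
    rw [this]; linarith

theorem six_mul_bExp' (n : ℕ) : 6 * bExp (n + 1) = (n + 2) * (n + 1) * n := by
  induction n with
  | zero => simp [bExp]
  | succ n ih =>
    have h3 := two_mul_choose_two_add (n + 1)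
    have : bExp (n + 1 + 1) = bExp (n + 1) + (n + 1).choose 2 + (n + 1) := rfl
    rw [this]
    nlinarith

theorem three_mul_fExp' (n : ℕ) : 3 * fExp (n + 1) = (n + 2) * (n + 1) * n := by
  induction n with
  | zero => simp [fExp]
  | succ n ih =>
    have : fExp (n + 1 + 1) = fExp (n + 1) + (n + 1) * (n + 1) + (n + 1) := rfl
    rw [this]
    nlinarith

theorem prime_dvd_bExp {p : ℕ} (hp : p.Prime) (h3 : 3 < p) : p ∣ bExp p := by
  obtain ⟨n, rfl⟩ : ∃ n, p = n + 1 := ⟨p - 1, by have := hp.pos; omega⟩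
  have h := six_mul_bExp' n
  have h1 : (n + 1) ∣ 6 * bExp (n + 1) := by
    rw [h]; exact ⟨(n + 2) * n, by ring⟩
  have hcop : Nat.Coprime (n + 1) 6 := by
    have h2 : Nat.Coprime (n + 1) 2 := by
      rw [Nat.coprime_primes hp Nat.prime_two]; omega
    have h3' : Nat.Coprime (n + 1) 3 := by
      rw [Nat.coprime_primes hp Nat.prime_three]; omega
    exact Nat.Coprime.mul_right h2 h3'
  exact hcop.dvd_of_dvd_mul_left h1

theorem prime_dvd_fExp {p : ℕ} (hp : p.Prime) (h3 : 3 < p) : p ∣ fExp p := by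
  obtain ⟨n, rfl⟩ : ∃ n, p = n + 1 := ⟨p - 1, by have := hp.pos; omega⟩
  have h := three_mul_fExp' n
  have h1 : (n + 1) ∣ 3 * fExp (n + 1) := by
    rw [h]; exact ⟨(n + 2) * n, by ring⟩
  have hcop : Nat.Coprime (n + 1) 3 := by
    rw [Nat.coprime_primes hp Nat.prime_three]; omega
  exact hcop.dvd_of_dvd_mul_left h1

theorem prime_dvd_choose_two {p : ℕ} (hp : p.Prime) (h2 : p ≠ 2) : p ∣ p.choose 2 := by
  apply hp.dvd_choose_self (by norm_num)
  have := hp.two_le
  omega

variable {G : Type*} [Group G]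

section Formula

variable (x y c d e : G) (hd : ∀ g : G, Commute d g) (he : ∀ g : G, Commute e g)
  (hyx : y * x = c * x * y) (hcx : c * x = x * c * d) (hcy : c * y = y * c * e)

include hd hcx in
theorem pow_c_mul_x (m : ℕ) : c ^ m * x = x * c ^ m * d ^ m := by
  induction m with
  | zero => simp
  | succ m ih =>
    calc c ^ (m + 1) * x = c * (c ^ m * x) := by rw [pow_succ', mul_assoc]
      _ = c * (x * c ^ m * d ^ m) := by rw [ih]
      _ = (c * x) * c ^ m * d ^ m := by simp only [mul_assoc]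
      _ = (x * c * d) * c ^ m * d ^ m := by rw [hcx]
      _ = x * c * (d * c ^ m) * d ^ m := by simp only [mul_assoc]
      _ = x * c * (c ^ m * d) * d ^ m := by rw [(hd (c ^ m)).eq]
      _ = x * (c * c ^ m) * (d * d ^ m) := by simp only [mul_assoc]
      _ = x * c ^ (m + 1) * d ^ (m + 1) := by rw [← pow_succ', ← pow_succ']

include he hcy in
theorem pow_c_mul_y (m : ℕ) : c ^ m * y = y * c ^ m * e ^ m :=
  pow_c_mul_x y c e he hcy m

include he hcy in
theorem pow_c_mul_pow_y (m k : ℕ) : c ^ m * y ^ k = y ^ k * c ^ m * e ^ (m * k) := by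
  induction k with
  | zero => simp
  | succ k ih =>
    calc c ^ m * y ^ (k + 1) = (c ^ m * y ^ k) * y := by rw [pow_succ, mul_assoc]
      _ = (y ^ k * c ^ m * e ^ (m * k)) * y := by rw [ih]
      _ = y ^ k * c ^ m * (e ^ (m * k) * y) := by simp only [mul_assoc]
      _ = y ^ k * c ^ m * (y * e ^ (m * k)) := by rw [((he y).pow_left (m * k)).eq]
      _ = y ^ k * (c ^ m * y) * e ^ (m * k) := by simp only [mul_assoc]
      _ = y ^ k * (y * c ^ m * e ^ m) * e ^ (m * k) := by rw [pow_c_mul_y y c e he hcy m]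
      _ = (y ^ k * y) * c ^ m * (e ^ m * e ^ (m * k)) := by simp only [mul_assoc]
      _ = y ^ (k + 1) * c ^ m * e ^ (m * (k + 1)) := by
        have h : m * (k + 1) = m + m * k := by ring
        rw [h, pow_add e m (m * k), pow_succ y k]

include he hyx hcy in
theorem pow_y_mul_x (n : ℕ) : y ^ n * x * e ^ (n.choose 2) = c ^ n * x * y ^ n := by
  induction n with
  | zero => simp
  | succ n ih =>
    have hch : (n + 1).choose 2 = n.choose 2 + n := by
      rw [Nat.choose_succ_succ' n 1, Nat.choose_one_right, add_comm]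
    have h1 : y * c ^ n * e ^ n = c ^ n * y := (pow_c_mul_y y c e he hcy n).symm
    calc y ^ (n + 1) * x * e ^ ((n + 1).choose 2)
        = y * (y ^ n * x * e ^ (n.choose 2)) * e ^ n := by
          rw [hch, pow_add e (n.choose 2) n, pow_succ' y n]; simp only [mul_assoc]
      _ = y * (c ^ n * x * y ^ n) * e ^ n := by rw [ih]
      _ = y * c ^ n * (x * y ^ n * e ^ n) := by simp only [mul_assoc]
      _ = y * c ^ n * (e ^ n * (x * y ^ n)) := by rw [((he (x * y ^ n)).pow_left n).eq]
      _ = (y * c ^ n * e ^ n) * x * y ^ n := by simp only [mul_assoc]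
      _ = (c ^ n * y) * x * y ^ n := by rw [h1]
      _ = c ^ n * (y * x) * y ^ n := by simp only [mul_assoc]
      _ = c ^ n * (c * x * y) * y ^ n := by rw [hyx]
      _ = (c ^ n * c) * x * (y * y ^ n) := by simp only [mul_assoc]
      _ = c ^ (n + 1) * x * y ^ (n + 1) := by rw [← pow_succ, ← pow_succ']


theorem pull (z : G) (hz : ∀ g : G, Commute z g) (u v : G) : u * z * v = u * v * z := by
  rw [mul_assoc, (hz v).eq, ← mul_assoc]

include hd he hyx hcx hcy in
theorem mul_pow_eq (n : ℕ) :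
    (x * y) ^ n = x ^ n * y ^ n * c ^ (n.choose 2) * (d ^ (bExp n) * e ^ (fExp n)) := by
  induction n with
  | zero => simp [bExp, fExp]
  | succ n ih =>
    have hch : (n + 1).choose 2 = n.choose 2 + n := by
      rw [Nat.choose_succ_succ' n 1, Nat.choose_one_right, add_comm]
    have hdk : ∀ (k : ℕ) (g : G), Commute (d ^ k) g := fun k g => (hd g).pow_left k
    have hek : ∀ (k : ℕ) (g : G), Commute (e ^ k) g := fun k g => (he g).pow_left k
    set A := n.choose 2 with hA
    set Z0 : G := d ^ (bExp n) * e ^ (fExp n) with hZ0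
    have hZ0c : ∀ g : G, Commute Z0 g := fun g => (hdk _ g).mul_left (hek _ g)
    have L1A := pow_c_mul_x x c d hd hcx A
    have L1n := pow_c_mul_x x c d hd hcx n
    have L3 := pow_y_mul_x x y c e he hyx hcy n
    have L2 := pow_c_mul_pow_y y c e he hcy n n
    have L2a := pow_c_mul_y y c e he hcy (n + A)
    apply mul_right_cancel (b := e ^ A)
    calc (x * y) ^ (n + 1) * e ^ A
        = x ^ n * y ^ n * c ^ A * Z0 * (x * y) * e ^ A := by rw [pow_succ, ih]
      _ = x ^ n * y ^ n * c ^ A * (x * y) * Z0 * e ^ A := by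
          rw [pull Z0 hZ0c (x ^ n * y ^ n * c ^ A) (x * y)]
      _ = x ^ n * y ^ n * (c ^ A * x) * y * (Z0 * e ^ A) := by simp only [mul_assoc]
      _ = x ^ n * y ^ n * (x * c ^ A * d ^ A) * y * (Z0 * e ^ A) := by rw [L1A]
      _ = x ^ n * y ^ n * (x * c ^ A) * d ^ A * y * (Z0 * e ^ A) := by simp only [mul_assoc]
      _ = x ^ n * y ^ n * (x * c ^ A) * y * d ^ A * (Z0 * e ^ A) := by
          rw [pull (d ^ A) (hdk A) (x ^ n * y ^ n * (x * c ^ A)) y]
      _ = x ^ n * (y ^ n * x) * (c ^ A * y) * (d ^ A * Z0) * e ^ A := by simp only [mul_assoc]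
      _ = x ^ n * (y ^ n * x) * e ^ A * (c ^ A * y) * (d ^ A * Z0) := by
          rw [pull (e ^ A) (hek A) (x ^ n * (y ^ n * x)) (c ^ A * y),
            pull (e ^ A) (hek A) (x ^ n * (y ^ n * x) * (c ^ A * y)) (d ^ A * Z0)]
      _ = x ^ n * (y ^ n * x * e ^ A) * (c ^ A * y) * (d ^ A * Z0) := by simp only [mul_assoc]
      _ = x ^ n * (c ^ n * x * y ^ n) * (c ^ A * y) * (d ^ A * Z0) := by rw [L3]
      _ = x ^ n * (c ^ n * x) * (y ^ n * (c ^ A * y)) * (d ^ A * Z0) := by simp only [mul_assoc]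
      _ = x ^ n * (x * c ^ n * d ^ n) * (y ^ n * (c ^ A * y)) * (d ^ A * Z0) := by rw [L1n]
      _ = x ^ n * (x * c ^ n) * d ^ n * (y ^ n * (c ^ A * y)) * (d ^ A * Z0) := by
          simp only [mul_assoc]
      _ = x ^ n * (x * c ^ n) * (y ^ n * (c ^ A * y)) * d ^ n * (d ^ A * Z0) := by
          rw [pull (d ^ n) (hdk n) (x ^ n * (x * c ^ n)) (y ^ n * (c ^ A * y))]
      _ = x ^ n * x * (c ^ n * y ^ n) * (c ^ A * y) * (d ^ n * (d ^ A * Z0)) := by
          simp only [mul_assoc]
      _ = x ^ n * x * (y ^ n * c ^ n * e ^ (n * n)) * (c ^ A * y) * (d ^ n * (d ^ A * Z0)) := by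
          rw [L2]
      _ = x ^ n * x * (y ^ n * c ^ n) * e ^ (n * n) * (c ^ A * y) * (d ^ n * (d ^ A * Z0)) := by
          simp only [mul_assoc]
      _ = x ^ n * x * (y ^ n * c ^ n) * (c ^ A * y) * e ^ (n * n) * (d ^ n * (d ^ A * Z0)) := by
          rw [pull (e ^ (n * n)) (hek (n * n)) (x ^ n * x * (y ^ n * c ^ n)) (c ^ A * y)]
      _ = x ^ n * x * y ^ n * (c ^ (n + A) * y) * (e ^ (n * n) * (d ^ n * (d ^ A * Z0))) := by
          rw [pow_add]; simp only [mul_assoc]
      _ = x ^ n * x * y ^ n * (y * c ^ (n + A) * e ^ (n + A)) *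
            (e ^ (n * n) * (d ^ n * (d ^ A * Z0))) := by rw [L2a]
      _ = x ^ (n + 1) * y ^ (n + 1) * c ^ (n + A) *
            (e ^ (n + A) * (e ^ (n * n) * (d ^ n * (d ^ A * Z0)))) := by
          rw [pow_succ, pow_succ]; simp only [mul_assoc]
      _ = x ^ (n + 1) * y ^ (n + 1) * c ^ ((n + 1).choose 2) *
            (d ^ bExp (n + 1) * e ^ fExp (n + 1)) * e ^ A := by
          rw [hch, add_comm A n, mul_assoc _ _ (e ^ A)]
          congr 1
          have h1 : e ^ (n + A) * (e ^ (n * n) * (d ^ n * (d ^ A * Z0)))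
              = (e ^ (n + A) * e ^ (n * n)) * ((d ^ n * d ^ A * d ^ bExp n) * e ^ fExp n) := by
            rw [hZ0]; simp only [mul_assoc]
          rw [h1, ← pow_add, ← pow_add, ← pow_add,
            ((hek _ _).eq : e ^ (n + A + n * n) * (d ^ (n + A + bExp n) * e ^ fExp n) = _),
            mul_assoc, ← pow_add, mul_assoc, ← pow_add]
          have e1 : bExp (n + 1) = n + A + bExp n := by
            show bExp n + n.choose 2 + n = _
            rw [hA]; ring
          have e2 : fExp (n + 1) + A = fExp n + (n + A + n * n) := by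
            show fExp n + n * n + n + A = _
            ring
          rw [e1, e2]

include hd hcx in
theorem c_mul_pow_x (m : ℕ) : c * x ^ m = x ^ m * c * d ^ m := by
  induction m with
  | zero => simp
  | succ m ih =>
    calc c * x ^ (m + 1) = (c * x ^ m) * x := by rw [pow_succ, mul_assoc]
      _ = (x ^ m * c * d ^ m) * x := by rw [ih]
      _ = x ^ m * c * x * d ^ m := pull (d ^ m) (fun g => (hd g).pow_left m) (x ^ m * c) x
      _ = x ^ m * (c * x) * d ^ m := by simp only [mul_assoc]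
      _ = x ^ m * (x * c * d) * d ^ m := by rw [hcx]
      _ = (x ^ m * x) * c * (d * d ^ m) := by simp only [mul_assoc]
      _ = x ^ (m + 1) * c * d ^ (m + 1) := by rw [← pow_succ, ← pow_succ']

end Formula

section Group

variable {R : Type*} [Group R]

theorem central_of_class_three (hcl : ⁅⁅commutator R, (⊤ : Subgroup R)⁆, (⊤ : Subgroup R)⁆ = ⊥)
    (a b g : R) (ha : a ∈ commutator R) : Commute ⁅a, b⁆ g := by
  rw [Subgroup.commutator_eq_bot_iff_le_centralizer] at hcl
  have h1 : ⁅a, b⁆ ∈ ⁅commutator R, (⊤ : Subgroup R)⁆ :=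
    Subgroup.commutator_mem_commutator ha (Subgroup.mem_top b)
  have h2 := hcl h1
  rw [Subgroup.mem_centralizer_iff] at h2
  exact (h2 g (Subgroup.mem_top g)).symm

theorem rel_yx (x y : R) : y * x = ⁅y, x⁆ * x * y := by
  rw [commutatorElement_def]; group

theorem rel_c (c x d : R) (hd : ∀ g : R, Commute d g) (h : d = ⁅c, x⁆) : c * x = x * c * d := by
  rw [← (hd (x * c)).eq, h, commutatorElement_def]; group

/-- In a group of class at most three, commutators of elements of order dividing `p > 3` have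
order dividing `p`. -/
theorem commutator_pow_eq_one {p : ℕ} (hp : p.Prime) (h2 : p ≠ 2)
    (hcl : ⁅⁅commutator R, (⊤ : Subgroup R)⁆, (⊤ : Subgroup R)⁆ = ⊥) (x y : R)
    (hx : x ^ p = 1) (hy : y ^ p = 1) :
    ⁅y, x⁆ ^ p = 1 ∧ ⁅⁅y, x⁆, x⁆ ^ p = 1 ∧ ⁅⁅y, x⁆, y⁆ ^ p = 1 := by
  set c : R := ⁅y, x⁆ with hc
  have hcm : c ∈ commutator R :=
    Subgroup.commutator_mem_commutator (Subgroup.mem_top y) (Subgroup.mem_top x)
  set d : R := ⁅c, x⁆ with hd
  set e : R := ⁅c, y⁆ with he
  have hdc : ∀ g : R, Commute d g := fun g => central_of_class_three hcl c x g hcm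
  have hec : ∀ g : R, Commute e g := fun g => central_of_class_three hcl c y g hcm
  have hyx : y * x = c * x * y := rel_yx x y
  have hcx : c * x = x * c * d := rel_c c x d hdc hd
  have hcy : c * y = y * c * e := rel_c c y e hec he
  have hdp : d ^ p = 1 := by
    have := c_mul_pow_x x c d hdc hcx p
    rw [hx, mul_one, one_mul] at this
    exact (mul_left_cancel (a := c) (by rw [mul_one]; exact this)).symm
  have hep : e ^ p = 1 := by
    have := c_mul_pow_x y c e hec hcy p
    rw [hy, mul_one, one_mul] at this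
    exact (mul_left_cancel (a := c) (by rw [mul_one]; exact this)).symm
  refine ⟨?_, hdp, hep⟩
  have h := pow_y_mul_x x y c e hec hyx hcy p
  obtain ⟨k, hk⟩ := prime_dvd_choose_two hp h2
  rw [hy, hk, pow_mul, hep, one_pow, one_mul, mul_one, mul_one] at h
  exact (mul_right_cancel (b := x) (by rw [one_mul]; exact h)).symm

/-- In a group of class at most three and `p > 3`: if the basic commutators of `x`, `y` have order
dividing `p` then `(x y)^p = x^p y^p`. -/
theorem mul_pow_prime {p : ℕ} (hp : p.Prime) (h3 : 3 < p)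
    (hcl : ⁅⁅commutator R, (⊤ : Subgroup R)⁆, (⊤ : Subgroup R)⁆ = ⊥) (x y : R)
    (hc : ⁅y, x⁆ ^ p = 1) (hd : ⁅⁅y, x⁆, x⁆ ^ p = 1) (he : ⁅⁅y, x⁆, y⁆ ^ p = 1) :
    (x * y) ^ p = x ^ p * y ^ p := by
  have hcm : ⁅y, x⁆ ∈ commutator R :=
    Subgroup.commutator_mem_commutator (Subgroup.mem_top y) (Subgroup.mem_top x)
  have hdc : ∀ g : R, Commute ⁅⁅y, x⁆, x⁆ g := fun g => central_of_class_three hcl _ x g hcm
  have hec : ∀ g : R, Commute ⁅⁅y, x⁆, y⁆ g := fun g => central_of_class_three hcl _ y g hcm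
  have h := mul_pow_eq x y ⁅y, x⁆ ⁅⁅y, x⁆, x⁆ ⁅⁅y, x⁆, y⁆ hdc hec (rel_yx x y)
    (rel_c _ x _ hdc rfl) (rel_c _ y _ hec rfl) p
  obtain ⟨k1, hk1⟩ := prime_dvd_choose_two hp (by omega)
  obtain ⟨k2, hk2⟩ := prime_dvd_bExp hp h3
  obtain ⟨k3, hk3⟩ := prime_dvd_fExp hp h3
  rw [h, hk1, hk2, hk3, pow_mul, pow_mul, pow_mul, hc, hd, he, one_pow, one_pow, one_pow, mul_one,
    mul_one, mul_one]

/-- In a group of class at most three and `p > 3`, products of elements of order dividing `p` have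
order dividing `p`. -/
theorem mul_pow_prime_eq_one {p : ℕ} (hp : p.Prime) (h3 : 3 < p)
    (hcl : ⁅⁅commutator R, (⊤ : Subgroup R)⁆, (⊤ : Subgroup R)⁆ = ⊥) (x y : R)
    (hx : x ^ p = 1) (hy : y ^ p = 1) : (x * y) ^ p = 1 := by
  obtain ⟨hc, hd, he⟩ := commutator_pow_eq_one hp (by omega) hcl x y hx hy
  rw [mul_pow_prime hp h3 hcl x y hc hd he, hx, hy, one_mul]

/-- In a group of class at most three and `p > 3`, the subgroup generated by the elements of
order dividing `p` has exponent dividing `p`. -/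
theorem pow_prime_eq_one_of_mem_closure {p : ℕ} (hp : p.Prime) (h3 : 3 < p)
    (hcl : ⁅⁅commutator R, (⊤ : Subgroup R)⁆, (⊤ : Subgroup R)⁆ = ⊥) (g : R)
    (hg : g ∈ Subgroup.closure {x : R | x ^ p = 1}) : g ^ p = 1 := by
  induction hg using Subgroup.closure_induction with
  | mem x hx => exact hx
  | one => exact one_pow p
  | mul x y _ _ hx hy => exact mul_pow_prime_eq_one hp h3 hcl x y hx hy
  | inv x _ hx => rw [inv_pow, hx, inv_one]

end Group

end ClassThree

end Cfsg.Agent.Helper1
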