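import Mathlib
import Cfsg.Prelude.Def_Transfer
import Cfsg.Agent.Lib.Helper1.ClassThree
import Cfsg.Agent.Lib.Helper1.MaxAbelianBound
import Cfsg.Agent.Lib.Helper1.PGroupCoatom
import Cfsg.Agent.Lib.Helper1.Hall
import Cfsg.Agent.Lib.Helper17.SpecialIndexTwo
import Cfsg.Agent.Lib.Helper19.PGroupBasic
import Cfsg.Agent.Lib.Helper22.OddCyclicMax

/-!
# `Ω₁` of `p`-groups of rank at most two, `p > 3` (helper1)
-/

set_option autoImplicit false

namespace Cfsg.Agent.Helper1

open Subgroup
open scoped commutatorElement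

universe u

section Aux

variable {P : Type*} [Group P]

/-- The rank bound passes to subgroups. -/
theorem rank_le_of_subgroup {p : ℕ} (H : Subgroup P)
    (hrk : ∀ E : Subgroup P, Cfsg.IsElementaryAbelian p E → Nat.card E ≤ p ^ 2) :
    ∀ E : Subgroup H, Cfsg.IsElementaryAbelian p E → Nat.card E ≤ p ^ 2 := by
  intro E hE
  have h1 : Cfsg.IsElementaryAbelian p (E.map H.subtype) := by
    refine ⟨⟨⟨?_⟩⟩, ?_⟩
    · rintro ⟨_, a, ha, rfl⟩ ⟨_, b, hb, rfl⟩
      apply Subtype.ext
      have h2 := hE.1.is_comm.comm (⟨a, ha⟩ : E) ⟨b, hb⟩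
      have h3 : a * b = b * a := congrArg Subtype.val h2
      show H.subtype a * H.subtype b = H.subtype b * H.subtype a
      rw [← map_mul, ← map_mul, h3]
    · rintro _ ⟨a, ha, rfl⟩
      rw [← map_pow, hE.2 a ha, map_one]
  have h2 := hrk _ h1
  rwa [Subgroup.card_map_of_injective H.subtype_injective] at h2

variable [Finite P] {p : ℕ} [Fact p.Prime]

/-- If `K ≤ K'` are normal in a `p`-group with `|K'| = p |K|` then `[K', P] ≤ K`. -/
theorem commutator_le_of_card_eq_prime_mul (hP : IsPGroup p P) (K K' : Subgroup P)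
    [K.Normal] [K'.Normal] (hKK' : K ≤ K') (hcard : Nat.card K' = p * Nat.card K) :
    ⁅K', (⊤ : Subgroup P)⁆ ≤ K := by
  rw [Subgroup.commutator_le]
  intro x hxK' g _
  have hQ : IsPGroup p (P ⧸ K) := hP.to_quotient K
  set Kb : Subgroup (P ⧸ K) := K'.map (QuotientGroup.mk' K) with hKb
  haveI : Kb.Normal := Subgroup.Normal.map inferInstance _ (QuotientGroup.mk'_surjective K)
  have hKbcard : Nat.card Kb = p := by
    have h1 : Nat.card Kb * Nat.card K = Nat.card K' := by
      have h2 := relIndex_map_map (QuotientGroup.mk' K) ⊥ K'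
      rw [Subgroup.map_bot, relIndex_bot_left, QuotientGroup.ker_mk', bot_sup_eq,
        sup_of_le_left hKK'] at h2
      have h3 : Nat.card (K.subgroupOf K') * (K.subgroupOf K').index = Nat.card K' :=
        card_mul_index _
      rw [Nat.card_congr (subgroupOfEquivOfLe hKK').toEquiv] at h3
      rw [← h3, hKb, h2, mul_comm]
      rfl
    rw [hcard] at h1
    have hpos : 0 < Nat.card K := Nat.card_pos
    exact Nat.eq_of_mul_eq_mul_right hpos h1
  have hcen := Cfsg.Agent.Helper19.normal_card_prime_le_center hQ Kb hKbcard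
  have hxb : (QuotientGroup.mk' K) x ∈ center (P ⧸ K) := hcen (mem_map_of_mem _ hxK')
  rw [← QuotientGroup.eq_one_iff]
  have h3 : ((⁅x, g⁆ : P) : P ⧸ K) = ⁅(QuotientGroup.mk' K) x, (QuotientGroup.mk' K) g⁆ := rfl
  rw [h3, commutatorElement_eq_one_iff_mul_comm]
  exact (mem_center_iff.mp hxb _).symm

/-- A normal subgroup of order at most `p²` of a `p`-group lies in the second centre. -/
theorem commutator_commutator_eq_bot_of_card_le (hP : IsPGroup p P) (D : Subgroup P) [D.Normal]
    (hD : Nat.card D ≤ p ^ 2) : ⁅⁅D, (⊤ : Subgroup P)⁆, (⊤ : Subgroup P)⁆ = ⊥ := by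
  have hp : p.Prime := Fact.out
  have hcentral : ∀ K : Subgroup P, K.Normal → Nat.card K = p → ⁅K, (⊤ : Subgroup P)⁆ = ⊥ := by
    intro K hKn hK
    haveI := hKn
    have h1 := Cfsg.Agent.Helper19.normal_card_prime_le_center hP K hK
    rw [Subgroup.commutator_eq_bot_iff_le_centralizer, Subgroup.coe_top,
      Subgroup.centralizer_univ]
    exact h1
  by_cases hbot : D = ⊥
  · rw [hbot, Subgroup.commutator_bot_left, Subgroup.commutator_bot_left]
  · obtain ⟨K', hK'n, -, hK'D, hK'c⟩ :=
      Cfsg.Agent.Helper22.exists_normal_step hP D ⊥ bot_le (Ne.symm hbot)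
    haveI := hK'n
    rw [Subgroup.card_bot, mul_one] at hK'c
    by_cases hK'eq : K' = D
    · rw [← hK'eq, hcentral K' hK'n hK'c, Subgroup.commutator_bot_left]
    · obtain ⟨K'', hK''n, hK'K'', hK''D, hK''c⟩ :=
        Cfsg.Agent.Helper22.exists_normal_step hP D K' hK'D hK'eq
      have hK''eq : K'' = D := by
        apply Subgroup.eq_of_le_of_card_ge hK''D
        rw [hK''c, hK'c, ← sq]; exact hD
      have h1 : ⁅D, (⊤ : Subgroup P)⁆ ≤ K' := by
        apply commutator_le_of_card_eq_prime_mul hP K' D hK'D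
        rw [← hK''eq, hK''c]
      rw [eq_bot_iff, ← hcentral K' hK'n hK'c]
      exact Subgroup.commutator_mono h1 le_rfl

/-- A `p`-group of exponent `p` and rank at most two has order at most `p³`. -/
theorem card_le_cube_of_exponent_of_rank (hP : IsPGroup p P) (hexp : ∀ g : P, g ^ p = 1)
    (hrk : ∀ E : Subgroup P, Cfsg.IsElementaryAbelian p E → Nat.card E ≤ p ^ 2) :
    Nat.card P ≤ p ^ 3 := by
  have hp : p.Prime := Fact.out
  let S : Set (Subgroup P) := {B | B.Normal ∧ IsMulCommutative B}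
  have hSne : S.Nonempty := ⟨⊥, inferInstance, inferInstance⟩
  have hSfin : S.Finite := Set.toFinite S
  obtain ⟨B, ⟨hBn, hBc⟩, hBmax⟩ := hSfin.exists_maximal hSne
  haveI := hBn
  have hmax : ∀ B' : Subgroup P, B'.Normal → IsMulCommutative B' → B ≤ B' → B' = B :=
    fun B' h1 h2 h3 => le_antisymm (hBmax ⟨h1, h2⟩ h3) h3
  obtain ⟨a, ha⟩ := IsPGroup.iff_card.mp (hP.to_subgroup B)
  have hBle : Nat.card B ≤ p ^ 2 := hrk B ⟨hBc, fun b _ => hexp b⟩
  have ha2 : a ≤ 2 := by
    rw [ha] at hBle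
    exact (Nat.pow_le_pow_iff_right hp.one_lt).mp hBle
  have hcen := centralizer_eq_of_max_normal_abelian hP B hBc hmax
  have hidx := index_centralizer_le hP B a ha
  rw [hcen] at hidx
  have h1 : Nat.card B * B.index = Nat.card P := Subgroup.card_mul_index B
  rw [← h1, ha]
  have h3 : a + a * (a - 1) / 2 ≤ 3 := by
    interval_cases a <;> simp
  calc p ^ a * B.index ≤ p ^ a * p ^ (a * (a - 1) / 2) := Nat.mul_le_mul_left _ hidx
    _ = p ^ (a + a * (a - 1) / 2) := by rw [pow_add]
    _ ≤ p ^ 3 := Nat.pow_le_pow_right hp.pos h3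

end Aux

section Main

variable {P : Type*} [Group P] [Finite P] {p : ℕ} [Fact p.Prime]

/-- Inside a normal subgroup `H` in which the elements of order dividing `p` are closed under
products, every such element lies in a normal subgroup of `P` of exponent `p` and order at most
`p³` (rank at most two). -/
theorem exists_normal_exponent_p (hP : IsPGroup p P)
    (hrk : ∀ E : Subgroup P, Cfsg.IsElementaryAbelian p E → Nat.card E ≤ p ^ 2)
    (H : Subgroup P) [hHn : H.Normal]
    (hH : ∀ a b : H, a ^ p = 1 → b ^ p = 1 → (a * b) ^ p = 1) (z : P) (hzH : z ∈ H)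
    (hz : z ^ p = 1) :
    ∃ N : Subgroup P, N.Normal ∧ z ∈ N ∧ (∀ g ∈ N, g ^ p = 1) ∧ Nat.card N ≤ p ^ 3 := by
  let N' : Subgroup H :=
    { carrier := {h | h ^ p = 1}
      mul_mem' := fun {a b} ha hb => hH a b ha hb
      one_mem' := one_pow p
      inv_mem' := fun {a} ha => by
        show a⁻¹ ^ p = 1
        rw [inv_pow]
        have : a ^ p = 1 := ha
        rw [this, inv_one] }
  have hN'mem : ∀ h : H, h ∈ N' ↔ h ^ p = 1 := fun h => Iff.rfl
  set N : Subgroup P := N'.map H.subtype with hN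
  have hexp : ∀ g ∈ N, g ^ p = 1 := by
    rintro _ ⟨h, hh, rfl⟩
    rw [← map_pow, (hN'mem h).mp hh, map_one]
  have hNn : N.Normal := by
    constructor
    rintro _ ⟨h, hh, rfl⟩ g
    refine ⟨⟨g * h * g⁻¹, hHn.conj_mem h h.2 g⟩, ?_, rfl⟩
    refine (hN'mem _).mpr ?_
    apply Subtype.ext
    have h1 : (h : P) ^ p = 1 := by
      have := congrArg Subtype.val ((hN'mem h).mp hh)
      simpa using this
    show (g * (h : P) * g⁻¹) ^ p = 1
    rw [conj_pow, h1, mul_one, mul_inv_cancel]
  refine ⟨N, hNn, ⟨⟨z, hzH⟩, ?_, rfl⟩, hexp, ?_⟩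
  · refine (hN'mem _).mpr ?_
    exact Subtype.ext (by simpa using hz)
  · apply card_le_cube_of_exponent_of_rank (hP.to_subgroup N)
    · intro g
      exact Subtype.ext (by simpa using hexp g g.2)
    · exact rank_le_of_subgroup N hrk

theorem omega_aux (hp3 : 3 < p) : ∀ (n : ℕ) (P : Type u) [Group P] [Finite P], Nat.card P = n →
    IsPGroup p P →
    (∀ E : Subgroup P, Cfsg.IsElementaryAbelian p E → Nat.card E ≤ p ^ 2) →
    ∀ x y : P, x ^ p = 1 → y ^ p = 1 → (x * y) ^ p = 1 := by
  intro n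
  induction n using Nat.strong_induction_on with
  | _ n ih =>
  intro P _ _ hn hP hrk x y hx hy
  have hp : p.Prime := Fact.out
  have hsub : ∀ H : Subgroup P, H ≠ ⊤ →
      ∀ a b : H, a ^ p = 1 → b ^ p = 1 → (a * b) ^ p = 1 := by
    intro H hH
    have hlt : Nat.card H < n := by rw [← hn]; exact card_lt_of_ne_top' hH
    exact ih _ hlt H rfl (hP.to_subgroup H) (rank_le_of_subgroup H hrk)
  by_cases hT : closure ({x, y} : Set P) = ⊤
  swap
  · have hxT : x ∈ closure ({x, y} : Set P) := subset_closure (by simp)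
    have hyT : y ∈ closure ({x, y} : Set P) := subset_closure (by simp)
    have := hsub _ hT ⟨x, hxT⟩ ⟨y, hyT⟩ (Subtype.ext (by simpa using hx))
      (Subtype.ext (by simpa using hy))
    have h2 := congrArg Subtype.val this
    simpa using h2
  by_cases hxtop : zpowers x = ⊤
  · have hyx : y ∈ zpowers x := by rw [hxtop]; exact mem_top y
    obtain ⟨k, rfl⟩ := mem_zpowers_iff.mp hyx
    have hc : Commute x (x ^ k) := (Commute.refl x).zpow_right k
    rw [hc.mul_pow, hx, hy, one_mul]
  by_cases hytop : zpowers y = ⊤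
  · have hxy : x ∈ zpowers y := by rw [hytop]; exact mem_top x
    obtain ⟨k, rfl⟩ := mem_zpowers_iff.mp hxy
    have hc : Commute (y ^ k) y := ((Commute.refl y).zpow_right k).symm
    rw [hc.mul_pow, hx, hy, one_mul]
  obtain ⟨H, hHco, hxH⟩ := (eq_top_or_exists_le_coatom (zpowers x)).resolve_left hxtop
  obtain ⟨K, hKco, hyK⟩ := (eq_top_or_exists_le_coatom (zpowers y)).resolve_left hytop
  obtain ⟨hHn, -⟩ := coatom_normal_index_of_isPGroup hP H hHco
  obtain ⟨hKn, -⟩ := coatom_normal_index_of_isPGroup hP K hKco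
  haveI := hHn
  haveI := hKn
  obtain ⟨Nx, hNxn, hxNx, hNxe, hNxc⟩ := exists_normal_exponent_p hP hrk H (hsub H hHco.1) x
    (hxH (mem_zpowers x)) hx
  obtain ⟨Ny, hNyn, hyNy, hNye, hNyc⟩ := exists_normal_exponent_p hP hrk K (hsub K hKco.1) y
    (hyK (mem_zpowers y)) hy
  haveI := hNxn
  haveI := hNyn
  by_cases hxNy : x ∈ Ny
  · exact hNye _ (mul_mem hxNy hyNy)
  -- `D = Nx ⊓ Ny` has order at most `p²`
  set D : Subgroup P := Nx ⊓ Ny with hD
  have hDcard : Nat.card D ≤ p ^ 2 := by
    obtain ⟨j, hj⟩ := IsPGroup.iff_card.mp (hP.to_subgroup Nx)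
    have hj3 : j ≤ 3 := by
      rw [hj] at hNxc
      exact (Nat.pow_le_pow_iff_right hp.one_lt).mp hNxc
    have hdvd : Nat.card D ∣ Nat.card Nx := card_dvd_of_le inf_le_left
    rw [hj] at hdvd
    obtain ⟨i, hij, hi⟩ := (Nat.dvd_prime_pow hp).mp hdvd
    have hne : i ≠ j := by
      intro h
      have : D = Nx := Subgroup.eq_of_le_of_card_ge inf_le_left (by rw [hi, hj, h])
      apply hxNy
      have hxD : x ∈ D := by rw [this]; exact hxNx
      exact (mem_inf.mp hxD).2
    rw [hi]
    exact Nat.pow_le_pow_right hp.pos (by omega)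
  have hcomm : ∀ (N : Subgroup P) (_ : N.Normal) (a b : P), a ∈ N → ⁅a, b⁆ ∈ N ∧ ⁅b, a⁆ ∈ N := by
    intro N hN a b ha
    constructor
    · rw [commutatorElement_def]
      have : a * b * a⁻¹ * b⁻¹ = a * (b * a⁻¹ * b⁻¹) := by group
      rw [this]
      exact mul_mem ha (hN.conj_mem _ (inv_mem ha) b)
    · rw [commutatorElement_def]
      exact mul_mem (hN.conj_mem _ ha b) (inv_mem ha)
  have hcNx : commutator P ≤ Nx := by
    apply Cfsg.Agent.Helper17.commutator_le_of_closure _ hT
    intro a ha b hb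
    rcases ha with rfl | rfl <;> rcases hb with rfl | rfl
    · rw [commutatorElement_self]; exact one_mem _
    · exact (hcomm Nx hNxn a b hxNx).1
    · exact (hcomm Nx hNxn b a hxNx).2
    · rw [commutatorElement_self]; exact one_mem _
  have hcNy : commutator P ≤ Ny := by
    apply Cfsg.Agent.Helper17.commutator_le_of_closure _ hT
    intro a ha b hb
    rcases ha with rfl | rfl <;> rcases hb with rfl | rfl
    · rw [commutatorElement_self]; exact one_mem _
    · exact (hcomm Ny hNyn b a hyNy).2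
    · exact (hcomm Ny hNyn a b hyNy).1
    · rw [commutatorElement_self]; exact one_mem _
  have hcD : commutator P ≤ D := le_inf hcNx hcNy
  have hcl : ⁅⁅commutator P, (⊤ : Subgroup P)⁆, (⊤ : Subgroup P)⁆ = ⊥ := by
    rw [eq_bot_iff, ← commutator_commutator_eq_bot_of_card_le hP D hDcard]
    exact Subgroup.commutator_mono (Subgroup.commutator_mono hcD le_rfl) le_rfl
  exact ClassThree.mul_pow_prime_eq_one hp hp3 hcl x y hx hy

/-- For `p > 3`, in a `p`-group of rank at most two the subgroup generated by the elements of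
order dividing `p` has exponent dividing `p`. -/
theorem pow_prime_eq_one_of_mem_closure_of_rank (hp3 : 3 < p) (hP : IsPGroup p P)
    (hrk : ∀ E : Subgroup P, Cfsg.IsElementaryAbelian p E → Nat.card E ≤ p ^ 2) (g : P)
    (hg : g ∈ Subgroup.closure {x : P | x ^ p = 1}) : g ^ p = 1 := by
  induction hg using Subgroup.closure_induction with
  | mem x hx => exact hx
  | one => exact one_pow p
  | mul x y _ _ hx hy => exact omega_aux hp3 _ P rfl hP hrk x y hx hy
  | inv x _ hx => rw [inv_pow, hx, inv_one]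

end Main

end Cfsg.Agent.Helper1
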