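import Mathlib
import Cfsg.Agent.Lib.Helper14.BGUniqO

/-!
# BG Lemma 9.5, part A (helper1): Burnside's transfer theorem in a minimal simple group,
basic facts on `SCN`-subgroups
-/

set_option autoImplicit false

namespace Cfsg.Agent.Helper1.BG95

open Cfsg Subgroup
open scoped commutatorElement

universe u

variable {G : Type u} [Group G] [Finite G]

theorem map_conj_eq_self_of_mem {H : Subgroup G} {n : G} (hn : n ∈ H) :
    H.map (MulAut.conj n).toMonoidHom = H := by
  ext x
  constructor
  · rintro ⟨y, hy, rfl⟩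
    exact H.mul_mem (H.mul_mem hn hy) (H.inv_mem hn)
  · intro hx
    refine ⟨n⁻¹ * x * n, H.mul_mem (H.mul_mem (H.inv_mem hn) hx) hn, ?_⟩
    simp [mul_assoc]

/-- `H` normalizes `[H, H]` -/
theorem le_normalizer_commutator_self (H : Subgroup G) :
    H ≤ normalizer ((⁅H, H⁆ : Subgroup G) : Set G) := by
  intro n hn
  apply Cfsg.Agent.Helper14.BGUniq.mem_normalizer_of_map_conj_eq
  rw [Subgroup.map_commutator, map_conj_eq_self_of_mem hn]

/-- `P ∩ N(P)'` is normalized by `N(P)` -/
theorem normalizer_le_normalizer_focal (P : Subgroup G) :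
    normalizer (P : Set G) ≤ normalizer
      ((P ⊓ ⁅normalizer (P : Set G), normalizer (P : Set G)⁆ : Subgroup G) : Set G) :=
  (le_inf le_rfl (le_normalizer_commutator_self _)).trans
    Subgroup.inf_normalizer_le_normalizer_inf

/-- **Burnside**: in a minimal simple group `P ∩ N(P)' ≠ 1` for a nontrivial Sylow subgroup -/
theorem focal_ne_bot (hG : IsMinSimpleOddOrder G) (p : ℕ) [Fact p.Prime] (P : Sylow p G)
    (hP1 : (P : Subgroup G) ≠ ⊥) :
    (P : Subgroup G) ⊓ ⁅normalizer ((P : Subgroup G) : Set G),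
      normalizer ((P : Subgroup G) : Set G)⁆ ≠ ⊥ := by
  intro hbot
  have hNC : normalizer ((P : Subgroup G) : Set G) ≤ centralizer ((P : Subgroup G) : Set G) := by
    intro n hn
    rw [Subgroup.mem_centralizer_iff]
    intro x hx
    have hxN : x ∈ normalizer ((P : Subgroup G) : Set G) := Subgroup.le_normalizer hx
    have h1 : ⁅x, n⁆ ∈ ⁅normalizer ((P : Subgroup G) : Set G),
        normalizer ((P : Subgroup G) : Set G)⁆ := Subgroup.commutator_mem_commutator hxN hn
    have h2 : ⁅x, n⁆ ∈ (P : Subgroup G) := by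
      rw [commutatorElement_def]
      have h3 : n * x⁻¹ * n⁻¹ ∈ (P : Subgroup G) :=
        (Subgroup.mem_normalizer_iff.mp hn x⁻¹).mp ((P : Subgroup G).inv_mem hx)
      have h4 := (P : Subgroup G).mul_mem hx h3
      simpa [mul_assoc] using h4
    have h3 : ⁅x, n⁆ ∈ (⊥ : Subgroup G) := hbot ▸ Subgroup.mem_inf.mpr ⟨h2, h1⟩
    rw [Subgroup.mem_bot, commutatorElement_eq_one_iff_mul_comm] at h3
    exact h3
  have hcomp := MonoidHom.ker_transferSylow_isComplement' P hNC
  have hsimp : IsSimpleGroup G := hG.2.1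
  rcases (MonoidHom.normal_ker (MonoidHom.transferSylow P hNC)).eq_bot_or_eq_top with h | h
  · rw [h] at hcomp
    have h1 : (P : Subgroup G) = ⊤ := Subgroup.isComplement'_bot_left.mp hcomp
    exact Cfsg.Agent.Helper14.BGTrans.ne_top_of_isPGroup hG P.isPGroup' h1
  · rw [h] at hcomp
    exact hP1 (Subgroup.isComplement'_top_left.mp hcomp)

end Cfsg.Agent.Helper1.BG95
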