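import Mathlib
import Cfsg.Agent.Lib.Helper1.BG95A
import Cfsg.Agent.S1451
import Cfsg.Agent.S1393
import Cfsg.Agent.S1395
import Cfsg.Agent.S1396
import Cfsg.Agent.S1398

/-!
# BG Lemma 9.5, part B (helper1): Step 1 (`N(P) ≤ M` for every maximal `M ≥ C(A)`),
the rank-two members normalize the focal subgroup, and the endgame
-/

set_option autoImplicit false

namespace Cfsg.Agent.Helper1.BG95

open Cfsg Subgroup
open Cfsg.Agent.Helper14.BGTrans
open Cfsg.Agent.Helper14.BGUniq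
open Cfsg.Agent.Helper15 (IsSylowIn exists_isSylowIn_ge exists_isSylowIn isSylowIn_map_subtype
  isSylowIn_of_sylow_le)
open Cfsg.Agent.Helper8 (FitPrime.pCoreOf)
open Cfsg.Agent.Helper8.FitPrime (pCoreOf_le pCoreOf_isPGroup fittingOf_eq_iSup fittingOf_le)
open scoped commutatorElement

universe u

variable {G : Type u} [Group G] [Finite G]

/-- every `q`-subgroup lies in a normal Sylow `q`-subgroup -/
theorem le_of_isPGroup_of_normal_hall {X : Type*} [Group X] [Finite X] {q : ℕ} [Fact q.Prime]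
    {N Q : Subgroup X} [hNn : N.Normal] (hN : IsPGroup q ↥N) (hi : ¬ q ∣ N.index)
    (hQ : IsPGroup q ↥Q) : Q ≤ N := by
  obtain ⟨S, hS⟩ := hQ.exists_le_sylow
  have hnorm : ((hN.toSylow hi : Sylow q X) : Subgroup X).Normal := by
    rw [IsPGroup.toSylow_coe]; exact hNn
  haveI := Sylow.unique_of_normal (hN.toSylow hi) hnorm
  have hS0 : S = hN.toSylow hi := Subsingleton.elim _ _
  have hS' : Q ≤ ((hN.toSylow hi : Sylow q X) : Subgroup X) := hS0 ▸ hS
  rwa [IsPGroup.toSylow_coe] at hS'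

/-- a nontrivial solvable group of odd order of rank at most two (or with Fitting subgroup of rank
at most two) has a characteristic Sylow subgroup for its largest prime divisor -/
theorem exists_normal_sylow_max_prime {X : Type u} [Group X] [Finite X] [Group.IsSolvable X]
    (hodd : Odd (Nat.card X)) (hr : RankLE 2 X ∨ RankLE 2 ↥(fittingSubgroup X))
    (hX : Nat.card X ≠ 1) :
    ∃ (q : ℕ) (N : Subgroup X), q.Prime ∧ N.Characteristic ∧ IsPGroup q ↥N ∧ ¬ q ∣ N.index ∧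
      N ≠ ⊥ := by
  classical
  have hne : (Nat.card X).primeFactors.Nonempty := by
    obtain ⟨r, hr, hrX⟩ := Nat.exists_prime_and_dvd hX
    exact ⟨r, Nat.mem_primeFactors.mpr ⟨hr, hrX, Nat.card_pos.ne'⟩⟩
  have hqmem : (Nat.card X).primeFactors.max' hne ∈ (Nat.card X).primeFactors :=
    Finset.max'_mem _ hne
  generalize hqdef : (Nat.card X).primeFactors.max' hne = q at hqmem
  obtain ⟨hq, hqX, -⟩ := Nat.mem_primeFactors.mp hqmem
  have hqmax : ∀ r : ℕ, r.Prime → r ∣ Nat.card X → r ≤ q := by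
    intro r hr hrX
    rw [← hqdef]
    exact Finset.le_max' _ r (Nat.mem_primeFactors.mpr ⟨hr, hrX, Nat.card_pos.ne'⟩)
  obtain ⟨N, hNc, hN1, hN2⟩ := (Cfsg.Agent.S1451.result hodd hr).2.2 (q - 1)
  have hNq : ∀ {d : ℕ}, d.Prime → d ∣ Nat.card ↥N → d = q := by
    intro d hd hdN
    have h1 : q - 1 < d := (hN1 d hd hdN).2
    have h2 : d ≤ q := hqmax d hd (hdN.trans (Subgroup.card_subgroup_dvd_card N))
    omega
  have hNp : IsPGroup q ↥N :=
    IsPGroup.of_card (Nat.eq_prime_pow_of_unique_prime_dvd Nat.card_pos.ne' hNq)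
  have hi : ¬ q ∣ N.index := hN2 q hq ⟨hq, by have := hq.pos; omega⟩
  refine ⟨q, N, hq, hNc, hNp, hi, ?_⟩
  intro hbot
  have h1 : N.index = Nat.card X := by rw [hbot]; exact Subgroup.index_bot
  exact hi (h1 ▸ hqX)

theorem rankLE_fittingSubgroup_of_fittingOf {M : Subgroup G} (hr : RankLE 2 ↥(fittingOf M)) :
    RankLE 2 ↥(fittingSubgroup ↥M) := by
  intro r hr0
  exact pRankLE_of_injective'
    (Subgroup.equivMapOfInjective (fittingSubgroup ↥M) M.subtype M.subtype_injective).toMonoidHom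
    (Subgroup.equivMapOfInjective (fittingSubgroup ↥M) M.subtype M.subtype_injective).injective
    (hr r hr0)

/-- basic facts on a member of `SCN_3(P)` -/
theorem scn_basic (hG : IsMinSimpleOddOrder G) (p : ℕ) [Fact p.Prime] (P : Sylow p G)
    {A : Subgroup G} (hA : IsSCN (P : Subgroup G) A) (hA3 : ¬ PRankLE p 2 ↥A) :
    A ≤ centralizer (A : Set G) ∧ IsMulCommutative ↥A ∧ IsPGroup p ↥A ∧ A ≠ ⊥ ∧
      ¬ PRankLE p 1 ↥A ∧ p ∣ Nat.card G ∧ TransitivityHypothesis A ∧
      ¬ RankLE 2 ↥(A ⊓ centralizer (A : Set G)) := by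
  have hp : p.Prime := Fact.out
  obtain ⟨hAP, hPA, hCPA⟩ := hA
  have hAC : A ≤ centralizer (A : Set G) := by
    have : A ≤ (P : Subgroup G) ⊓ centralizer (A : Set G) := hCPA.symm.le
    exact this.trans inf_le_right
  have hAc : IsMulCommutative ↥A := by
    refine ⟨⟨fun a b => ?_⟩⟩
    have := (Subgroup.mem_centralizer_iff.mp (hAC a.2)) b b.2
    exact Subtype.ext this.symm
  have hAp : IsPGroup p ↥A := P.isPGroup'.to_le hAP
  have hA1 : A ≠ ⊥ := by
    intro h
    apply hA3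
    intro B _ _
    have h1 : Nat.card ↥A = 1 := by rw [h]; exact Subgroup.card_bot
    have h2 : Nat.card ↥B ∣ Nat.card ↥A := Subgroup.card_subgroup_dvd_card B
    rw [h1] at h2
    rw [Nat.dvd_one.mp h2]
    exact Nat.one_le_pow _ _ hp.pos
  have hrk1 : ¬ PRankLE p 1 ↥A := by
    intro h
    apply hA3
    intro B hB1 hB2
    exact (h B hB1 hB2).trans (Nat.pow_le_pow_right hp.pos (by norm_num))
  have hpG : p ∣ Nat.card G := by
    rcases hAp.card_eq_or_dvd with h | h
    · exact absurd (Subgroup.card_eq_one.mp h) hA1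
    · exact h.trans (Subgroup.card_subgroup_dvd_card A)
  have hTH : TransitivityHypothesis A :=
    Cfsg.Agent.S1396.result hG p hpG A hAp hAc (Or.inr ⟨P, ⟨hAP, hPA, hCPA⟩, hrk1⟩)
  have hZ : ¬ RankLE 2 ↥(A ⊓ centralizer (A : Set G)) := by
    have e : A ⊓ centralizer (A : Set G) = A := inf_eq_left.mpr hAC
    rw [e]
    intro h
    exact hA3 (h p hp)
  exact ⟨hAC, hAc, hAp, hA1, hrk1, hpG, hTH, hZ⟩

/-- the "owned prime" of a maximal subgroup `M` containing the `p`-group `A` of rank `≥ 3` with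
`r_p(F(M)) ≤ 2` -/
theorem exists_good_prime (hG : IsMinSimpleOddOrder G) (p : ℕ) [Fact p.Prime]
    {A M : Subgroup G} (hM : IsCoatom M) (hAM : A ≤ M)
    (hAp : IsPGroup p ↥A) (hA3 : ¬ PRankLE p 2 ↥A)
    (h0 : PRankLE p 2 ↥(fittingOf M)) :
    ∃ (q : ℕ) (Q₀ : Subgroup G), q.Prime ∧ q ≠ p ∧ IsPGroup q ↥Q₀ ∧ Q₀ ≠ ⊥ ∧
      M ≤ normalizer (Q₀ : Set G) ∧
      ∀ Q : Subgroup G, IsPGroup q ↥Q → Q₀ ≤ Q → normalizer (Q : Set G) ≤ M := by
  classical
  have hp : p.Prime := Fact.out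
  haveI hMsolv : Group.IsSolvable ↥M := isSolvable_of_ne_top hG hM.1
  have hoddM : Odd (Nat.card ↥M) := Odd.of_dvd_nat hG.1 (Subgroup.card_subgroup_dvd_card M)
  obtain ⟨A₁, hA₁A, hA₁e, hA₁c⟩ := exists_elemAb_of_not_pRankLE hA3
  by_cases hr : RankLE 2 ↥(fittingOf M)
  · -- small Fitting subgroup
    have hr' : RankLE 2 ↥(fittingSubgroup ↥M) := rankLE_fittingSubgroup_of_fittingOf hr
    have hM1 : Nat.card ↥M ≠ 1 := by
      intro h
      have hMbot : M = ⊥ := Subgroup.card_eq_one.mp h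
      have hA₁bot : A₁ = ⊥ := eq_bot_iff.mpr (hMbot ▸ (hA₁A.trans hAM))
      rw [hA₁bot, Subgroup.card_bot] at hA₁c
      have : 1 ≤ p ^ 2 := Nat.one_le_pow _ _ hp.pos
      omega
    obtain ⟨q, N, hq, hNc, hNp, hi, hN1⟩ :=
      exists_normal_sylow_max_prime hoddM (Or.inr hr') hM1
    haveI : Fact q.Prime := ⟨hq⟩
    haveI hNn : N.Normal := Subgroup.normal_of_characteristic N
    have hQ₀p : IsPGroup q ↥(N.map M.subtype) := hNp.map M.subtype
    have hQ₀1 : N.map M.subtype ≠ ⊥ := by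
      intro h
      exact hN1 ((Subgroup.map_eq_bot_iff_of_injective _ M.subtype_injective).mp h)
    have hMQ₀ : M ≤ normalizer ((N.map M.subtype : Subgroup G) : Set G) :=
      le_normalizer_map_subtype M N
    have hNM : normalizer ((N.map M.subtype : Subgroup G) : Set G) = M :=
      (hM.le_iff.mp hMQ₀).resolve_left (normalizer_ne_top_of_isPGroup hG hQ₀p hQ₀1)
    have hqsub : ∀ Q : Subgroup G, IsPGroup q ↥Q → Q ≤ M → Q ≤ N.map M.subtype := by
      intro Q hQ hQM
      have h1 : Q.subgroupOf M ≤ N :=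
        le_of_isPGroup_of_normal_hall hNp hi (hQ.comap_subtype)
      intro x hx
      exact ⟨⟨x, hQM hx⟩, h1 (Subgroup.mem_subgroupOf.mpr hx), rfl⟩
    have hqp : q ≠ p := by
      intro h
      have hAq : IsPGroup q ↥A := by rw [h]; exact hAp
      have hAQ₀ : A ≤ N.map M.subtype := hqsub A hAq hAM
      have hQ₀F : N.map M.subtype ≤ fittingOf M :=
        Subgroup.map_mono (Cfsg.Agent.Helper7.le_fittingSubgroup N hNp.isNilpotent)
      exact not_pRankLE_of_le (hA₁A.trans (hAQ₀.trans hQ₀F)) hA₁e hA₁c h0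
    refine ⟨q, N.map M.subtype, hq, hqp, hQ₀p, hQ₀1, hMQ₀, ?_⟩
    intro Q hQ hQ₀Q
    have h1 : Q ⊓ normalizer ((N.map M.subtype : Subgroup G) : Set G) = N.map M.subtype := by
      apply le_antisymm
      · rw [hNM]; exact hqsub _ (hQ.to_le inf_le_left) inf_le_right
      · exact le_inf hQ₀Q Subgroup.le_normalizer
    have h2 : Q = N.map M.subtype := Cfsg.Agent.Helper15.eq_of_inf_normalizer_eq hQ hQ₀Q h1
    exact (show normalizer (Q : Set G) = M by rw [h2]; exact hNM).le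
  · -- large Fitting subgroup
    have hex : ∃ q : ℕ, q.Prime ∧ ¬ PRankLE q 2 ↥(fittingOf M) := by
      unfold RankLE at hr
      push Not at hr
      exact hr
    obtain ⟨q, hq, hqF⟩ := hex
    haveI : Fact q.Prime := ⟨hq⟩
    have hqp : q ≠ p := by
      intro h; apply hqF; rw [h]; exact h0
    obtain ⟨E, hEF, hEe, hEc⟩ := exists_elemAb_of_not_pRankLE hqF
    have hEp : IsPGroup q ↥E := isPGroup_of_isElementaryAbelian hEe
    have hE3 : ¬ PRankLE q 2 ↥E := not_pRankLE_of_le le_rfl hEe hEc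
    have hEU : InUniqueMaximal E :=
      inUniqueMaximal_of_rank_fittingOf hG hM q hqF hEp hEe.1 hE3
    have hEM : E ≤ M := hEF.trans (fittingOf_le M)
    obtain ⟨M', ⟨hM', hEM'⟩, huniq⟩ := hEU
    have hMM' : M = M' := huniq M ⟨hM, hEM⟩
    have huniq' : ∀ H : Subgroup G, IsCoatom H ∧ E ≤ H → H = M := by
      intro H hH; rw [hMM']; exact huniq H hH
    have hEQ₀ : E ≤ FitPrime.pCoreOf q M := by
      intro x hx
      apply mem_pCoreOf_of_mem_fittingOf q (hEF hx)
      exact ⟨1, by rw [pow_one]; exact hEe.2 x hx⟩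
    have hE1 : E ≠ ⊥ := by
      intro h
      rw [h, Subgroup.card_bot] at hEc
      have : 1 ≤ q ^ 2 := Nat.one_le_pow _ _ hq.pos
      omega
    refine ⟨q, FitPrime.pCoreOf q M, hq, hqp, pCoreOf_isPGroup q M, ?_,
      le_normalizer_pCoreOf q M, ?_⟩
    · intro h; exact hE1 (eq_bot_iff.mpr (h ▸ hEQ₀))
    · intro Q hQ hQ₀Q
      have hQ1 : Q ≠ ⊥ := fun h => hE1 (eq_bot_iff.mpr (h ▸ hEQ₀.trans hQ₀Q))
      exact le_of_inUniqueMaximal (normalizer_ne_top_of_isPGroup hG hQ hQ1)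
        ((hEQ₀.trans hQ₀Q).trans Subgroup.le_normalizer) huniq'

/-- **Step 1**: `N(R) ≤ M` for `A ≤ R ≤ P ∩ M` -/
theorem normalizer_le_of_good (hG : IsMinSimpleOddOrder G) (p : ℕ) [Fact p.Prime] (P : Sylow p G)
    {A : Subgroup G} (hA : IsSCN (P : Subgroup G) A) (hA3 : ¬ PRankLE p 2 ↥A)
    {M : Subgroup G} (hM : IsCoatom M) (hCM : centralizer (A : Set G) ≤ M)
    (h0 : PRankLE p 2 ↥(fittingOf M))
    {R : Subgroup G} (hAR : A ≤ R) (hRP : R ≤ P) (hRM : R ≤ M) :
    normalizer (R : Set G) ≤ M := by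
  classical
  have hp : p.Prime := Fact.out
  obtain ⟨hAC, hAc, hAp, hA1, hrk1, hpG, hTH, hZ⟩ := scn_basic hG p P hA hA3
  have hAM : A ≤ M := hAC.trans hCM
  obtain ⟨q, Q₀, hq, hqp, hQ₀p, hQ₀1, hMQ₀, hgood⟩ :=
    exists_good_prime hG p hM hAM hAp hA3 h0
  haveI : Fact q.Prime := ⟨hq⟩
  have hRp : IsPGroup p ↥R := P.isPGroup'.to_le hRP
  have hqA : ¬ q ∣ Nat.card ↥A := by
    intro h
    obtain ⟨k, hk⟩ := hAp.exists_card_eq
    rw [hk] at h
    exact hqp ((Nat.prime_dvd_prime_iff_eq hq hp).mp (hq.dvd_of_dvd_pow h))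
  obtain ⟨Q, hQ, hQ₀Q⟩ := exists_maxInv_ge (q := q) (A := R) hQ₀p (hRM.trans hMQ₀)
  have hQ' := mem_maxInvSubgroups_top_iff.mp hQ
  have hRtop : R ≠ ⊤ := ne_top_of_isPGroup hG hRp
  have hπ : ∀ r : ℕ, r.Prime → r ∣ Nat.card ↥R → r ∣ Nat.card ↥A := by
    intro r hr hrR
    obtain ⟨k, hk⟩ := hRp.exists_card_eq
    rw [hk] at hrR
    have hrp : r = p := (Nat.prime_dvd_prime_iff_eq hr hp).mp (hr.dvd_of_dvd_pow hrR)
    rw [hrp]
    rcases hAp.card_eq_or_dvd with h | h
    · exact absurd (Subgroup.card_eq_one.mp h) hA1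
    · exact h
  have hsn : (A.subgroupOf R).IsSubnormal := by
    haveI : Group.IsNilpotent ↥R := hRp.isNilpotent
    exact Cfsg.Agent.Helper14.isSubnormal_of_isNilpotent _
  have htr := Cfsg.Agent.S1393.result hG A hTH hZ q hq hqA
  obtain ⟨-, -, -, hd⟩ := Cfsg.Agent.S1395.result hG A hTH q hq hqA R hRtop hπ hAR hsn htr
  obtain ⟨-, hfac⟩ := hd Q hQ
  rw [hfac]
  apply sup_le
  · exact ((piCoreOf_le _ _).trans (Subgroup.centralizer_le hAR)).trans hCM
  · exact inf_le_right.trans (hgood Q hQ'.1.1 hQ₀Q)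

theorem pRankLE_fittingOf_of_not_inUniqueMaximal (hG : IsMinSimpleOddOrder G) (p : ℕ)
    [Fact p.Prime] (P : Sylow p G)
    {A : Subgroup G} (hA : IsSCN (P : Subgroup G) A) (hA3 : ¬ PRankLE p 2 ↥A)
    (hnU : ¬ InUniqueMaximal A) {M : Subgroup G} (hM : IsCoatom M) :
    PRankLE p 2 ↥(fittingOf M) := by
  obtain ⟨hAC, hAc, hAp, hA1, hrk1, hpG, hTH, hZ⟩ := scn_basic hG p P hA hA3
  by_contra h
  exact hnU (inUniqueMaximal_of_rank_fittingOf hG hM p h hAp hAc hA3)

/-- **Step 1**: every maximal subgroup containing `C(A)` contains `N(P)` -/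
theorem normalizer_sylow_le_of_centralizer_le (hG : IsMinSimpleOddOrder G) (p : ℕ)
    [Fact p.Prime] (P : Sylow p G)
    {A : Subgroup G} (hA : IsSCN (P : Subgroup G) A) (hA3 : ¬ PRankLE p 2 ↥A)
    (hnU : ¬ InUniqueMaximal A)
    {M : Subgroup G} (hM : IsCoatom M) (hCM : centralizer (A : Set G) ≤ M) :
    normalizer ((P : Subgroup G) : Set G) ≤ M := by
  obtain ⟨hAC, hAc, hAp, hA1, hrk1, hpG, hTH, hZ⟩ := scn_basic hG p P hA hA3
  have h0 : PRankLE p 2 ↥(fittingOf M) :=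
    pRankLE_fittingOf_of_not_inUniqueMaximal hG p P hA hA3 hnU hM
  have hAM : A ≤ M := hAC.trans hCM
  have hAR : A ≤ (P : Subgroup G) ⊓ M := le_inf hA.1 hAM
  have hNR := normalizer_le_of_good hG p P hA hA3 hM hCM h0 hAR inf_le_left inf_le_right
  have h1 : (P : Subgroup G) ⊓ normalizer (((P : Subgroup G) ⊓ M : Subgroup G) : Set G) =
      (P : Subgroup G) ⊓ M := by
    apply le_antisymm
    · exact le_inf inf_le_left (inf_le_right.trans hNR)
    · exact le_inf inf_le_left Subgroup.le_normalizer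
  have h2 : (P : Subgroup G) = (P : Subgroup G) ⊓ M :=
    Cfsg.Agent.Helper15.eq_of_inf_normalizer_eq P.isPGroup' inf_le_left h1
  have hPM : (P : Subgroup G) ≤ M := h2.le.trans inf_le_right
  exact normalizer_le_of_good hG p P hA hA3 hM hCM h0 hA.1 le_rfl hPM

/-- **Type α**: a maximal subgroup `M ≥ N(P)` with `r(F(M)) ≤ 2` normalizes `P ∩ N(P)'` -/
theorem le_normalizer_focal_of_rankLE (hG : IsMinSimpleOddOrder G) (p : ℕ) [Fact p.Prime]
    (P : Sylow p G) {M : Subgroup G} (hM : IsCoatom M)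
    (hNP : normalizer ((P : Subgroup G) : Set G) ≤ M)
    (hr : RankLE 2 ↥(fittingOf M)) :
    M ≤ normalizer ((((P : Subgroup G) ⊓ ⁅normalizer ((P : Subgroup G) : Set G),
      normalizer ((P : Subgroup G) : Set G)⁆ : Subgroup G)) : Set G) := by
  classical
  have hp : p.Prime := Fact.out
  haveI hMsolv : Group.IsSolvable ↥M := isSolvable_of_ne_top hG hM.1
  have hoddM : Odd (Nat.card ↥M) := Odd.of_dvd_nat hG.1 (Subgroup.card_subgroup_dvd_card M)
  have hr' : RankLE 2 ↥(fittingSubgroup ↥M) := rankLE_fittingSubgroup_of_fittingOf hr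
  have hnil : Group.IsNilpotent ↥(commutator ↥M) :=
    (Cfsg.Agent.S1451.result hoddM (Or.inr hr')).1
  have hPM : (P : Subgroup G) ≤ M := Subgroup.le_normalizer.trans hNP
  have hFM : fittingOf M ≤ M := fittingOf_le M
  have hM'F : ⁅M, M⁆ ≤ fittingOf M := by
    rw [← Subgroup.map_subtype_commutator]
    exact Subgroup.map_mono (Cfsg.Agent.Helper7.le_fittingSubgroup (commutator ↥M) hnil)
  have hDF : (P : Subgroup G) ⊓ ⁅normalizer ((P : Subgroup G) : Set G),
      normalizer ((P : Subgroup G) : Set G)⁆ ≤ fittingOf M :=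
    inf_le_right.trans ((Subgroup.commutator_mono hNP hNP).trans hM'F)
  have hDp : IsPGroup p ↥((P : Subgroup G) ⊓ ⁅normalizer ((P : Subgroup G) : Set G),
      normalizer ((P : Subgroup G) : Set G)⁆ : Subgroup G) := P.isPGroup'.to_le inf_le_left
  have hDOp : (P : Subgroup G) ⊓ ⁅normalizer ((P : Subgroup G) : Set G),
      normalizer ((P : Subgroup G) : Set G)⁆ ≤ FitPrime.pCoreOf p M := by
    intro x hx
    apply mem_pCoreOf_of_mem_fittingOf p (hDF hx)
    obtain ⟨k, hk⟩ := hDp ⟨x, hx⟩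
    exact ⟨k, by simpa using congrArg Subtype.val hk⟩
  have hNPD := normalizer_le_normalizer_focal (P : Subgroup G)
  have hFD : fittingOf M ≤ normalizer ((((P : Subgroup G) ⊓
      ⁅normalizer ((P : Subgroup G) : Set G),
      normalizer ((P : Subgroup G) : Set G)⁆ : Subgroup G)) : Set G) := by
    rw [fittingOf_eq_iSup]
    apply iSup_le
    intro ℓ
    haveI : Fact (ℓ : ℕ).Prime := ⟨ℓ.2⟩
    by_cases hℓ : (ℓ : ℕ) = p
    · rw [hℓ]
      exact ((pCoreOf_le_of_isSylowIn (isSylowIn_of_sylow_le P hPM)).trans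
        Subgroup.le_normalizer).trans hNPD
    · have h1 : FitPrime.pCoreOf (ℓ : ℕ) M ≤
          centralizer ((FitPrime.pCoreOf p M : Subgroup G) : Set G) :=
        pCoreOf_le_centralizer_pCoreOf hℓ M
      exact (h1.trans (Subgroup.centralizer_le hDOp)).trans
        (Subgroup.centralizer_le_normalizer _)
  have hconj : ∀ m ∈ M, ∀ x ∈ fittingOf M ⊔ (P : Subgroup G),
      m * x * m⁻¹ ∈ fittingOf M ⊔ (P : Subgroup G) := by
    intro m hm x hx
    have hxM : x ∈ M := (sup_le hFM hPM) hx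
    have h1 : ⁅m, x⁆ ∈ ⁅M, M⁆ := Subgroup.commutator_mem_commutator hm hxM
    have h2 : m * x * m⁻¹ = ⁅m, x⁆ * x := by
      rw [commutatorElement_def]; group
    rw [h2]
    exact Subgroup.mul_mem _ ((le_sup_left : fittingOf M ≤ fittingOf M ⊔ (P : Subgroup G))
      (hM'F h1)) hx
  have hMK : M ≤ normalizer ((fittingOf M ⊔ (P : Subgroup G) : Subgroup G) : Set G) := by
    intro m hm
    rw [Subgroup.mem_normalizer_iff]
    intro x
    constructor
    · exact hconj m hm x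
    · intro hx
      have := hconj m⁻¹ (M.inv_mem hm) _ hx
      simpa [mul_assoc] using this
  exact le_of_frattini (sup_le hFM hPM)
    (sup_le hFD (Subgroup.le_normalizer.trans hNPD)) hMK
    (isSylowIn_of_sylow_le P le_sup_right) hNPD

theorem centralizer_singleton_ne_top (hG : IsMinSimpleOddOrder G) {b : G} (hb : b ≠ 1) :
    centralizer ({b} : Set G) ≠ ⊤ := by
  intro h
  have hbc : b ∈ Subgroup.center G := by
    rw [Subgroup.mem_center_iff]
    intro g
    have hg : g ∈ centralizer ({b} : Set G) := h ▸ Subgroup.mem_top g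
    exact (Subgroup.mem_centralizer_iff.mp hg b rfl).symm
  have hsimp : IsSimpleGroup G := hG.2.1
  rcases (inferInstance : (Subgroup.center G).Normal).eq_bot_or_eq_top with h1 | h1
  · rw [h1, Subgroup.mem_bot] at hbc
    exact hb hbc
  · apply hG.2.2.1
    refine ⟨⟨fun x y => ?_⟩⟩
    have hy : y ∈ Subgroup.center G := h1 ▸ Subgroup.mem_top y
    exact (Subgroup.mem_center_iff.mp hy x)

/-- **Endgame**: if only one maximal subgroup contains `C(A)` then `A ∈ 𝒰` -/
theorem inUniqueMaximal_of_unique (hG : IsMinSimpleOddOrder G) (p : ℕ) [Fact p.Prime]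
    (P : Sylow p G) {A : Subgroup G} (hA : IsSCN (P : Subgroup G) A) (hA3 : ¬ PRankLE p 2 ↥A)
    (huniq : ∀ M₁ M₂ : Subgroup G, IsCoatom M₁ → IsCoatom M₂ → centralizer (A : Set G) ≤ M₁ →
      centralizer (A : Set G) ≤ M₂ → M₁ = M₂) : InUniqueMaximal A := by
  have hp : p.Prime := Fact.out
  obtain ⟨hAC, hAc, hAp, hA1, hrk1, hpG, hTH, hZ⟩ := scn_basic hG p P hA hA3
  have hCtop : centralizer (A : Set G) ≠ ⊤ := by
    intro h
    have h1 : normalizer (A : Set G) = ⊤ :=
      eq_top_iff.mpr (h ▸ Subgroup.centralizer_le_normalizer _)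
    exact normalizer_ne_top_of_isPGroup hG hAp hA1 h1
  obtain ⟨M, hM, hCM⟩ := exists_isCoatom_ge hCtop
  have hAM : A ≤ M := hAC.trans hCM
  obtain ⟨E, hEA, hEe, hEc⟩ := exists_elemAb_of_not_pRankLE hA3
  have hEnc : ¬ IsCyclic ↥E := by
    apply not_isCyclic_of_isElementaryAbelian hEe
    calc p = p ^ 1 := (pow_one p).symm
      _ < p ^ 2 := Nat.pow_lt_pow_right hp.one_lt (by norm_num)
      _ < Nat.card ↥E := hEc
  have hcent : ∀ b ∈ E, b ≠ 1 → centralizer ({b} : Set G) ≤ M := by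
    intro b hbE hb1
    obtain ⟨H, hH, hbH⟩ := exists_isCoatom_ge (centralizer_singleton_ne_top hG hb1)
    have hCA : centralizer (A : Set G) ≤ centralizer ({b} : Set G) :=
      Subgroup.centralizer_le (by
        intro x hx
        rw [Set.mem_singleton_iff] at hx
        rw [hx]; exact hEA hbE)
    have : H = M := huniq H M hH hM (hCA.trans hbH) hCM
    rw [← this]; exact hbH
  have hEU : InUniqueMaximal E :=
    Cfsg.Agent.S1398.result hG M hM p E (hEA.trans hAM) hEe hEnc (Or.inl hcent)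
  exact inUniqueMaximal_of_le hM hAM hEA hEU

end Cfsg.Agent.Helper1.BG95
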