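import Mathlib

/-!
# S2202, piece F1B (pure Mathlib): two small arithmetic facts
-/

set_option autoImplicit false

namespace Cfsg.Agent.Helper2.AIC

theorem four_le_card_of_not_cyclic {T : Type*} [Group T] [Finite T] (hT : IsPGroup 2 T)
    (hnc : ¬ IsCyclic T) : ∃ k : ℕ, 2 ≤ k ∧ Nat.card T = 2 ^ k := by
  haveI : Fact (Nat.Prime 2) := ⟨Nat.prime_two⟩
  obtain ⟨k, hk⟩ := IsPGroup.iff_card.mp hT
  refine ⟨k, ?_, hk⟩
  by_contra hlt
  push_neg at hlt
  interval_cases k
  · -- card = 1
    apply hnc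
    have h1 : Nat.card T = 1 := by simpa using hk
    haveI : Subsingleton T := (Nat.card_eq_one_iff_unique.mp h1).1
    exact isCyclic_of_subsingleton
  · apply hnc
    have h2 : Nat.card T = 2 := by simpa using hk
    exact isCyclic_of_prime_card h2

theorem charP_two_of_card {F : Type*} [Field F] [Fintype F] {k : ℕ} (hk : 1 ≤ k)
    (h : Fintype.card F = 2 ^ k) : CharP F 2 := by
  obtain ⟨p, hp⟩ := CharP.exists F
  haveI := hp
  haveI : Fact p.Prime := ⟨CharP.char_is_prime F p⟩
  obtain ⟨n, hprime, hn⟩ := FiniteField.card F p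
  have hdvd : p ∣ 2 ^ k := by
    rw [← h, hn]
    exact dvd_pow_self p (PNat.ne_zero n)
  have hp2 : p = 2 := by
    have := (Nat.Prime.dvd_of_dvd_pow hprime hdvd)
    exact (Nat.prime_dvd_prime_iff_eq hprime Nat.prime_two).mp this
  subst hp2
  exact hp

end Cfsg.Agent.Helper2.AIC
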