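import Mathlib
import Cfsg.Agent.Lib.Helper2.AICDefs

/-!
# S2202, piece QLIFT: quotient by a normal subgroup of odd order
-/

set_option autoImplicit false

namespace Cfsg.Agent.Helper2.AIC

section QLIFT
variable {H : Type*} [Group H] [Finite H]

/-- elements of a subgroup of odd order have odd order -/
theorem qlift_odd_orderOf (Z : Subgroup H) (hodd : Odd (Nat.card Z)) {z : H} (hz : z ∈ Z) :
    Odd (orderOf z) := by
  have h1 : orderOf (⟨z, hz⟩ : Z) ∣ Nat.card Z := orderOf_dvd_natCard _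
  rw [Subgroup.orderOf_mk] at h1
  exact Odd.of_dvd_nat hodd h1

/-- an involution of `H ⧸ Z` lifts to an involution (`t := t₀ ^ m`, `m` the odd order of `t₀ ^ 2`) -/
theorem exists_inv_lift (Z : Subgroup H) [Z.Normal] (hodd : Odd (Nat.card Z)) {tb : H ⧸ Z}
    (ht : orderOf tb = 2) : ∃ t : H, orderOf t = 2 ∧ (QuotientGroup.mk t : H ⧸ Z) = tb := by
  obtain ⟨t₀, rfl⟩ := QuotientGroup.mk_surjective tb
  have hsq : (QuotientGroup.mk t₀ : H ⧸ Z) ^ 2 = 1 := by
    rw [← ht]; exact pow_orderOf_eq_one _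
  have hmem : t₀ ^ 2 ∈ Z := by
    rw [← QuotientGroup.eq_one_iff, QuotientGroup.mk_pow]; exact hsq
  have hm : Odd (orderOf (t₀ ^ 2)) := qlift_odd_orderOf Z hodd hmem
  set m := orderOf (t₀ ^ 2) with hmdef
  obtain ⟨j, hj⟩ := hm
  have hmk : (QuotientGroup.mk (t₀ ^ m) : H ⧸ Z) = QuotientGroup.mk t₀ := by
    rw [QuotientGroup.mk_pow, hj, pow_succ, pow_mul, hsq, one_pow, one_mul]
  have hne : (QuotientGroup.mk t₀ : H ⧸ Z) ≠ 1 := by
    intro h1
    rw [h1, orderOf_one] at ht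
    omega
  refine ⟨t₀ ^ m, ?_, hmk⟩
  have h2 : (t₀ ^ m) ^ 2 = 1 := by
    rw [← pow_mul, mul_comm, pow_mul, hmdef]
    exact pow_orderOf_eq_one _
  have h1 : t₀ ^ m ≠ 1 := by
    intro h
    rw [h, QuotientGroup.mk_one] at hmk
    exact hne hmk.symm
  exact orderOf_eq_prime h2 h1

/-- `C_{H/Z}(tZ) = C_H(t) Z / Z`. -/
theorem exists_centralizer_lift (Z : Subgroup H) [Z.Normal] (hodd : Odd (Nat.card Z)) {t : H}
    (ht : orderOf t = 2) {xb : H ⧸ Z}
    (hx : xb * (QuotientGroup.mk t : H ⧸ Z) = (QuotientGroup.mk t : H ⧸ Z) * xb) :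
    ∃ x : H, x * t = t * x ∧ (QuotientGroup.mk x : H ⧸ Z) = xb := by
  obtain ⟨x₀, rfl⟩ := QuotientGroup.mk_surjective xb
  have htt : t * t = 1 := by
    have := pow_orderOf_eq_one t
    rw [ht, pow_two] at this
    exact this
  have htinv : t⁻¹ = t := inv_eq_of_mul_eq_one_right htt
  -- z := x₀⁻¹ * (t * x₀ * t⁻¹)
  set z : H := x₀⁻¹ * (t * x₀ * t⁻¹) with hzdef
  have hzZ : z ∈ Z := by
    rw [← QuotientGroup.eq_one_iff]
    have e : (QuotientGroup.mk z : H ⧸ Z) =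
        (QuotientGroup.mk x₀ : H ⧸ Z)⁻¹ *
          ((QuotientGroup.mk t : H ⧸ Z) * QuotientGroup.mk x₀ * (QuotientGroup.mk t : H ⧸ Z)⁻¹) := by
      simp [hzdef]
    rw [e, ← hx]
    group
  -- t z t⁻¹ = z⁻¹
  have hinv : t * z * t⁻¹ = z⁻¹ := by
    have hL : t * z * t⁻¹ = t * x₀⁻¹ * t * x₀ := by
      rw [hzdef]
      have e1 : t * (x₀⁻¹ * (t * x₀ * t⁻¹)) * t⁻¹ = t * x₀⁻¹ * t * x₀ * (t⁻¹ * t⁻¹) := by group
      rw [e1, htinv, htt, mul_one]
    have hR : z⁻¹ = t * x₀⁻¹ * t * x₀ := by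
      rw [hzdef]
      have e1 : (x₀⁻¹ * (t * x₀ * t⁻¹))⁻¹ = t * x₀⁻¹ * t⁻¹ * x₀ := by group
      rw [e1, htinv]
    rw [hL, hR]
  have hzo : Odd (orderOf z) := qlift_odd_orderOf Z hodd hzZ
  obtain ⟨j, hj⟩ := hzo
  -- w := z ^ (j + 1), w ^ 2 = z
  set w : H := z ^ (j + 1) with hwdef
  have hw2 : w * w = z := by
    rw [hwdef, ← pow_add]
    have : j + 1 + (j + 1) = orderOf z + 1 := by omega
    rw [this, pow_succ, pow_orderOf_eq_one, one_mul]
  have hwZ : w ∈ Z := Z.pow_mem hzZ _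
  have hwinv : t * w * t⁻¹ = w⁻¹ := by
    rw [hwdef]
    have : t * z ^ (j + 1) * t⁻¹ = (t * z * t⁻¹) ^ (j + 1) := by
      rw [conj_pow]
    rw [this, hinv, inv_pow]
  refine ⟨x₀ * w, ?_, ?_⟩
  · -- x₀ w t = t x₀ w  <=>  t (x₀ w) t⁻¹ = x₀ w
    have h1 : t * (x₀ * w) * t⁻¹ = x₀ * w := by
      have e : t * (x₀ * w) * t⁻¹ = (t * x₀ * t⁻¹) * (t * w * t⁻¹) := by group
      rw [e, hwinv]
      have e2 : t * x₀ * t⁻¹ = x₀ * z := by rw [hzdef]; group
      rw [e2, ← hw2]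
      group
    have h2 : t * (x₀ * w) = x₀ * w * t := by
      have := congrArg (· * t) h1
      rw [← this]
      group
    exact h2.symm
  · rw [QuotientGroup.mk_mul, (QuotientGroup.eq_one_iff w).2 hwZ, mul_one]

theorem Hyp.quot (hh : Hyp H) (Z : Subgroup H) [Z.Normal] (hodd : Odd (Nat.card Z)) :
    Hyp (H ⧸ Z) := by
  intro tb htb xb hxb yb hyb
  obtain ⟨t, ht, rfl⟩ := exists_inv_lift Z hodd htb
  rw [Subgroup.mem_centralizer_iff] at hxb hyb
  have hx := hxb _ (Set.mem_singleton _)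
  have hy := hyb _ (Set.mem_singleton _)
  obtain ⟨x, hxt, rfl⟩ := exists_centralizer_lift Z hodd ht hx.symm
  obtain ⟨y, hyt, rfl⟩ := exists_centralizer_lift Z hodd ht hy.symm
  have hxc : x ∈ Subgroup.centralizer ({t} : Set H) := by
    rw [Subgroup.mem_centralizer_iff]
    intro h hh'
    rw [Set.mem_singleton_iff] at hh'
    subst hh'
    exact hxt.symm
  have hyc : y ∈ Subgroup.centralizer ({t} : Set H) := by
    rw [Subgroup.mem_centralizer_iff]
    intro h hh'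
    rw [Set.mem_singleton_iff] at hh'
    subst hh'
    exact hyt.symm
  have := hh t ht x hxc y hyc
  rw [← QuotientGroup.mk_mul, ← QuotientGroup.mk_mul, this]

omit [Finite H] in
theorem Hyp.subgroup (hh : Hyp H) (K : Subgroup H) : Hyp ↥K := by
  intro t ht x hx y hy
  have ht' : orderOf (t : H) = 2 := by rw [Subgroup.orderOf_coe]; exact ht
  rw [Subgroup.mem_centralizer_iff] at hx hy
  have hx1 := hx t (Set.mem_singleton _)
  have hy1 := hy t (Set.mem_singleton _)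
  have hxc : (x : H) ∈ Subgroup.centralizer ({(t : H)} : Set H) := by
    rw [Subgroup.mem_centralizer_iff]
    intro h hh'
    rw [Set.mem_singleton_iff] at hh'
    subst hh'
    have := congrArg Subtype.val hx1
    simpa using this
  have hyc : (y : H) ∈ Subgroup.centralizer ({(t : H)} : Set H) := by
    rw [Subgroup.mem_centralizer_iff]
    intro h hh'
    rw [Set.mem_singleton_iff] at hh'
    subst hh'
    have := congrArg Subtype.val hy1
    simpa using this
  apply Subtype.ext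
  have := hh (t : H) ht' x hxc y hyc
  simpa using this

end QLIFT

end Cfsg.Agent.Helper2.AIC
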