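import Mathlib

/-!
# S2262 piece AO-NUM4 (helper1): `num_unitary`, pure `Nat` numerics.
-/

set_option autoImplicit false

namespace Cfsg.Agent.Helper1.AONUM4

/-- AO-NUM4 -/
theorem num_unitary (q0 d N : ℕ) (hq : 2 ≤ q0) (hd : 4 ≤ d) (hN : (q0 - 1) * N ≤ q0 ^ (d + 1)) :
    (q0 ^ 2 - 1) * (2 * N) ≤ (q0 ^ 2) ^ d - 1 := by
  obtain ⟨a, rfl⟩ := Nat.exists_eq_add_of_le hq
  obtain ⟨e, rfl⟩ := Nat.exists_eq_add_of_le hd
  have h0 : 2 + a - 1 = a + 1 := by omega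
  rw [h0] at hN
  have h1 : (2 + a) ^ 2 - 1 = (a + 3) * (a + 1) := by
    apply Nat.sub_eq_of_eq_add
    ring
  rw [h1]
  -- main inequality
  have hpos : 1 ≤ (2 + a) ^ (4 + e + 1) := Nat.one_le_pow _ _ (by omega)
  have h3 : 2 * (a + 3) + 1 ≤ (2 + a) ^ 3 := by
    have : (2 + a) ^ 3 = a ^ 3 + 6 * a ^ 2 + 12 * a + 8 := by ring
    rw [this]
    nlinarith [Nat.zero_le (a ^ 3), Nat.zero_le (a ^ 2)]
  have h4 : (2 + a) ^ 3 ≤ (2 + a) ^ (e + 3) :=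
    Nat.pow_le_pow_right (by omega) (by omega)
  have h5 : ((2 + a) ^ 2) ^ (4 + e) = (2 + a) ^ (e + 3) * (2 + a) ^ (4 + e + 1) := by
    rw [← pow_mul, ← pow_add]
    congr 1
    ring
  have h6 : (a + 3) * (a + 1) * (2 * N) = 2 * (a + 3) * ((a + 1) * N) := by ring
  rw [h6, h5]
  have h7 : 2 * (a + 3) * ((a + 1) * N) ≤ 2 * (a + 3) * (2 + a) ^ (4 + e + 1) :=
    Nat.mul_le_mul_left _ hN
  have h8 : (2 * (a + 3) + 1) * (2 + a) ^ (4 + e + 1)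
      ≤ (2 + a) ^ (e + 3) * (2 + a) ^ (4 + e + 1) :=
    Nat.mul_le_mul_right _ (h3.trans h4)
  have h9 : (2 * (a + 3) + 1) * (2 + a) ^ (4 + e + 1)
      = 2 * (a + 3) * (2 + a) ^ (4 + e + 1) + (2 + a) ^ (4 + e + 1) := by ring
  omega

end Cfsg.Agent.Helper1.AONUM4
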