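import Mathlib

/-!
A characteristic chain with cyclic steps in a finite abelian `p`-group without repeated invariants.
-/

set_option autoImplicit false

namespace Cfsg.Agent.Helper1.AbChain

variable {T : Type*} [CommGroup T] (p : ℕ)

/-- `Ω_i(T)` -/
def om (i : ℕ) : Subgroup T := (powMonoidHom (p ^ i) : T →* T).ker

/-- `℧^j(T)` -/
def ag (j : ℕ) : Subgroup T := (powMonoidHom (p ^ j) : T →* T).range

/-- `Ω_i (Ω_{i+1} ∩ ℧^j)` -/
def W (i j : ℕ) : Subgroup T := om p i ⊔ (om p (i + 1) ⊓ ag p j)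

variable {p}

theorem mem_om {i : ℕ} {x : T} : x ∈ om p i ↔ x ^ (p ^ i) = 1 := by
  unfold om
  rw [MonoidHom.mem_ker]
  rfl

theorem mem_ag {j : ℕ} {x : T} : x ∈ ag p j ↔ ∃ y : T, y ^ (p ^ j) = x := by
  unfold ag
  rw [MonoidHom.mem_range]
  rfl

theorem om_zero : om p 0 = (⊥ : Subgroup T) := by
  ext x
  rw [mem_om, pow_zero, pow_one, Subgroup.mem_bot]

theorem ag_zero : ag p 0 = (⊤ : Subgroup T) := by
  ext x
  rw [mem_ag]
  simp

theorem om_top {N : ℕ} (h : ∀ x : T, x ^ (p ^ N) = 1) : om p N = (⊤ : Subgroup T) := by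
  ext x
  rw [mem_om]
  simp [h x]

theorem ag_bot {N : ℕ} (h : ∀ x : T, x ^ (p ^ N) = 1) : ag p N = (⊥ : Subgroup T) := by
  ext x
  rw [mem_ag, Subgroup.mem_bot]
  constructor
  · rintro ⟨y, rfl⟩; exact h y
  · rintro rfl; exact ⟨1, one_pow _⟩

theorem om_le_succ (i : ℕ) : om p i ≤ (om p (i + 1) : Subgroup T) := by
  intro x hx
  rw [mem_om] at hx ⊢
  rw [pow_succ, pow_mul, hx, one_pow]

theorem ag_succ_le (j : ℕ) : ag p (j + 1) ≤ (ag p j : Subgroup T) := by
  intro x hx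
  rw [mem_ag] at hx ⊢
  obtain ⟨y, rfl⟩ := hx
  exact ⟨y ^ p, by rw [← pow_mul, ← pow_succ']⟩

theorem W_top {N : ℕ} (h : ∀ x : T, x ^ (p ^ N) = 1) (i : ℕ) : W p i N = (om p i : Subgroup T) := by
  unfold W
  rw [ag_bot h, inf_bot_eq, sup_bot_eq]

theorem W_zero (i : ℕ) : W p i 0 = (om p (i + 1) : Subgroup T) := by
  unfold W
  rw [ag_zero, inf_top_eq]
  exact sup_eq_right.mpr (om_le_succ i)

theorem W_succ_le (i j : ℕ) : W p i (j + 1) ≤ (W p i j : Subgroup T) := by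
  unfold W
  exact sup_le_sup_left (inf_le_inf_left _ (ag_succ_le j)) _

theorem om_le_W (i j : ℕ) : om p i ≤ (W p i j : Subgroup T) := le_sup_left

theorem map_om_le (ψ : T →* T) (i : ℕ) : (om p i).map ψ ≤ om p i := by
  rintro _ ⟨x, hx, rfl⟩
  have hx' : x ^ (p ^ i) = 1 := mem_om.mp hx
  rw [mem_om, ← map_pow, hx', map_one]

theorem map_ag_le (ψ : T →* T) (j : ℕ) : (ag p j).map ψ ≤ ag p j := by
  rintro _ ⟨x, hx, rfl⟩
  obtain ⟨y, rfl⟩ := mem_ag.mp hx
  rw [mem_ag]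
  exact ⟨ψ y, by rw [map_pow]⟩

theorem map_W_le (ψ : T →* T) (i j : ℕ) : (W p i j).map ψ ≤ W p i j := by
  unfold W
  rw [Subgroup.map_sup]
  refine sup_le_sup (map_om_le ψ i) ?_
  refine le_trans (Subgroup.map_inf_le _ _ ψ) ?_
  exact inf_le_inf (map_om_le ψ (i + 1)) (map_ag_le ψ j)

end Cfsg.Agent.Helper1.AbChain

namespace Cfsg.Agent.Helper1.AbChain

open Multiplicative

variable {T : Type*} [CommGroup T] {p : ℕ}

/-- analysis of one cyclic coordinate -/
theorem coord_case [hp : Fact p.Prime] {g : T} {f : ℕ} (hg : orderOf g = p ^ f) (i j a : ℕ)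
    (hu : ((g ^ a) ^ (p ^ j)) ^ (p ^ (i + 1)) = 1) :
    (f ≤ i + j → (g ^ a) ^ (p ^ j) ∈ om p i) ∧
    (i + j + 1 < f → (g ^ a) ^ (p ^ j) ∈ om p (i + 1) ⊓ ag p (j + 1)) ∧
    (f = i + j + 1 → (g ^ a) ^ (p ^ j) ∈ Subgroup.zpowers (g ^ (p ^ j))) := by
  refine ⟨fun hf => ?_, fun hf => ?_, fun _ => ?_⟩
  · rw [mem_om, ← pow_mul, ← pow_mul, ← pow_add]
    apply (orderOf_dvd_iff_pow_eq_one).mp
    rw [hg]
    exact Dvd.dvd.mul_left (pow_dvd_pow p (by omega)) a
  · refine Subgroup.mem_inf.mpr ⟨mem_om.mpr hu, ?_⟩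
    rw [← pow_mul, ← pow_mul, ← pow_add] at hu
    have h1 : p ^ f ∣ a * p ^ (j + (i + 1)) := by
      rw [← hg]; exact orderOf_dvd_of_pow_eq_one hu
    have h2 : p ^ f = p ^ (f - (i + j + 1)) * p ^ (j + (i + 1)) := by
      rw [← pow_add]; congr 1; omega
    rw [h2] at h1
    have h3 : p ^ (f - (i + j + 1)) ∣ a :=
      Nat.dvd_of_mul_dvd_mul_right (pow_pos hp.out.pos _) h1
    obtain ⟨a', rfl⟩ := h3
    rw [mem_ag]
    refine ⟨g ^ (p ^ (f - (i + j + 1) - 1) * a'), ?_⟩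
    rw [← pow_mul, ← pow_mul]
    congr 1
    have h4 : p ^ (f - (i + j + 1)) = p ^ (f - (i + j + 1) - 1) * p := by
      rw [← pow_succ]; congr 1; omega
    rw [h4, pow_succ]
    ring
  · rw [Subgroup.mem_zpowers_iff]
    refine ⟨(a : ℤ), ?_⟩
    rw [zpow_natCast, ← pow_mul, ← pow_mul, mul_comm]

/-- The key step: consecutive terms of the chain differ by a cyclic subgroup. -/
theorem step [Finite T] [hp : Fact p.Prime] (hT : IsPGroup p T)
    (hno : ¬ ∃ (n : ℕ) (H : Type) (_ : CommGroup H), 0 < n ∧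
      Nonempty (T ≃* (Multiplicative (ZMod (p ^ n)) × Multiplicative (ZMod (p ^ n))) × H))
    (i j : ℕ) : ∃ x : T, W p i j = W p i (j + 1) ⊔ Subgroup.zpowers x := by
  classical
  obtain ⟨ι, _, n, hn, ⟨e⟩⟩ := CommGroup.equiv_prod_multiplicative_zmod_of_finite T
  have : ∀ k, NeZero (n k) := fun k => ⟨by have := hn k; omega⟩
  let g : ι → T := fun k => e.symm (Pi.mulSingle k (ofAdd (1 : ZMod (n k))))
  have hg_ord : ∀ k, orderOf (g k) = n k := by
    intro k
    show orderOf (e.symm (Pi.mulSingle k (ofAdd (1 : ZMod (n k))))) = n k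
    rw [← MulEquiv.coe_toMonoidHom, orderOf_injective e.symm.toMonoidHom e.symm.injective]
    have h1 := orderOf_injective (MonoidHom.mulSingle (fun k => Multiplicative (ZMod (n k))) k)
      (fun a b h => Pi.mulSingle_injective k h) (ofAdd (1 : ZMod (n k)))
    rw [MonoidHom.mulSingle_apply] at h1
    rw [h1, orderOf_ofAdd_eq_addOrderOf, ZMod.addOrderOf_one]
  have hf : ∀ k, ∃ f : ℕ, n k = p ^ f := fun k => by
    obtain ⟨f, hf⟩ := IsPGroup.iff_orderOf.mp hT (g k)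
    exact ⟨f, by rw [← hg_ord k, hf]⟩
  choose f hf using hf
  have hg_ord' : ∀ k, orderOf (g k) = p ^ f k := fun k => by rw [hg_ord k, hf k]
  -- projections
  let P : ι → (T →* T) := fun k => e.symm.toMonoidHom.comp
    ((MonoidHom.mulSingle (fun k => Multiplicative (ZMod (n k))) k).comp
      ((Pi.evalMonoidHom (fun k => Multiplicative (ZMod (n k))) k).comp e.toMonoidHom))
  have hP_apply : ∀ k x, P k x = e.symm (Pi.mulSingle k (e x k)) := fun k x => rfl
  have hP_prod : ∀ x : T, ∏ k, P k x = x := by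
    intro x
    simp only [hP_apply]
    rw [← map_prod, Finset.univ_prod_mulSingle, MulEquiv.symm_apply_apply]
  have hP_gen : ∀ k x, ∃ a : ℕ, P k x = g k ^ a := by
    intro k x
    refine ⟨(toAdd (e x k)).val, ?_⟩
    rw [hP_apply]
    show _ = (e.symm (Pi.mulSingle k (ofAdd (1 : ZMod (n k))))) ^ _
    rw [← map_pow]
    congr 1
    have h1 : e x k = (ofAdd (1 : ZMod (n k))) ^ (toAdd (e x k)).val := by
      rw [← ofAdd_nsmul, nsmul_eq_mul, mul_one, ZMod.natCast_zmod_val]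
      rfl
    have h2 := map_pow (MonoidHom.mulSingle (fun k => Multiplicative (ZMod (n k))) k)
      (ofAdd (1 : ZMod (n k))) (toAdd (e x k)).val
    rw [MonoidHom.mulSingle_apply, MonoidHom.mulSingle_apply] at h2
    rw [← h2, ← h1]
  -- uniqueness of the critical coordinate
  have huniq : ∀ k l, f k = i + j + 1 → f l = i + j + 1 → k = l := by
    intro k l hk hl
    by_contra hkl
    apply hno
    have hlk : l ≠ k := fun h => hkl h.symm
    let β : ι → Type := fun k => Multiplicative (ZMod (n k))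
    let e1 : (∀ k, β k) ≃* β k × (∀ m : {m // m ≠ k}, β m) :=
      { Equiv.piSplitAt k β with map_mul' := fun _ _ => rfl }
    let β' : {m // m ≠ k} → Type := fun m => β m
    let e2 : (∀ m : {m // m ≠ k}, β' m) ≃* β' ⟨l, hlk⟩ × (∀ m : {m // m ≠ (⟨l, hlk⟩ : {m // m ≠ k})}, β' m) :=
      { Equiv.piSplitAt (⟨l, hlk⟩ : {m // m ≠ k}) β' with map_mul' := fun _ _ => rfl }
    have hnk : n k = p ^ (i + j + 1) := by rw [hf k, hk]
    have hnl : n l = p ^ (i + j + 1) := by rw [hf l, hl]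
    let ck : β k ≃* Multiplicative (ZMod (p ^ (i + j + 1))) :=
      (ZMod.ringEquivCongr hnk).toAddEquiv.toMultiplicative
    let cl : β l ≃* Multiplicative (ZMod (p ^ (i + j + 1))) :=
      (ZMod.ringEquivCongr hnl).toAddEquiv.toMultiplicative
    let H : Type := (∀ m : {m // m ≠ (⟨l, hlk⟩ : {m // m ≠ k})}, β' m)
    refine ⟨i + j + 1, H, inferInstance, by omega, ⟨?_⟩⟩
    refine e.trans (e1.trans ?_)
    refine (MulEquiv.prodCongr (MulEquiv.refl _) e2).trans ?_
    refine (MulEquiv.prodAssoc).symm.trans ?_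
    exact MulEquiv.prodCongr (MulEquiv.prodCongr ck cl) (MulEquiv.refl _)
  -- the element x
  let x : T := if h : ∃ k, f k = i + j + 1 then (g h.choose) ^ (p ^ j) else 1
  have hx_spec : ∀ k, f k = i + j + 1 → x = (g k) ^ (p ^ j) := by
    intro k hk
    have h : ∃ k, f k = i + j + 1 := ⟨k, hk⟩
    show (if h : ∃ k, f k = i + j + 1 then (g h.choose) ^ (p ^ j) else 1) = _
    rw [dif_pos h]
    rw [huniq _ _ h.choose_spec hk]
  refine ⟨x, le_antisymm ?_ ?_⟩
  · -- W i j ≤ W i (j+1) ⊔ zpowers x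
    unfold W
    refine sup_le (le_trans le_sup_left le_sup_left) ?_
    rintro y ⟨hy1, hy2⟩
    have hy1' : y ^ (p ^ (i + 1)) = 1 := mem_om.mp hy1
    obtain ⟨z, rfl⟩ := mem_ag.mp hy2
    rw [← hP_prod (z ^ (p ^ j))]
    refine Subgroup.prod_mem _ (fun k _ => ?_)
    obtain ⟨a, ha⟩ := hP_gen k z
    have h1 : P k (z ^ (p ^ j)) = (g k ^ a) ^ (p ^ j) := by rw [map_pow, ha]
    have h2 : ((g k ^ a) ^ (p ^ j)) ^ (p ^ (i + 1)) = 1 := by
      rw [← h1, ← map_pow, hy1', map_one]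
    obtain ⟨c1, c2, c3⟩ := coord_case (hg_ord' k) i j a h2
    rw [h1]
    rcases lt_trichotomy (f k) (i + j + 1) with hlt | heq | hgt
    · exact Subgroup.mem_sup_left (Subgroup.mem_sup_left (c1 (by omega)))
    · have := c3 heq
      rw [← hx_spec k heq] at this
      exact Subgroup.mem_sup_right this
    · exact Subgroup.mem_sup_left (Subgroup.mem_sup_right (c2 hgt))
  · refine sup_le (W_succ_le i j) ?_
    rw [Subgroup.zpowers_le]
    by_cases h : ∃ k, f k = i + j + 1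
    · obtain ⟨k, hk⟩ := h
      rw [hx_spec k hk]
      unfold W
      refine Subgroup.mem_sup_right (Subgroup.mem_inf.mpr ⟨?_, ?_⟩)
      · rw [mem_om, ← pow_mul, ← pow_add]
        apply (orderOf_dvd_iff_pow_eq_one).mp
        rw [hg_ord' k, hk]
        exact pow_dvd_pow p (by omega)
      · rw [mem_ag]; exact ⟨g k, rfl⟩
    · have : x = 1 := by
        show (if h : ∃ k, f k = i + j + 1 then (g h.choose) ^ (p ^ j) else 1) = _
        rw [dif_neg h]
      rw [this]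
      exact Subgroup.one_mem _

end Cfsg.Agent.Helper1.AbChain
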