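import Mathlib

/-!
# Automorphisms of `p`-power order on small abelian `p`-groups (helper1)

Fixed points of `p`-power order automorphisms on invariant subgroups, and the "unipotent of step
two" behaviour on a commutative group of order `p ^ 2`.
-/

set_option autoImplicit false

namespace Cfsg.Agent.Helper1.AbEss

section Fix

variable {V : Type*} [Group V]

/-- the subgroup of fixed points of an automorphism -/
def fixSub (b : MulAut V) : Subgroup V where
  carrier := {v | b v = v}
  one_mem' := map_one b
  mul_mem' := fun {x y} hx hy => by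
    show b (x * y) = x * y
    rw [map_mul, show b x = x from hx, show b y = y from hy]
  inv_mem' := fun {x} hx => by
    show b x⁻¹ = x⁻¹
    rw [map_inv, show b x = x from hx]

theorem mem_fixSub (b : MulAut V) (v : V) : v ∈ fixSub b ↔ b v = v := Iff.rfl

variable [Finite V] {p : ℕ} [hp : Fact p.Prime]

/-- an automorphism of `p`-power order has a nontrivial fixed point on every invariant
subgroup of order divisible by `p` -/
theorem exists_fixed (b : MulAut V) {k : ℕ} (hb : b ^ p ^ k = 1) (D : Subgroup V)
    (hD : ∀ d ∈ D, b d ∈ D) (hdvd : p ∣ Nat.card D) : ∃ d ∈ D, d ≠ 1 ∧ b d = d := by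
  classical
  haveI : Fintype D := Fintype.ofFinite D
  let f : Function.End D := fun d => ⟨b d.1, hD d.1 d.2⟩
  have hpow : ∀ (n : ℕ) (d : D), (((f ^ n) d : D) : V) = (b ^ n) d.1 := by
    intro n
    induction n with
    | zero => intro d; rfl
    | succ n ih =>
      intro d
      rw [pow_succ, pow_succ, MulAut.mul_apply]
      show (((f ^ n) (f d) : D) : V) = (b ^ n) (b d.1)
      rw [ih]
  have hf : f ^ p ^ k = 1 := by
    funext d
    apply Subtype.ext
    rw [hpow, hb]
    rfl
  have hmod := Equiv.Perm.card_fixedPoints_modEq hf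
  have hcard : Fintype.card D = Nat.card D := (Nat.card_eq_fintype_card).symm
  have h1 : p ∣ Fintype.card (Function.fixedPoints f) := by
    rw [hcard] at hmod
    exact (Nat.modEq_zero_iff_dvd).mp (hmod.symm.trans ((Nat.modEq_zero_iff_dvd).mpr hdvd))
  have hone : f 1 = 1 := by
    apply Subtype.ext
    show b ((1 : D) : V) = ((1 : D) : V)
    simp
  have h2 : 1 < Fintype.card (Function.fixedPoints f) := by
    have hpos : 0 < Fintype.card (Function.fixedPoints f) :=
      Fintype.card_pos_iff.mpr ⟨⟨1, hone⟩⟩
    have := Nat.le_of_dvd hpos h1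
    exact lt_of_lt_of_le hp.out.one_lt this
  obtain ⟨x, y, hxy⟩ := Fintype.one_lt_card_iff.mp h2
  have key : ∀ z : Function.fixedPoints f, z.1 ≠ 1 → ∃ d ∈ D, d ≠ 1 ∧ b d = d := by
    intro z hz
    refine ⟨z.1.1, z.1.2, ?_, ?_⟩
    · intro h
      apply hz
      exact Subtype.ext h
    · exact congrArg Subtype.val z.2
  by_cases hx : x.1 = 1
  · apply key y
    intro hy
    apply hxy
    apply Subtype.ext
    rw [hx, hy]
  · exact key x hx

/-- an automorphism of `p`-power order fixes every invariant subgroup of order `p` pointwise -/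
theorem fixed_of_card_prime (b : MulAut V) {k : ℕ} (hb : b ^ p ^ k = 1) (D : Subgroup V)
    (hD : ∀ d ∈ D, b d ∈ D) (hcard : Nat.card D = p) : D ≤ fixSub b := by
  obtain ⟨d, hdD, hd1, hbd⟩ := exists_fixed b hb D hD (by rw [hcard])
  have h1 : D ⊓ fixSub b = D := by
    apply Subgroup.eq_of_le_of_card_ge inf_le_left
    rw [hcard]
    have hdvd : Nat.card (D ⊓ fixSub b : Subgroup V) ∣ p := by
      rw [← hcard]; exact Subgroup.card_dvd_of_le inf_le_left
    rcases (Nat.dvd_prime hp.out).mp hdvd with h | h
    · exfalso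
      rw [Subgroup.card_eq_one] at h
      have : d ∈ (D ⊓ fixSub b : Subgroup V) := ⟨hdD, hbd⟩
      rw [h, Subgroup.mem_bot] at this
      exact hd1 this
    · exact h.ge
  rw [← h1]; exact inf_le_right

end Fix

section Delta

variable {V : Type*} [CommGroup V]

/-- `v ↦ v⁻¹ * b v`, a homomorphism on a commutative group -/
def delta (b : MulAut V) : V →* V where
  toFun v := v⁻¹ * b v
  map_one' := by simp
  map_mul' x y := by rw [map_mul, mul_inv]; exact mul_mul_mul_comm _ _ _ _

theorem delta_apply (b : MulAut V) (v : V) : delta b v = v⁻¹ * b v := rfl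

theorem ker_delta (b : MulAut V) : (delta b).ker = fixSub b := by
  ext v
  rw [MonoidHom.mem_ker, delta_apply, mem_fixSub, inv_mul_eq_one]
  exact eq_comm

theorem map_delta (b : MulAut V) (v : V) : b (delta b v) = delta b (b v) := by
  simp [delta_apply]

theorem range_delta_invariant (b : MulAut V) :
    ∀ d ∈ (delta b).range, b d ∈ (delta b).range := by
  rintro _ ⟨v, rfl⟩
  exact ⟨b v, (map_delta b v).symm⟩

variable [Finite V] {p : ℕ} [hp : Fact p.Prime]

theorem card_fix_mul_card_range (b : MulAut V) :
    Nat.card (fixSub b) * Nat.card (delta b).range = Nat.card V := by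
  rw [← ker_delta, ← Subgroup.index_ker, Subgroup.card_mul_index]

/-- on a commutative group of order `p ^ 2`, an automorphism `b` of `p`-power order satisfies
`(b - 1) ^ 2 = 0` -/
theorem delta_delta (hV : Nat.card V = p ^ 2) (b : MulAut V) {k : ℕ} (hb : b ^ p ^ k = 1) (v : V) :
    delta b (delta b v) = 1 := by
  have h1 := card_fix_mul_card_range b
  rw [hV] at h1
  obtain ⟨d, -, hd1, hbd⟩ := exists_fixed b hb ⊤ (fun _ _ => Subgroup.mem_top _)
    (by rw [Subgroup.card_top, hV]; exact dvd_pow_self p two_ne_zero)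
  obtain ⟨j, hj, hCj⟩ := (Nat.dvd_prime_pow hp.out).mp (Dvd.intro _ h1)
  have hp0 : 0 < p := hp.out.pos
  interval_cases j
  · exfalso
    rw [pow_zero, Subgroup.card_eq_one] at hCj
    have : d ∈ fixSub b := hbd
    rw [hCj, Subgroup.mem_bot] at this
    exact hd1 this
  · rw [hCj, pow_one, pow_two] at h1
    have hI : Nat.card (delta b).range = p := Nat.eq_of_mul_eq_mul_left hp0 h1
    have hle := fixed_of_card_prime b hb (delta b).range (range_delta_invariant b) hI
    have hmem : delta b v ∈ fixSub b := hle ⟨v, rfl⟩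
    rw [← ker_delta] at hmem
    exact hmem
  · rw [hCj] at h1
    have hI : Nat.card (delta b).range = 1 := by
      have : p ^ 2 * Nat.card (delta b).range = p ^ 2 * 1 := by rw [h1, mul_one]
      exact Nat.eq_of_mul_eq_mul_left (pow_pos hp0 2) this
    rw [Subgroup.card_eq_one] at hI
    have hmem : delta b v ∈ (delta b).range := ⟨v, rfl⟩
    rw [hI, Subgroup.mem_bot] at hmem
    rw [hmem, map_one]

/-- on a commutative group of order `p ^ 2`, an automorphism of `p`-power order stabilising a
subgroup `L` of order `p` centralises `L` and `V / L` -/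
theorem delta_mem_of_invariant (hV : Nat.card V = p ^ 2) (b : MulAut V) {k : ℕ}
    (hb : b ^ p ^ k = 1) (L : Subgroup V) (hL : Nat.card L = p) (hinv : ∀ l ∈ L, b l ∈ L) :
    (∀ l ∈ L, b l = l) ∧ ∀ v, delta b v ∈ L := by
  have hLC : L ≤ fixSub b := fixed_of_card_prime b hb L hinv hL
  refine ⟨fun l hl => hLC hl, ?_⟩
  have h1 := card_fix_mul_card_range b
  rw [hV] at h1
  obtain ⟨j, hj, hCj⟩ := (Nat.dvd_prime_pow hp.out).mp (Dvd.intro _ h1)
  have hp0 : 0 < p := hp.out.pos
  have hdvd : p ∣ Nat.card (fixSub b) := by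
    rw [← hL]; exact Subgroup.card_dvd_of_le hLC
  intro v
  interval_cases j
  · exfalso
    rw [hCj, pow_zero] at hdvd
    exact hp.out.one_lt.ne' (Nat.dvd_one.mp hdvd)
  · rw [hCj, pow_one, pow_two] at h1
    have hI : Nat.card (delta b).range = p := Nat.eq_of_mul_eq_mul_left hp0 h1
    have hle := fixed_of_card_prime b hb (delta b).range (range_delta_invariant b) hI
    have hmem : delta b v ∈ fixSub b := hle ⟨v, rfl⟩
    have hCL : L = fixSub b := by
      apply Subgroup.eq_of_le_of_card_ge hLC
      rw [hCj, pow_one, hL]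
    rw [hCL]
    exact hmem
  · rw [hCj] at h1
    have hI : Nat.card (delta b).range = 1 := by
      have : p ^ 2 * Nat.card (delta b).range = p ^ 2 * 1 := by rw [h1, mul_one]
      exact Nat.eq_of_mul_eq_mul_left (pow_pos hp0 2) this
    rw [Subgroup.card_eq_one] at hI
    have hmem : delta b v ∈ (delta b).range := ⟨v, rfl⟩
    rw [hI, Subgroup.mem_bot] at hmem
    rw [hmem]
    exact L.one_mem

end Delta

end Cfsg.Agent.Helper1.AbEss
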