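import Mathlib
import Cfsg.Agent.Lib.Helper1.AbEssA

/-!
# The expansion `(1 + N) ^ p = 1 + p N` modulo `p ^ 2` for `p ≥ 5` (helper1)
-/

set_option autoImplicit false

namespace Cfsg.Agent.Helper1.AbEss

section Ring

/-- endomorphisms with values in `n • W` -/
def divEnd (W : Type*) [AddCommGroup W] (n : ℕ) : AddSubgroup (AddMonoid.End W) where
  carrier := {T | ∀ w, ∃ y, T w = n • y}
  zero_mem' := fun w => ⟨0, by rw [smul_zero]; rfl⟩
  add_mem' := fun {S T} hS hT w => by
    obtain ⟨y, hy⟩ := hS w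
    obtain ⟨z, hz⟩ := hT w
    refine ⟨y + z, ?_⟩
    rw [smul_add, ← hy, ← hz]; rfl
  neg_mem' := fun {T} hT w => by
    obtain ⟨y, hy⟩ := hT w
    refine ⟨-y, ?_⟩
    rw [smul_neg, ← hy]; rfl

variable {W : Type*} [AddCommGroup W]

theorem mem_divEnd {n : ℕ} {T : AddMonoid.End W} :
    T ∈ divEnd W n ↔ ∀ w, ∃ y, T w = n • y := Iff.rfl

theorem mul_mem_divEnd_left {n : ℕ} {T : AddMonoid.End W} (U : AddMonoid.End W)
    (hT : T ∈ divEnd W n) : U * T ∈ divEnd W n := by
  intro w
  obtain ⟨y, hy⟩ := hT w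
  refine ⟨U y, ?_⟩
  show U (T w) = n • U y
  rw [hy, map_nsmul]

theorem mul_mem_divEnd_mul {m n : ℕ} {S T : AddMonoid.End W} (hS : S ∈ divEnd W m)
    (hT : T ∈ divEnd W n) : S * T ∈ divEnd W (m * n) := by
  intro w
  obtain ⟨y, hy⟩ := hT w
  obtain ⟨z, hz⟩ := hS y
  refine ⟨z, ?_⟩
  show S (T w) = (m * n) • z
  rw [hy, map_nsmul, hz, mul_comm, mul_smul]

theorem natCast_mem_divEnd (n c : ℕ) : ((n * c : ℕ) : AddMonoid.End W) ∈ divEnd W n := by
  intro w
  refine ⟨c • w, ?_⟩
  rw [AddMonoid.End.natCast_apply, mul_smul]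

theorem nilp_expand {p : ℕ} (hp : p.Prime) (hp5 : 5 ≤ p) (α : AddMonoid.End W) (hα : α ^ p = 1)
    (hN : (α - 1) * (α - 1) ∈ divEnd W p) :
    (α - 1) * (p : AddMonoid.End W) ∈ divEnd W (p * p) := by
  set N := α - 1 with hNdef
  have hαN : α = N + 1 := by rw [hNdef, sub_add_cancel]
  have hexp := (Commute.one_right N).add_pow p
  rw [← hαN, hα] at hexp
  have hterm : ∀ m ∈ Finset.Ico 2 (p + 1),
      N ^ m * 1 ^ (p - m) * ((p.choose m : ℕ) : AddMonoid.End W) ∈ divEnd W (p * p) := by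
    intro m hm
    rw [Finset.mem_Ico] at hm
    rw [one_pow, mul_one]
    by_cases hmp : m < p
    · obtain ⟨c, hc⟩ := hp.dvd_choose_self (by omega) hmp
      rw [hc]
      have h1 : N ^ m ∈ divEnd W p := by
        have : N ^ m = N ^ (m - 2) * (N * N) := by
          rw [← pow_two, ← pow_add]; congr 1; omega
        rw [this]; exact mul_mem_divEnd_left _ hN
      exact mul_mem_divEnd_mul h1 (natCast_mem_divEnd p c)
    · have hmp' : m = p := by omega
      rw [hmp', Nat.choose_self, Nat.cast_one, mul_one]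
      have : N ^ p = N ^ (p - 4) * ((N * N) * (N * N)) := by
        have e : p = (p - 4) + (2 + 2) := by omega
        conv_lhs => rw [e]
        rw [pow_add, pow_add, pow_two]
      rw [this]
      exact mul_mem_divEnd_left _ (mul_mem_divEnd_mul hN hN)
  have hsum := AddSubgroup.sum_mem _ hterm
  rw [Finset.range_eq_Ico, Finset.sum_eq_sum_Ico_succ_bot (by omega),
    Finset.sum_eq_sum_Ico_succ_bot (by omega)] at hexp
  simp only [pow_zero, one_pow, mul_one, Nat.choose_zero_right, Nat.cast_one, pow_one,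
    Nat.choose_one_right, Nat.sub_zero, zero_add] at hexp
  have h0 : N * (p : AddMonoid.End W) + ∑ m ∈ Finset.Ico 2 (p + 1),
      N ^ m * 1 ^ (p - m) * ((p.choose m : ℕ) : AddMonoid.End W) = 0 := by
    have h1 : (1 : AddMonoid.End W) + (N * (p : AddMonoid.End W) + ∑ m ∈ Finset.Ico 2 (p + 1),
      N ^ m * 1 ^ (p - m) * ((p.choose m : ℕ) : AddMonoid.End W)) = 1 + 0 := by
      rw [add_zero]
      refine Eq.trans ?_ hexp.symm
      simp only [one_pow, mul_one]
    exact add_left_cancel h1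
  rw [eq_neg_of_add_eq_zero_left h0]
  exact (divEnd W (p * p)).neg_mem hsum

end Ring

section Apply

variable {H : Type*} [CommGroup H]

/-- For `p ≥ 5`: if `a ^ p = 1` and `(a - 1) ^ 2` has values in `H ^ p`, then `p (a - 1)` has
values in `H ^ (p ^ 2)` (multiplicative formulation). -/
theorem pow_delta_eq {p : ℕ} (hp : p.Prime) (hp5 : 5 ≤ p) (a : MulAut H) (ha : a ^ p = 1)
    (h2 : ∀ h : H, ∃ u : H, delta a (delta a h) = u ^ p) (h : H) :
    ∃ y : H, (delta a h) ^ p = y ^ (p * p) := by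
  let α : AddMonoid.End (Additive H) := MonoidHom.toAdditive a.toMonoidHom
  have hαpow : ∀ (n : ℕ) (w : Additive H),
      (α ^ n) w = Additive.ofMul ((a ^ n) (Additive.toMul w)) := by
    intro n
    induction n with
    | zero => intro w; rfl
    | succ n ih =>
      intro w
      rw [pow_succ, pow_succ, MulAut.mul_apply]
      show (α ^ n) (α w) = _
      rw [ih]
      rfl
  have hα : α ^ p = 1 := by
    ext w
    rw [hαpow, ha]
    rfl
  have hN : ∀ w : Additive H, (α - 1) w = Additive.ofMul (delta a (Additive.toMul w)) := by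
    intro w
    show α w - w = _
    rw [delta_apply, mul_comm, ← div_eq_mul_inv]
    rfl
  have hNN : (α - 1) * (α - 1) ∈ divEnd (Additive H) p := by
    intro w
    obtain ⟨u, hu⟩ := h2 (Additive.toMul w)
    refine ⟨Additive.ofMul u, ?_⟩
    show (α - 1) ((α - 1) w) = p • Additive.ofMul u
    rw [hN w, hN, toMul_ofMul, hu, ofMul_pow]
  obtain ⟨y, hy⟩ := nilp_expand hp hp5 α hα hNN (Additive.ofMul h)
  refine ⟨Additive.toMul y, ?_⟩
  have h3 : ((α - 1) * (p : AddMonoid.End (Additive H))) (Additive.ofMul h) =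
      Additive.ofMul ((delta a h) ^ p) := by
    show (α - 1) ((p : AddMonoid.End (Additive H)) (Additive.ofMul h)) = _
    rw [AddMonoid.End.natCast_apply, map_nsmul, hN, toMul_ofMul, ofMul_pow]
  rw [h3] at hy
  apply Additive.ofMul.injective
  rw [hy, ofMul_pow, ofMul_toMul]

end Apply

end Cfsg.Agent.Helper1.AbEss
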