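import Mathlib
import Cfsg.Agent.Lib.Helper9.FrattiniElem
import Cfsg.Agent.Lib.Helper22.ClassTwo
import Cfsg.Agent.Lib.Helper22.MetacyclicCrit

/-!
# Recognising homocyclic abelian `p`-groups of rank two (helper1)
-/

set_option autoImplicit false

namespace Cfsg.Agent.Helper1.AbEss

section Homocyclic

variable {H : Type*} [CommGroup H] [Finite H] {p : ℕ} [hp : Fact p.Prime]

/-- In a finite abelian `p`-group the Frattini subgroup is the group of `p`-th powers. -/
theorem frattini_eq_range_pow (hH : IsPGroup p H) :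
    frattini H = (powMonoidHom p : H →* H).range := by
  apply le_antisymm
  · have h1 := Cfsg.Agent.Helper9.frattini_le_ker_of_elementary (p := p)
      (QuotientGroup.mk' (powMonoidHom p : H →* H).range) (fun a b => mul_comm a b) (by
        intro a
        induction a using QuotientGroup.induction_on with
        | _ x =>
          rw [← QuotientGroup.mk_pow, QuotientGroup.eq_one_iff]
          exact ⟨x, rfl⟩)
    rwa [QuotientGroup.ker_mk'] at h1
  · rintro _ ⟨x, rfl⟩
    exact Cfsg.Agent.Helper22.pow_prime_mem_frattini hH x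

/-- counting the kernels of the maps `x ↦ x ^ (p ^ i)` in a homocyclic group of rank two -/
theorem card_ker_pow (e : ℕ) (hexp : ∀ h : H, h ^ p ^ e = 1)
    (hΩ : Nat.card (powMonoidHom p : H →* H).ker = p ^ 2)
    (hR : ∀ w : H, w ^ p = 1 → ∃ h : H, h ^ p ^ (e - 1) = w) :
    ∀ i ≤ e, Nat.card (powMonoidHom (p ^ i) : H →* H).ker = p ^ (2 * i) := by
  intro i
  induction i with
  | zero =>
    intro _
    have : (powMonoidHom (p ^ 0) : H →* H).ker = ⊥ := by
      ext x
      rw [MonoidHom.mem_ker, Subgroup.mem_bot, powMonoidHom_apply, pow_zero, pow_one]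
    rw [this, Subgroup.card_bot, mul_zero, pow_zero]
  | succ i ih =>
    intro hi
    have ih' := ih (by omega)
    set K' := (powMonoidHom (p ^ (i + 1)) : H →* H).ker with hK'
    set Ki := (powMonoidHom (p ^ i) : H →* H).ker with hKi
    have hle : Ki ≤ K' := by
      intro x hx
      rw [hKi, MonoidHom.mem_ker, powMonoidHom_apply] at hx
      rw [hK', MonoidHom.mem_ker, powMonoidHom_apply, pow_succ, pow_mul, hx, one_pow]
    let ψ : K' →* H := (powMonoidHom (p ^ i) : H →* H).domRestrict K'
    have h1 : Nat.card ψ.ker * Nat.card ψ.range = Nat.card K' := by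
      rw [← Subgroup.index_ker, Subgroup.card_mul_index]
    have h2 : Nat.card ψ.ker = Nat.card Ki := by
      have : ψ.ker = Ki.subgroupOf K' := rfl
      rw [this]
      exact Nat.card_congr (Subgroup.subgroupOfEquivOfLe hle).toEquiv
    have h3 : ψ.range = (powMonoidHom p : H →* H).ker := by
      have : ψ.range = K'.map (powMonoidHom (p ^ i) : H →* H) :=
        MonoidHom.domRestrict_range _ _
      rw [this]
      ext w
      constructor
      · rintro ⟨u, hu, rfl⟩
        have hu' : u ^ p ^ (i + 1) = 1 := hu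
        rw [MonoidHom.mem_ker, powMonoidHom_apply, powMonoidHom_apply, ← pow_mul, ← pow_succ]
        exact hu'
      · intro hw
        rw [MonoidHom.mem_ker, powMonoidHom_apply] at hw
        obtain ⟨h, rfl⟩ := hR w hw
        refine ⟨h ^ p ^ (e - 1 - i), ?_, ?_⟩
        · show (h ^ p ^ (e - 1 - i)) ^ p ^ (i + 1) = 1
          rw [← pow_mul, ← pow_add]
          have : e - 1 - i + (i + 1) = e := by omega
          rw [this]; exact hexp h
        · rw [powMonoidHom_apply, ← pow_mul, ← pow_add]
          congr 2; omega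
    rw [h3, hΩ, h2, ih'] at h1
    rw [← h1]; ring

theorem nonempty_equiv_homocyclic (hH : IsPGroup p H) (e : ℕ) (he : 1 ≤ e)
    (hexp : ∀ h : H, h ^ p ^ e = 1)
    (hker : (powMonoidHom (p ^ (e - 1)) : H →* H).ker = (powMonoidHom p : H →* H).range)
    (hidx : (powMonoidHom p : H →* H).range.index = p ^ 2) :
    Nonempty (H ≃* Multiplicative (ZMod (p ^ e) × ZMod (p ^ e))) := by
  have hp0 : 0 < p := hp.out.pos
  -- the order of `Ω₁`
  have hΩ : Nat.card (powMonoidHom p : H →* H).ker = p ^ 2 := by
    have h1 : Nat.card (powMonoidHom p : H →* H).ker * Nat.card (powMonoidHom p : H →* H).range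
        = Nat.card H := by
      rw [← Subgroup.index_ker, Subgroup.card_mul_index]
    have h2 := Subgroup.card_mul_index (powMonoidHom p : H →* H).range
    rw [hidx, ← h1, mul_comm] at h2
    exact (Nat.eq_of_mul_eq_mul_right Nat.card_pos h2).symm
  -- every element of order `p` is a `p ^ (e - 1)`-th power
  have hR : ∀ w : H, w ^ p = 1 → ∃ h : H, h ^ p ^ (e - 1) = w := by
    have hle : (powMonoidHom (p ^ (e - 1)) : H →* H).range ≤ (powMonoidHom p : H →* H).ker := by
      rintro _ ⟨h, rfl⟩
      rw [MonoidHom.mem_ker, powMonoidHom_apply, powMonoidHom_apply, ← pow_mul, ← pow_succ]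
      have : e - 1 + 1 = e := by omega
      rw [this]; exact hexp h
    have hcard : Nat.card (powMonoidHom (p ^ (e - 1)) : H →* H).range = p ^ 2 := by
      rw [← Subgroup.index_ker, hker, hidx]
    have heq := Subgroup.eq_of_le_of_card_ge hle (by rw [hΩ, hcard])
    intro w hw
    have hmem : w ∈ (powMonoidHom p : H →* H).ker := by
      rw [MonoidHom.mem_ker, powMonoidHom_apply]; exact hw
    rw [← heq] at hmem
    obtain ⟨h, hh⟩ := hmem
    exact ⟨h, hh⟩
  -- the order of `H`
  have hcardH : Nat.card H = p ^ (2 * e) := by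
    have h1 := card_ker_pow e hexp hΩ hR e le_rfl
    have h2 : (powMonoidHom (p ^ e) : H →* H).ker = ⊤ := by
      rw [eq_top_iff]
      intro h _
      rw [MonoidHom.mem_ker, powMonoidHom_apply]
      exact hexp h
    rw [h2, Subgroup.card_top] at h1
    exact h1
  -- generators
  have hΦ := frattini_eq_range_pow hH
  have hΦidx : (frattini H).index = p ^ 2 := by rw [hΦ, hidx]
  have hidx' : Nat.card H ≤ p ^ 2 * Nat.card (frattini H) := by
    rw [← hΦidx, mul_comm, Subgroup.card_mul_index]
  obtain ⟨x, hx⟩ : ∃ x : H, x ∉ frattini H := by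
    by_contra hcon
    have htop : frattini H = ⊤ := by
      rw [eq_top_iff]
      intro x _
      by_contra hx
      exact hcon ⟨x, hx⟩
    rw [htop, Subgroup.index_top] at hΦidx
    have : 1 < p ^ 2 := Nat.one_lt_pow two_ne_zero hp.out.one_lt
    omega
  obtain ⟨y, hxy⟩ := Cfsg.Agent.Helper22.exists_two_gen hH hidx' x hx
  -- the homomorphism
  have hn0 : p ^ e ≠ 0 := (pow_pos hp0 e).ne'
  haveI : NeZero (p ^ e) := ⟨hn0⟩
  have hz : ∀ z : H, (zmultiplesHom (Additive H) (Additive.ofMul z)) ((p ^ e : ℕ) : ℤ) = 0 := by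
    intro z
    rw [zmultiplesHom_apply, natCast_zsmul, ← ofMul_pow, hexp z, ofMul_one]
  let gx : ZMod (p ^ e) →+ Additive H :=
    ZMod.lift (p ^ e) ⟨zmultiplesHom (Additive H) (Additive.ofMul x), hz x⟩
  let gy : ZMod (p ^ e) →+ Additive H :=
    ZMod.lift (p ^ e) ⟨zmultiplesHom (Additive H) (Additive.ofMul y), hz y⟩
  let F : ZMod (p ^ e) × ZMod (p ^ e) →+ Additive H := gx.coprod gy
  have hsurj : Function.Surjective F := by
    intro w
    have hmem : Additive.toMul w ∈ Subgroup.closure {x, y} := by rw [hxy]; trivial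
    obtain ⟨a, b, hab⟩ := Subgroup.mem_closure_pair.mp hmem
    refine ⟨((a : ZMod (p ^ e)), (b : ZMod (p ^ e))), ?_⟩
    show gx (a : ZMod (p ^ e)) + gy (b : ZMod (p ^ e)) = w
    rw [ZMod.lift_coe, ZMod.lift_coe]
    show (zmultiplesHom (Additive H) (Additive.ofMul x)) a +
      (zmultiplesHom (Additive H) (Additive.ofMul y)) b = w
    rw [zmultiplesHom_apply, zmultiplesHom_apply, ← ofMul_zpow, ← ofMul_zpow, ← ofMul_mul, hab,
      ofMul_toMul]
  have hbij : Function.Bijective F := by
    apply hsurj.bijective_of_nat_card_le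
    rw [Nat.card_prod, Nat.card_zmod]
    show p ^ e * p ^ e ≤ Nat.card H
    rw [hcardH, two_mul, pow_add]
  exact ⟨AddEquiv.toMultiplicativeRight (AddEquiv.ofBijective F hbij).symm⟩

end Homocyclic

end Cfsg.Agent.Helper1.AbEss
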