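import Mathlib
import Cfsg.Agent.Lib.Helper8.AutQuot
import Cfsg.Agent.Lib.Helper1.AbEssA
import Cfsg.Agent.Lib.Helper1.AbEssB
import Cfsg.Agent.Lib.Helper1.AbEssC

/-!
# Abelian two-generated `p`-groups admitting an automorphism group with `O_p = 1` and order
divisible by `p` (helper1)
-/

set_option autoImplicit false

namespace Cfsg.Agent.Helper1.AbEss

open Cfsg.Agent.Helper8

section Core

variable {H : Type*} [CommGroup H] [Finite H] {p : ℕ} [hp : Fact p.Prime]

/-- the kernel of the action on the Frattini quotient is a `p`-group -/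
theorem isPGroup_ker_autQuot (hH : IsPGroup p H) : IsPGroup p (autQuot (frattini H)).ker := by
  rintro ⟨a, ha⟩
  have ho0 : orderOf a ≠ 0 := (orderOf_pos a).ne'
  obtain ⟨k, m, hm, hkm⟩ := Nat.exists_eq_pow_mul_and_not_dvd ho0 p hp.out.ne_one
  refine ⟨k, ?_⟩
  apply Subtype.ext
  show a ^ p ^ k = 1
  have hb : (a ^ p ^ k) ^ m = 1 := by
    rw [← pow_mul, ← hkm]; exact pow_orderOf_eq_one a
  have hcop : (orderOf (a ^ p ^ k)).Coprime p := by
    have hdvd : orderOf (a ^ p ^ k) ∣ m := orderOf_dvd_of_pow_eq_one hb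
    exact Nat.Coprime.coprime_dvd_left hdvd ((Nat.Prime.coprime_iff_not_dvd hp.out).mpr hm).symm
  exact eq_one_of_autQuot_frattini hH (a ^ p ^ k) hcop (Subgroup.pow_mem _ ha _)

theorem eq_one_of_mem_ker (hH : IsPGroup p H) (A : Subgroup (MulAut H))
    (hOp : ∀ N : Subgroup A, N.Normal → IsPGroup p N → N = ⊥) {a : MulAut H} (haA : a ∈ A)
    (ha : a ∈ (autQuot (frattini H)).ker) : a = 1 := by
  have h1 := hOp ((autQuot (frattini H)).ker.subgroupOf A) inferInstance
    ((isPGroup_ker_autQuot hH).comap_subtype)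
  have h2 : (⟨a, haA⟩ : A) ∈ (autQuot (frattini H)).ker.subgroupOf A := by
    rw [Subgroup.mem_subgroupOf]; exact ha
  rw [h1, Subgroup.mem_bot] at h2
  exact congrArg Subtype.val h2

theorem quot_pow_eq_one (hH : IsPGroup p H) (v : H ⧸ frattini H) : v ^ p = 1 := by
  induction v using QuotientGroup.induction_on with
  | _ x =>
    rw [← QuotientGroup.mk_pow, QuotientGroup.eq_one_iff]
    exact Cfsg.Agent.Helper22.pow_prime_mem_frattini hH x

theorem no_invariant_line (hH : IsPGroup p H) (A : Subgroup (MulAut H)) (hpA : p ∣ Nat.card A)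
    (hOp : ∀ N : Subgroup A, N.Normal → IsPGroup p N → N = ⊥)
    (hV : Nat.card (H ⧸ frattini H) = p ^ 2)
    (L : Subgroup (H ⧸ frattini H)) (hL : Nat.card L = p)
    (hinv : ∀ a ∈ A, ∀ l ∈ L, autQuot (frattini H) a l ∈ L) : False := by
  set q := autQuot (frattini H) with hq
  let K : Subgroup A :=
    { carrier := {a | (∀ l ∈ L, q a.1 l = l) ∧ ∀ v, delta (q a.1) v ∈ L}
      one_mem' := by
        refine ⟨fun l _ => ?_, fun v => ?_⟩
        · show q (1 : MulAut H) l = l
          rw [map_one]; rfl
        · show delta (q (1 : MulAut H)) v ∈ L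
          rw [map_one, delta_apply, MulAut.one_apply, inv_mul_cancel]; exact L.one_mem
      mul_mem' := by
        rintro a b ⟨ha1, ha2⟩ ⟨hb1, hb2⟩
        refine ⟨fun l hl => ?_, fun v => ?_⟩
        · show q (a.1 * b.1) l = l
          rw [map_mul, MulAut.mul_apply, hb1 l hl, ha1 l hl]
        · show delta (q (a.1 * b.1)) v ∈ L
          rw [map_mul, delta_apply, MulAut.mul_apply]
          have h1 : q b.1 v = v * delta (q b.1) v := by rw [delta_apply, mul_inv_cancel_left]
          have h2 : q a.1 (q b.1 v) = q a.1 v * delta (q b.1) v := by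
            rw [h1, map_mul, ha1 _ (hb2 v)]
          rw [h2, ← mul_assoc]
          exact L.mul_mem (ha2 v) (hb2 v)
      inv_mem' := by
        rintro a ⟨ha1, ha2⟩
        refine ⟨fun l hl => ?_, fun v => ?_⟩
        · show q (a.1)⁻¹ l = l
          rw [map_inv, MulAut.inv_apply, MulEquiv.symm_apply_eq]
          exact (ha1 l hl).symm
        · show delta (q (a.1)⁻¹) v ∈ L
          rw [map_inv, delta_apply]
          set w := (q a.1)⁻¹ v with hw
          have hv : v = q a.1 w := by rw [hw, MulAut.apply_inv_self]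
          have h3 : v⁻¹ * w = (delta (q a.1) w)⁻¹ := by
            rw [delta_apply, mul_inv_rev, inv_inv, ← hv]
          rw [h3]; exact L.inv_mem (ha2 w) }
  have hKn : K.Normal := by
    constructor
    rintro a ⟨ha1, ha2⟩ g
    refine ⟨fun l hl => ?_, fun v => ?_⟩
    · show q (g.1 * a.1 * g.1⁻¹) l = l
      rw [map_mul, map_mul, map_inv, MulAut.mul_apply, MulAut.mul_apply]
      have hl' : (q g.1)⁻¹ l ∈ L := by
        have := hinv (g.1)⁻¹ (A.inv_mem g.2) l hl
        rwa [map_inv] at this
      rw [ha1 _ hl', MulAut.apply_inv_self]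
    · show delta (q (g.1 * a.1 * g.1⁻¹)) v ∈ L
      rw [map_mul, map_mul, map_inv, delta_apply, MulAut.mul_apply, MulAut.mul_apply]
      set w := (q g.1)⁻¹ v with hw
      have hv : v = q g.1 w := by rw [hw, MulAut.apply_inv_self]
      have h3 : v⁻¹ * q g.1 (q a.1 w) = q g.1 (delta (q a.1) w) := by
        rw [delta_apply, map_mul, map_inv, ← hv]
      rw [h3]
      exact hinv g.1 g.2 _ (ha2 w)
  have hKp : IsPGroup p K := by
    rintro ⟨a, ha1, ha2⟩
    refine ⟨1, ?_⟩
    apply Subtype.ext
    apply Subtype.ext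
    show a.1 ^ p ^ 1 = 1
    rw [pow_one]
    apply eq_one_of_mem_ker hH A hOp (A.pow_mem a.2 p)
    rw [MonoidHom.mem_ker, map_pow]
    ext v
    have hpow : ∀ n : ℕ, ((q a.1) ^ n) v = v * (delta (q a.1) v) ^ n := by
      intro n
      induction n with
      | zero => simp
      | succ n ih =>
        rw [pow_succ', MulAut.mul_apply, ih, map_mul, map_pow, ha1 _ (ha2 v), pow_succ',
          ← mul_assoc]
        congr 1
        rw [delta_apply, mul_inv_cancel_left]
    rw [hpow, quot_pow_eq_one hH, mul_one]; rfl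
  have hK : K = ⊥ := hOp K hKn hKp
  obtain ⟨a, ha⟩ := exists_prime_orderOf_dvd_card' p hpA
  have hap : a.1 ^ p = 1 := by
    have := pow_orderOf_eq_one a
    rw [ha] at this
    exact congrArg Subtype.val this
  have hb : (q a.1) ^ p ^ 1 = 1 := by rw [pow_one, ← map_pow, hap, map_one]
  have hmem : a ∈ K := delta_mem_of_invariant hV (q a.1) hb L hL (hinv a.1 a.2)
  rw [hK, Subgroup.mem_bot] at hmem
  rw [hmem, orderOf_one] at ha
  exact hp.out.one_lt.ne ha

/-- The group-theoretic core of the classification of abelian essential subgroups of rank two. -/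
theorem core (hH : IsPGroup p H) (A : Subgroup (MulAut H)) (hpA : p ∣ Nat.card A)
    (hOp : ∀ N : Subgroup A, N.Normal → IsPGroup p N → N = ⊥)
    (hrk : (frattini H).index ≤ p ^ 2) :
    ((∀ h : H, h ^ p = 1) ∧ Nat.card H = p ^ 2) ∨
      (p ≤ 3 ∧ ∃ k : ℕ, Nonempty (H ≃* Multiplicative (ZMod (p ^ k) × ZMod (p ^ k)))) := by
  set q := autQuot (frattini H) with hq
  have hp1 := hp.out.one_lt
  have hp0 := hp.out.pos
  obtain ⟨a, ha⟩ := exists_prime_orderOf_dvd_card' p hpA
  have hap : a.1 ^ p = 1 := by
    have := pow_orderOf_eq_one a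
    rw [ha] at this
    exact congrArg Subtype.val this
  have ha1 : a.1 ≠ 1 := by
    intro h
    have : a = 1 := Subtype.ext h
    rw [this, orderOf_one] at ha
    omega
  have hb : (q a.1) ^ p ^ 1 = 1 := by rw [pow_one, ← map_pow, hap, map_one]
  have hqa : q a.1 ≠ 1 := fun h =>
    ha1 (eq_one_of_mem_ker hH A hOp a.2 (MonoidHom.mem_ker.mpr h))
  -- the Frattini quotient has order `p ^ 2`
  have hV : Nat.card (H ⧸ frattini H) = p ^ 2 := by
    obtain ⟨n, hn⟩ := hH.index (frattini H)
    have hcard : Nat.card (H ⧸ frattini H) = p ^ n := by rw [← Subgroup.index_eq_card, hn]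
    rw [hn] at hrk
    have hn2 : n ≤ 2 := (Nat.pow_le_pow_iff_right hp1).mp hrk
    by_contra hne
    apply hqa
    ext v
    rw [MulAut.one_apply]
    interval_cases n
    · rw [pow_zero] at hcard
      haveI : Subsingleton (H ⧸ frattini H) := (Nat.card_eq_one_iff_unique.mp hcard).1
      exact Subsingleton.elim _ _
    · rw [pow_one] at hcard
      have := fixed_of_card_prime (q a.1) hb ⊤ (fun _ _ => Subgroup.mem_top _)
        (by rw [Subgroup.card_top, hcard])
      exact this (Subgroup.mem_top v)
    · exact absurd hcard hne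
  have hidx : (frattini H).index = p ^ 2 := by rw [Subgroup.index_eq_card]; exact hV
  -- the exponent
  have hex : ∃ e, ∀ h : H, h ^ p ^ e = 1 := by
    obtain ⟨n, hn⟩ := hH.exists_card_eq
    exact ⟨n, fun h => by rw [← hn]; exact pow_card_eq_one'⟩
  classical
  set e := Nat.find hex with he_def
  have hexp : ∀ h : H, h ^ p ^ e = 1 := Nat.find_spec hex
  have hmin : ∀ m < e, ¬ ∀ h : H, h ^ p ^ m = 1 := fun m hm => Nat.find_min hex hm
  have he : 1 ≤ e := by
    by_contra h0
    have e0 : e = 0 := by omega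
    have h1 : ∀ h : H, h = 1 := by
      intro h
      have := hexp h
      rwa [e0, pow_zero, pow_one] at this
    haveI : Subsingleton (H ⧸ frattini H) := by
      constructor
      intro v w
      induction v using QuotientGroup.induction_on with
      | _ x =>
        induction w using QuotientGroup.induction_on with
        | _ y => rw [h1 x, h1 y]
    have : Nat.card (H ⧸ frattini H) = 1 := Nat.card_unique
    rw [hV] at this
    have : 1 < p ^ 2 := Nat.one_lt_pow two_ne_zero hp1
    omega
  obtain ⟨h₀, hh₀⟩ : ∃ h₀ : H, h₀ ^ p ^ (e - 1) ≠ 1 := by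
    have := hmin (e - 1) (by omega)
    push Not at this
    exact this
  have hΦ := frattini_eq_range_pow hH
  set π : H →* H := powMonoidHom (p ^ (e - 1)) with hπ
  have hΦM : frattini H ≤ π.ker := by
    rw [hΦ]
    rintro _ ⟨y, rfl⟩
    rw [MonoidHom.mem_ker, hπ, powMonoidHom_apply, powMonoidHom_apply, ← pow_mul, ← pow_succ']
    have : e - 1 + 1 = e := by omega
    rw [this]; exact hexp y
  have hrel := Subgroup.relIndex_mul_index hΦM
  have hR1 : π.ker.index ≠ 1 := by
    intro h
    rw [Subgroup.index_eq_one] at h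
    have : h₀ ∈ π.ker := by rw [h]; trivial
    exact hh₀ this
  obtain ⟨j, hj, hRj⟩ := (Nat.dvd_prime_pow hp.out).mp (Dvd.intro_left _ (hrel.trans hidx))
  have hkerΦ : π.ker = frattini H := by
    interval_cases j
    · exact absurd (by rw [hRj, pow_zero]) hR1
    · exfalso
      let L := π.ker.map (QuotientGroup.mk' (frattini H))
      have hLidx : L.index = p := by
        show (π.ker.map (QuotientGroup.mk' (frattini H))).index = p
        rw [Subgroup.index_map_eq _ (QuotientGroup.mk'_surjective _)
          (by rw [QuotientGroup.ker_mk']; exact hΦM), hRj, pow_one]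
      have hLcard : Nat.card L = p := by
        have := Subgroup.card_mul_index L
        rw [hLidx, hV, pow_two] at this
        exact Nat.eq_of_mul_eq_mul_right hp0 this
      apply no_invariant_line hH A hpA hOp hV L hLcard
      rintro b hb _ ⟨m, hm, rfl⟩
      refine ⟨b m, ?_, rfl⟩
      show π (b m) = 1
      rw [hπ, powMonoidHom_apply, ← map_pow]
      have : m ^ p ^ (e - 1) = 1 := hm
      rw [this, map_one]
    · rw [hRj, hidx] at hrel
      have h1 : (frattini H).relIndex π.ker = 1 := by
        have h2 : (frattini H).relIndex π.ker * p ^ 2 = 1 * p ^ 2 := by rw [hrel, one_mul]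
        exact Nat.eq_of_mul_eq_mul_right (pow_pos hp0 2) h2
      exact le_antisymm (Subgroup.relIndex_eq_one.mp h1) hΦM
  by_cases he1 : e = 1
  · left
    have hbot : frattini H = ⊥ := by
      rw [← hkerΦ, hπ, he1]
      ext x
      simp [powMonoidHom_apply]
    refine ⟨fun h => ?_, ?_⟩
    · have := hexp h
      rwa [he1, pow_one] at this
    · rw [← hidx, hbot, Subgroup.index_bot]
  · have he2 : 2 ≤ e := by omega
    by_cases hp3 : p ≤ 3
    · right
      refine ⟨hp3, e, ?_⟩
      apply nonempty_equiv_homocyclic hH e he hexp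
      · rw [← hπ, hkerΦ, hΦ]
      · rw [← hΦ]; exact hidx
    · exfalso
      have hp5 : 5 ≤ p := by
        have h4 : p ≠ 4 := by
          intro h
          have := hp.out
          rw [h] at this
          exact absurd this (by norm_num)
        omega
      apply hqa
      rw [← MonoidHom.mem_ker, mem_ker_autQuot]
      intro h
      have h2 : ∀ h : H, ∃ u : H, delta a.1 (delta a.1 h) = u ^ p := by
        intro h
        have h3 := delta_delta hV (q a.1) hb (QuotientGroup.mk h)
        have hmk : ∀ x : H, delta (q a.1) (QuotientGroup.mk x) =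
            QuotientGroup.mk (delta a.1 x) := fun x => rfl
        rw [hmk, hmk, QuotientGroup.eq_one_iff, hΦ] at h3
        obtain ⟨u, hu⟩ := h3
        exact ⟨u, hu.symm⟩
      obtain ⟨y, hy⟩ := pow_delta_eq hp.out hp5 a.1 hap h2 h
      have h3 : (delta a.1 h * (y ^ p)⁻¹) ∈ π.ker := by
        rw [MonoidHom.mem_ker, hπ, powMonoidHom_apply]
        have h4 : (delta a.1 h * (y ^ p)⁻¹) ^ p = 1 := by
          rw [mul_pow, inv_pow, ← pow_mul, hy, mul_inv_cancel]
        have e' : p ^ (e - 1) = p * p ^ (e - 2) := by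
          rw [← pow_succ']; congr 1; omega
        rw [e', pow_mul, h4, one_pow]
      rw [hkerΦ] at h3
      have h4 : y ^ p ∈ frattini H := by rw [hΦ]; exact ⟨y, rfl⟩
      have h5 := (frattini H).mul_mem h3 h4
      rwa [inv_mul_cancel_right] at h5

end Core

end Cfsg.Agent.Helper1.AbEss
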