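import Mathlib
import Cfsg.Prelude.Def_FusionSystem

/-!
Fusion systems on an abelian group `S` given by a group `K` of automorphisms of `S`.
-/

set_option autoImplicit false

namespace Cfsg.Agent.Helper1.AbFus

open Cfsg Cfsg.FusionSystem

variable {Ω : Type*} [Group Ω] {S : Subgroup Ω}

/-- restriction of an automorphism `k` of `S` to a subgroup `P ≤ S`, as a map into `Ω`. -/
def resHom (k : MulAut S) {P : Subgroup Ω} (hP : P ≤ S) : P →* Ω :=
  S.subtype.comp (k.toMonoidHom.comp (Subgroup.inclusion hP))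

@[simp] theorem resHom_apply (k : MulAut S) {P : Subgroup Ω} (hP : P ≤ S) (x : P) :
    resHom k hP x = (k ⟨x, hP x.2⟩ : S) := rfl

/-- The fusion system on an abelian `S` whose maps are the restrictions of the members of `K`. -/
def autSystem (hab : ∀ a ∈ S, ∀ b ∈ S, a * b = b * a) (K : Subgroup (MulAut S)) :
    FusionSystem S where
  Hom P := {φ | ∃ hP : P ≤ S, ∃ k ∈ K, φ = resHom k hP}
  le_of_mem := by
    rintro P φ ⟨hP, k, -, rfl⟩
    exact ⟨hP, fun x => (k _).2⟩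
  injective_of_mem := by
    rintro P φ ⟨hP, k, -, rfl⟩ x y hxy
    have h1 : k ⟨x, hP x.2⟩ = k ⟨y, hP y.2⟩ := Subtype.ext hxy
    have h2 := k.injective h1
    exact Subtype.ext (congrArg (fun z : S => (z : Ω)) h2)
  conj_mem := by
    intro P g hP hg
    refine ⟨hP, 1, K.one_mem, ?_⟩
    ext x
    show g * (x : Ω) * g⁻¹ = x
    rw [hab g hg x (hP x.2), mul_inv_cancel_right]
  comp_mem := by
    rintro P Q φ ψ ⟨hP, k1, hk1, rfl⟩ ⟨hQ, k2, hk2, rfl⟩ h
    refine ⟨hP, k2 * k1, K.mul_mem hk2 hk1, ?_⟩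
    ext x
    rfl
  inv_mem := by
    rintro P φ ⟨hP, k, hk, rfl⟩
    have hr : (resHom k hP).range ≤ S := by
      rintro _ ⟨x, rfl⟩
      exact (k _).2
    refine ⟨resHom k⁻¹ hr, ⟨hr, k⁻¹, K.inv_mem hk, rfl⟩, fun x => ?_⟩
    show ((k⁻¹ ⟨(k ⟨x, hP x.2⟩ : S), _⟩ : S) : Ω) = x
    have : (⟨((k ⟨x, hP x.2⟩ : S) : Ω), hr ⟨x, rfl⟩⟩ : S) = k ⟨x, hP x.2⟩ := Subtype.ext rfl
    rw [this]
    simp

theorem mem_autSystem_hom {hab : ∀ a ∈ S, ∀ b ∈ S, a * b = b * a} {K : Subgroup (MulAut S)}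
    {P : Subgroup Ω} {φ : P →* Ω} :
    φ ∈ (autSystem hab K).Hom P ↔ ∃ hP : P ≤ S, ∃ k ∈ K, φ = resHom k hP := Iff.rfl

end Cfsg.Agent.Helper1.AbFus

namespace Cfsg.Agent.Helper1.AbFus

open Cfsg Cfsg.FusionSystem

variable {Ω : Type*} [Group Ω] {S : Subgroup Ω}

theorem resHom_one {P : Subgroup Ω} (hP : P ≤ S) : resHom (1 : MulAut S) hP = P.subtype := by
  ext x; rfl

theorem autInducedBy_eq_bot (hab : ∀ a ∈ S, ∀ b ∈ S, a * b = b * a) {P : Subgroup Ω}
    (hP : P ≤ S) : autInducedBy S P = ⊥ := by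
  unfold autInducedBy
  rw [eq_bot_iff, Subgroup.closure_le]
  rintro α ⟨g, hg, hα⟩
  show α ∈ (⊥ : Subgroup (MulAut P))
  rw [Subgroup.mem_bot]
  ext x
  rw [hα x, hab g hg x (hP x.2), mul_inv_cancel_right]
  rfl

/-- The automorphisms of `P` that are restrictions of members of `K`. -/
def resAut (K : Subgroup (MulAut S)) {P : Subgroup Ω} (hP : P ≤ S) : Subgroup (MulAut P) where
  carrier := {α | ∃ k ∈ K, ∀ x : P, ((α x : P) : Ω) = (k ⟨x, hP x.2⟩ : S)}
  mul_mem' := by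
    rintro α β ⟨k1, hk1, h1⟩ ⟨k2, hk2, h2⟩
    refine ⟨k1 * k2, K.mul_mem hk1 hk2, fun x => ?_⟩
    show ((α (β x) : P) : Ω) = (k1 (k2 ⟨x, hP x.2⟩) : S)
    rw [h1 (β x)]
    have : (⟨((β x : P) : Ω), hP (β x).2⟩ : S) = k2 ⟨x, hP x.2⟩ := Subtype.ext (h2 x)
    rw [this]
  one_mem' := ⟨1, K.one_mem, fun x => rfl⟩
  inv_mem' := by
    rintro α ⟨k, hk, h⟩
    refine ⟨k⁻¹, K.inv_mem hk, fun x => ?_⟩
    have h1 := h (α⁻¹ x)
    have h2 : α (α⁻¹ x) = x := by simp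
    rw [h2] at h1
    have h3 : k ⟨((α⁻¹ x : P) : Ω), hP (α⁻¹ x).2⟩ = ⟨x, hP x.2⟩ := Subtype.ext h1.symm
    have h4 : (⟨((α⁻¹ x : P) : Ω), hP (α⁻¹ x).2⟩ : S) = k⁻¹ ⟨x, hP x.2⟩ := by
      rw [← h3]; simp
    exact congrArg (fun z : S => (z : Ω)) h4

theorem autGroup_le_resAut (hab : ∀ a ∈ S, ∀ b ∈ S, a * b = b * a) (K : Subgroup (MulAut S))
    {P : Subgroup Ω} (hP : P ≤ S) : (autSystem hab K).autGroup P ≤ resAut K hP := by
  unfold FusionSystem.autGroup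
  rw [Subgroup.closure_le]
  rintro α ⟨hP', k, hk, hα⟩
  refine ⟨k, hk, fun x => ?_⟩
  have := DFunLike.congr_fun hα x
  exact this

theorem pow_mem_resAut {K : Subgroup (MulAut S)} {P : Subgroup Ω} (hP : P ≤ S) {α : MulAut P}
    {k : MulAut S} (h : ∀ x : P, ((α x : P) : Ω) = (k ⟨x, hP x.2⟩ : S)) (m : ℕ) :
    ∀ x : P, (((α ^ m) x : P) : Ω) = ((k ^ m) ⟨x, hP x.2⟩ : S) := by
  induction m with
  | zero => intro x; rfl
  | succ m ih =>
    intro x
    rw [pow_succ, pow_succ]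
    show (((α ^ m) (α x) : P) : Ω) = ((k ^ m) (k ⟨x, hP x.2⟩) : S)
    rw [ih (α x)]
    have : (⟨((α x : P) : Ω), hP (α x).2⟩ : S) = k ⟨x, hP x.2⟩ := Subtype.ext (h x)
    rw [this]

theorem orderOf_dvd_of_mem_resAut [Finite S] {K : Subgroup (MulAut S)} {P : Subgroup Ω}
    (hP : P ≤ S) {α : MulAut P} (hα : α ∈ resAut K hP) : orderOf α ∣ Nat.card K := by
  obtain ⟨k, hk, h⟩ := hα
  have h1 : α ^ (orderOf k) = 1 := by
    ext x
    rw [pow_mem_resAut (K := K) hP h (orderOf k) x, pow_orderOf_eq_one]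
    rfl
  have h2 : orderOf α ∣ orderOf k := orderOf_dvd_of_pow_eq_one h1
  have h3 : orderOf k ∣ Nat.card K := by
    have := orderOf_dvd_natCard (⟨k, hk⟩ : K)
    rwa [Subgroup.orderOf_mk] at this
  exact h2.trans h3

theorem autSystem_isSaturated [Finite S] (p : ℕ) [Fact p.Prime]
    (hab : ∀ a ∈ S, ∀ b ∈ S, a * b = b * a) (K : Subgroup (MulAut S))
    (hK : (Nat.card K).Coprime p) : (autSystem hab K).IsSaturated p := by
  intro P hP
  refine ⟨P, ⟨P.subtype, ⟨hP, 1, K.one_mem, (resHom_one hP).symm⟩, Subgroup.range_subtype P⟩,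
    ⟨hP, ?_⟩, ⟨hP, ?_⟩⟩
  · -- fully automized
    have hfin : Finite (MulAut P) := by
      haveI : Finite P := Finite.of_injective (Subgroup.inclusion hP) (Subgroup.inclusion_injective hP)
      infer_instance
    have hcop : ¬ p ∣ Nat.card ((autSystem hab K).autGroup P) := by
      intro hdvd
      obtain ⟨a, ha⟩ := exists_prime_orderOf_dvd_card' p hdvd
      have h1 : orderOf (a : MulAut P) = p := by rw [Subgroup.orderOf_coe]; exact ha
      have h2 := orderOf_dvd_of_mem_resAut hP (autGroup_le_resAut hab K hP a.2)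
      rw [h1] at h2
      have h3 : p ∣ Nat.gcd (Nat.card K) p := Nat.dvd_gcd h2 dvd_rfl
      rw [hK] at h3
      exact (Fact.out : p.Prime).one_lt.ne' (Nat.dvd_one.mp h3)
    obtain ⟨R⟩ : Nonempty (Sylow p ((autSystem hab K).autGroup P)) := inferInstance
    refine ⟨R, ?_⟩
    rw [autInducedBy_eq_bot hab hP, Subgroup.bot_subgroupOf]
    rw [eq_bot_iff]
    intro r hr
    rw [Subgroup.mem_bot]
    obtain ⟨n, hn⟩ := (R.isPGroup' : IsPGroup p R) ⟨r, hr⟩
    have h1 : orderOf (⟨r, hr⟩ : R) ∣ p ^ n := orderOf_dvd_of_pow_eq_one hn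
    have h2 : orderOf r ∣ p ^ n := by
      have : orderOf ((⟨r, hr⟩ : R) : (autSystem hab K).autGroup P) = orderOf (⟨r, hr⟩ : R) :=
        Subgroup.orderOf_coe _
      rw [← this] at h1
      exact h1
    have h3 : orderOf r ∣ Nat.card ((autSystem hab K).autGroup P) := orderOf_dvd_natCard r
    have h4 : orderOf r = 1 := by
      have hco : Nat.Coprime (p ^ n) (Nat.card ((autSystem hab K).autGroup P)) :=
        Nat.Coprime.pow_left n ((Nat.Prime.coprime_iff_not_dvd Fact.out).mpr hcop)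
      exact Nat.eq_one_of_dvd_coprimes hco h2 h3
    exact orderOf_eq_one_iff.mp h4
  · -- receptive
    rintro P' φ ⟨hP', k, hk, rfl⟩ -
    have hE : extender S P' (resHom k hP') ≤ S := by
      unfold extender
      rw [Subgroup.closure_le]
      rintro g ⟨hg, -⟩
      exact hg
    exact ⟨resHom k hE, ⟨hE, k, hk, rfl⟩, fun x hx hN => rfl⟩

end Cfsg.Agent.Helper1.AbFus
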