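import Mathlib
import Cfsg.Prelude.Def_FusionSystem
import Cfsg.Agent.Lib.Helper1.AbFusion

/-!
Saturated fusion systems on an abelian group: every map extends to an injective endomorphism of `S`;
subgroups invariant under injective endomorphisms are strongly closed; chains with cyclic steps.
-/

set_option autoImplicit false

namespace Cfsg.Agent.Helper1.AbFus

open Cfsg Cfsg.FusionSystem

variable {Ω : Type*} [Group Ω] {S : Subgroup Ω}

theorem le_extender_of_comm (hab : ∀ a ∈ S, ∀ b ∈ S, a * b = b * a) {R : Subgroup Ω} (hR : R ≤ S)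
    (χ : R →* Ω) : S ≤ extender S R χ := by
  intro g hg
  unfold extender
  apply Subgroup.subset_closure
  refine ⟨hg, ?_, 1, S.one_mem, ?_⟩
  · rw [Subgroup.mem_normalizer_iff]
    intro h
    constructor
    · intro hh
      rw [hab g hg h (hR hh), mul_inv_cancel_right]; exact hh
    · intro hh
      have h1 : h = g⁻¹ * (g * h * g⁻¹) * g := by group
      have h2 : g⁻¹ * (g * h * g⁻¹) * g = g * h * g⁻¹ := by
        rw [mul_assoc, hab (g * h * g⁻¹) (hR hh) g hg, ← mul_assoc, inv_mul_cancel, one_mul]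
      rw [h1, h2]; exact hh
  · intro x hx
    have h1 : (⟨g * (x : Ω) * g⁻¹, hx⟩ : R) = x := by
      apply Subtype.ext
      show g * (x : Ω) * g⁻¹ = x
      rw [hab g hg x (hR x.2), mul_inv_cancel_right]
    rw [h1, one_mul, inv_one, mul_one]

/-- In a saturated fusion system on an abelian `S`, every map is induced by two injective
endomorphisms of `S`: `ψ₂ (φ x) = ψ₁ x`. -/
theorem exists_endo_of_saturated [Finite S] {p : ℕ} (hab : ∀ a ∈ S, ∀ b ∈ S, a * b = b * a)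
    (F : FusionSystem S) (hF : F.IsSaturated p) {R : Subgroup Ω} {φ : R →* Ω} (hφ : φ ∈ F.Hom R) :
    ∃ (ψ₁ ψ₂ : S →* S), Function.Injective ψ₁ ∧ Function.Injective ψ₂ ∧
      ∀ (x : R) (hx : (x : Ω) ∈ S) (hy : φ x ∈ S), ψ₂ ⟨φ x, hy⟩ = ψ₁ ⟨x, hx⟩ := by
  obtain ⟨hRS, hφS⟩ := F.le_of_mem hφ
  have hPS : φ.range ≤ S := by rintro _ ⟨x, rfl⟩; exact hφS x
  obtain ⟨Q, ⟨θ, hθ, hθr⟩, -, hQS, hrec⟩ := hF φ.range hPS
  have hmem : ∀ x : R, φ x ∈ φ.range := fun x => ⟨x, rfl⟩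
  let χ : R →* Ω := θ.comp (φ.codRestrict φ.range hmem)
  have hχ : χ ∈ F.Hom R := F.comp_mem hφ hθ hmem
  have hχr : χ.range = Q := by
    rw [← hθr]
    ext y
    constructor
    · rintro ⟨x, rfl⟩; exact ⟨_, rfl⟩
    · rintro ⟨⟨_, x, rfl⟩, rfl⟩; exact ⟨x, rfl⟩
  obtain ⟨ψ1, hψ1, h1⟩ := hrec R χ hχ hχr
  obtain ⟨ψ2, hψ2, h2⟩ := hrec φ.range θ hθ hθr
  have hE1 : S ≤ extender S R χ := le_extender_of_comm hab hRS χ
  have hE2 : S ≤ extender S φ.range θ := le_extender_of_comm hab hPS θ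
  have hv1 := (F.le_of_mem hψ1).2
  have hv2 := (F.le_of_mem hψ2).2
  refine ⟨(ψ1.comp (Subgroup.inclusion hE1)).codRestrict S (fun x => hv1 _),
    (ψ2.comp (Subgroup.inclusion hE2)).codRestrict S (fun x => hv2 _), ?_, ?_, ?_⟩
  · intro a b hab'
    have h3 : ψ1 (Subgroup.inclusion hE1 a) = ψ1 (Subgroup.inclusion hE1 b) :=
      congrArg (fun z : S => (z : Ω)) hab'
    exact Subgroup.inclusion_injective hE1 (F.injective_of_mem hψ1 h3)
  · intro a b hab'
    have h3 : ψ2 (Subgroup.inclusion hE2 a) = ψ2 (Subgroup.inclusion hE2 b) :=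
      congrArg (fun z : S => (z : Ω)) hab'
    exact Subgroup.inclusion_injective hE2 (F.injective_of_mem hψ2 h3)
  · intro x hx hy
    apply Subtype.ext
    show ψ2 ⟨φ x, hE2 hy⟩ = ψ1 ⟨x, hE1 hx⟩
    rw [h2 (φ x) (hmem x) (hE2 hy), h1 x x.2 (hE1 hx)]
    rfl

/-- A subgroup of an abelian `S` mapped into itself by every injective endomorphism of `S`
is strongly closed in every saturated fusion system on `S`. -/
theorem stronglyClosed_of_invariant [Finite S] {p : ℕ} (hab : ∀ a ∈ S, ∀ b ∈ S, a * b = b * a)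
    (F : FusionSystem S) (hF : F.IsSaturated p) (c : Subgroup ↥S)
    (hinv : ∀ ψ : S →* S, Function.Injective ψ → c.map ψ ≤ c) :
    F.StronglyClosed (c.map S.subtype) := by
  refine ⟨?_, ?_⟩
  · rintro _ ⟨x, -, rfl⟩; exact x.2
  · intro R hR φ hφ x
    obtain ⟨ψ₁, ψ₂, hi1, hi2, h⟩ := exists_endo_of_saturated hab F hF hφ
    obtain ⟨x', hx'c, hx'⟩ := hR x.2
    have hxS : (x : Ω) ∈ S := by rw [← hx']; exact x'.2
    have hyS : φ x ∈ S := (F.le_of_mem hφ).2 x
    have h1 : ψ₁ ⟨x, hxS⟩ ∈ c := by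
      apply hinv ψ₁ hi1
      refine ⟨x', hx'c, ?_⟩
      congr 1
      exact Subtype.ext hx'
    rw [← h x hxS hyS] at h1
    -- ψ₂ is a bijection of c
    have hsurj : c.map ψ₂ = c := by
      apply SetLike.coe_injective
      apply Set.eq_of_subset_of_ncard_le (hinv ψ₂ hi2)
      · rw [Subgroup.coe_map, Set.ncard_image_of_injective _ hi2]
    rw [← hsurj] at h1
    obtain ⟨z, hz, hzy⟩ := h1
    have : z = ⟨φ x, hyS⟩ := hi2 hzy
    exact ⟨z, hz, by rw [this]; rfl⟩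

/-- chains of strongly closed subgroups with cyclic steps -/
def Reach (F : FusionSystem S) (A B : Subgroup Ω) : Prop :=
  ∃ (m : ℕ) (c : Fin (m + 1) → Subgroup Ω), c 0 = A ∧ c (Fin.last m) = B ∧
    (∀ i : Fin (m + 1), F.StronglyClosed (c i)) ∧
    ∀ i : Fin m, c i.castSucc ≤ c i.succ ∧ ∃ x ∈ S, c i.succ = c i.castSucc ⊔ Subgroup.zpowers x

theorem Reach.refl (F : FusionSystem S) {A : Subgroup Ω} (hA : F.StronglyClosed A) : Reach F A A :=
  ⟨0, fun _ => A, rfl, rfl, fun _ => hA, fun i => i.elim0⟩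

theorem Reach.snoc {F : FusionSystem S} {A B C : Subgroup Ω} (h : Reach F A B)
    (hC : F.StronglyClosed C) (hBC : B ≤ C) (hx : ∃ x ∈ S, C = B ⊔ Subgroup.zpowers x) :
    Reach F A C := by
  obtain ⟨m, c, h0, hl, hsc, hst⟩ := h
  refine ⟨m + 1, Fin.snoc (α := fun _ => Subgroup Ω) c C, ?_, ?_, ?_, ?_⟩
  · have : (0 : Fin (m + 1 + 1)) = Fin.castSucc (0 : Fin (m + 1)) := rfl
    rw [this, Fin.snoc_castSucc]; exact h0
  · rw [Fin.snoc_last]
  · intro i
    refine Fin.lastCases ?_ (fun i' => ?_) i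
    · rw [Fin.snoc_last]; exact hC
    · rw [Fin.snoc_castSucc]; exact hsc i'
  · intro i
    refine Fin.lastCases ?_ (fun i' => ?_) i
    · rw [Fin.succ_last, Fin.snoc_last, Fin.snoc_castSucc, hl]
      exact ⟨hBC, hx⟩
    · rw [← Fin.castSucc_succ, Fin.snoc_castSucc, Fin.snoc_castSucc]
      exact hst i'

end Cfsg.Agent.Helper1.AbFus
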