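import Mathlib
import Cfsg.Prelude.Def_FusionSystem
import Cfsg.Agent.Lib.Helper1.AbFusion

/-!
A fusion system of automorphisms of an abelian `S` acting irreducibly on a non-cyclic quotient
has no chain of strongly closed subgroups with cyclic steps.
-/

set_option autoImplicit false

namespace Cfsg.Agent.Helper1.AbFus

open Cfsg Cfsg.FusionSystem

variable {Ω : Type*} [Group Ω] {S : Subgroup Ω}

theorem invariant_of_stronglyClosed (hab : ∀ a ∈ S, ∀ b ∈ S, a * b = b * a)
    (K : Subgroup (MulAut S)) {σ : MulAut S} (hσ : σ ∈ K) {c : Subgroup Ω}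
    (hc : (autSystem hab K).StronglyClosed c) (s : S) (hs : (s : Ω) ∈ c) : ((σ s : S) : Ω) ∈ c := by
  obtain ⟨hcS, h⟩ := hc
  have := h c le_rfl (resHom σ hcS) ⟨hcS, σ, hσ, rfl⟩ ⟨s, hs⟩
  exact this

theorem no_chain_of_irreducible {V : Type*} [Group V] (hab : ∀ a ∈ S, ∀ b ∈ S, a * b = b * a)
    (K : Subgroup (MulAut S)) (σ : MulAut S) (hσ : σ ∈ K) (π : S →* V)
    (hπ : Function.Surjective π) (σbar : V → V) (hcomm : ∀ s, π (σ s) = σbar (π s))
    (hncyc : ∀ v : V, Subgroup.zpowers v ≠ ⊤)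
    (hirr : ∀ U : Subgroup V, (∀ u ∈ U, σbar u ∈ U) → U = ⊥ ∨ U = ⊤) :
    ¬ ∃ (m : ℕ) (c : Fin (m + 1) → Subgroup Ω), c 0 = ⊥ ∧ c (Fin.last m) = S ∧
      (∀ i : Fin (m + 1), (autSystem hab K).StronglyClosed (c i)) ∧
      ∀ i : Fin m, c i.castSucc ≤ c i.succ ∧
        ∃ x ∈ S, c i.succ = c i.castSucc ⊔ Subgroup.zpowers x := by
  rintro ⟨m, c, h0, hl, hsc, hst⟩
  have hinv : ∀ i, ∀ u ∈ ((c i).subgroupOf S).map π, σbar u ∈ ((c i).subgroupOf S).map π := by
    rintro i _ ⟨s, hs, rfl⟩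
    rw [← hcomm]
    exact ⟨σ s, invariant_of_stronglyClosed hab K hσ (hsc i) s hs, rfl⟩
  have hbot : ∀ i : Fin (m + 1), ((c i).subgroupOf S).map π = ⊥ := by
    intro i
    induction i using Fin.induction with
    | zero => rw [h0, Subgroup.bot_subgroupOf, Subgroup.map_bot]
    | succ i ih =>
      obtain ⟨-, x, hx, hstep⟩ := hst i
      have hle : c i.castSucc ≤ S := (hsc i.castSucc).1
      have hz : Subgroup.zpowers x ≤ S := by rw [Subgroup.zpowers_le]; exact hx
      have h1 : ((c i.succ).subgroupOf S).map π = Subgroup.zpowers (π ⟨x, hx⟩) := by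
        rw [hstep, Subgroup.subgroupOf_sup hle hz, Subgroup.map_sup, ih, bot_sup_eq]
        have : (Subgroup.zpowers x).subgroupOf S = Subgroup.zpowers (⟨x, hx⟩ : S) := by
          ext y
          rw [Subgroup.mem_subgroupOf, Subgroup.mem_zpowers_iff, Subgroup.mem_zpowers_iff]
          constructor
          · rintro ⟨k, hk⟩; exact ⟨k, Subtype.ext (by rw [← hk]; rfl)⟩
          · rintro ⟨k, hk⟩; exact ⟨k, by rw [← hk]; rfl⟩
        rw [this, MonoidHom.map_zpowers]
      rcases hirr _ (hinv i.succ) with h | h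
      · exact h
      · rw [h1] at h; exact absurd h (hncyc _)
  have h2 := hbot (Fin.last m)
  rw [hl, Subgroup.subgroupOf_self, ← MonoidHom.range_eq_map, MonoidHom.range_eq_top.mpr hπ] at h2
  apply hncyc 1
  rw [Subgroup.zpowers_one_eq_bot, ← h2]

/-- two vectors of `(ZMod p)²` with nonzero determinant span it over `ℕ`. -/
theorem exists_nsmul_of_det_ne_zero {p : ℕ} [Fact p.Prime] (a b c e x y : ZMod p)
    (hdet : a * e - b * c ≠ 0) :
    ∃ s t : ℕ, ((x, y) : ZMod p × ZMod p) = s • (a, b) + t • (c, e) := by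
  refine ⟨((x * e - y * c) / (a * e - b * c)).val, ((a * y - b * x) / (a * e - b * c)).val, ?_⟩
  simp only [Prod.smul_mk, Prod.mk_add_mk, nsmul_eq_mul, ZMod.natCast_zmod_val, Prod.mk.injEq]
  constructor
  · rw [div_mul_eq_mul_div, div_mul_eq_mul_div, ← add_div, eq_div_iff hdet]
    ring
  · rw [div_mul_eq_mul_div, div_mul_eq_mul_div, ← add_div, eq_div_iff hdet]
    ring

theorem zpowers_ne_top_zmod_sq {p : ℕ} [hp : Fact p.Prime]
    (v : Multiplicative (ZMod p × ZMod p)) : Subgroup.zpowers v ≠ ⊤ := by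
  intro h
  have h1 : v ^ p = 1 := by
    apply Multiplicative.toAdd.injective
    rw [toAdd_pow, toAdd_one]
    ext <;> simp
  have h2 : Nat.card (Subgroup.zpowers v) ≤ p := by
    rw [Nat.card_zpowers]
    exact Nat.le_of_dvd hp.out.pos (orderOf_dvd_of_pow_eq_one h1)
  rw [h, Subgroup.card_top] at h2
  have h3 : Nat.card (Multiplicative (ZMod p × ZMod p)) = p * p := by
    rw [Nat.card_congr Multiplicative.toAdd, Nat.card_prod, Nat.card_zmod]
  rw [h3] at h2
  have := hp.out.one_lt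
  nlinarith

/-- invariant subgroups of `(ZMod p)²` under a map moving every nonzero vector off its line. -/
theorem irreducible_of_det {p : ℕ} [Fact p.Prime] (τ : ZMod p × ZMod p → ZMod p × ZMod p)
    (hdet : ∀ a b : ZMod p, (a, b) ≠ (0, 0) → a * (τ (a, b)).2 - b * (τ (a, b)).1 ≠ 0)
    (U : Subgroup (Multiplicative (ZMod p × ZMod p)))
    (hU : ∀ u ∈ U, Multiplicative.ofAdd (τ (Multiplicative.toAdd u)) ∈ U) : U = ⊥ ∨ U = ⊤ := by
  by_cases h : U = ⊥
  · exact Or.inl h
  · right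
    rw [Subgroup.eq_bot_iff_forall] at h
    push Not at h
    obtain ⟨u, hu, hu1⟩ := h
    rw [eq_top_iff]
    intro z _
    rcases hab : Multiplicative.toAdd u with ⟨a, b⟩
    · have hne : (a, b) ≠ ((0 : ZMod p), (0 : ZMod p)) := by
        intro h0
        apply hu1
        apply Multiplicative.toAdd.injective
        rw [hab, h0]; rfl
      have hw := hU u hu
      rw [hab] at hw
      obtain ⟨s, t, hst⟩ := exists_nsmul_of_det_ne_zero a b (τ (a, b)).1 (τ (a, b)).2
        (Multiplicative.toAdd z).1 (Multiplicative.toAdd z).2 (hdet a b hne)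
      have hz : z = u ^ s * (Multiplicative.ofAdd (τ (a, b))) ^ t := by
        apply Multiplicative.toAdd.injective
        rw [toAdd_mul, toAdd_pow, toAdd_pow, hab, toAdd_ofAdd]
        exact hst
      rw [hz]
      exact U.mul_mem (U.pow_mem hu s) (U.pow_mem hw t)

end Cfsg.Agent.Helper1.AbFus
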