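import Mathlib
import Cfsg.Prelude.Def_FusionSystem
import Cfsg.Agent.Lib.Helper1.AbFusion
import Cfsg.Agent.Lib.Helper1.AbFusion3

/-!
An abelian `p`-group with a direct factor `(Z/p^n)²` carries a saturated fusion system without a
chain of strongly closed subgroups with cyclic steps.
-/

set_option autoImplicit false

namespace Cfsg.Agent.Helper1.AbFus

open Cfsg Cfsg.FusionSystem Multiplicative

section twist

variable {q : ℕ} {H : Type*} [CommGroup H]

/-- the automorphism of `(M × M) × H`, `M = Multiplicative (ZMod q)`, induced by an additive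
automorphism `τ` of `ZMod q × ZMod q`. -/
def twist (τ : (ZMod q × ZMod q) ≃+ (ZMod q × ZMod q)) :
    MulAut ((Multiplicative (ZMod q) × Multiplicative (ZMod q)) × H) where
  toFun g := ((ofAdd (τ (toAdd g.1.1, toAdd g.1.2)).1, ofAdd (τ (toAdd g.1.1, toAdd g.1.2)).2), g.2)
  invFun g := ((ofAdd (τ.symm (toAdd g.1.1, toAdd g.1.2)).1,
    ofAdd (τ.symm (toAdd g.1.1, toAdd g.1.2)).2), g.2)
  left_inv g := by
    simp
  right_inv g := by
    simp
  map_mul' g g' := by
    have h : ((toAdd (g * g').1.1, toAdd (g * g').1.2) : ZMod q × ZMod q) =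
        (toAdd g.1.1, toAdd g.1.2) + (toAdd g'.1.1, toAdd g'.1.2) := rfl
    rw [h, map_add]
    rfl

theorem twist_apply (τ : (ZMod q × ZMod q) ≃+ (ZMod q × ZMod q))
    (g : (Multiplicative (ZMod q) × Multiplicative (ZMod q)) × H) :
    twist τ g = ((ofAdd (τ (toAdd g.1.1, toAdd g.1.2)).1,
      ofAdd (τ (toAdd g.1.1, toAdd g.1.2)).2), g.2) := rfl

theorem twist_pow_apply (τ : (ZMod q × ZMod q) ≃+ (ZMod q × ZMod q)) (k : ℕ)
    (g : (Multiplicative (ZMod q) × Multiplicative (ZMod q)) × H) :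
    ((twist τ) ^ k) g = ((ofAdd ((⇑τ)^[k] (toAdd g.1.1, toAdd g.1.2)).1,
      ofAdd ((⇑τ)^[k] (toAdd g.1.1, toAdd g.1.2)).2), g.2) := by
  induction k generalizing g with
  | zero => rfl
  | succ k ih =>
    rw [pow_succ, MulAut.mul_apply, ih, twist_apply]
    rw [Function.iterate_succ_apply]
    rfl

theorem twist_pow_eq_one (τ : (ZMod q × ZMod q) ≃+ (ZMod q × ZMod q)) (m : ℕ)
    (hm : ∀ z, (⇑τ)^[m] z = z) :
    (twist τ : MulAut ((Multiplicative (ZMod q) × Multiplicative (ZMod q)) × H)) ^ m = 1 := by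
  ext g
  · rw [twist_pow_apply, hm]; rfl
  · rw [twist_pow_apply, hm]; rfl
  · rw [twist_pow_apply]; rfl

end twist

variable {Ω : Type*} [Group Ω] {S : Subgroup Ω}

/-- The generic construction. -/
theorem exists_saturated_no_chain [Finite S] {p q : ℕ} [Fact p.Prime] {H : Type*} [CommGroup H]
    (hab : ∀ a ∈ S, ∀ b ∈ S, a * b = b * a)
    (e : S ≃* (Multiplicative (ZMod q) × Multiplicative (ZMod q)) × H)
    (τ : (ZMod q × ZMod q) ≃+ (ZMod q × ZMod q)) (m : ℕ) (hm : ∀ z, (⇑τ)^[m] z = z)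
    (hmp : m.Coprime p) (ρ : ZMod q →+* ZMod p)
    (τbar : ZMod p × ZMod p → ZMod p × ZMod p)
    (hcomm : ∀ z : ZMod q × ZMod q, (ρ (τ z).1, ρ (τ z).2) = τbar (ρ z.1, ρ z.2))
    (hdet : ∀ a b : ZMod p, (a, b) ≠ (0, 0) → a * (τbar (a, b)).2 - b * (τbar (a, b)).1 ≠ 0) :
    ∃ F : FusionSystem S, F.IsSaturated p ∧
      ¬ ∃ (m : ℕ) (c : Fin (m + 1) → Subgroup Ω), c 0 = ⊥ ∧ c (Fin.last m) = S ∧
        (∀ i : Fin (m + 1), F.StronglyClosed (c i)) ∧
        ∀ i : Fin m, c i.castSucc ≤ c i.succ ∧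
          ∃ x ∈ S, c i.succ = c i.castSucc ⊔ Subgroup.zpowers x := by
  let σ : MulAut S := MulAut.congr e.symm (twist τ)
  have hσ_apply : ∀ s, σ s = e.symm (twist τ (e s)) := fun s => rfl
  have hσm : σ ^ m = 1 := by
    show (MulAut.congr e.symm (twist τ)) ^ m = 1
    rw [← map_pow, twist_pow_eq_one τ m hm, map_one]
  let K : Subgroup (MulAut S) := Subgroup.zpowers σ
  have hK : (Nat.card K).Coprime p := by
    rw [Nat.card_zpowers]
    exact Nat.Coprime.coprime_dvd_left (orderOf_dvd_of_pow_eq_one hσm) hmp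
  refine ⟨autSystem hab K, autSystem_isSaturated p hab K hK, ?_⟩
  -- the projection
  let πB : (Multiplicative (ZMod q) × Multiplicative (ZMod q)) →* Multiplicative (ZMod p × ZMod p) :=
    { toFun := fun g => ofAdd (ρ (toAdd g.1), ρ (toAdd g.2))
      map_one' := by
        show ofAdd (ρ 0, ρ 0) = 1
        rw [map_zero]; rfl
      map_mul' := by
        intro g g'
        show ofAdd (ρ (toAdd g.1 + toAdd g'.1), ρ (toAdd g.2 + toAdd g'.2)) = _
        rw [map_add, map_add]; rfl }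
  let π : S →* Multiplicative (ZMod p × ZMod p) :=
    πB.comp ((MonoidHom.fst _ H).comp e.toMonoidHom)
  have hπ_apply : ∀ s, π s = ofAdd (ρ (toAdd (e s).1.1), ρ (toAdd (e s).1.2)) := fun s => rfl
  have hρ : Function.Surjective ρ := ZMod.ringHom_surjective ρ
  have hπ : Function.Surjective π := by
    intro v
    obtain ⟨a, ha⟩ := hρ (toAdd v).1
    obtain ⟨b, hb⟩ := hρ (toAdd v).2
    refine ⟨e.symm ((ofAdd a, ofAdd b), 1), ?_⟩
    rw [hπ_apply, MulEquiv.apply_symm_apply]
    show ofAdd (ρ a, ρ b) = v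
    rw [ha, hb]; rfl
  refine no_chain_of_irreducible hab K σ (Subgroup.mem_zpowers σ) π hπ
    (fun v => ofAdd (τbar (toAdd v))) ?_ zpowers_ne_top_zmod_sq
    (fun U hU => irreducible_of_det τbar hdet U hU)
  intro s
  rw [hπ_apply, hσ_apply, MulEquiv.apply_symm_apply, twist_apply, hπ_apply]
  show ofAdd (ρ (τ (toAdd (e s).1.1, toAdd (e s).1.2)).1, ρ (τ (toAdd (e s).1.1, toAdd (e s).1.2)).2)
    = ofAdd (τbar (ρ (toAdd (e s).1.1), ρ (toAdd (e s).1.2)))
  rw [hcomm]

end Cfsg.Agent.Helper1.AbFus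

namespace Cfsg.Agent.Helper1.AbFus

open Cfsg Cfsg.FusionSystem Multiplicative

/-- the order-three additive automorphism `(a, b) ↦ (-b, a - b)`. -/
def tauThree (R : Type*) [Ring R] : (R × R) ≃+ (R × R) where
  toFun z := (-z.2, z.1 - z.2)
  invFun z := (z.2 - z.1, -z.1)
  left_inv z := by ext <;> simp
  right_inv z := by ext <;> simp
  map_add' z w := by ext <;> simp <;> abel

theorem tauThree_iterate (R : Type*) [Ring R] (z : R × R) : (⇑(tauThree R))^[3] z = z := by
  show tauThree R (tauThree R (tauThree R z)) = z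
  ext <;> simp [tauThree] <;> abel

theorem det_two : ∀ a b : ZMod 2, (a, b) ≠ (0, 0) → a * (a - b) - b * (-b) ≠ 0 := by decide

/-- the additive automorphism `(a, b) ↦ (d b, a)` for a unit `d` with inverse `d'`. -/
def tauD {R : Type*} [CommRing R] (d d' : R) (hdd : d * d' = 1) : (R × R) ≃+ (R × R) where
  toFun z := (d * z.2, z.1)
  invFun z := (z.2, d' * z.1)
  left_inv z := by
    ext
    · rfl
    · show d' * (d * z.2) = z.2
      rw [← mul_assoc, mul_comm d' d, hdd, one_mul]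
  right_inv z := by
    ext
    · show d * (d' * z.1) = z.1
      rw [← mul_assoc, hdd, one_mul]
    · rfl
  map_add' z w := by
    ext
    · show d * (z.2 + w.2) = d * z.2 + d * w.2
      rw [mul_add]
    · rfl

theorem tauD_iterate {R : Type*} [CommRing R] (d d' : R) (hdd : d * d' = 1) (k : ℕ) (z : R × R) :
    (⇑(tauD d d' hdd))^[2 * k] z = (d ^ k * z.1, d ^ k * z.2) := by
  induction k generalizing z with
  | zero => simp
  | succ k ih =>
    have h2 : 2 * (k + 1) = (2 * k + 1) + 1 := by ring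
    rw [h2, Function.iterate_succ_apply, Function.iterate_succ_apply, ih]
    show (d ^ k * (d * z.1), d ^ k * (d * z.2)) = _
    rw [pow_succ, mul_assoc, mul_assoc]

theorem exists_teich {p n : ℕ} [hp : Fact p.Prime] (hn : 0 < n) (d0 : ZMod p) (hd0 : d0 ≠ 0) :
    ∃ d : ZMod (p ^ n), d ^ (p - 1) = 1 ∧
      ZMod.castHom (dvd_pow_self p hn.ne') (ZMod p) d = d0 := by
  have hcop : d0.val.Coprime (p ^ n) := by
    apply Nat.Coprime.pow_right
    apply Nat.Coprime.symm
    rw [Nat.Prime.coprime_iff_not_dvd hp.out]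
    intro hdvd
    apply hd0
    have hlt : d0.val < p := ZMod.val_lt d0
    have : d0.val = 0 := Nat.eq_zero_of_dvd_of_lt hdvd hlt
    exact (ZMod.val_eq_zero d0).mp this
  let x : (ZMod (p ^ n))ˣ := ZMod.unitOfCoprime d0.val hcop
  refine ⟨(x : ZMod (p ^ n)) ^ (p ^ (n - 1)), ?_, ?_⟩
  · rw [← pow_mul, ← Nat.totient_prime_pow hp.out hn, ← Units.val_pow_eq_pow_val, ZMod.pow_totient]
    rfl
  · rw [map_pow, ZMod.coe_unitOfCoprime, map_natCast, ZMod.natCast_zmod_val, ZMod.pow_card_pow]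

variable {Ω : Type*} [Group Ω] {S : Subgroup Ω}

theorem exists_saturated_no_chain' [Finite S] {p n : ℕ} [hp : Fact p.Prime] (hn : 0 < n)
    {H : Type*} [CommGroup H] (hab : ∀ a ∈ S, ∀ b ∈ S, a * b = b * a)
    (e : S ≃* (Multiplicative (ZMod (p ^ n)) × Multiplicative (ZMod (p ^ n))) × H) :
    ∃ F : FusionSystem S, F.IsSaturated p ∧
      ¬ ∃ (m : ℕ) (c : Fin (m + 1) → Subgroup Ω), c 0 = ⊥ ∧ c (Fin.last m) = S ∧
        (∀ i : Fin (m + 1), F.StronglyClosed (c i)) ∧
        ∀ i : Fin m, c i.castSucc ≤ c i.succ ∧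
          ∃ x ∈ S, c i.succ = c i.castSucc ⊔ Subgroup.zpowers x := by
  let ρ : ZMod (p ^ n) →+* ZMod p := ZMod.castHom (dvd_pow_self p hn.ne') (ZMod p)
  by_cases hp2 : p = 2
  · subst hp2
    refine exists_saturated_no_chain hab e (tauThree _) 3 (tauThree_iterate _) (by decide) ρ
      (fun z => (-z.2, z.1 - z.2)) ?_ ?_
    · intro z
      show (ρ (-z.2), ρ (z.1 - z.2)) = (-(ρ z.2), ρ z.1 - ρ z.2)
      rw [map_neg, map_sub]
    · intro a b h
      exact det_two a b h
  · -- p odd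
    have hchar : ringChar (ZMod p) ≠ 2 := by rw [ZMod.ringChar_zmod_n]; exact hp2
    obtain ⟨d0, hd0⟩ := FiniteField.exists_nonsquare hchar
    have hd0ne : d0 ≠ 0 := by
      rintro rfl
      exact hd0 ⟨0, by simp⟩
    obtain ⟨d, hd1, hd2⟩ := exists_teich hn d0 hd0ne
    have hp1 : p - 1 = (p - 2) + 1 := by have := hp.out.two_le; omega
    have hdd : d * d ^ (p - 2) = 1 := by rw [← pow_succ', ← hp1, hd1]
    refine exists_saturated_no_chain hab e (tauD d (d ^ (p - 2)) hdd) (2 * (p - 1)) ?_ ?_ ρ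
      (fun z => (d0 * z.2, z.1)) ?_ ?_
    · intro z
      rw [tauD_iterate, hd1, one_mul, one_mul]
    · apply Nat.Coprime.mul_left
      · exact (Nat.coprime_primes Nat.prime_two hp.out).mpr (Ne.symm hp2)
      · apply Nat.Coprime.symm
        rw [Nat.Prime.coprime_iff_not_dvd hp.out]
        intro hdvd
        have := Nat.le_of_dvd (by have := hp.out.two_le; omega) hdvd
        have := hp.out.two_le
        omega
    · intro z
      show (ρ (d * z.2), ρ z.1) = (d0 * ρ z.2, ρ z.1)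
      rw [map_mul]
      congr 2
    · intro a b hne
      show a * a - b * (d0 * b) ≠ 0
      intro h
      by_cases hb : b = 0
      · subst hb
        simp only [mul_zero, sub_zero, mul_self_eq_zero] at h
        exact hne (by rw [h])
      · apply hd0
        refine ⟨a / b, ?_⟩
        field_simp
        linear_combination -h

end Cfsg.Agent.Helper1.AbFus
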