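import Mathlib
import Cfsg.Agent.Lib.Helper16.SL23Recog

set_option autoImplicit false

/-! Groups all of whose `2`-subgroups are abelian; `SL(2,p)` is not a section of a solvable
group with abelian Sylow `2`-subgroups (`p` odd). -/

namespace Cfsg.Agent.Helper1

/-- all `2`-subgroups are abelian -/
def AS2 (X : Type*) [Group X] : Prop :=
  ∀ Q : Subgroup X, IsPGroup 2 Q → ∀ x ∈ Q, ∀ y ∈ Q, x * y = y * x

namespace AS2

variable {X Y : Type*} [Group X] [Group Y]

theorem of_sylow [Finite X] (h : ∀ T : Sylow 2 X, IsMulCommutative T) : AS2 X := by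
  intro Q hQ x hx y hy
  obtain ⟨T, hT⟩ := hQ.exists_le_sylow
  have := h T
  have h1 := mul_comm' (⟨x, hT hx⟩ : T) ⟨y, hT hy⟩
  exact congrArg Subtype.val h1

theorem of_injective (f : X →* Y) (hf : Function.Injective f) (h : AS2 Y) : AS2 X := by
  intro Q hQ x hx y hy
  apply hf
  rw [map_mul, map_mul]
  exact h (Q.map f) (hQ.map f) (f x) ⟨x, hx, rfl⟩ (f y) ⟨y, hy, rfl⟩

theorem of_surjective [Finite X] (f : X →* Y) (hf : Function.Surjective f) (h : AS2 X) :
    AS2 Y := by
  intro Q hQ x hx y hy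
  have : Fact (Nat.Prime 2) := ⟨Nat.prime_two⟩
  set Qt : Subgroup X := Q.comap f with hQt
  have hf' : Function.Surjective (f.subgroupComap Q) :=
    f.subgroupComap_surjective_of_surjective Q hf
  obtain T : Sylow 2 ↥Qt := default
  set T' : Sylow 2 ↥Q := T.mapSurjective hf' with hT'
  have htop : (T' : Subgroup ↥Q) = ⊤ := by
    have h1 : IsPGroup 2 ↥(⊤ : Subgroup ↥Q) := hQ.to_subgroup ⊤
    exact (T'.is_maximal' h1 le_top).symm
  have hmem : ∀ z (hz : z ∈ Q), ∃ t : X, t ∈ (T : Subgroup ↥Qt).map Qt.subtype ∧ f t = z := by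
    intro z hz
    have h1 : (⟨z, hz⟩ : ↥Q) ∈ (T' : Subgroup ↥Q) := by rw [htop]; exact Subgroup.mem_top _
    rw [hT', Sylow.coe_mapSurjective] at h1
    obtain ⟨t, ht, ht2⟩ := h1
    refine ⟨t, ⟨t, ht, rfl⟩, ?_⟩
    exact congrArg Subtype.val ht2
  obtain ⟨s, hs, rfl⟩ := hmem x hx
  obtain ⟨t, ht, rfl⟩ := hmem y hy
  rw [← map_mul, ← map_mul, h _ (T.2.map _) s hs t ht]

end AS2

/-- `SL(2,3)` has non-abelian `2`-subgroups. -/
theorem not_AS2_SL23 : ¬ AS2 (Matrix.SpecialLinearGroup (Fin 2) (ZMod 3)) := by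
  intro h
  have hr := Cfsg.Agent.Helper16.SL23.rel_SL23
  have hcard : Nat.card hr.fn.range = 2 ^ 3 := by
    rw [← Nat.card_congr (MonoidHom.ofInjective hr.fn_injective).toEquiv,
      Nat.card_eq_fintype_card, QuaternionGroup.card]
    norm_num
  have hQ : IsPGroup 2 hr.fn.range := IsPGroup.of_card hcard
  have h1 := h _ hQ _ ⟨_, hr.fn_a_one⟩ _ ⟨_, hr.fn_xa_zero⟩
  have h2 := hr.hyx
  rw [← h1, mul_inv_cancel_right] at h2
  have h3 : Cfsg.Agent.Helper16.SL23.matA ^ 2 = 1 := by
    rw [pow_two]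
    nth_rewrite 1 [h2]
    exact inv_mul_cancel _
  have h4 := orderOf_dvd_of_pow_eq_one h3
  rw [hr.hxo] at h4
  norm_num at h4

/-- `SL(2,p)`, `p` odd, is not an image of a solvable group whose `2`-subgroups are abelian
when `p = 3`. -/
theorem not_SL2_surjective {K : Type*} [Group K] [Finite K] {p : ℕ} [hpp : Fact p.Prime]
    (hp : p ≠ 2) (hsolv : Group.IsSolvable K) (h3 : p = 3 → AS2 K)
    (f : K →* Matrix.SpecialLinearGroup (Fin 2) (ZMod p)) (hf : Function.Surjective f) :
    False := by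
  have hs : Group.IsSolvable (Matrix.SpecialLinearGroup (Fin 2) (ZMod p)) :=
    Group.isSolvable_of_surjective hf
  by_cases hp3 : p = 3
  · subst hp3
    apply not_AS2_SL23
    exact AS2.of_surjective f hf (h3 rfl)
  · have hp5 : 5 ≤ p := by
      have h2 := hpp.out.two_le
      rcases Nat.lt_or_ge p 5 with h | h
      · interval_cases p
        · exact absurd rfl hp
        · exact absurd rfl hp3
        · exact absurd hpp.out (by norm_num)
      · exact h
    have h20 : (2 : ZMod p) ≠ 0 := by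
      intro h
      have h1 : ((2 : ℕ) : ZMod p) = 0 := by exact_mod_cast h
      rw [ZMod.natCast_eq_zero_iff] at h1
      have := Nat.le_of_dvd (by norm_num) h1
      omega
    have h41 : (2 : ZMod p) ^ 2 ≠ 1 := by
      intro h
      have h1 : ((3 : ℕ) : ZMod p) = 0 := by
        have : (2 : ZMod p) ^ 2 - 1 = 0 := by rw [h, sub_self]
        push_cast
        rw [← this]; ring
      rw [ZMod.natCast_eq_zero_iff] at h1
      have := Nat.le_of_dvd (by norm_num) h1
      omega
    have hperf := Matrix.SL2.commutator_eq_top h20 h41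
    have : Nontrivial (Matrix.SpecialLinearGroup (Fin 2) (ZMod p)) := by
      have : Fact (2 < p) := ⟨by omega⟩
      refine ⟨⟨1, -1, ?_⟩⟩
      intro h
      have h1 := congrArg (fun A : Matrix.SpecialLinearGroup (Fin 2) (ZMod p) =>
        (A : Matrix (Fin 2) (Fin 2) (ZMod p)) 0 0) h
      simp at h1
      have h2 : (2 : ZMod p) = 0 := by
        calc (2 : ZMod p) = 1 + 1 := by norm_num
          _ = 1 + -1 := by rw [← h1]
          _ = 0 := by ring
      exact h20 h2
    have hlt := Group.IsSolvable.commutator_lt_top_of_nontrivial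
      (Matrix.SpecialLinearGroup (Fin 2) (ZMod p))
    rw [hperf] at hlt
    exact lt_irrefl _ hlt

/-- `SL(2,p)`, `p` odd, is not a quotient of a solvable group whose `2`-subgroups are abelian
when `p = 3`. -/
theorem not_SL2_quotient {K : Type*} [Group K] [Finite K] {p : ℕ} [hpp : Fact p.Prime]
    (hp : p ≠ 2) (hsolv : Group.IsSolvable K) (h3 : p = 3 → AS2 K) (L : Subgroup K) [L.Normal]
    (e : K ⧸ L ≃* Matrix.SpecialLinearGroup (Fin 2) (ZMod p)) : False :=
  not_SL2_surjective hp hsolv h3 (e.toMonoidHom.comp (QuotientGroup.mk' L))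
    (e.surjective.comp (QuotientGroup.mk'_surjective L))

end Cfsg.Agent.Helper1
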