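import Mathlib

set_option autoImplicit false

namespace Cfsg.Agent.Helper1

open MulAction

/-- If every stabilizer has index `d`, then `d` divides the cardinality of the set acted on. -/
theorem dvd_card_of_forall_index_stabilizer_eq {G X : Type*} [Group G] [Finite G] [MulAction G X]
    [Finite X] (d : ℕ) (h : ∀ x : X, (stabilizer G x).index = d) : d ∣ Nat.card X := by
  classical
  have : Fintype (Quotient (orbitRel G X)) := Fintype.ofFinite _
  rw [Nat.card_congr (selfEquivSigmaOrbitsQuotientStabilizer G X), Nat.card_sigma]
  apply Finset.dvd_sum
  intro ω _
  have := h (Quotient.out ω)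
  rw [Subgroup.index] at this
  rw [this]

end Cfsg.Agent.Helper1
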