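import Mathlib
import Cfsg.Agent.Lib.Helper23.B2Defs

/-!
# S4705 pieces CRT, CRT2, CRT3 (helper1): the exponents from the Chinese remainder theorem
-/

set_option autoImplicit false
set_option linter.unusedSectionVars false
set_option linter.unusedVariables false

namespace Cfsg.Agent.Helper23.B2

open Cfsg Cfsg.Agent.Helper24

namespace CRT

/-- the Chinese remainder theorem with coprimality of the solution -/
theorem exists_crt (n m₁ m₂ : ℕ) (hn : n = m₁ * m₂) (hc : m₁.Coprime m₂) (a b : ℕ)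
    (ha : m₁.Coprime a) (hb : m₂.Coprime b) :
    ∃ r : ℕ, r ≡ a [MOD m₁] ∧ r ≡ b [MOD m₂] ∧ n.Coprime r := by
  obtain ⟨r, h1, h2⟩ := Nat.chineseRemainder hc a b
  refine ⟨r, h1, h2, ?_⟩
  rw [hn]
  apply Nat.Coprime.mul_left
  · have := h1.gcd_eq
    unfold Nat.Coprime at ha ⊢
    rw [Nat.gcd_comm, this, Nat.gcd_comm]
    exact ha
  · have := h2.gcd_eq
    unfold Nat.Coprime at hb ⊢
    rw [Nat.gcd_comm, this, Nat.gcd_comm]
    exact hb

theorem pow_eq_of_modEq {G : Type*} [Group G] {x : G} {a b m : ℕ} (h : a ≡ b [MOD m])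
    (hx : orderOf x ∣ m) : x ^ a = x ^ b :=
  pow_eq_pow_iff_modEq.2 (h.of_dvd hx)

/-- `|G| = p * n₁` with `n₁` prime to `p` -/
theorem card_eq_p_mul {G : Type*} [Group G] [Finite G] {p : ℕ} [hp : Fact p.Prime] {P : Sylow p G}
    (hP : Nat.card (P : Subgroup G) = p) :
    ∃ n₁ : ℕ, Nat.card G = p * n₁ ∧ p.Coprime n₁ := by
  have hpp : p.Prime := hp.out
  have hG0 : Nat.card G ≠ 0 := Nat.card_pos.ne'
  have hfac : (Nat.card G).factorization p = 1 := by
    have h1 : Nat.card P = p ^ (Nat.card G).factorization p := Sylow.card_eq_multiplicity P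
    rw [hP] at h1
    exact (Nat.pow_right_injective hpp.two_le (by simpa using h1)).symm
  refine ⟨Nat.card G / p ^ (Nat.card G).factorization p, ?_, ?_⟩
  · have := Nat.ordProj_mul_ordCompl_eq_self (Nat.card G) p
    rw [hfac, pow_one] at this ⊢
    exact this.symm
  · exact Nat.coprime_ordCompl hpp hG0

/-- `n = 2^u * n₂` with `n₂` odd -/
theorem eq_two_pow_mul (n : ℕ) (hn : n ≠ 0) : ∃ u n₂ : ℕ, n = 2 ^ u * n₂ ∧ Nat.Coprime 2 n₂ :=
  ⟨n.factorization 2, n / 2 ^ n.factorization 2, (Nat.ordProj_mul_ordCompl_eq_self n 2).symm,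
    Nat.coprime_ordCompl Nat.prime_two hn⟩

theorem orderOf_dvd_p {G : Type*} [Group G] [Finite G] {p : ℕ} {P : Sylow p G}
    (hP : Nat.card (P : Subgroup G) = p) {a : G} (ha : a ∈ (P : Subgroup G)) : orderOf a ∣ p := by
  have h1 : orderOf (⟨a, ha⟩ : (P : Subgroup G)) ∣ Nat.card (P : Subgroup G) := orderOf_dvd_natCard _
  rw [hP] at h1
  rwa [Subgroup.orderOf_mk] at h1

end CRT

open CRT

universe u

variable {G : Type u} [Group G] [Fintype G]
variable {p : ℕ} [Fact p.Prime] {P : Sylow p G}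

/-- PIECE CRT (§2): `r ≡ 2` modulo the odd `p'`-part of `|G|`, `r ≡ 1` modulo `p 2^u`. -/
theorem exists_isR (hp2 : p ≠ 2) (hP : Nat.card (P : Subgroup G) = p) : ∃ r : ℕ, IsR p P r := by
  have hpp : p.Prime := Fact.out
  obtain ⟨n₁, hn₁, hpn₁⟩ := card_eq_p_mul hP
  have hG0 : Nat.card G ≠ 0 := Nat.card_pos.ne'
  have hn₁0 : n₁ ≠ 0 := by
    rintro rfl
    rw [mul_zero] at hn₁
    exact hG0 hn₁
  obtain ⟨u, n₂, hn₂, h2n₂⟩ := eq_two_pow_mul n₁ hn₁0
  have hpn₂ : p.Coprime n₂ := Nat.Coprime.coprime_dvd_right ⟨2 ^ u, by rw [hn₂]; ring⟩ hpn₁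
  have hcop : (p * 2 ^ u).Coprime n₂ := Nat.Coprime.mul_left hpn₂ (Nat.Coprime.pow_left u h2n₂)
  have hn : Nat.card G = (p * 2 ^ u) * n₂ := by rw [hn₁, hn₂]; ring
  obtain ⟨r, hr1, hr2, hrc⟩ := exists_crt (Nat.card G) (p * 2 ^ u) n₂ hn hcop 1 2
    (Nat.coprime_one_right _) h2n₂.symm
  refine ⟨r, ⟨hrc, ?_, ?_, ?_⟩⟩
  · intro a ha
    have h1 : orderOf a ∣ p * 2 ^ u := (orderOf_dvd_p hP ha).trans (dvd_mul_right _ _)
    rw [pow_eq_of_modEq hr1 h1, pow_one]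
  · rintro x ⟨k, hk⟩
    have h0 : orderOf x ∣ Nat.card G := orderOf_dvd_natCard x
    rw [hn] at h0
    have hc : (orderOf x).Coprime n₂ := by
      rw [hk]
      exact Nat.Coprime.pow_left k h2n₂
    have h1 : orderOf x ∣ p * 2 ^ u := hc.dvd_of_dvd_mul_right h0
    rw [pow_eq_of_modEq hr1 h1, pow_one]
  · intro h hodd hp'
    have h0 : orderOf h ∣ Nat.card G := orderOf_dvd_natCard h
    rw [hn] at h0
    have hc : (orderOf h).Coprime (p * 2 ^ u) := by
      apply Nat.Coprime.mul_right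
      · exact ((Nat.Prime.coprime_iff_not_dvd hpp).2 hp').symm
      · exact Nat.Coprime.pow_right u hodd.coprime_two_right
    have h1 : orderOf h ∣ n₂ := hc.dvd_of_dvd_mul_left h0
    rw [pow_eq_of_modEq hr2 h1, pow_two]

/-- PIECE CRT2 (§2): for odd `j` there is `k` prime to `|G|` with `x^k = x^j` on `2`-elements and `h^k = h` on
elements of odd order. -/
theorem exists_k_two (j : ℕ) (hj : Odd j) : ∃ k : ℕ, Nat.Coprime (Nat.card G) k ∧
    (∀ x : G, (∃ i : ℕ, orderOf x = 2 ^ i) → x ^ k = x ^ j) ∧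
    (∀ h : G, Odd (orderOf h) → h ^ k = h) := by
  have hG0 : Nat.card G ≠ 0 := Nat.card_pos.ne'
  obtain ⟨u, n₂, hn₂, h2n₂⟩ := eq_two_pow_mul (Nat.card G) hG0
  have hcop : (2 ^ u).Coprime n₂ := Nat.Coprime.pow_left u h2n₂
  obtain ⟨k, hk1, hk2, hkc⟩ := exists_crt (Nat.card G) (2 ^ u) n₂ hn₂ hcop j 1
    (Nat.Coprime.pow_left u hj.coprime_two_left) (Nat.coprime_one_right _)
  refine ⟨k, hkc, ?_, ?_⟩
  · rintro x ⟨i, hi⟩
    have h0 : orderOf x ∣ Nat.card G := orderOf_dvd_natCard x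
    rw [hn₂] at h0
    have hc : (orderOf x).Coprime n₂ := by
      rw [hi]
      exact Nat.Coprime.pow_left i h2n₂
    have h1 : orderOf x ∣ 2 ^ u := hc.dvd_of_dvd_mul_right h0
    exact pow_eq_of_modEq hk1 h1
  · intro h hodd
    have h0 : orderOf h ∣ Nat.card G := orderOf_dvd_natCard h
    rw [hn₂] at h0
    have hc : (orderOf h).Coprime (2 ^ u) := Nat.Coprime.pow_right u hodd.coprime_two_right
    have h1 : orderOf h ∣ n₂ := hc.dvd_of_dvd_mul_left h0
    rw [pow_eq_of_modEq hk2 h1, pow_one]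

/-- PIECE CRT3 (§2): there is `k` prime to `|G|` with `a^k = a^2` on `P` and `h^k = h` on `p`-regular elements. -/
theorem exists_k_p (hp2 : p ≠ 2) (hP : Nat.card (P : Subgroup G) = p) :
    ∃ k : ℕ, Nat.Coprime (Nat.card G) k ∧ (∀ a ∈ (P : Subgroup G), a ^ k = a * a) ∧
      (∀ h : G, ¬ p ∣ orderOf h → h ^ k = h) := by
  have hpp : p.Prime := Fact.out
  obtain ⟨n₁, hn₁, hpn₁⟩ := card_eq_p_mul hP
  have hp2' : p.Coprime 2 := (Nat.coprime_primes hpp Nat.prime_two).2 hp2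
  obtain ⟨k, hk1, hk2, hkc⟩ := exists_crt (Nat.card G) p n₁ hn₁ hpn₁ 2 1 hp2'
    (Nat.coprime_one_right _)
  refine ⟨k, hkc, ?_, ?_⟩
  · intro a ha
    rw [pow_eq_of_modEq hk1 (orderOf_dvd_p hP ha), pow_two]
  · intro h hp'
    have h0 : orderOf h ∣ Nat.card G := orderOf_dvd_natCard h
    rw [hn₁] at h0
    have hc : (orderOf h).Coprime p := ((Nat.Prime.coprime_iff_not_dvd hpp).2 hp').symm
    have h1 : orderOf h ∣ n₁ := hc.dvd_of_dvd_mul_left h0
    rw [pow_eq_of_modEq hk2 h1, pow_one]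

end Cfsg.Agent.Helper23.B2
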