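import Mathlib
import Cfsg.Agent.Lib.Helper23.B2Defs
import Cfsg.Agent.Lib.Helper1.TLDDCHAR

/-!
# S4705 piece SUMM (helper1): the trichotomy for the `p`-regular elements
-/

set_option autoImplicit false
set_option linter.unusedSectionVars false
set_option linter.unusedVariables false

namespace Cfsg.Agent.Helper23.B2

open scoped ComplexConjugate
open Cfsg Cfsg.Agent.Helper24 Cfsg.Agent.Helper16.ITO

namespace SUMM

/-- own copy of SCH: a central element acts as a scalar -/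
theorem central_mul_aux {G : Type*} [Group G] [Finite G] (χ : IrrCharacter G) {z : G}
    (hz : z ∈ Subgroup.center G) (g : G) :
    (χ : G → ℂ) (g * z) * (χ : G → ℂ) 1 = (χ : G → ℂ) z * (χ : G → ℂ) g ∧
      ‖(χ : G → ℂ) z‖ = ‖(χ : G → ℂ) 1‖ := by
  obtain ⟨lam, hlam⟩ := Cfsg.Agent.Helper5.TLD.dchar_exists_central_hom (Subgroup.center G)
    (fun z hz h => (Subgroup.mem_center_iff.1 hz h).symm) χ
  have h1 : (χ : G → ℂ) (g * z) = ((lam ⟨z, hz⟩ : ℂˣ) : ℂ) * (χ : G → ℂ) g := by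
    rw [Subgroup.mem_center_iff.1 hz g]
    exact hlam ⟨z, hz⟩ g
  have h2 : (χ : G → ℂ) z = ((lam ⟨z, hz⟩ : ℂˣ) : ℂ) * (χ : G → ℂ) 1 := by
    have := hlam ⟨z, hz⟩ 1
    rwa [mul_one] at this
  constructor
  · rw [h1, h2]
    ring
  · have hn : ‖((lam ⟨z, hz⟩ : ℂˣ) : ℂ)‖ = 1 := by
      have hpos : 0 < orderOf (⟨z, hz⟩ : Subgroup.center G) := orderOf_pos _
      apply Complex.norm_eq_one_of_pow_eq_one (n := orderOf (⟨z, hz⟩ : Subgroup.center G)) _ hpos.ne'
      rw [← Units.val_pow_eq_pow_val, ← map_pow, pow_orderOf_eq_one, map_one, Units.val_one]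
    rw [h2, norm_mul, hn, one_mul]

/-- the `2`-part and the odd part of an element -/
theorem exists_decomp {G : Type*} [Group G] [Finite G] (g : G) :
    ∃ x y : G, x * y = g ∧ x * y = y * x ∧ (∃ i : ℕ, orderOf x = 2 ^ i) ∧ Odd (orderOf y) ∧
      orderOf y ∣ orderOf g := by
  have hn0 : orderOf g ≠ 0 := (orderOf_pos g).ne'
  set u := (orderOf g).factorization 2 with hu
  set m := orderOf g / 2 ^ u with hm
  have hnm : 2 ^ u * m = orderOf g := Nat.ordProj_mul_ordCompl_eq_self (orderOf g) 2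
  have h2m : Nat.Coprime 2 m := Nat.coprime_ordCompl Nat.prime_two hn0
  have hcop : (2 ^ u).Coprime m := Nat.Coprime.pow_left u h2m
  obtain ⟨a, ha1, ha2⟩ := Nat.chineseRemainder hcop 1 0
  obtain ⟨b, hb1, hb2⟩ := Nat.chineseRemainder hcop 0 1
  refine ⟨g ^ a, g ^ b, ?_, ?_, ?_, ?_, orderOf_pow_dvd b⟩
  · rw [← pow_add]
    have h1 : a + b ≡ 1 [MOD 2 ^ u] := by simpa using ha1.add hb1
    have h2 : a + b ≡ 1 [MOD m] := by simpa using ha2.add hb2
    have h3 : a + b ≡ 1 [MOD 2 ^ u * m] := (Nat.modEq_and_modEq_iff_modEq_mul hcop).1 ⟨h1, h2⟩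
    rw [hnm] at h3
    rw [pow_eq_pow_iff_modEq.2 h3, pow_one]
  · rw [← pow_add, ← pow_add, add_comm]
  · have hma : m ∣ a := (Nat.modEq_zero_iff_dvd).1 ha2
    have h1 : (g ^ a) ^ (2 ^ u) = 1 := by
      rw [← pow_mul]
      apply orderOf_dvd_iff_pow_eq_one.1
      rw [← hnm, mul_comm a]
      exact Nat.mul_dvd_mul_left _ hma
    obtain ⟨i, -, hi⟩ := (Nat.dvd_prime_pow Nat.prime_two).1 (orderOf_dvd_of_pow_eq_one h1)
    exact ⟨i, hi⟩
  · have hub : 2 ^ u ∣ b := (Nat.modEq_zero_iff_dvd).1 hb1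
    have h1 : (g ^ b) ^ m = 1 := by
      rw [← pow_mul]
      apply orderOf_dvd_iff_pow_eq_one.1
      rw [← hnm]
      exact Nat.mul_dvd_mul_right hub _
    have h2 : orderOf (g ^ b) ∣ m := orderOf_dvd_of_pow_eq_one h1
    have hmodd : Odd m := by
      rw [Nat.odd_iff, ← Nat.two_dvd_ne_zero]
      intro hd
      have := Nat.Coprime.eq_one_of_dvd h2m hd
      omega
    exact Odd.of_dvd_nat hmodd h2

/-- an element of odd order is a power of its square -/
theorem mem_of_sq_mem {G : Type*} [Group G] (S : Subgroup G) {y : G} (hy : Odd (orderOf y))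
    (h : y * y ∈ S) : y ∈ S := by
  obtain ⟨k, hk⟩ := hy
  have h1 : (y * y) ^ (k + 1) = y := by
    rw [← pow_two, ← pow_mul]
    have : 2 * (k + 1) = orderOf y + 1 := by omega
    rw [this, pow_succ, pow_orderOf_eq_one, one_mul]
  rw [← h1]
  exact pow_mem h _

end SUMM

universe u

variable {G : Type u} [Group G] [Fintype G]
variable {p : ℕ} [Fact p.Prime] {P : Sylow p G} {ζ : IrrCharacter G}

/-- PIECE SUMM (§4): the trichotomy for `p`-regular elements. -/
theorem summary (h : Core p P ζ)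
    (hodd : ∀ g : G, Odd (orderOf g) → ¬ p ∣ orderOf g → g ∉ Subgroup.center G →
      (ζ : G → ℂ) g = 0)
    (htwo : ∀ x : G, (∃ i : ℕ, orderOf x = 2 ^ i) →
      x * x ∈ Subgroup.center G ∧ (x ∉ Subgroup.center G → (ζ : G → ℂ) x = -1))
    (hmix : ∀ x y : G, (∃ i : ℕ, orderOf x = 2 ^ i) → x ∉ Subgroup.center G → Odd (orderOf y) →
      ¬ p ∣ orderOf y → y ∉ Subgroup.center G → x * y = y * x → (ζ : G → ℂ) (x * y) = 0)
    (g : G) (hg : ¬ p ∣ orderOf g) :
    g ∈ Subgroup.center G ∨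
      (‖(ζ : G → ℂ) g‖ = 1 ∧ (ζ : G → ℂ) (g * g) = ((p : ℂ) - 2) * (ζ : G → ℂ) g ^ 2) ∨
      ((ζ : G → ℂ) g = 0 ∧ (ζ : G → ℂ) (g * g) = 0) := by
  classical
  obtain ⟨x, y, hxy, hcomm, hx2, hyodd, hydvd⟩ := SUMM.exists_decomp g
  have hyp : ¬ p ∣ orderOf y := fun hd => hg (hd.trans hydvd)
  have hζ1 : (ζ : G → ℂ) 1 = (p : ℂ) - 2 := h.deg
  have hp5 : (5 : ℝ) < (p : ℝ) := by exact_mod_cast h.hp
  have hζ1ne : (ζ : G → ℂ) 1 ≠ 0 := by
    rw [hζ1]
    intro h0
    have h1 : (p : ℂ) = 2 := by linear_combination h0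
    have h2 : (p : ℕ) = 2 := by exact_mod_cast h1
    have := h.hp
    omega
  have hgg : g * g = (y * y) * (x * x) := by
    rw [← hxy]
    calc x * y * (x * y) = x * (y * x) * y := by group
      _ = x * (x * y) * y := by rw [hcomm]
      _ = (x * x) * (y * y) := by group
      _ = (x * y) * (x * y) := by
          calc (x * x) * (y * y) = x * (x * y) * y := by group
            _ = x * (y * x) * y := by rw [hcomm]
            _ = (x * y) * (x * y) := by group
      _ = (y * x) * (y * x) := by rw [hcomm]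
      _ = y * (x * y) * x := by group
      _ = y * (y * x) * x := by rw [hcomm]
      _ = (y * y) * (x * x) := by group
  have hxxZ : x * x ∈ Subgroup.center G := (htwo x hx2).1
  -- `x * x` is a `2`-element
  have hxx2 : ∃ j : ℕ, orderOf (x * x) = 2 ^ j := by
    obtain ⟨i, hi⟩ := hx2
    have h1 : orderOf (x * x) ∣ 2 ^ i := by
      rw [← hi, ← pow_two]
      exact orderOf_pow_dvd 2
    obtain ⟨j, -, hj⟩ := (Nat.dvd_prime_pow Nat.prime_two).1 h1
    exact ⟨j, hj⟩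
  have hζxx : (ζ : G → ℂ) (x * x) = (ζ : G → ℂ) 1 := h.two (x * x) hxxZ hxx2
  by_cases hyZ : y ∈ Subgroup.center G
  · by_cases hxZ : x ∈ Subgroup.center G
    · left
      rw [← hxy]
      exact mul_mem hxZ hyZ
    · right; left
      have hx1 : (ζ : G → ℂ) x = -1 := (htwo x hx2).2 hxZ
      obtain ⟨e1, e2⟩ := SUMM.central_mul_aux ζ hyZ x
      rw [hxy, hx1] at e1
      -- `ζ g * ζ 1 = - ζ y`
      have e3 := (SUMM.central_mul_aux ζ hxxZ (y * y)).1
      rw [← hgg, hζxx] at e3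
      have e4 := (SUMM.central_mul_aux ζ hyZ y).1
      have hgg' : (ζ : G → ℂ) (g * g) = (ζ : G → ℂ) (y * y) := by
        have : (ζ : G → ℂ) (g * g) * (ζ : G → ℂ) 1 = (ζ : G → ℂ) (y * y) * (ζ : G → ℂ) 1 := by
          rw [e3]; ring
        exact mul_right_cancel₀ hζ1ne this
      constructor
      · have h1 : ‖(ζ : G → ℂ) g‖ * ‖(ζ : G → ℂ) 1‖ = ‖(ζ : G → ℂ) y‖ := by
          rw [← norm_mul, e1, mul_neg, mul_one, norm_neg]
        rw [e2] at h1
        have hne : ‖(ζ : G → ℂ) 1‖ ≠ 0 := norm_ne_zero_iff.2 hζ1ne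
        have h2 : ‖(ζ : G → ℂ) g‖ * ‖(ζ : G → ℂ) 1‖ = 1 * ‖(ζ : G → ℂ) 1‖ := by rw [h1, one_mul]
        exact mul_right_cancel₀ hne h2
      · rw [hgg']
        have h3 : (ζ : G → ℂ) (y * y) * (ζ : G → ℂ) 1 * (ζ : G → ℂ) 1 =
            (((p : ℂ) - 2) * (ζ : G → ℂ) g ^ 2) * (ζ : G → ℂ) 1 * (ζ : G → ℂ) 1 := by
          rw [e4, ← hζ1]
          have : (ζ : G → ℂ) y = -((ζ : G → ℂ) g * (ζ : G → ℂ) 1) := by rw [e1]; ring
          rw [this]
          ring
        exact mul_right_cancel₀ hζ1ne (mul_right_cancel₀ hζ1ne h3)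
  · right; right
    have key : ∀ y' : G, Odd (orderOf y') → ¬ p ∣ orderOf y' → y' ∉ Subgroup.center G →
        ∀ c ∈ Subgroup.center G, (ζ : G → ℂ) (y' * c) = 0 := by
      intro y' h1 h2 h3 c hc
      have e := (SUMM.central_mul_aux ζ hc y').1
      rw [hodd y' h1 h2 h3, mul_zero] at e
      exact (mul_eq_zero.1 e).resolve_right hζ1ne
    constructor
    · by_cases hxZ : x ∈ Subgroup.center G
      · rw [← hxy, hcomm]
        exact key y hyodd hyp hyZ x hxZ
      · rw [← hxy]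
        exact hmix x y hx2 hxZ hyodd hyp hyZ hcomm
    · rw [hgg]
      have hyy : orderOf (y * y) ∣ orderOf y := by
        rw [← pow_two]
        exact orderOf_pow_dvd 2
      refine key (y * y) (Odd.of_dvd_nat hyodd hyy) (fun hd => hyp (hd.trans hyy)) ?_ (x * x) hxxZ
      intro hyyZ
      exact hyZ (SUMM.mem_of_sq_mem _ hyodd hyyZ)

end Cfsg.Agent.Helper23.B2
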