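import Mathlib
import Cfsg.Agent.Lib.Helper23.B2Defs
import Cfsg.Agent.Lib.Helper1.B2SUMM
import Cfsg.Agent.Lib.Helper19.B2COSET

/-!
# S4705 piece V3 (helper1): `ζ (x h) = 0` for a non-central `2`-element `x` and a commuting non-central
`p`-regular element `h` of odd order
-/

set_option autoImplicit false
set_option linter.unusedSectionVars false
set_option linter.unusedVariables false

namespace Cfsg.Agent.Helper23.B2

open scoped ComplexConjugate
open Cfsg Cfsg.Agent.Helper24 Cfsg.Agent.Helper16.ITO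

namespace V3

/-- a nonnegative periodic sequence with `u (j+1) = u j ^ 2` starts at `0` or `1` -/
theorem sq_dyn (u : ℕ → ℝ) (h0 : ∀ j, 0 ≤ u j) (hstep : ∀ j, u (j + 1) = u j ^ 2) (N : ℕ)
    (hN : 0 < N) (hper : u N = u 0) : u 0 = 0 ∨ u 0 = 1 := by
  have hpow : ∀ j, u j = u 0 ^ (2 ^ j) := by
    intro j
    induction j with
    | zero => simp
    | succ j ih => rw [hstep, ih, ← pow_mul, pow_succ]
  have h1 := hpow N
  rw [hper] at h1
  by_cases hz : u 0 = 0
  · left; exact hz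
  · right
    have h2N : 2 ≤ 2 ^ N := by
      calc 2 = 2 ^ 1 := by norm_num
        _ ≤ 2 ^ N := Nat.pow_le_pow_right (by norm_num) hN
    have h2 : u 0 ^ (2 ^ N - 1) = 1 := by
      have e : u 0 ^ (2 ^ N) = u 0 ^ (2 ^ N - 1) * u 0 := by
        rw [← pow_succ]
        congr 1
        omega
      rw [e] at h1
      have h3 : 1 * u 0 = u 0 ^ (2 ^ N - 1) * u 0 := by rw [one_mul]; exact h1
      exact (mul_right_cancel₀ hz h3).symm
    have hk : 2 ^ N - 1 ≠ 0 := by omega
    exact (pow_eq_one_iff_of_nonneg (h0 0) hk).1 h2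

/-- multiplying by a central element does not change the norm of the value -/
theorem norm_mul_central {G : Type*} [Group G] [Finite G] (χ : IrrCharacter G)
    (h1 : (χ : G → ℂ) 1 ≠ 0) {z : G} (hz : z ∈ Subgroup.center G) (g : G) :
    ‖(χ : G → ℂ) (g * z)‖ = ‖(χ : G → ℂ) g‖ := by
  obtain ⟨e1, e2⟩ := SUMM.central_mul_aux χ hz g
  have h2 : ‖(χ : G → ℂ) (g * z)‖ * ‖(χ : G → ℂ) 1‖ = ‖(χ : G → ℂ) g‖ * ‖(χ : G → ℂ) 1‖ := by
    rw [← norm_mul, e1, norm_mul, e2, mul_comm]
  exact mul_right_cancel₀ (norm_ne_zero_iff.2 h1) h2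

end V3

universe u

variable {G : Type u} [Group G] [Fintype G]
variable {p : ℕ} [Fact p.Prime] {P : Sylow p G} {ζ : IrrCharacter G}

/-- PIECE V3 (§4): `ζ (x h) = 0` for a non-central `2`-element `x` and a commuting non-central `p`-regular `h` of odd
order. -/
theorem value_mixed (h : Core p P ζ) {r : ℕ} (hr : IsR p P r)
    (hFE : ∀ g : G, ¬ p ∣ orderOf g →
      (ζ : G → ℂ) (g * g) = (ζ : G → ℂ) g ^ 2 - ((p : ℂ) - 3) * (ζ : G → ℂ) (g ^ r))
    (hodd : ∀ g : G, Odd (orderOf g) → ¬ p ∣ orderOf g → g ∉ Subgroup.center G →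
      (ζ : G → ℂ) g = 0)
    (htwo : ∀ x : G, (∃ i : ℕ, orderOf x = 2 ^ i) →
      x * x ∈ Subgroup.center G ∧ (x ∉ Subgroup.center G → (ζ : G → ℂ) x = -1))
    {x y : G} (hx : ∃ i : ℕ, orderOf x = 2 ^ i) (hxZ : x ∉ Subgroup.center G)
    (hy : Odd (orderOf y)) (hyp : ¬ p ∣ orderOf y) (hyZ : y ∉ Subgroup.center G)
    (hxy : x * y = y * x) : (ζ : G → ℂ) (x * y) = 0 := by
  classical
  have hpp : p.Prime := Fact.out
  have hp5 := h.hp
  have hp5r : (5 : ℝ) < (p : ℝ) := by exact_mod_cast hp5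
  have hζ1 : (ζ : G → ℂ) 1 = (p : ℂ) - 2 := h.deg
  have hζ1ne : (ζ : G → ℂ) 1 ≠ 0 := by
    rw [hζ1]
    intro h0
    have h1 : (p : ℂ) = 2 := by linear_combination h0
    have h2 : (p : ℕ) = 2 := by exact_mod_cast h1
    omega
  have hnorm1 : ‖(ζ : G → ℂ) 1‖ = (p : ℝ) - 2 := by
    rw [hζ1]
    have : ((p : ℂ) - 2) = (((p : ℝ) - 2 : ℝ) : ℂ) := by push_cast; ring
    rw [this, Complex.norm_real, Real.norm_of_nonneg]
    linarith
  have hx1 : (ζ : G → ℂ) x = -1 := (htwo x hx).2 hxZ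
  have hxxZ : x * x ∈ Subgroup.center G := (htwo x hx).1
  have hcxy : Commute x y := hxy
  -- the key relation
  have key : ∀ y' : G, Odd (orderOf y') → ¬ p ∣ orderOf y' → y' ∉ Subgroup.center G →
      x * y' = y' * x →
      (ζ : G → ℂ) (x * y') ^ 2 = ((p : ℂ) - 3) * (ζ : G → ℂ) (x * (y' * y')) := by
    intro y' ho hp' hZ hc
    have hcomm : Commute x y' := hc
    have hpg : ¬ p ∣ orderOf (x * y') := by
      intro hd
      have h1 : orderOf (x * y') ∣ orderOf x * orderOf y' := hcomm.orderOf_mul_dvd_mul_orderOf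
      obtain ⟨i, hi⟩ := hx
      rcases (hpp.dvd_mul).1 (hd.trans h1) with h2 | h2
      · rw [hi] at h2
        have := (Nat.prime_dvd_prime_iff_eq hpp Nat.prime_two).1 (hpp.dvd_of_dvd_pow h2)
        omega
      · exact hp' h2
    have e1 := hFE (x * y') hpg
    have e2 : (x * y') ^ r = x * (y' * y') := by
      rw [hcomm.mul_pow, hr.onTwo x hx, hr.onOdd y' ho hp']
    have e3 : (x * y') * (x * y') = (y' * y') * (x * x) := by
      calc x * y' * (x * y') = (y' * x) * (y' * x) := by rw [hc]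
        _ = y' * (x * y') * x := by group
        _ = y' * (y' * x) * x := by rw [hc]
        _ = (y' * y') * (x * x) := by group
    have hyy : orderOf (y' * y') ∣ orderOf y' := by
      rw [← pow_two]
      exact orderOf_pow_dvd 2
    have e4 : (ζ : G → ℂ) (y' * y') = 0 :=
      hodd (y' * y') (Odd.of_dvd_nat ho hyy) (fun hd => hp' (hd.trans hyy))
        (fun hz => hZ (SUMM.mem_of_sq_mem _ ho hz))
    have e5 := (SUMM.central_mul_aux ζ hxxZ (y' * y')).1
    rw [e4, mul_zero] at e5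
    have e6 : (ζ : G → ℂ) ((y' * y') * (x * x)) = 0 := (mul_eq_zero.1 e5).resolve_right hζ1ne
    rw [e3, e6, e2] at e1
    linear_combination -e1
  -- the sequence `y^(2^j)`
  set Yj : ℕ → G := fun j => y ^ (2 ^ j) with hYj
  have hYstep : ∀ j, Yj (j + 1) = Yj j * Yj j := by
    intro j
    simp only [hYj]
    rw [pow_succ, pow_mul, pow_two]
  have hYodd : ∀ j, Odd (orderOf (Yj j)) := fun j => Odd.of_dvd_nat hy (orderOf_pow_dvd _)
  have hYp : ∀ j, ¬ p ∣ orderOf (Yj j) := fun j hd => hyp (hd.trans (orderOf_pow_dvd _))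
  have hYZ : ∀ j, Yj j ∉ Subgroup.center G := by
    intro j
    induction j with
    | zero => simpa [hYj] using hyZ
    | succ j ih =>
      rw [hYstep]
      intro hz
      exact ih (SUMM.mem_of_sq_mem _ (hYodd j) hz)
  have hYc : ∀ j, x * Yj j = Yj j * x := fun j => (hcxy.pow_right _).eq
  set v : ℕ → ℂ := fun j => (ζ : G → ℂ) (x * Yj j) with hv
  have hvstep : ∀ j, v j ^ 2 = ((p : ℂ) - 3) * v (j + 1) := by
    intro j
    have := key (Yj j) (hYodd j) (hYp j) (hYZ j) (hYc j)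
    simp only [hv]
    rw [hYstep]
    exact this
  have hp3 : (0 : ℝ) < (p : ℝ) - 3 := by linarith
  have hnp3 : ‖((p : ℂ) - 3)‖ = (p : ℝ) - 3 := by
    have : ((p : ℂ) - 3) = (((p : ℝ) - 3 : ℝ) : ℂ) := by push_cast; ring
    rw [this, Complex.norm_real, Real.norm_of_nonneg hp3.le]
  set u : ℕ → ℝ := fun j => ‖v j‖ / ((p : ℝ) - 3) with hu
  have hu0 : ∀ j, 0 ≤ u j := fun j => div_nonneg (norm_nonneg _) hp3.le
  have hustep : ∀ j, u (j + 1) = u j ^ 2 := by
    intro j
    have h1 : ‖v j‖ ^ 2 = ((p : ℝ) - 3) * ‖v (j + 1)‖ := by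
      rw [← norm_pow, hvstep j, norm_mul, hnp3]
    simp only [hu]
    rw [div_pow, h1]
    field_simp
  obtain ⟨N, hN, hmod⟩ : ∃ N : ℕ, 0 < N ∧ 2 ^ N ≡ 1 [MOD orderOf y] :=
    ⟨Nat.totient (orderOf y), Nat.totient_pos.mpr hy.pos,
      Nat.ModEq.pow_totient (Nat.coprime_two_left.mpr hy)⟩
  have hYper : Yj N = Yj 0 := by
    simp only [hYj]
    rw [pow_zero]
    exact pow_eq_pow_iff_modEq.mpr hmod
  have huper : u N = u 0 := by
    simp only [hu, hv]
    rw [hYper]
  have hY0 : Yj 0 = y := by simp [hYj]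
  have hY1 : Yj 1 = y * y := by rw [hYstep, hY0]
  rcases V3.sq_dyn u hu0 hustep N hN huper with h0 | h1
  · -- `u 0 = 0`
    have h2 : ‖v 0‖ = 0 := by
      have := h0
      simp only [hu] at this
      rcases div_eq_zero_iff.1 this with h3 | h3
      · exact h3
      · linarith
    have h3 : v 0 = 0 := norm_eq_zero.1 h2
    simpa [hv, hY0] using h3
  · -- `u 0 = 1`: contradiction with the coset inequality
    exfalso
    have hu1 : u 1 = 1 := by rw [hustep 0, h1, one_pow]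
    have hn0 : ‖(ζ : G → ℂ) (x * y)‖ = (p : ℝ) - 3 := by
      have := h1
      simp only [hu, hv, hY0] at this
      rwa [div_eq_one_iff_eq hp3.ne'] at this
    have hn1 : ‖(ζ : G → ℂ) (x * (y * y))‖ = (p : ℝ) - 3 := by
      have := hu1
      simp only [hu, hv, hY1] at this
      rwa [div_eq_one_iff_eq hp3.ne'] at this
    set A : Subgroup G := Subgroup.zpowers y with hA
    have hAcomm : ∀ a ∈ A, ∀ b ∈ A, a * b = b * a := by
      intro a ha b hb
      obtain ⟨m, rfl⟩ := Subgroup.mem_zpowers_iff.1 ha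
      obtain ⟨n, rfl⟩ := Subgroup.mem_zpowers_iff.1 hb
      exact (Commute.zpow_zpow_self y m n).eq
    have hxA : ∀ a ∈ A, x * a = a * x := by
      intro a ha
      obtain ⟨m, rfl⟩ := Subgroup.mem_zpowers_iff.1 ha
      exact (hcxy.zpow_right m).eq
    have hcos := coset_ineq (isCharacter_of_isIrrCharacter ζ.2) A hAcomm x hxA
    set FA : Finset G := Finset.univ.filter (fun a => a ∈ A) with hFA
    have hAset : (A : Set G) = (FA : Set G) := by
      ext a
      simp [hFA]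
    rw [hAset, finsum_mem_coe_finset, finsum_mem_coe_finset] at hcos
    set F0 : Finset G := FA.filter (fun a => a ∈ Subgroup.center G) with hF0
    have hmemF0 : ∀ a, a ∈ F0 ↔ a ∈ A ∧ a ∈ Subgroup.center G := by
      intro a
      simp [hF0, hFA]
    -- the right hand side
    have hrhs : ∑ a ∈ FA, ‖(ζ : G → ℂ) a‖ ^ 2 = (F0.card : ℝ) * ((p : ℝ) - 2) ^ 2 := by
      have h2 : ∀ a ∈ FA, ‖(ζ : G → ℂ) a‖ ^ 2 =
          if a ∈ Subgroup.center G then ((p : ℝ) - 2) ^ 2 else 0 := by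
        intro a ha
        have haA : a ∈ A := (Finset.mem_filter.1 ha).2
        split_ifs with hc
        · rw [(SUMM.central_mul_aux ζ hc 1).2, hnorm1]
        · have hd : orderOf a ∣ orderOf y := orderOf_dvd_of_mem_zpowers haA
          rw [hodd a (Odd.of_dvd_nat hy hd) (fun hd' => hyp (hd'.trans hd)) hc]
          simp
      rw [Finset.sum_congr rfl h2, ← Finset.sum_filter, Finset.sum_const, nsmul_eq_mul]
    -- the three cosets
    set S1 : Finset G := F0.image (fun a => y * a) with hS1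
    set S2 : Finset G := F0.image (fun a => (y * y) * a) with hS2
    have hyA : y ∈ A := Subgroup.mem_zpowers y
    have hsub : F0 ∪ S1 ∪ S2 ⊆ FA := by
      intro a ha
      rw [Finset.mem_union, Finset.mem_union] at ha
      rw [hFA, Finset.mem_filter]
      refine ⟨Finset.mem_univ _, ?_⟩
      rcases ha with (ha | ha) | ha
      · exact ((hmemF0 a).1 ha).1
      · obtain ⟨b, hb, rfl⟩ := Finset.mem_image.1 ha
        exact mul_mem hyA ((hmemF0 b).1 hb).1
      · obtain ⟨b, hb, rfl⟩ := Finset.mem_image.1 ha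
        exact mul_mem (mul_mem hyA hyA) ((hmemF0 b).1 hb).1
    have hyyZ : y * y ∉ Subgroup.center G := fun hz => hyZ (SUMM.mem_of_sq_mem _ hy hz)
    have hd01 : Disjoint F0 S1 := by
      rw [Finset.disjoint_left]
      intro a ha ha'
      obtain ⟨b, hb, hba⟩ := Finset.mem_image.1 ha'
      apply hyZ
      have : y = a * b⁻¹ := by rw [← hba]; group
      rw [this]
      exact mul_mem ((hmemF0 a).1 ha).2 (inv_mem ((hmemF0 b).1 hb).2)
    have hd02 : Disjoint F0 S2 := by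
      rw [Finset.disjoint_left]
      intro a ha ha'
      obtain ⟨b, hb, hba⟩ := Finset.mem_image.1 ha'
      apply hyyZ
      have : y * y = a * b⁻¹ := by rw [← hba]; group
      rw [this]
      exact mul_mem ((hmemF0 a).1 ha).2 (inv_mem ((hmemF0 b).1 hb).2)
    have hd12 : Disjoint S1 S2 := by
      rw [Finset.disjoint_left]
      intro a ha ha'
      obtain ⟨b, hb, hba⟩ := Finset.mem_image.1 ha
      obtain ⟨c, hc, hca⟩ := Finset.mem_image.1 ha'
      apply hyZ
      have : y = b * c⁻¹ := by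
        have h3 : y * b = y * y * c := by rw [hba, hca]
        have h4 : b = y * c := by
          have : y * b = y * (y * c) := by rw [h3, mul_assoc]
          exact mul_left_cancel this
        rw [h4]; group
      rw [this]
      exact mul_mem ((hmemF0 b).1 hb).2 (inv_mem ((hmemF0 c).1 hc).2)
    have hlhs : (F0.card : ℝ) * (1 + 2 * ((p : ℝ) - 3) ^ 2) ≤
        ∑ a ∈ FA, ‖(ζ : G → ℂ) (x * a)‖ ^ 2 := by
      have h2 : ∑ a ∈ F0 ∪ S1 ∪ S2, ‖(ζ : G → ℂ) (x * a)‖ ^ 2 ≤
          ∑ a ∈ FA, ‖(ζ : G → ℂ) (x * a)‖ ^ 2 :=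
        Finset.sum_le_sum_of_subset_of_nonneg hsub (fun _ _ _ => sq_nonneg _)
      have hd : Disjoint (F0 ∪ S1) S2 := by
        rw [Finset.disjoint_union_left]
        exact ⟨hd02, hd12⟩
      rw [Finset.sum_union hd, Finset.sum_union hd01] at h2
      have s0 : ∑ a ∈ F0, ‖(ζ : G → ℂ) (x * a)‖ ^ 2 = (F0.card : ℝ) * 1 := by
        rw [Finset.sum_congr rfl (fun a ha => by
          rw [V3.norm_mul_central ζ hζ1ne ((hmemF0 a).1 ha).2 x, hx1, norm_neg, norm_one, one_pow]),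
          Finset.sum_const, nsmul_eq_mul]
      have s1 : ∑ a ∈ S1, ‖(ζ : G → ℂ) (x * a)‖ ^ 2 = (F0.card : ℝ) * ((p : ℝ) - 3) ^ 2 := by
        rw [hS1, Finset.sum_image (fun a _ b _ hab => mul_left_cancel hab)]
        rw [Finset.sum_congr rfl (fun a ha => by
          rw [← mul_assoc, V3.norm_mul_central ζ hζ1ne ((hmemF0 a).1 ha).2 (x * y), hn0]),
          Finset.sum_const, nsmul_eq_mul]
      have s2 : ∑ a ∈ S2, ‖(ζ : G → ℂ) (x * a)‖ ^ 2 = (F0.card : ℝ) * ((p : ℝ) - 3) ^ 2 := by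
        rw [hS2, Finset.sum_image (fun a _ b _ hab => mul_left_cancel hab)]
        rw [Finset.sum_congr rfl (fun a ha => by
          rw [← mul_assoc, V3.norm_mul_central ζ hζ1ne ((hmemF0 a).1 ha).2 (x * (y * y)), hn1]),
          Finset.sum_const, nsmul_eq_mul]
      rw [s0, s1, s2] at h2
      linarith
    have hcard : (1 : ℝ) ≤ (F0.card : ℝ) := by
      have h1mem : (1 : G) ∈ F0 := (hmemF0 1).2 ⟨one_mem _, one_mem _⟩
      exact_mod_cast Finset.card_pos.2 ⟨1, h1mem⟩
    have hfin : (F0.card : ℝ) * (1 + 2 * ((p : ℝ) - 3) ^ 2) ≤ (F0.card : ℝ) * ((p : ℝ) - 2) ^ 2 := by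
      calc (F0.card : ℝ) * (1 + 2 * ((p : ℝ) - 3) ^ 2) ≤ ∑ a ∈ FA, ‖(ζ : G → ℂ) (x * a)‖ ^ 2 := hlhs
        _ ≤ ∑ a ∈ FA, ‖(ζ : G → ℂ) a‖ ^ 2 := hcos
        _ = (F0.card : ℝ) * ((p : ℝ) - 2) ^ 2 := hrhs
    have h5 : 1 + 2 * ((p : ℝ) - 3) ^ 2 ≤ ((p : ℝ) - 2) ^ 2 :=
      le_of_mul_le_mul_left hfin (by linarith)
    nlinarith

end Cfsg.Agent.Helper23.B2
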