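import Mathlib
import Cfsg.Agent.Lib.Helper23.BG10E
import Cfsg.Agent.Lib.Helper19.PLength
import Cfsg.Agent.Lib.Helper1.Hall
import Cfsg.Agent.Lib.Helper10.ThreeSub
import Cfsg.Agent.Lib.Helper22.PPrimeCore
import Cfsg.Agent.S1450

/-!
# BG Theorem 10.7(a) (helper1): every proper subgroup of a minimal simple group of odd order has
`p`-length one

The proof is an assembly: the Uniqueness Theorem (S1403), Lemma 10.1 (S1404), Lemma 10.6 (S1407)
and Theorem 3.6 (S1444) enter as explicit hypotheses `UniqThm`, `FusionThm`, `Thm106`, `Thm36`;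
S1450 (already proved) is imported.
-/

set_option autoImplicit false

namespace Cfsg.Agent.Helper1.BG107

open Cfsg
open scoped commutatorElement
open Cfsg.Agent.Helper19.PLen
open Cfsg.Agent.Helper23.BG10
open Cfsg.Agent.Helper15 (IsSylowIn isSylowIn_map_subtype)

universe u

/-! ### general lemmas -/

section general

variable {K : Type*} [Group K]

theorem commutatorElement_central_mul_left {z x y : K} (hz : ∀ g : K, g * z = z * g) :
    ⁅z * x, y⁆ = ⁅x, y⁆ := by
  have h1 : z * (x * y * x⁻¹) = (x * y * x⁻¹) * z := (hz _).symm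
  calc ⁅z * x, y⁆ = z * (x * y * x⁻¹) * z⁻¹ * y⁻¹ := by rw [commutatorElement_def]; group
    _ = (x * y * x⁻¹) * z * z⁻¹ * y⁻¹ := by rw [h1]
    _ = ⁅x, y⁆ := by rw [commutatorElement_def]; group

theorem commutatorElement_central_mul_right {z x y : K} (hz : ∀ g : K, g * z = z * g) :
    ⁅x, z * y⁆ = ⁅x, y⁆ := by
  calc ⁅x, z * y⁆ = ⁅z * y, x⁆⁻¹ := (commutatorElement_inv (z * y) x).symm
    _ = ⁅y, x⁆⁻¹ := by rw [commutatorElement_central_mul_left hz]
    _ = ⁅x, y⁆ := commutatorElement_inv y x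

/-- a subgroup of order prime to the index of a normal subgroup lies in it -/
theorem le_of_coprime_card_index [Finite K] (A N : Subgroup K) [N.Normal]
    (h : (Nat.card A).Coprime N.index) : A ≤ N := by
  intro a ha
  rw [← QuotientGroup.eq_one_iff (N := N)]
  have h1 : orderOf (a : K ⧸ N) ∣ Nat.card A := by
    have h0 : orderOf (a : K ⧸ N) ∣ orderOf a := orderOf_map_dvd (QuotientGroup.mk' N) a
    have h0' := orderOf_dvd_natCard (⟨a, ha⟩ : A)
    rw [Subgroup.orderOf_mk] at h0'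
    exact h0.trans h0'
  have h2 : orderOf (a : K ⧸ N) ∣ N.index := by
    rw [Subgroup.index_eq_card]; exact orderOf_dvd_natCard _
  have h3 : orderOf (a : K ⧸ N) = 1 := Nat.eq_one_of_dvd_coprimes h h1 h2
  exact orderOf_eq_one_iff.1 h3

/-- `[A,E]` is normal when `A E = K` -/
theorem commutator_normal_of_isComplement' (A E : Subgroup K)
    (hAE : Subgroup.IsComplement' A E) : (⁅A, E⁆ : Subgroup K).Normal := by
  rw [← Subgroup.normalizer_eq_top_iff, eq_top_iff, ← hAE.sup_eq_top]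
  exact sup_le (Cfsg.Agent.Helper10.le_normalizer_commutator_left A E)
    (Cfsg.Agent.Helper10.le_normalizer_commutator_right A E)

/-- if `K = A E` with `A` normal, `A ∩ E = 1` and `A ≤ K'` then `A = A' [A,E]` -/
theorem le_commutator_sup_of_isComplement' (A E : Subgroup K) [hAn : A.Normal]
    (hAE : Subgroup.IsComplement' A E) (hA : A ≤ commutator K) :
    A ≤ ⁅A, A⁆ ⊔ ⁅A, E⁆ := by
  have hDA : ⁅A, E⁆ ≤ A := Subgroup.commutator_le_left A E
  haveI hDn : (⁅A, E⁆ : Subgroup K).Normal := commutator_normal_of_isComplement' A E hAE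
  haveI hLn : (⁅A, A⁆ ⊔ ⁅A, E⁆ : Subgroup K).Normal := inferInstance
  have hLA : ⁅A, A⁆ ⊔ ⁅A, E⁆ ≤ A := sup_le (Subgroup.commutator_le_left A A) hDA
  have hdecomp : ∀ g : K, ∃ a ∈ A, ∃ e ∈ E, a * e = g := by
    intro g
    have hg : g ∈ A ⊔ E := by rw [hAE.sup_eq_top]; exact Subgroup.mem_top g
    exact Subgroup.mem_sup_of_normal_left.1 hg
  -- step 1
  have h1 : ∀ a ∈ A, ∀ g : K, ⁅a, g⁆ ∈ ⁅A, A⁆ ⊔ ⁅A, E⁆ := by
    intro a ha g
    obtain ⟨a', ha', e', he', rfl⟩ := hdecomp g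
    have e : ⁅a, a' * e'⁆ = ⁅a, a'⁆ * (a' * ⁅a, e'⁆ * a'⁻¹) := by
      simp only [commutatorElement_def]; group
    rw [e]
    exact Subgroup.mul_mem _
      (Subgroup.mem_sup_left (Subgroup.commutator_mem_commutator ha ha'))
      (Subgroup.mem_sup_right (hDn.conj_mem _ (Subgroup.commutator_mem_commutator ha he') a'))
  -- step 2: the image of `A` is central modulo `L`
  have h2 : ∀ a ∈ A, ∀ q : K ⧸ (⁅A, A⁆ ⊔ ⁅A, E⁆ : Subgroup K),
      q * (QuotientGroup.mk' (⁅A, A⁆ ⊔ ⁅A, E⁆ : Subgroup K) a) =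
        (QuotientGroup.mk' (⁅A, A⁆ ⊔ ⁅A, E⁆ : Subgroup K) a) * q := by
    intro a ha q
    obtain ⟨g, rfl⟩ := QuotientGroup.mk'_surjective (⁅A, A⁆ ⊔ ⁅A, E⁆ : Subgroup K) q
    rw [← map_mul, ← map_mul]
    show ((g * a : K) : K ⧸ (⁅A, A⁆ ⊔ ⁅A, E⁆ : Subgroup K)) = ((a * g : K) : K ⧸ _)
    rw [QuotientGroup.eq]
    have e : (g * a)⁻¹ * (a * g) = ⁅a⁻¹, g⁻¹⁆ := by rw [commutatorElement_def]; group
    rw [e]
    exact h1 _ (A.inv_mem ha) _
  -- step 3
  have h3 : commutator K ≤ (⁅A, A⁆ ⊔ ⁅A, E⁆) ⊔ E := by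
    show ⁅(⊤ : Subgroup K), ⊤⁆ ≤ (⁅A, A⁆ ⊔ ⁅A, E⁆) ⊔ E
    rw [Subgroup.commutator_le]
    intro g₁ _ g₂ _
    obtain ⟨a₁, ha₁, e₁, he₁, rfl⟩ := hdecomp g₁
    obtain ⟨a₂, ha₂, e₂, he₂, rfl⟩ := hdecomp g₂
    have hq : QuotientGroup.mk' (⁅A, A⁆ ⊔ ⁅A, E⁆ : Subgroup K) ⁅a₁ * e₁, a₂ * e₂⁆ =
        QuotientGroup.mk' (⁅A, A⁆ ⊔ ⁅A, E⁆ : Subgroup K) ⁅e₁, e₂⁆ := by
      rw [map_commutatorElement, map_mul, map_mul,
        commutatorElement_central_mul_left (h2 a₁ ha₁),
        commutatorElement_central_mul_right (h2 a₂ ha₂), ← map_commutatorElement]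
    have hmem : ⁅e₁, e₂⁆⁻¹ * ⁅a₁ * e₁, a₂ * e₂⁆ ∈ (⁅A, A⁆ ⊔ ⁅A, E⁆ : Subgroup K) :=
      QuotientGroup.eq.1 hq.symm
    have hE : ⁅e₁, e₂⁆ ∈ E := by
      rw [commutatorElement_def]
      exact E.mul_mem (E.mul_mem (E.mul_mem he₁ he₂) (E.inv_mem he₁)) (E.inv_mem he₂)
    have e : ⁅a₁ * e₁, a₂ * e₂⁆ = ⁅e₁, e₂⁆ * (⁅e₁, e₂⁆⁻¹ * ⁅a₁ * e₁, a₂ * e₂⁆) :=
      (mul_inv_cancel_left _ _).symm
    rw [e]
    exact Subgroup.mul_mem _ (Subgroup.mem_sup_right hE) (Subgroup.mem_sup_left hmem)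
  -- step 4
  intro a ha
  obtain ⟨l, hl, e, he, hle⟩ := Subgroup.mem_sup_of_normal_left.1 (h3 (hA ha))
  have heA : e ∈ A := by
    have h : e = l⁻¹ * a := by rw [← hle]; group
    rw [h]; exact A.mul_mem (A.inv_mem (hLA hl)) ha
  have he1 : e = 1 := by
    have h : e ∈ A ⊓ E := ⟨heA, he⟩
    rw [hAE.disjoint.eq_bot] at h
    exact Subgroup.mem_bot.1 h
  rw [← hle, he1, mul_one]; exact hl

/-- if `K = A E` is solvable with `A` normal, `A ∩ E = 1` and `A ≤ K'` then `A = [A,E]` -/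
theorem le_commutator_of_isComplement' [Group.IsSolvable K] (A E : Subgroup K) [hAn : A.Normal]
    (hAE : Subgroup.IsComplement' A E) (hA : A ≤ commutator K) : A ≤ ⁅A, E⁆ := by
  have hDA : ⁅A, E⁆ ≤ A := Subgroup.commutator_le_left A E
  haveI hDn : (⁅A, E⁆ : Subgroup K).Normal := commutator_normal_of_isComplement' A E hAE
  have hAeq : A = ⁅A, A⁆ ⊔ ⁅A, E⁆ :=
    le_antisymm (le_commutator_sup_of_isComplement' A E hAE hA)
      (sup_le (Subgroup.commutator_le_left A A) hDA)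
  have hmapD : (⁅A, E⁆ : Subgroup K).map (QuotientGroup.mk' (⁅A, E⁆ : Subgroup K)) = ⊥ :=
    QuotientGroup.map_mk'_self _
  have hH : ⁅A.map (QuotientGroup.mk' (⁅A, E⁆ : Subgroup K)),
      A.map (QuotientGroup.mk' (⁅A, E⁆ : Subgroup K))⁆ =
      A.map (QuotientGroup.mk' (⁅A, E⁆ : Subgroup K)) := by
    rw [← Subgroup.map_commutator]
    calc (⁅A, A⁆).map (QuotientGroup.mk' (⁅A, E⁆ : Subgroup K))
        = (⁅A, A⁆).map (QuotientGroup.mk' (⁅A, E⁆ : Subgroup K)) ⊔
          (⁅A, E⁆ : Subgroup K).map (QuotientGroup.mk' (⁅A, E⁆ : Subgroup K)) := by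
          rw [hmapD, sup_bot_eq]
      _ = (⁅A, A⁆ ⊔ ⁅A, E⁆).map (QuotientGroup.mk' (⁅A, E⁆ : Subgroup K)) :=
          (Subgroup.map_sup _ _ _).symm
      _ = A.map (QuotientGroup.mk' (⁅A, E⁆ : Subgroup K)) := by rw [← hAeq]
  have hbot : A.map (QuotientGroup.mk' (⁅A, E⁆ : Subgroup K)) = ⊥ := by
    by_contra hne
    exact (ne_of_lt (Group.IsSolvable.commutator_lt_of_ne_bot hne)) hH
  have h := (Subgroup.map_eq_bot_iff _).1 hbot
  rwa [QuotientGroup.ker_mk'] at h

/-- `O_{p',p}(K)` of index prime to `p` means `p`-length at most one -/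
theorem plengthLE_one_of_index_coprime [Finite K] (p : ℕ) [Fact p.Prime]
    (h : ((pPrimePCore p K).index).Coprime p) : PLengthLE p 1 K := by
  haveI hN₁ : (pPrimeCore p K).Normal := Cfsg.Agent.Helper22.pPrimeCore_normal p
  have h0 : PLengthLE p 0 ↥(pPrimeCore p K) :=
    plengthLE_zero_of_coprime (Cfsg.Agent.Helper22.card_pPrimeCore_coprime p)
  have hQ : PLengthLE p 1 (K ⧸ pPrimeCore p K) := by
    haveI hPn : (pCore p (K ⧸ pPrimeCore p K)).Normal :=
      Subgroup.sSup_normal _ (fun _ h => h.1)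
    have hP : IsPGroup p ↥(pCore p (K ⧸ pPrimeCore p K)) :=
      Sylow.sSup_of_normal _ (fun _ h => h.2) (fun _ h => h.1)
    have h1 : PLengthLE p 1 ↥(pCore p (K ⧸ pPrimeCore p K)) := plengthLE_one_of_isPGroup hP
    have h2 : PLengthLE p 0 ((K ⧸ pPrimeCore p K) ⧸ pCore p (K ⧸ pPrimeCore p K)) := by
      apply plengthLE_zero_of_coprime
      have hc : Nat.card ((K ⧸ pPrimeCore p K) ⧸ pCore p (K ⧸ pPrimeCore p K)) =
          (pPrimePCore p K).index := by
        rw [← Subgroup.index_eq_card]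
        unfold pPrimePCore
        exact (Subgroup.index_comap_of_surjective _ (QuotientGroup.mk'_surjective _)).symm
      rw [hc]; exact h
    exact plengthLE_add _ h1 h2
  exact plengthLE_add (pPrimeCore p K) h0 hQ

end general

/-! ### the hypotheses -/

/-- BG Theorem 3.6 (the statement of S1444) in the universe `u` -/
def Thm36 : Prop :=
  ∀ (K : Type u) [Group K] [Finite K] [Group.IsSolvable K], Odd (Nat.card K) →
    ∀ (H R R₀ : Subgroup K) [H.Normal], (Nat.card H).Coprime H.index →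
      Subgroup.IsComplement' H R → R₀ ≤ R → (Nat.card R₀).Prime →
      IsZGroup ↥(H ⊓ Subgroup.centralizer (R₀ : Set K)) →
      ∀ (p : ℕ) [Fact p.Prime], PLengthLE p 1 ↥⁅H, R⁆

/-- the part of BG Lemma 10.6 (the statement of S1407) that is used -/
def Thm106 (G : Type u) [Group G] : Prop :=
  ∀ M : Subgroup G, IsCoatom M → alphaCore M ≠ ⊥ → ∀ r : ℕ, r.Prime → r ∣ Nat.card M →
    r ∉ sigma M →
    ∃ x ∈ M, orderOf x = r ∧ IsZGroup ↥(alphaCore M ⊓ Subgroup.centralizer ({x} : Set G))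

/-- a normal Hall subgroup `A ≤ K'` of a solvable group `K` of odd order has `p`-length one as soon
as some element of prime order (prime to `|A|`) has a centralizer in `A` with cyclic Sylow
subgroups -/
theorem plengthLE_normal_hall {K : Type u} [Group K] [Finite K] [Group.IsSolvable K]
    (h36 : Thm36.{u}) (hodd : Odd (Nat.card K)) (A : Subgroup K) [A.Normal]
    (hHall : (Nat.card A).Coprime A.index) (hA : A ≤ commutator K) (x : K)
    (hx : (orderOf x).Prime) (hxA : (orderOf x).Coprime (Nat.card A))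
    (hZ : IsZGroup ↥(A ⊓ Subgroup.centralizer ((Subgroup.zpowers x : Subgroup K) : Set K)))
    (p : ℕ) [Fact p.Prime] : PLengthLE p 1 ↥A := by
  obtain ⟨E, hEcard, hxE⟩ := Cfsg.Agent.Helper1.hall_contain A.index (Nat.card A)
    (Subgroup.index_mul_card A).symm hHall.symm (Subgroup.zpowers x)
    (by rw [Nat.card_zpowers]; exact hxA)
  have hAE : Subgroup.IsComplement' A E := by
    apply Subgroup.isComplement'_of_coprime
    · rw [hEcard]; exact Subgroup.card_mul_index A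
    · rw [hEcard]; exact hHall
  have h1 : PLengthLE p 1 ↥⁅A, E⁆ :=
    h36 K hodd A E (Subgroup.zpowers x) hHall hAE hxE (by rw [Nat.card_zpowers]; exact hx) hZ p
  have h2 : ⁅A, E⁆ = A :=
    le_antisymm (Subgroup.commutator_le_left A E) (le_commutator_of_isComplement' A E hAE hA)
  rw [h2] at h1
  exact h1

/-! ### maximal subgroups -/

variable {G : Type u} [Group G] [Finite G]

theorem plengthLE_one_of_isCoatom (hG : IsMinSimpleOddOrder G) (hU : UniqThm G)
    (hF : FusionThm G) (h106 : Thm106 G) (h36 : Thm36.{u}) {M : Subgroup G} (hM : IsCoatom M)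
    (p : ℕ) [Fact p.Prime] : PLengthLE p 1 ↥M := by
  have hp : p.Prime := Fact.out
  haveI : Group.IsSolvable ↥M := hG.2.2.2 M hM.1
  have hodd : Odd (Nat.card ↥M) := hG.1.of_dvd_nat (Subgroup.card_subgroup_dvd_card M)
  by_cases hpM : p ∣ Nat.card ↥M
  swap
  · exact plengthLE_mono (Nat.zero_le 1)
      (plengthLE_zero_of_coprime ((Nat.Prime.coprime_iff_not_dvd hp).2 hpM).symm)
  by_cases hr : PRankLE p 2 ↥M
  · exact plengthLE_one_of_index_coprime p (Cfsg.Agent.S1450.result hodd p hpM hr).2.2.2.2.2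
  have hpα : p ∈ alpha M := ⟨hp, hr⟩
  have hAcard : ∀ q : ℕ, q.Prime → q ∣ Nat.card ↥(piCore (alpha M) ↥M) → q ∈ alpha M :=
    Cfsg.Agent.Helper10.card_piCore (alpha M)
  have hAindex : ∀ q : ℕ, q.Prime → q ∈ alpha M → ¬ q ∣ (piCore (alpha M) ↥M).index :=
    fun q hq hqα => not_dvd_index_piCore_alpha hG hU hF hM hq hqα
  have hHall : (Nat.card ↥(piCore (alpha M) ↥M)).Coprime (piCore (alpha M) ↥M).index :=
    Nat.coprime_of_dvd (fun q hq hqA hqi => hAindex q hq (hAcard q hq hqA) hqi)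
  -- Sylow subgroups for the primes of `σ(M)` lie in `M'`
  have hsig : ∀ q : ℕ, q.Prime → q ∈ sigma M → ¬ q ∣ (commutator ↥M).index := by
    intro q hq hqσ hdvd
    haveI : Fact q.Prime := ⟨hq⟩
    obtain ⟨-, -, P, hPN⟩ := id hqσ
    have hS : IsSylowIn q ((P : Subgroup ↥M).map M.subtype) M := isSylowIn_map_subtype P
    have hST := isSylowIn_top_of_normalizer_le hS hPN
    have hSc := sylow_le_commutator hG hF hM hqσ hS.le hST
    rw [← Subgroup.map_subtype_commutator] at hSc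
    have hPc : (P : Subgroup ↥M) ≤ commutator ↥M :=
      (Subgroup.map_le_map_iff_of_injective M.subtype_injective).mp hSc
    exact P.not_dvd_index (hdvd.trans (Subgroup.index_dvd_of_le hPc))
  have hAcomm : piCore (alpha M) ↥M ≤ commutator ↥M := by
    apply le_of_coprime_card_index
    exact Nat.coprime_of_dvd
      (fun q hq hqA => hsig q hq (alpha_subset_sigma hG hU hM (hAcard q hq hqA)))
  -- a prime outside `σ(M)`
  obtain ⟨r, hr', hrM, hrσ⟩ : ∃ r : ℕ, r.Prime ∧ r ∣ Nat.card ↥M ∧ r ∉ sigma M := by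
    by_contra hcon
    push Not at hcon
    have hidx : (commutator ↥M).index = 1 := by
      by_contra h1
      obtain ⟨q, hq, hqd⟩ := Nat.exists_prime_and_dvd h1
      exact hsig q hq (hcon q hq (hqd.trans (Subgroup.index_dvd_card _))) hqd
    have htop : commutator ↥M = ⊤ := Subgroup.index_eq_one.1 hidx
    haveI : Nontrivial ↥M := by
      rw [← Finite.one_lt_card_iff_nontrivial]
      exact lt_of_lt_of_le hp.one_lt (Nat.le_of_dvd Nat.card_pos hpM)
    exact (ne_of_lt (Group.IsSolvable.commutator_lt_top_of_nontrivial ↥M)) htop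
  have hMα : alphaCore M ≠ ⊥ := by
    intro hbot
    have h0 : (piCore (alpha M) ↥M).map M.subtype = ⊥ := hbot
    have h1 : piCore (alpha M) ↥M = ⊥ :=
      (Subgroup.map_eq_bot_iff_of_injective _ M.subtype_injective).1 h0
    have h2 : (piCore (alpha M) ↥M).index = Nat.card ↥M := by rw [h1, Subgroup.index_bot]
    exact hAindex p hp hpα (h2 ▸ hpM)
  obtain ⟨x, hxM, hox, hZ⟩ := h106 M hM hMα r hr' hrM hrσ
  have hox' : orderOf (⟨x, hxM⟩ : ↥M) = r := by rw [Subgroup.orderOf_mk]; exact hox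
  have hxA : (orderOf (⟨x, hxM⟩ : ↥M)).Coprime (Nat.card ↥(piCore (alpha M) ↥M)) := by
    rw [hox', Nat.Prime.coprime_iff_not_dvd hr']
    intro hd
    exact hrσ (alpha_subset_sigma hG hU hM (hAcard r hr' hd))
  have hZ' : IsZGroup ↥(piCore (alpha M) ↥M ⊓
      Subgroup.centralizer ((Subgroup.zpowers (⟨x, hxM⟩ : ↥M) : Subgroup ↥M) : Set ↥M)) := by
    haveI := hZ
    let f : ↥(piCore (alpha M) ↥M ⊓
        Subgroup.centralizer ((Subgroup.zpowers (⟨x, hxM⟩ : ↥M) : Subgroup ↥M) : Set ↥M)) →*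
        ↥(alphaCore M ⊓ Subgroup.centralizer ({x} : Set G)) :=
      MonoidHom.codRestrict (M.subtype.comp (piCore (alpha M) ↥M ⊓
        Subgroup.centralizer ((Subgroup.zpowers (⟨x, hxM⟩ : ↥M) : Subgroup ↥M) : Set ↥M)).subtype)
        _ (by
          intro y
          refine Subgroup.mem_inf.2 ⟨Subgroup.mem_map_of_mem _ y.2.1, ?_⟩
          rw [Subgroup.mem_centralizer_iff]
          intro h hh
          rw [Set.mem_singleton_iff] at hh
          subst hh
          have h5 := (Subgroup.mem_centralizer_iff.1 y.2.2) ⟨h, hxM⟩ (Subgroup.mem_zpowers _)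
          exact congrArg Subtype.val h5)
    exact IsZGroup.of_injective (f := f) (by
      intro a b hab
      have h6 := congrArg Subtype.val hab
      exact Subtype.ext (Subtype.ext h6))
  have hA1 : PLengthLE p 1 ↥(piCore (alpha M) ↥M) :=
    plengthLE_normal_hall h36 hodd (piCore (alpha M) ↥M) hHall hAcomm ⟨x, hxM⟩
      (by rw [hox']; exact hr') hxA hZ' p
  have hQ0 : PLengthLE p 0 (↥M ⧸ piCore (alpha M) ↥M) := by
    apply plengthLE_zero_of_coprime
    rw [← Subgroup.index_eq_card]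
    exact ((Nat.Prime.coprime_iff_not_dvd hp).2 (hAindex p hp hpα)).symm
  exact plengthLE_add (piCore (alpha M) ↥M) hA1 hQ0

/-- **BG Theorem 10.7(a)** (the statement of S1410) -/
theorem plengthLE_one_of_ne_top (hG : IsMinSimpleOddOrder G) (hU : UniqThm G)
    (hF : FusionThm G) (h106 : Thm106 G) (h36 : Thm36.{u}) (p : ℕ) [Fact p.Prime]
    (H : Subgroup G) (hH : H ≠ ⊤) : PLengthLE p 1 ↥H := by
  obtain ⟨M, hM, hHM⟩ := Cfsg.Agent.Helper14.BGUniq.exists_isCoatom_ge hH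
  have h1 := plengthLE_one_of_isCoatom hG hU hF h106 h36 hM p
  have h2 := plengthLE_subgroup (H.subgroupOf M) h1
  exact plengthLE_of_mulEquiv (Subgroup.subgroupOfEquivOfLe hHM) h2

end Cfsg.Agent.Helper1.BG107
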