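import Mathlib
import Cfsg.Prelude.Def_OddOrderLocal
import Cfsg.Agent.Lib.Helper1.Hall
import Cfsg.Agent.Lib.Helper1.HallConj

/-!
# Hall `π`-subgroups of solvable subgroups, in the vocabulary `Cfsg.IsPiHallOf` (helper1)

For a finite group `G`, a subgroup `M` with `↥M` solvable and a set of primes `π`:
existence (`exists_isPiHallOf`), containment (`exists_isPiHallOf_ge`), conjugacy
(`exists_conj_of_isPiHallOf`, `exists_conj_le_of_isPiHallOf`), normal Hall subgroups contain all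
`π`-subgroups (`le_of_isPiHallOf_of_le_normalizer`), Schur–Zassenhaus complements containing a
given `π'`-subgroup (`exists_isComplIn_ge`), Hall subgroups contain Sylow subgroups
(`exists_sylow_map_le`), and bookkeeping lemmas on orders.
-/

set_option autoImplicit false

namespace Cfsg.Agent.Helper1.PiHall

open Cfsg
open scoped Pointwise

/-! ### numbers -/

theorem coprime_of_pi {π : Set ℕ} {a b : ℕ} (ha : ∀ p : ℕ, p.Prime → p ∣ a → p ∈ π)
    (hb : ∀ p : ℕ, p.Prime → p ∣ b → p ∉ π) : a.Coprime b :=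
  Nat.coprime_of_dvd (fun p hp hpa hpb => hb p hp hpb (ha p hp hpa))

/-- Two factorisations of a number into a `π`-part and a `π'`-part agree. -/
theorem eq_of_hall_numbers {π : Set ℕ} {a b c d : ℕ} (h : a * b = c * d)
    (ha : ∀ p : ℕ, p.Prime → p ∣ a → p ∈ π) (hc : ∀ p : ℕ, p.Prime → p ∣ c → p ∈ π)
    (hb : ∀ p : ℕ, p.Prime → p ∣ b → p ∉ π) (hd : ∀ p : ℕ, p.Prime → p ∣ d → p ∉ π) :
    a = c := by
  have had : a.Coprime d := coprime_of_pi ha hd
  have hcb : c.Coprime b := coprime_of_pi hc hb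
  have h1 : a ∣ c := had.dvd_of_dvd_mul_right ⟨b, h.symm⟩
  have h2 : c ∣ a := hcb.dvd_of_dvd_mul_right ⟨d, h⟩
  exact Nat.dvd_antisymm h1 h2

/-- every positive number is the product of a `π`-number and a `π'`-number -/
theorem exists_pi_factorization (π : Set ℕ) : ∀ n : ℕ, 0 < n → ∃ m k : ℕ, n = m * k ∧
    (∀ p : ℕ, p.Prime → p ∣ m → p ∈ π) ∧ (∀ p : ℕ, p.Prime → p ∣ k → p ∉ π) := by
  intro n
  induction n using Nat.strong_induction_on with
  | _ n ih =>
  intro hn
  by_cases h1 : n = 1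
  · refine ⟨1, 1, by rw [h1], ?_, ?_⟩
    · intro p hp h; exact absurd (Nat.dvd_one.1 h) hp.one_lt.ne'
    · intro p hp h; exact absurd (Nat.dvd_one.1 h) hp.one_lt.ne'
  obtain ⟨q, hq, hqn⟩ := Nat.exists_prime_and_dvd h1
  obtain ⟨e, n', hqn', hne⟩ := Nat.exists_eq_pow_mul_and_not_dvd hn.ne' q hq.ne_one
  have hn'pos : 0 < n' := by
    rcases Nat.eq_zero_or_pos n' with h | h
    · subst h
      rw [mul_zero] at hne
      omega
    · exact h
  have he : e ≠ 0 := by
    rintro rfl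
    rw [pow_zero, one_mul] at hne
    exact hqn' (hne ▸ hqn)
  have hlt : n' < n := by
    have h2 : 1 < q ^ e := Nat.one_lt_pow he hq.one_lt
    rw [hne]
    nlinarith
  obtain ⟨m, k, hmk, hm, hk⟩ := ih n' hlt hn'pos
  by_cases hqπ : q ∈ π
  · refine ⟨q ^ e * m, k, by rw [hne, hmk, mul_assoc], ?_, hk⟩
    intro p hp hpd
    rcases (Nat.Prime.dvd_mul hp).1 hpd with h | h
    · have h3 := (Nat.prime_dvd_prime_iff_eq hp hq).1 (hp.dvd_of_dvd_pow h)
      rw [h3]; exact hqπ
    · exact hm p hp h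
  · refine ⟨m, q ^ e * k, by rw [hne, hmk]; ring, hm, ?_⟩
    intro p hp hpd
    rcases (Nat.Prime.dvd_mul hp).1 hpd with h | h
    · have h3 := (Nat.prime_dvd_prime_iff_eq hp hq).1 (hp.dvd_of_dvd_pow h)
      rw [h3]; exact hqπ
    · exact hk p hp h

/-! ### orders -/

section basic

variable {G : Type*} [Group G]

theorem card_subgroupOf {H M : Subgroup G} (h : H ≤ M) :
    Nat.card ↥(H.subgroupOf M) = Nat.card ↥H :=
  Nat.card_congr (Subgroup.subgroupOfEquivOfLe h).toEquiv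

theorem card_eq_card_mul_relIndex {H M : Subgroup G} (h : H ≤ M) :
    Nat.card ↥M = Nat.card ↥H * H.relIndex M := by
  rw [← card_subgroupOf h]
  exact (Subgroup.card_mul_index (H.subgroupOf M)).symm

/-- a subgroup of order prime to the index of a normal subgroup lies in it -/
theorem le_normal_of_coprime [Finite G] (A N : Subgroup G) [N.Normal]
    (h : (Nat.card A).Coprime N.index) : A ≤ N := by
  intro a ha
  rw [← QuotientGroup.eq_one_iff (N := N)]
  have h1 : orderOf (a : G ⧸ N) ∣ Nat.card A := by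
    have h0 : orderOf (a : G ⧸ N) ∣ orderOf a := orderOf_map_dvd (QuotientGroup.mk' N) a
    exact h0.trans (Subgroup.orderOf_dvd_natCard A ha)
  have h2 : orderOf (a : G ⧸ N) ∣ N.index := by
    rw [Subgroup.index_eq_card]; exact orderOf_dvd_natCard _
  have h3 : orderOf (a : G ⧸ N) = 1 := Nat.eq_one_of_dvd_coprimes h h1 h2
  exact orderOf_eq_one_iff.1 h3

/-- subgroups of coprime orders meet trivially -/
theorem inf_eq_bot_of_coprime [Finite G] {A B : Subgroup G}
    (h : (Nat.card ↥A).Coprime (Nat.card ↥B)) : A ⊓ B = ⊥ := by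
  rw [eq_bot_iff]
  intro x hx
  rw [Subgroup.mem_bot]
  exact orderOf_eq_one_iff.1 (Nat.eq_one_of_dvd_coprimes h
    (Subgroup.orderOf_dvd_natCard A hx.1) (Subgroup.orderOf_dvd_natCard B hx.2))

theorem card_map_conj [Finite G] (H : Subgroup G) (g : G) :
    Nat.card ↥(H.map (MulAut.conj g).toMonoidHom) = Nat.card ↥H :=
  Subgroup.card_map_of_injective (MulAut.conj g).injective

/-- in a finite group `g H g⁻¹ ≤ H` forces `g ∈ N(H)` -/
theorem mem_normalizer_of_map_conj_le [Finite G] {H : Subgroup G} {g : G}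
    (h : H.map (MulAut.conj g).toMonoidHom ≤ H) : g ∈ Subgroup.normalizer (H : Set G) := by
  have heq : H.map (MulAut.conj g).toMonoidHom = H :=
    Subgroup.eq_of_le_of_card_ge h (le_of_eq (card_map_conj H g).symm)
  rw [Subgroup.mem_normalizer_iff]
  intro x
  constructor
  · intro hx
    have h1 : (MulAut.conj g).toMonoidHom x ∈ H.map (MulAut.conj g).toMonoidHom :=
      Subgroup.mem_map_of_mem _ hx
    rw [heq] at h1
    exact h1
  · intro hx
    rw [← heq] at hx
    obtain ⟨y, hy, hyx⟩ := hx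
    have h2 : g * y * g⁻¹ = g * x * g⁻¹ := hyx
    have h3 : y = x := by
      have := congrArg (fun z => g⁻¹ * z * g) h2
      simpa [mul_assoc] using this
    rw [← h3]; exact hy

end basic

/-! ### Hall subgroups -/

section hall

variable {G : Type*} [Group G] [Finite G]

theorem card_eq_of_isPiHallOf {π : Set ℕ} {H M : Subgroup G} (h : IsPiHallOf π H M) {m k : ℕ}
    (hmk : Nat.card ↥M = m * k) (hm : ∀ p : ℕ, p.Prime → p ∣ m → p ∈ π)
    (hk : ∀ p : ℕ, p.Prime → p ∣ k → p ∉ π) : Nat.card ↥H = m := by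
  have h1 := card_eq_card_mul_relIndex h.1
  have hrel : ∀ p : ℕ, p.Prime → p ∣ H.relIndex M → p ∉ π :=
    fun p hp hd hpπ => h.2.2 p hp hpπ hd
  exact eq_of_hall_numbers (h1.symm.trans hmk) h.2.1 hm hrel hk

theorem isPiHallOf_of_card {π : Set ℕ} {H M : Subgroup G} (hHM : H ≤ M) {m k : ℕ}
    (hmk : Nat.card ↥M = m * k) (hm : ∀ p : ℕ, p.Prime → p ∣ m → p ∈ π)
    (hk : ∀ p : ℕ, p.Prime → p ∣ k → p ∉ π) (hc : Nat.card ↥H = m) : IsPiHallOf π H M := by
  refine ⟨hHM, fun p hp hd => hm p hp (by rw [← hc]; exact hd), ?_⟩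
  intro p hp hpπ hd
  have h1 := card_eq_card_mul_relIndex hHM
  rw [hc, hmk] at h1
  have hmpos : 0 < m := by rw [← hc]; exact Nat.card_pos
  have h2 : k = H.relIndex M := Nat.eq_of_mul_eq_mul_left hmpos h1
  exact hk p hp (by rw [h2]; exact hd) hpπ

/-- the index of a Hall `π`-subgroup is a `π'`-number -/
theorem relIndex_of_isPiHallOf {π : Set ℕ} {H M : Subgroup G} (h : IsPiHallOf π H M) :
    ∀ p : ℕ, p.Prime → p ∣ H.relIndex M → p ∉ π :=
  fun p hp hd hpπ => h.2.2 p hp hpπ hd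

/-- a subgroup of order prime to its index is a Hall subgroup for the set of primes dividing its
order (or any larger set of primes missing the index) -/
theorem isPiHallOf_of_coprime {H M : Subgroup G} (hHM : H ≤ M)
    (hcop : (Nat.card ↥H).Coprime (H.relIndex M)) :
    IsPiHallOf {q | q.Prime ∧ q ∣ Nat.card ↥H} H M := by
  refine ⟨hHM, fun p hp hd => ⟨hp, hd⟩, ?_⟩
  rintro p hp ⟨-, hpH⟩ hd
  exact hp.one_lt.ne' (Nat.eq_one_of_dvd_coprimes hcop hpH hd)

/-- **Hall**: in a solvable subgroup every `π`-subgroup lies in a Hall `π`-subgroup -/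
theorem exists_isPiHallOf_ge (π : Set ℕ) (M : Subgroup G) [Group.IsSolvable ↥M] {X : Subgroup G}
    (hXM : X ≤ M) (hX : ∀ p : ℕ, p.Prime → p ∣ Nat.card ↥X → p ∈ π) :
    ∃ H : Subgroup G, IsPiHallOf π H M ∧ X ≤ H := by
  obtain ⟨m, k, hmk, hm, hk⟩ := exists_pi_factorization π (Nat.card ↥M) Nat.card_pos
  have hcop : m.Coprime k := coprime_of_pi hm hk
  have hXk : (Nat.card ↥(X.subgroupOf M)).Coprime k := by
    rw [card_subgroupOf hXM]; exact coprime_of_pi hX hk
  obtain ⟨H', hH', hXH'⟩ := Cfsg.Agent.Helper1.hall_contain m k hmk hcop (X.subgroupOf M) hXk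
  refine ⟨H'.map M.subtype, isPiHallOf_of_card (Subgroup.map_subtype_le _) hmk hm hk ?_, ?_⟩
  · rw [Subgroup.card_map_of_injective M.subtype_injective]; exact hH'
  · calc X = (X.subgroupOf M).map M.subtype := (Subgroup.map_subgroupOf_eq_of_le hXM).symm
      _ ≤ H'.map M.subtype := Subgroup.map_mono hXH'

theorem exists_isPiHallOf (π : Set ℕ) (M : Subgroup G) [Group.IsSolvable ↥M] :
    ∃ H : Subgroup G, IsPiHallOf π H M := by
  obtain ⟨H, hH, -⟩ := exists_isPiHallOf_ge π M (X := ⊥) bot_le (by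
    intro p hp hd
    rw [Subgroup.card_bot] at hd
    exact absurd (Nat.dvd_one.1 hd) hp.one_lt.ne')
  exact ⟨H, hH⟩

/-- **Hall**: Hall `π`-subgroups of a solvable subgroup are conjugate -/
theorem exists_conj_of_isPiHallOf {π : Set ℕ} {H₁ H₂ M : Subgroup G} [Group.IsSolvable ↥M]
    (h₁ : IsPiHallOf π H₁ M) (h₂ : IsPiHallOf π H₂ M) :
    ∃ m ∈ M, H₁.map (MulAut.conj m).toMonoidHom = H₂ := by
  obtain ⟨m, k, hmk, hm, hk⟩ := exists_pi_factorization π (Nat.card ↥M) Nat.card_pos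
  have hcop : m.Coprime k := coprime_of_pi hm hk
  have hc₁ := card_eq_of_isPiHallOf h₁ hmk hm hk
  have hc₂ := card_eq_of_isPiHallOf h₂ hmk hm hk
  obtain ⟨g, hg⟩ := Cfsg.Agent.Helper1.hall_conj m k hmk hcop (H₁.subgroupOf M)
    (H₂.subgroupOf M) ((card_subgroupOf h₁.1).trans hc₁) ((card_subgroupOf h₂.1).trans hc₂)
  refine ⟨(g : G), g.2, ?_⟩
  apply Subgroup.eq_of_le_of_card_ge
  · rintro _ ⟨x, hx, rfl⟩
    have hx' : (⟨x, h₁.1 hx⟩ : ↥M) ∈ H₁.subgroupOf M := Subgroup.mem_subgroupOf.2 hx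
    have h3 : MulAut.conj g • (⟨x, h₁.1 hx⟩ : ↥M) ∈ MulAut.conj g • H₁.subgroupOf M :=
      Subgroup.smul_mem_pointwise_smul _ _ _ hx'
    rw [hg] at h3
    have h4 : ((MulAut.conj g • (⟨x, h₁.1 hx⟩ : ↥M) : ↥M) : G) ∈ H₂ := Subgroup.mem_subgroupOf.1 h3
    exact h4
  · exact le_of_eq (by rw [card_map_conj, hc₁, hc₂])

/-- every `π`-subgroup of a solvable subgroup is conjugate into a given Hall `π`-subgroup -/
theorem exists_conj_le_of_isPiHallOf {π : Set ℕ} {U M X : Subgroup G} [Group.IsSolvable ↥M]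
    (hU : IsPiHallOf π U M) (hXM : X ≤ M) (hX : ∀ p : ℕ, p.Prime → p ∣ Nat.card ↥X → p ∈ π) :
    ∃ m ∈ M, X.map (MulAut.conj m).toMonoidHom ≤ U := by
  obtain ⟨U', hU', hXU'⟩ := exists_isPiHallOf_ge π M hXM hX
  obtain ⟨m, hm, hconj⟩ := exists_conj_of_isPiHallOf hU' hU
  exact ⟨m, hm, hconj ▸ Subgroup.map_mono hXU'⟩

/-- a subgroup conjugate into a commutative subgroup is commutative -/
theorem isMulCommutative_of_map_conj_le {X U : Subgroup G} {m : G}
    (h : X.map (MulAut.conj m).toMonoidHom ≤ U) (hU : IsMulCommutative ↥U) :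
    IsMulCommutative ↥X := by
  rw [isMulCommutative_iff]
  intro a b
  apply Subtype.ext
  have ha : m * (a : G) * m⁻¹ ∈ U := h ⟨a, a.2, rfl⟩
  have hb : m * (b : G) * m⁻¹ ∈ U := h ⟨b, b.2, rfl⟩
  have h1 := mul_comm' (⟨_, ha⟩ : ↥U) ⟨_, hb⟩
  have h2 : (m * (a : G) * m⁻¹) * (m * (b : G) * m⁻¹) = (m * (b : G) * m⁻¹) * (m * (a : G) * m⁻¹) :=
    congrArg Subtype.val h1
  have h3 : m * ((a : G) * (b : G)) * m⁻¹ = m * ((b : G) * (a : G)) * m⁻¹ := by
    have e1 : m * ((a : G) * (b : G)) * m⁻¹ = (m * (a : G) * m⁻¹) * (m * (b : G) * m⁻¹) := by group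
    have e2 : m * ((b : G) * (a : G)) * m⁻¹ = (m * (b : G) * m⁻¹) * (m * (a : G) * m⁻¹) := by group
    rw [e1, e2, h2]
  have h4 : (a : G) * (b : G) = (b : G) * (a : G) :=
    mul_left_cancel (mul_right_cancel h3)
  exact h4

/-- a subgroup of a commutative subgroup is commutative -/
theorem isMulCommutative_of_le {X U : Subgroup G} (h : X ≤ U) (hU : IsMulCommutative ↥U) :
    IsMulCommutative ↥X := by
  rw [isMulCommutative_iff]
  intro a b
  apply Subtype.ext
  have h1 := mul_comm' (⟨a, h a.2⟩ : ↥U) ⟨b, h b.2⟩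
  have h2 : (a : G) * (b : G) = (b : G) * (a : G) := congrArg Subtype.val h1
  exact h2

/-- a Hall `π`-subgroup normalized by the whole subgroup contains every `π`-subgroup -/
theorem le_of_isPiHallOf_of_le_normalizer {π : Set ℕ} {N M X : Subgroup G}
    (hN : IsPiHallOf π N M) (hn : M ≤ Subgroup.normalizer (N : Set G)) (hXM : X ≤ M)
    (hX : ∀ p : ℕ, p.Prime → p ∣ Nat.card ↥X → p ∈ π) : X ≤ N := by
  haveI : (N.subgroupOf M).Normal := (Subgroup.normal_subgroupOf_iff_le_normalizer hN.1).2 hn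
  have hcop : (Nat.card ↥(X.subgroupOf M)).Coprime (N.subgroupOf M).index := by
    rw [card_subgroupOf hXM]
    exact coprime_of_pi hX (fun p hp hd hpπ => hN.2.2 p hp hpπ hd)
  have h1 := le_normal_of_coprime (X.subgroupOf M) (N.subgroupOf M) hcop
  intro x hx
  have h2 : (⟨x, hXM hx⟩ : ↥M) ∈ X.subgroupOf M := Subgroup.mem_subgroupOf.2 hx
  exact Subgroup.mem_subgroupOf.1 (h1 h2)

/-- the intersection of a normal Hall `π`-subgroup with a subgroup is a normal Hall `π`-subgroup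
of that subgroup -/
theorem isPiHallOf_inf {π : Set ℕ} {N M C : Subgroup G} (hN : IsPiHallOf π N M)
    (hn : M ≤ Subgroup.normalizer (N : Set G)) (hCM : C ≤ M) :
    IsPiHallOf π (N ⊓ C) C ∧ C ≤ Subgroup.normalizer ((N ⊓ C : Subgroup G) : Set G) := by
  haveI : (N.subgroupOf M).Normal := (Subgroup.normal_subgroupOf_iff_le_normalizer hN.1).2 hn
  refine ⟨⟨inf_le_right, ?_, ?_⟩, ?_⟩
  · intro p hp hd
    exact hN.2.1 p hp (hd.trans (Subgroup.card_dvd_of_le inf_le_left))
  · intro p hp hpπ hd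
    rw [Subgroup.inf_relIndex_right] at hd
    have h1 : (N.subgroupOf M).relIndex (C.subgroupOf M) ∣ (N.subgroupOf M).index :=
      Subgroup.relIndex_dvd_index_of_normal _ _
    rw [Subgroup.relIndex_subgroupOf hCM] at h1
    exact hN.2.2 p hp hpπ (hd.trans h1)
  · exact (le_inf (hCM.trans hn) Subgroup.le_normalizer).trans
      Subgroup.inf_normalizer_le_normalizer_inf

/-- **Schur–Zassenhaus** with containment: a normal Hall `π`-subgroup of a solvable subgroup has a
complement containing any given `π'`-subgroup -/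
theorem exists_isComplIn_ge {π : Set ℕ} {N M X : Subgroup G} [Group.IsSolvable ↥M]
    (hN : IsPiHallOf π N M) (hn : M ≤ Subgroup.normalizer (N : Set G)) (hXM : X ≤ M)
    (hX : ∀ p : ℕ, p.Prime → p ∣ Nat.card ↥X → p ∉ π) :
    ∃ E : Subgroup G, IsComplIn E N M ∧ X ≤ E ∧
      (∀ p : ℕ, p.Prime → p ∣ Nat.card ↥E → p ∉ π) ∧ Nat.card ↥E = N.relIndex M := by
  obtain ⟨m, k, hmk, hm, hk⟩ := exists_pi_factorization π (Nat.card ↥M) Nat.card_pos
  have hcop : m.Coprime k := coprime_of_pi hm hk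
  have hcN := card_eq_of_isPiHallOf hN hmk hm hk
  have hXm : (Nat.card ↥(X.subgroupOf M)).Coprime m := by
    rw [card_subgroupOf hXM]; exact (coprime_of_pi hm hX).symm
  obtain ⟨E', hE', hXE'⟩ := Cfsg.Agent.Helper1.hall_contain k m (by rw [hmk, mul_comm])
    hcop.symm (X.subgroupOf M) hXm
  haveI : (N.subgroupOf M).Normal := (Subgroup.normal_subgroupOf_iff_le_normalizer hN.1).2 hn
  have hcompl : Subgroup.IsComplement' E' (N.subgroupOf M) := by
    apply Subgroup.isComplement'_of_coprime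
    · rw [hE', card_subgroupOf hN.1, hcN, hmk, mul_comm]
    · rw [hE', card_subgroupOf hN.1, hcN]; exact hcop.symm
  have hEc : Nat.card ↥(E'.map M.subtype) = k := by
    rw [Subgroup.card_map_of_injective M.subtype_injective]; exact hE'
  refine ⟨E'.map M.subtype, ⟨Subgroup.map_subtype_le _, hN.1, ?_, ?_⟩, ?_, ?_, ?_⟩
  · apply inf_eq_bot_of_coprime
    rw [hEc, hcN]; exact hcop.symm
  · intro y hy
    obtain ⟨⟨⟨a, ha⟩, ⟨b, hb⟩⟩, hab⟩ := hcompl.2 ⟨y, hy⟩
    have hab' : a * b = ⟨y, hy⟩ := hab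
    refine ⟨(a : G), Subgroup.mem_map_of_mem M.subtype (SetLike.mem_coe.1 ha), (b : G),
      Subgroup.mem_subgroupOf.1 (SetLike.mem_coe.1 hb), ?_⟩
    have h5 : ((a * b : ↥M) : G) = y := congrArg Subtype.val hab'
    exact h5.symm
  · calc X = (X.subgroupOf M).map M.subtype := (Subgroup.map_subgroupOf_eq_of_le hXM).symm
      _ ≤ E'.map M.subtype := Subgroup.map_mono hXE'
  · intro p hp hd
    rw [hEc] at hd
    exact hk p hp hd
  · rw [hEc]
    have h1 := card_eq_card_mul_relIndex hN.1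
    rw [hcN, hmk] at h1
    have hmpos : 0 < m := by rw [← hcN]; exact Nat.card_pos
    exact Nat.eq_of_mul_eq_mul_left hmpos h1

/-- from a complement: `M = N ⊔ E` -/
theorem sup_eq_of_isComplIn {E N M : Subgroup G} (h : IsComplIn E N M) : N ⊔ E = M := by
  apply le_antisymm (sup_le h.2.1 h.1)
  intro y hy
  obtain ⟨a, ha, b, hb, rfl⟩ := h.2.2.2 y hy
  exact Subgroup.mul_mem _ (Subgroup.mem_sup_right ha) (Subgroup.mem_sup_left hb)

/-- a Hall subgroup contains a Sylow `p`-subgroup for every prime `p` dividing its order -/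
theorem exists_sylow_map_le {S H : Subgroup G} (hHS : H ≤ S)
    (hcop : (Nat.card ↥H).Coprime (H.relIndex S)) {p : ℕ} [Fact p.Prime]
    (hp : p ∣ Nat.card ↥H) : ∃ P : Sylow p ↥S, (P : Subgroup ↥S).map S.subtype ≤ H := by
  have hpp : p.Prime := Fact.out
  obtain ⟨P₀⟩ : Nonempty (Sylow p ↥H) := inferInstance
  have hnd : ¬ p ∣ H.relIndex S := fun hd =>
    hpp.one_lt.ne' (Nat.eq_one_of_dvd_coprimes hcop hp hd)
  have hrel0 : H.relIndex S ≠ 0 := by
    intro h0
    have h1 := card_eq_card_mul_relIndex hHS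
    rw [h0, mul_zero] at h1
    exact Nat.card_pos.ne' h1
  have hQcard : Nat.card ↥((P₀ : Subgroup ↥H).map (Subgroup.inclusion hHS)) =
      p ^ (Nat.card ↥S).factorization p := by
    rw [Subgroup.card_map_of_injective (Subgroup.inclusion_injective hHS),
      P₀.card_eq_multiplicity]
    congr 1
    rw [card_eq_card_mul_relIndex hHS, Nat.factorization_mul Nat.card_pos.ne' hrel0,
      Finsupp.add_apply, Nat.factorization_eq_zero_of_not_dvd hnd, add_zero]
  refine ⟨Sylow.ofCard _ hQcard, ?_⟩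
  rintro _ ⟨y, hy, rfl⟩
  rw [Sylow.coe_ofCard] at hy
  obtain ⟨z, -, rfl⟩ := hy
  exact z.2

end hall

end Cfsg.Agent.Helper1.PiHall
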