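import Mathlib
import Cfsg.Agent.Lib.Helper1.PiHall
import Cfsg.Agent.Lib.Helper7.Bender
import Cfsg.Agent.Lib.Helper10.PiCore
import Cfsg.Agent.Lib.Helper10.Cores
import Cfsg.Agent.Lib.Helper23.PSolvable
import Cfsg.Agent.Lib.Helper23.BG10F
import Cfsg.Agent.Lib.Helper14.BGTransA

/-!
# BG Lemma 15.1(b) (helper1): fusion of elements of a Hall subgroup `H` of `M_σ` is controlled by
`N_M(H)`

`fusion_control` is the purely group-theoretic part (in a finite solvable group `K` with a normal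
Hall subgroup `S` such that `S' ≤ F(K)`); `conj_control` is BG 15.1(b) with the needed parts of
S1350, S1355, S1356, S1374 as explicit hypotheses.
-/

set_option autoImplicit false

namespace Cfsg.Agent.Helper1.BG151

open Cfsg
open scoped commutatorElement
open Cfsg.Agent.Helper1.PiHall

section abstract

variable {K : Type*} [Group K] [Finite K]

/-- Let `S` be a normal Hall subgroup of the finite solvable group `K` with `S' ≤ F(K)` and `H` a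
Hall subgroup of `S`. If `x` and `m x m⁻¹` lie in `H` then `m x m⁻¹ = n x n⁻¹` for some `n ∈ N_K(H)`. -/
theorem fusion_control [Group.IsSolvable K] (S H : Subgroup K) [hSn : S.Normal]
    (hS : (Nat.card ↥S).Coprime S.index) (hHS : H ≤ S)
    (hH : (Nat.card ↥H).Coprime (H.relIndex S)) (hSF : ⁅S, S⁆ ≤ fittingSubgroup K)
    {x m : K} (hx : x ∈ H) (hm : m * x * m⁻¹ ∈ H) :
    ∃ n : K, n ∈ Subgroup.normalizer (H : Set K) ∧ n * x * n⁻¹ = m * x * m⁻¹ := by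
  classical
  have hWcard : ∀ p : ℕ, p.Prime → p ∣ Nat.card ↥(piCore {q | q.Prime ∧ ¬ q ∣ Nat.card ↥H} K) →
      p ∈ {q | q.Prime ∧ ¬ q ∣ Nat.card ↥H} :=
    Cfsg.Agent.Helper10.card_piCore {q | q.Prime ∧ ¬ q ∣ Nat.card ↥H}
  have hHcardπ : ∀ p : ℕ, p.Prime → p ∣ Nat.card ↥H → p ∈ {q | q.Prime ∧ q ∣ Nat.card ↥H} :=
    fun p hp hd => ⟨hp, hd⟩
  have hW' : ∀ p : ℕ, p.Prime → p ∣ Nat.card ↥(piCore {q | q.Prime ∧ ¬ q ∣ Nat.card ↥H} K) →
      p ∉ {q | q.Prime ∧ q ∣ Nat.card ↥H} := fun p hp hd hpπ => (hWcard p hp hd).2 hpπ.2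
  have hHW : H ⊓ piCore {q | q.Prime ∧ ¬ q ∣ Nat.card ↥H} K = ⊥ :=
    inf_eq_bot_of_coprime (coprime_of_pi hHcardπ hW')
  haveI hWn : (piCore {q | q.Prime ∧ ¬ q ∣ Nat.card ↥H} K).Normal := piCore_normal _ K
  -- (1) `O_ℓ(K) ≤ H W`
  have hcore : ∀ ℓ : ℕ, ℓ.Prime →
      pCore ℓ K ≤ H ⊔ piCore {q | q.Prime ∧ ¬ q ∣ Nat.card ↥H} K := by
    intro ℓ hℓ
    haveI : Fact ℓ.Prime := ⟨hℓ⟩
    haveI hOn : (pCore ℓ K).Normal := Cfsg.Agent.Helper10.pCore_normal ℓ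
    have hOp : IsPGroup ℓ ↥(pCore ℓ K) := Cfsg.Agent.Helper10.pCore_isPGroup ℓ
    by_cases hℓH : ℓ ∣ Nat.card ↥H
    · have hOS : pCore ℓ K ≤ S := by
        apply le_normal_of_coprime
        obtain ⟨a, ha⟩ := hOp.exists_card_eq
        rw [ha]
        apply Nat.Coprime.pow_left
        rw [Nat.Prime.coprime_iff_not_dvd hℓ]
        intro hd
        exact hℓ.one_lt.ne' (Nat.eq_one_of_dvd_coprimes hS
          (hℓH.trans (Subgroup.card_dvd_of_le hHS)) hd)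
      obtain ⟨P, hP⟩ := exists_sylow_map_le hHS hH hℓH
      have hO' : IsPGroup ℓ ↥((pCore ℓ K).subgroupOf S) := hOp.comap_subtype
      have h1 : (pCore ℓ K).subgroupOf S ≤ P :=
        Cfsg.Agent.Helper23.PSolv.normal_pGroup_le_sylow _ hO' P
      have h2 : pCore ℓ K ≤ H := by
        calc pCore ℓ K = ((pCore ℓ K).subgroupOf S).map S.subtype :=
              (Subgroup.map_subgroupOf_eq_of_le hOS).symm
          _ ≤ (P : Subgroup ↥S).map S.subtype := Subgroup.map_mono h1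
          _ ≤ H := hP
      exact h2.trans le_sup_left
    · have h1 : pCore ℓ K ≤ piCore {q | q.Prime ∧ ¬ q ∣ Nat.card ↥H} K := by
        apply Cfsg.Agent.Helper10.le_piCore _ hOn
        intro p hp hd
        obtain ⟨a, ha⟩ := hOp.exists_card_eq
        rw [ha] at hd
        have hpl : p = ℓ := (Nat.prime_dvd_prime_iff_eq hp hℓ).1 (hp.dvd_of_dvd_pow hd)
        rw [hpl]; exact ⟨hℓ, hℓH⟩
      exact h1.trans le_sup_right
  -- (2) `F(K) ≤ H W`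
  have hF : fittingSubgroup K ≤ H ⊔ piCore {q | q.Prime ∧ ¬ q ∣ Nat.card ↥H} K := by
    rw [Cfsg.Agent.Helper7.fittingSubgroup_eq_iSup_pCore]
    exact iSup_le (fun ℓ => hcore ℓ ℓ.2)
  -- (3) `K` normalizes `H W`
  have hIsHall : ∀ H₂ : Subgroup K, H₂ ≤ S → Nat.card ↥H₂ = Nat.card ↥H →
      IsPiHallOf {q | q.Prime ∧ q ∣ Nat.card ↥H} H₂ S := by
    intro H₂ hH₂S hc
    exact isPiHallOf_of_card hH₂S (card_eq_card_mul_relIndex hHS) hHcardπ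
      (fun p hp hd hpπ => hp.one_lt.ne' (Nat.eq_one_of_dvd_coprimes hH hpπ.2 hd)) hc
  have hconjHW : ∀ k : K, ∀ a ∈ H,
      k * a * k⁻¹ ∈ H ⊔ piCore {q | q.Prime ∧ ¬ q ∣ Nat.card ↥H} K := by
    intro k a ha
    have hHk : H.map (MulAut.conj k).toMonoidHom ≤ S := by
      rintro _ ⟨y, hy, rfl⟩
      exact hSn.conj_mem y (hHS hy) k
    obtain ⟨t, htS, ht⟩ := exists_conj_of_isPiHallOf (hIsHall H hHS rfl)
      (hIsHall _ hHk (card_map_conj H k))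
    have hmem : k * a * k⁻¹ ∈ H.map (MulAut.conj t).toMonoidHom := by
      rw [ht]; exact ⟨a, ha, rfl⟩
    obtain ⟨b, hb, hbe⟩ := hmem
    have hbe' : t * b * t⁻¹ = k * a * k⁻¹ := hbe
    rw [← hbe']
    have e : t * b * t⁻¹ = ⁅t, b⁆ * b := by rw [commutatorElement_def]; group
    rw [e]
    exact Subgroup.mul_mem _ (hF (hSF (Subgroup.commutator_mem_commutator htS (hHS hb))))
      (Subgroup.mem_sup_left hb)
  haveI hHWn : (H ⊔ piCore {q | q.Prime ∧ ¬ q ∣ Nat.card ↥H} K).Normal := by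
    constructor
    intro n hn g
    obtain ⟨h, hh, w, hw, rfl⟩ := Subgroup.mem_sup_of_normal_right.1 hn
    have e : g * (h * w) * g⁻¹ = (g * h * g⁻¹) * (g * w * g⁻¹) := by group
    rw [e]
    exact Subgroup.mul_mem _ (hconjHW g h hh) (Subgroup.mem_sup_right (hWn.conj_mem w hw g))
  -- (4) Hall's theorem in `H W`
  have hHm : H.map (MulAut.conj m).toMonoidHom ≤
      H ⊔ piCore {q | q.Prime ∧ ¬ q ∣ Nat.card ↥H} K := by
    rintro _ ⟨a, ha, rfl⟩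
    exact hconjHW m a ha
  have hrel : H.relIndex (H ⊔ piCore {q | q.Prime ∧ ¬ q ∣ Nat.card ↥H} K) ∣
      Nat.card ↥(piCore {q | q.Prime ∧ ¬ q ∣ Nat.card ↥H} K) := by
    have h1 := card_eq_card_mul_relIndex
      (le_sup_left : H ≤ H ⊔ piCore {q | q.Prime ∧ ¬ q ∣ Nat.card ↥H} K)
    have h2 := card_eq_card_mul_relIndex
      (le_sup_right : piCore {q | q.Prime ∧ ¬ q ∣ Nat.card ↥H} K ≤
        H ⊔ piCore {q | q.Prime ∧ ¬ q ∣ Nat.card ↥H} K)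
    rw [Subgroup.relIndex_sup_right] at h2
    have h3 : (piCore {q | q.Prime ∧ ¬ q ∣ Nat.card ↥H} K).relIndex H ∣ Nat.card ↥H :=
      Subgroup.relIndex_dvd_card _ _
    have h4 : Nat.card ↥H * H.relIndex (H ⊔ piCore {q | q.Prime ∧ ¬ q ∣ Nat.card ↥H} K) ∣
        Nat.card ↥H * Nat.card ↥(piCore {q | q.Prime ∧ ¬ q ∣ Nat.card ↥H} K) := by
      rw [← h1, h2, mul_comm (Nat.card ↥H)]
      exact Nat.mul_dvd_mul_left _ h3
    exact Nat.dvd_of_mul_dvd_mul_left Nat.card_pos h4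
  have hIsHall' : ∀ H₂ : Subgroup K, H₂ ≤ H ⊔ piCore {q | q.Prime ∧ ¬ q ∣ Nat.card ↥H} K →
      Nat.card ↥H₂ = Nat.card ↥H →
      IsPiHallOf {q | q.Prime ∧ q ∣ Nat.card ↥H} H₂
        (H ⊔ piCore {q | q.Prime ∧ ¬ q ∣ Nat.card ↥H} K) := by
    intro H₂ hle hc
    exact isPiHallOf_of_card hle (card_eq_card_mul_relIndex le_sup_left) hHcardπ
      (fun p hp hd => hW' p hp (hd.trans hrel)) hc
  obtain ⟨y, hyHW, hy⟩ := exists_conj_of_isPiHallOf (hIsHall' H le_sup_left rfl)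
    (hIsHall' _ hHm (card_map_conj H m))
  obtain ⟨h, hh, w, hw, rfl⟩ := Subgroup.mem_sup_of_normal_right.1 hyHW
  have hn₀ : (h * w)⁻¹ * m ∈ Subgroup.normalizer (H : Set K) := by
    apply mem_normalizer_of_map_conj_le
    rintro _ ⟨a, ha, rfl⟩
    have h1 : m * a * m⁻¹ ∈ H.map (MulAut.conj (h * w)).toMonoidHom := by
      rw [hy]; exact ⟨a, ha, rfl⟩
    obtain ⟨b, hb, hbe⟩ := h1
    have hbe' : (h * w) * b * (h * w)⁻¹ = m * a * m⁻¹ := hbe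
    have e : (MulAut.conj ((h * w)⁻¹ * m)).toMonoidHom a =
        (h * w)⁻¹ * (m * a * m⁻¹) * (h * w) := by
      show ((h * w)⁻¹ * m) * a * ((h * w)⁻¹ * m)⁻¹ = _
      group
    rw [e, ← hbe']
    have e2 : (h * w)⁻¹ * ((h * w) * b * (h * w)⁻¹) * (h * w) = b := by group
    rw [e2]; exact hb
  obtain ⟨n₀, hn₀def⟩ : ∃ n₀ : K, n₀ = (h * w)⁻¹ * m := ⟨_, rfl⟩
  rw [← hn₀def] at hn₀
  have hx₁ : n₀ * x * n₀⁻¹ ∈ H := (Subgroup.mem_normalizer_iff.1 hn₀ x).1 hx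
  have hmx : m * x * m⁻¹ = h * (w * (n₀ * x * n₀⁻¹) * w⁻¹) * h⁻¹ := by
    rw [hn₀def]; group
  have hwx : w * (n₀ * x * n₀⁻¹) * w⁻¹ ∈ H := by
    have e : w * (n₀ * x * n₀⁻¹) * w⁻¹ = h⁻¹ * (m * x * m⁻¹) * h := by rw [hmx]; group
    rw [e]
    exact H.mul_mem (H.mul_mem (H.inv_mem hh) hm) hh
  have hc1 : w * (n₀ * x * n₀⁻¹) * w⁻¹ * (n₀ * x * n₀⁻¹)⁻¹ ∈ H :=
    H.mul_mem hwx (H.inv_mem hx₁)
  have hc2 : w * (n₀ * x * n₀⁻¹) * w⁻¹ * (n₀ * x * n₀⁻¹)⁻¹ ∈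
      piCore {q | q.Prime ∧ ¬ q ∣ Nat.card ↥H} K := by
    have e : w * (n₀ * x * n₀⁻¹) * w⁻¹ * (n₀ * x * n₀⁻¹)⁻¹ =
        w * ((n₀ * x * n₀⁻¹) * w⁻¹ * (n₀ * x * n₀⁻¹)⁻¹) := by group
    rw [e]
    exact Subgroup.mul_mem _ hw (hWn.conj_mem _ (Subgroup.inv_mem _ hw) _)
  have hc : w * (n₀ * x * n₀⁻¹) * w⁻¹ * (n₀ * x * n₀⁻¹)⁻¹ = 1 := by
    have h5 : w * (n₀ * x * n₀⁻¹) * w⁻¹ * (n₀ * x * n₀⁻¹)⁻¹ ∈
        H ⊓ piCore {q | q.Prime ∧ ¬ q ∣ Nat.card ↥H} K := ⟨hc1, hc2⟩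
    rw [hHW] at h5
    exact Subgroup.mem_bot.1 h5
  have hweq : w * (n₀ * x * n₀⁻¹) * w⁻¹ = n₀ * x * n₀⁻¹ := mul_inv_eq_one.1 hc
  refine ⟨h * n₀, Subgroup.mul_mem _ (Subgroup.le_normalizer hh) hn₀, ?_⟩
  rw [hmx, hweq]; group

end abstract

section concrete

universe u

variable {G : Type u} [Group G] [Finite G]

/-- **BG Lemma 15.1(b)**, from (parts of) S1350, S1355, S1356 and S1374 -/
theorem conj_control (hG : IsMinSimpleOddOrder G) {M : Subgroup G} (hM : IsCoatom M)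
    (h1350 : IsPiHallOf (sigma M) (sigmaCore M) M) (h1355 : sigmaCore M ≤ ⁅M, M⁆)
    (h1356 : ⁅⁅M, M⁆, ⁅M, M⁆⁆ ≤ fittingOf M)
    (h1374 : ∀ x ∈ sigmaCore M, x ≠ 1 → ∃ R : Subgroup G,
      R ≤ Subgroup.centralizer ({x} : Set G) ∧
      ∀ g : G, x ∈ M.map (MulAut.conj g).toMonoidHom →
        ∃ r ∈ R, M.map (MulAut.conj r).toMonoidHom = M.map (MulAut.conj g).toMonoidHom)
    {H : Subgroup G} (hH : H ≤ sigmaCore M)
    (hHall : (Nat.card ↥H).Coprime (H.relIndex (sigmaCore M))) :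
    ∀ x ∈ H, ∀ g : G, g * x * g⁻¹ ∈ H →
      ∃ n ∈ M ⊓ Subgroup.normalizer (H : Set G), n * x * n⁻¹ = g * x * g⁻¹ := by
  intro x hx g hgx
  have hσM : sigmaCore M ≤ M := Subgroup.map_subtype_le _
  by_cases hx1 : x = 1
  · subst hx1
    exact ⟨1, ⟨M.one_mem, Subgroup.one_mem _⟩, by simp⟩
  -- reduction to `g ∈ M`
  obtain ⟨R, hRc, hR⟩ := h1374 x (hH hx) hx1
  have hxg : x ∈ M.map (MulAut.conj g⁻¹).toMonoidHom := by
    refine ⟨g * x * g⁻¹, hσM (hH hgx), ?_⟩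
    show g⁻¹ * (g * x * g⁻¹) * g⁻¹⁻¹ = x
    group
  obtain ⟨r, hrR, hr⟩ := hR g⁻¹ hxg
  have hrx : r * x = x * r :=
    (Subgroup.mem_centralizer_iff.1 (hRc hrR) x (Set.mem_singleton x)).symm
  have hmM : g * r ∈ M := by
    apply Cfsg.Agent.Helper23.BG10.normalizer_le_of_isCoatom hG hM
    apply mem_normalizer_of_map_conj_le
    rintro _ ⟨y, hy, rfl⟩
    have h1 : r * y * r⁻¹ ∈ M.map (MulAut.conj g⁻¹).toMonoidHom := by
      rw [← hr]; exact ⟨y, hy, rfl⟩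
    obtain ⟨z, hz, hze⟩ := h1
    have hze' : g⁻¹ * z * g⁻¹⁻¹ = r * y * r⁻¹ := hze
    have e : (MulAut.conj (g * r)).toMonoidHom y = g * (r * y * r⁻¹) * g⁻¹ := by
      show (g * r) * y * (g * r)⁻¹ = _
      group
    rw [e, ← hze']
    have e2 : g * (g⁻¹ * z * g⁻¹⁻¹) * g⁻¹ = z := by group
    rw [e2]; exact hz
  have hmx : (g * r) * x * (g * r)⁻¹ = g * x * g⁻¹ := by
    have e : (g * r) * x * (g * r)⁻¹ = g * (r * x) * r⁻¹ * g⁻¹ := by group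
    rw [e, hrx]; group
  -- the abstract lemma inside `↥M`
  haveI hsolv : Group.IsSolvable ↥M := hG.2.2.2 M hM.1
  have hsub : (sigmaCore M).subgroupOf M = piCore (sigma M) ↥M :=
    Cfsg.Agent.Helper14.BGTrans.piCoreOf_subgroupOf (sigma M) M
  have hS : (Nat.card ↥(piCore (sigma M) ↥M)).Coprime (piCore (sigma M) ↥M).index := by
    apply coprime_of_pi (Cfsg.Agent.Helper10.card_piCore (sigma M))
    intro p hp hd hpσ
    apply h1350.2.2 p hp hpσ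
    unfold Subgroup.relIndex
    rw [hsub]; exact hd
  have hHS : H.subgroupOf M ≤ piCore (sigma M) ↥M := by
    rw [← hsub]
    exact Subgroup.comap_mono hH
  have hH' : (Nat.card ↥(H.subgroupOf M)).Coprime
      ((H.subgroupOf M).relIndex (piCore (sigma M) ↥M)) := by
    rw [card_subgroupOf (hH.trans hσM), ← hsub, Subgroup.relIndex_subgroupOf hσM]
    exact hHall
  have hSF : ⁅piCore (sigma M) ↥M, piCore (sigma M) ↥M⁆ ≤ fittingSubgroup ↥M := by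
    rw [← Subgroup.map_le_map_iff_of_injective M.subtype_injective, Subgroup.map_commutator]
    exact (Subgroup.commutator_mono h1355 h1355).trans h1356
  have hx' : (⟨x, hσM (hH hx)⟩ : ↥M) ∈ H.subgroupOf M := Subgroup.mem_subgroupOf.2 hx
  have hm' : (⟨g * r, hmM⟩ : ↥M) * ⟨x, hσM (hH hx)⟩ * (⟨g * r, hmM⟩ : ↥M)⁻¹ ∈
      H.subgroupOf M := by
    rw [Subgroup.mem_subgroupOf]
    show (g * r) * x * (g * r)⁻¹ ∈ H
    rw [hmx]; exact hgx
  obtain ⟨n, hn, hnx⟩ := fusion_control (piCore (sigma M) ↥M) (H.subgroupOf M) hS hHS hH' hSF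
    hx' hm'
  refine ⟨(n : G), ⟨n.2, ?_⟩, ?_⟩
  · apply mem_normalizer_of_map_conj_le
    rintro _ ⟨a, ha, rfl⟩
    have ha' : (⟨a, hσM (hH ha)⟩ : ↥M) ∈ H.subgroupOf M := Subgroup.mem_subgroupOf.2 ha
    have h1 := (Subgroup.mem_normalizer_iff.1 hn _).1 ha'
    exact Subgroup.mem_subgroupOf.1 h1
  · have h2 := congrArg Subtype.val hnx
    have h3 : (n : G) * x * (n : G)⁻¹ = (g * r) * x * (g * r)⁻¹ := h2
    rw [h3, hmx]

end concrete

end Cfsg.Agent.Helper1.BG151
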