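import Mathlib
import Cfsg.Agent.Lib.Helper1.PiHall
import Cfsg.Agent.Lib.Helper7.BG121b
import Cfsg.Agent.Lib.Helper23.BG10A
import Cfsg.Agent.Lib.Helper14.BGTransA

/-!
# BG Lemma 15.1(a) (helper1): `C_M(H) = C_{M_σ}(H) X` with `X` a cyclic `τ₂(M)`-group, for a
nontrivial Hall subgroup `H` of `M_σ`

The needed parts of S1350, S1417, S1421, S1430, S1431, S1432 enter as explicit hypotheses.
-/

set_option autoImplicit false

namespace Cfsg.Agent.Helper1.BG151

open Cfsg
open Cfsg.Agent.Helper1.PiHall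

/-- cyclic Sylow `p`-subgroups force `p`-rank at most one -/
theorem pRankLE_one_of_cyclic_sylow {K : Type*} [Group K] [Finite K] {p : ℕ} [Fact p.Prime]
    (h : ∀ P : Sylow p K, IsCyclic P) : PRankLE p 1 K := by
  intro A _ hAp
  have hA : IsPGroup p ↥A := by
    intro a
    refine ⟨1, ?_⟩
    rw [pow_one]
    exact Subtype.ext (by simpa using hAp a a.2)
  obtain ⟨P, hP⟩ := hA.exists_le_sylow
  haveI := h P
  haveI : IsCyclic ↥A := Subgroup.isCyclic_of_le hP
  obtain ⟨g, hg⟩ := IsCyclic.exists_generator (α := ↥A)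
  have h1 : Nat.card ↥A = orderOf g := (orderOf_eq_card_of_forall_mem_zpowers hg).symm
  have h2 : orderOf g ∣ p :=
    orderOf_dvd_of_pow_eq_one (Subtype.ext (by simpa using hAp g g.2))
  rw [pow_one, h1]
  exact Nat.le_of_dvd (Fact.out : p.Prime).pos h2

universe u

variable {G : Type u} [Group G] [Finite G]

theorem pRankLE_one_of_mem_kappa {M : Subgroup G} {p : ℕ} (h : p ∈ kappa M) : PRankLE p 1 ↥M := by
  haveI : Fact p.Prime := ⟨h.1⟩
  exact pRankLE_one_of_cyclic_sylow (fun P => (h.2.2.2 P).1)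

/-- **BG Lemma 15.1(a)**, from (parts of) S1350, S1417, S1421, S1430, S1431 and S1432 -/
theorem centralizer_structure (hG : IsMinSimpleOddOrder G) {M : Subgroup G} (hM : IsCoatom M)
    (h1350 : IsPiHallOf (sigma M) (sigmaCore M) M)
    (h1432 : ∀ x ∈ sigmaCore M, x ≠ 1 → ∀ x' ∈ M ⊓ Subgroup.centralizer ({x} : Set G), x' ≠ 1 →
      (∀ p : ℕ, p.Prime → p ∣ orderOf x' → p ∉ sigma M) →
      (∀ p : ℕ, p.Prime → p ∣ orderOf x' → p ∈ kappa M) ∨
        (∀ p : ℕ, p.Prime → p ∣ orderOf x' → p ∈ tau2 M))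
    (h1430 : ∀ K : Subgroup G, IsPiHallOf (kappa M) K M → K ≠ ⊥ →
      (∀ k ∈ K, k ≠ 1 → sigmaCore M ⊓ Subgroup.centralizer ({k} : Set G) =
        sigmaCore M ⊓ Subgroup.centralizer (K : Set G)) ∧
      ∃ U : Subgroup G, IsMulCommutative U ∧
        IsPiHallOf {q | q.Prime ∧ q ∉ kappa M ∧ q ∉ sigma M} U M)
    (h1431 : ∀ K : Subgroup G, IsPiHallOf (kappa M) K M → K ≠ ⊥ → ∀ p : ℕ, p.Prime →
      p ∣ Nat.card ↥(sigmaCore M ⊓ Subgroup.centralizer (K : Set G)) →
      ∀ S : Sylow p ↥(sigmaCore M),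
        ¬ (S : Subgroup ↥(sigmaCore M)).map (sigmaCore M).subtype ≤
          sigmaCore M ⊓ Subgroup.centralizer (K : Set G))
    (h1417 : ∀ (p : ℕ) [Fact p.Prime], p ∈ tau2 M → ∀ A : Subgroup G, A ≤ M →
      IsElementaryAbelian p A → Nat.card ↥A = p ^ 2 →
      sigmaCore M ⊓ Subgroup.centralizer (A : Set G) = ⊥)
    (h1421 : ∀ E : Subgroup G, IsComplIn E (sigmaCore M) M →
      (∀ e ∈ E, e ≠ 1 → (∀ p : ℕ, p.Prime → p ∣ orderOf e → p ∈ tau1 M ∪ tau3 M) →
        sigmaCore M ⊓ Subgroup.centralizer ({e} : Set G) = ⊥) →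
      ∃ A₀ : Subgroup G, IsMulCommutative A₀ ∧
        ∀ x ∈ sigmaCore M, x ≠ 1 → E ⊓ Subgroup.centralizer ({x} : Set G) ≤ A₀)
    {H : Subgroup G} (hH : H ≤ sigmaCore M) (hH1 : H ≠ ⊥)
    (hHall : (Nat.card ↥H).Coprime (H.relIndex (sigmaCore M))) :
    ∃ X : Subgroup G, IsCyclic X ∧ (∀ p : ℕ, p.Prime → p ∣ Nat.card X → p ∈ tau2 M) ∧
      M ⊓ Subgroup.centralizer (H : Set G) =
        (sigmaCore M ⊓ Subgroup.centralizer (H : Set G)) ⊔ X := by
  classical
  have hσM : sigmaCore M ≤ M := Subgroup.map_subtype_le _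
  have hMn : M ≤ Subgroup.normalizer (sigmaCore M : Set G) :=
    Cfsg.Agent.Helper14.BGTrans.le_normalizer_piCoreOf (sigma M) M
  haveI hsolv : Group.IsSolvable ↥M := hG.2.2.2 M hM.1
  obtain ⟨h, hhH, hh1⟩ : ∃ h ∈ H, h ≠ 1 := by
    by_contra hcon
    push Not at hcon
    exact hH1 ((Subgroup.eq_bot_iff_forall H).2 hcon)
  obtain ⟨C, hC⟩ : ∃ C : Subgroup G, C = M ⊓ Subgroup.centralizer (H : Set G) := ⟨_, rfl⟩
  have hCM : C ≤ M := by rw [hC]; exact inf_le_left
  have hCcent : ∀ y ∈ C, ∀ a ∈ H, a * y = y * a := by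
    intro y hy a ha
    rw [hC] at hy
    exact Subgroup.mem_centralizer_iff.1 hy.2 a ha
  haveI : Group.IsSolvable ↥C := hG.2.2.2 C (fun htop => hM.1 (top_le_iff.1 (htop ▸ hCM)))
  have hC₀ : sigmaCore M ⊓ C = sigmaCore M ⊓ Subgroup.centralizer (H : Set G) := by
    rw [hC, ← inf_assoc, inf_eq_left.2 hσM]
  obtain ⟨hC₀hall, hC₀n⟩ := isPiHallOf_inf h1350 hMn hCM
  obtain ⟨X, hXc, -, hXσ, -⟩ := exists_isComplIn_ge (X := ⊥) hC₀hall hC₀n bot_le (by
    intro p hp hd
    rw [Subgroup.card_bot] at hd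
    exact absurd (Nat.dvd_one.1 hd) hp.one_lt.ne')
  have hXC : X ≤ C := hXc.1
  have hXM : X ≤ M := hXC.trans hCM
  have hsup : (sigmaCore M ⊓ C) ⊔ X = C := sup_eq_of_isComplIn hXc
  -- the primes of `X` lie in `τ₂(M)`
  have hXτ : ∀ r : ℕ, r.Prime → r ∣ Nat.card ↥X → r ∈ tau2 M := by
    intro r hr hrX
    haveI : Fact r.Prime := ⟨hr⟩
    obtain ⟨⟨x', hx'X⟩, hx'o⟩ := exists_prime_orderOf_dvd_card' (G := ↥X) r hrX
    have hx'o' : orderOf x' = r := by rw [← hx'o, Subgroup.orderOf_mk]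
    have hx'C := hXC hx'X
    have hx'1 : x' ≠ 1 := by
      rintro rfl
      rw [orderOf_one] at hx'o'
      exact hr.one_lt.ne hx'o'
    have hx'h : x' ∈ M ⊓ Subgroup.centralizer ({h} : Set G) := by
      refine Subgroup.mem_inf.2 ⟨hCM hx'C, ?_⟩
      rw [Subgroup.mem_centralizer_iff]
      intro y hy
      rw [Set.mem_singleton_iff] at hy
      rw [hy]
      exact hCcent x' hx'C h hhH
    have hσ' : ∀ p : ℕ, p.Prime → p ∣ orderOf x' → p ∉ sigma M := by
      intro p hp hd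
      rw [hx'o'] at hd
      have h3 := (Nat.prime_dvd_prime_iff_eq hp hr).1 hd
      rw [h3]; exact hXσ r hr hrX
    rcases h1432 h (hH hhH) hh1 x' hx'h hx'1 hσ' with hκ | hτ
    · exfalso
      have hrκ : r ∈ kappa M := hκ r hr (by rw [hx'o'])
      obtain ⟨K, hK, hx'K⟩ := exists_isPiHallOf_ge (kappa M) M (X := Subgroup.zpowers x')
        (by rw [Subgroup.zpowers_le]; exact hCM hx'C) (by
          intro p hp hd
          rw [Nat.card_zpowers, hx'o'] at hd
          have h3 := (Nat.prime_dvd_prime_iff_eq hp hr).1 hd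
          rw [h3]; exact hrκ)
      have hx'K' : x' ∈ K := hx'K (Subgroup.mem_zpowers x')
      have hK1 : K ≠ ⊥ := fun hb => hx'1 (by rw [hb] at hx'K'; exact Subgroup.mem_bot.1 hx'K')
      obtain ⟨h30a, -⟩ := h1430 K hK hK1
      have hHK : H ≤ sigmaCore M ⊓ Subgroup.centralizer (K : Set G) := by
        rw [← h30a x' hx'K' hx'1]
        intro a ha
        refine Subgroup.mem_inf.2 ⟨hH ha, ?_⟩
        rw [Subgroup.mem_centralizer_iff]
        intro y hy
        rw [Set.mem_singleton_iff] at hy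
        rw [hy]
        exact (hCcent x' hx'C a ha).symm
      have hHc : Nat.card ↥H ≠ 1 := fun hc => hH1 (Subgroup.card_eq_one.1 hc)
      obtain ⟨p, hp, hpH⟩ := Nat.exists_prime_and_dvd hHc
      haveI : Fact p.Prime := ⟨hp⟩
      obtain ⟨S, hS⟩ := exists_sylow_map_le hH hHall hpH
      exact h1431 K hK hK1 p hp (hpH.trans (Subgroup.card_dvd_of_le hHK)) S (hS.trans hHK)
    · exact hτ r hr (by rw [hx'o'])
  -- `X` has `r`-rank at most one for every prime `r`
  have hXrank : ∀ r : ℕ, r.Prime → r ∣ Nat.card ↥X → PRankLE r 1 ↥X := by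
    intro r hr hrX
    haveI : Fact r.Prime := ⟨hr⟩
    have hrτ := hXτ r hr hrX
    by_contra hnr
    have hr2 : PRankLE r 2 ↥X :=
      Cfsg.Agent.Helper7.BG12.pRankLE_of_injective (Subgroup.inclusion hXM)
        (Subgroup.inclusion_injective _) hrτ.2.2.1
    obtain ⟨A, hAX, hAe, hAc⟩ := Cfsg.Agent.Helper23.BG10.exists_elemAb_sq hr2 hnr
    have hbot := h1417 r hrτ A (hAX.trans hXM) hAe hAc
    apply hH1
    rw [eq_bot_iff, ← hbot]
    intro a ha
    refine Subgroup.mem_inf.2 ⟨hH ha, ?_⟩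
    rw [Subgroup.mem_centralizer_iff]
    intro y hy
    exact (hCcent y (hXC (hAX hy)) a ha).symm
  -- `X` is abelian
  have hXab : IsMulCommutative ↥X := by
    by_cases hκ : (kappa M).Nonempty
    · obtain ⟨q, hq⟩ := hκ
      obtain ⟨K, hK⟩ := exists_isPiHallOf (kappa M) M
      have hK1 : K ≠ ⊥ := by
        rintro rfl
        have h1 := card_eq_card_mul_relIndex hK.1
        rw [Subgroup.card_bot, one_mul] at h1
        exact hK.2.2 q hq.1 hq (by rw [← h1]; exact hq.2.1)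
      obtain ⟨-, U, hUc, hU⟩ := h1430 K hK hK1
      have hXπ : ∀ p : ℕ, p.Prime → p ∣ Nat.card ↥X →
          p ∈ {q | q.Prime ∧ q ∉ kappa M ∧ q ∉ sigma M} := by
        intro p hp hd
        have hpτ := hXτ p hp hd
        refine ⟨hp, ?_, hpτ.2.1⟩
        intro hpκ
        exact hpτ.2.2.2 (pRankLE_one_of_mem_kappa hpκ)
      obtain ⟨m, -, hm⟩ := exists_conj_le_of_isPiHallOf hU hXM hXπ
      exact isMulCommutative_of_map_conj_le hm hUc
    · rw [Set.not_nonempty_iff_eq_empty] at hκ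
      obtain ⟨E, hE, hXE, -, -⟩ := exists_isComplIn_ge h1350 hMn hXM hXσ
      obtain ⟨A₀, hA₀c, hA₀⟩ := h1421 E hE (by
        intro e heE he1 hτ13
        by_contra hne
        obtain ⟨y, hy, hy1⟩ : ∃ y ∈ sigmaCore M ⊓ Subgroup.centralizer ({e} : Set G), y ≠ 1 := by
          by_contra hcon
          push Not at hcon
          exact hne ((Subgroup.eq_bot_iff_forall _).2 hcon)
        have heM : e ∈ M := hE.1 heE
        have hey : e ∈ M ⊓ Subgroup.centralizer ({y} : Set G) := by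
          refine Subgroup.mem_inf.2 ⟨heM, ?_⟩
          rw [Subgroup.mem_centralizer_iff]
          intro z hz
          rw [Set.mem_singleton_iff] at hz
          rw [hz]
          exact (Subgroup.mem_centralizer_iff.1 hy.2 e (Set.mem_singleton e)).symm
        have hσe : ∀ p : ℕ, p.Prime → p ∣ orderOf e → p ∉ sigma M := by
          intro p hp hd
          rcases hτ13 p hp hd with h1 | h3
          · exact h1.2.1
          · exact h3.2.1
        have hoe : orderOf e ≠ 1 := fun h => he1 (orderOf_eq_one_iff.1 h)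
        obtain ⟨p, hp, hpe⟩ := Nat.exists_prime_and_dvd hoe
        rcases h1432 y hy.1 hy1 e hey he1 hσe with hκ' | hτ'
        · have h2 := hκ' p hp hpe
          rw [hκ] at h2
          exact (Set.mem_empty_iff_false p).1 h2
        · have h2 := hτ' p hp hpe
          rcases hτ13 p hp hpe with h1 | h3
          · exact h2.2.2.2 h1.2.2.2.2
          · exact h2.2.2.2 h3.2.2.2)
      refine isMulCommutative_of_le (fun a ha => hA₀ h (hH hhH) hh1 (Subgroup.mem_inf.2 ⟨hXE ha, ?_⟩)) hA₀c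
      rw [Subgroup.mem_centralizer_iff]
      intro z hz
      rw [Set.mem_singleton_iff] at hz
      rw [hz]
      exact hCcent a (hXC ha) h hhH
  -- `X` is cyclic
  have hXZ : IsZGroup ↥X :=
    Cfsg.Agent.Helper7.BG12.isZGroup_of_pRankLE_one hG.1 (le_refl X) hXrank
  have hXcyc : IsCyclic ↥X := by
    haveI := hXZ
    haveI := hXab
    haveI : Group.IsNilpotent ↥X := by
      letI : CommGroup ↥X :=
        { (inferInstance : Group ↥X) with mul_comm := fun a b => mul_comm' a b }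
      infer_instance
    infer_instance
  refine ⟨X, hXcyc, hXτ, ?_⟩
  rw [← hC, ← hC₀, hsup]

end Cfsg.Agent.Helper1.BG151
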