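import Mathlib
import Cfsg.Agent.Lib.Helper1.PiHall
import Cfsg.Agent.Lib.Helper14.BGUniqA
import Cfsg.Agent.Lib.Helper14.Kieler
import Cfsg.Agent.Lib.Helper14.Normalize
import Cfsg.Agent.Lib.Helper7.Signalizer
import Cfsg.Agent.Lib.Helper7.Fitting

/-!
# BG Corollary 15.2-type statement S1439 (helper1): `F(M) = F(M_σ) × Y` with `Y = O_{σ'}(F(M))` a
cyclic `τ₂(M)`-group

From the first part of S1438 (applied to `H = M_σ`) and the Hall property of `M_σ` (S1350).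
-/

set_option autoImplicit false

namespace Cfsg.Agent.Helper1.BG152

open Cfsg
open Cfsg.Agent.Helper1.PiHall

universe u

variable {G : Type u} [Group G]

/-- two subgroups normalizing each other and meeting trivially commute elementwise -/
theorem commute_of_normalize_of_inf_eq_bot {A B : Subgroup G}
    (hAB : A ≤ Subgroup.normalizer (B : Set G)) (hBA : B ≤ Subgroup.normalizer (A : Set G))
    (h : A ⊓ B = ⊥) {a b : G} (ha : a ∈ A) (hb : b ∈ B) : a * b = b * a := by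
  have h1 : a * b * a⁻¹ * b⁻¹ ∈ B :=
    B.mul_mem ((Subgroup.mem_normalizer_iff.1 (hAB ha) b).1 hb) (B.inv_mem hb)
  have h2 : a * b * a⁻¹ * b⁻¹ ∈ A := by
    have e : a * b * a⁻¹ * b⁻¹ = a * (b * a⁻¹ * b⁻¹) := by group
    rw [e]
    exact A.mul_mem ha ((Subgroup.mem_normalizer_iff.1 (hBA hb) a⁻¹).1 (A.inv_mem ha))
  have h3 : a * b * a⁻¹ * b⁻¹ = 1 := by
    have h4 : a * b * a⁻¹ * b⁻¹ ∈ A ⊓ B := ⟨h2, h1⟩
    rw [h] at h4
    exact Subgroup.mem_bot.1 h4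
  have e : a * b = (a * b * a⁻¹ * b⁻¹) * (b * a) := by group
  rw [e, h3, one_mul]

variable [Finite G]

/-- a nilpotent subgroup of `X` normalized by `X` lies in `F(X)` -/
theorem le_fittingOf {X T : Subgroup G} (hTX : T ≤ X)
    (hn : X ≤ Subgroup.normalizer (T : Set G)) (hnil : Group.IsNilpotent ↥T) :
    T ≤ fittingOf X := by
  haveI : (T.subgroupOf X).Normal := (Subgroup.normal_subgroupOf_iff_le_normalizer hTX).2 hn
  have hnil' : Group.IsNilpotent ↥(T.subgroupOf X) := by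
    haveI := hnil
    exact Group.nilpotent_of_mulEquiv (Subgroup.subgroupOfEquivOfLe hTX).symm
  have h1 : T.subgroupOf X ≤ fittingSubgroup ↥X := Cfsg.Agent.Helper7.le_fittingSubgroup _ hnil'
  calc T = (T.subgroupOf X).map X.subtype := (Subgroup.map_subgroupOf_eq_of_le hTX).symm
    _ ≤ fittingOf X := Subgroup.map_mono h1

/-- `O_ℓ(M) ≤ F(M_σ)` for `ℓ ∈ σ(M)` -/
theorem pCoreOf_le_fittingOf_sigmaCore {M : Subgroup G} [Group.IsSolvable ↥M]
    (h1350 : IsPiHallOf (sigma M) (sigmaCore M) M) (ℓ : ℕ) [Fact ℓ.Prime] (hℓσ : ℓ ∈ sigma M) :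
    Cfsg.Agent.Helper8.FitPrime.pCoreOf ℓ M ≤ fittingOf (sigmaCore M) := by
  have hσM : sigmaCore M ≤ M := Subgroup.map_subtype_le _
  have hMn : M ≤ Subgroup.normalizer (sigmaCore M : Set G) :=
    Cfsg.Agent.Helper14.BGTrans.le_normalizer_piCoreOf (sigma M) M
  have hPp : IsPGroup ℓ ↥(Cfsg.Agent.Helper8.FitPrime.pCoreOf ℓ M) :=
    Cfsg.Agent.Helper8.FitPrime.pCoreOf_isPGroup ℓ M
  have hPM : Cfsg.Agent.Helper8.FitPrime.pCoreOf ℓ M ≤ M :=
    Cfsg.Agent.Helper8.FitPrime.pCoreOf_le ℓ M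
  have hMP : M ≤ Subgroup.normalizer
      ((Cfsg.Agent.Helper8.FitPrime.pCoreOf ℓ M : Subgroup G) : Set G) :=
    Cfsg.Agent.Helper14.BGUniq.le_normalizer_pCoreOf ℓ M
  have hPcard : ∀ p : ℕ, p.Prime →
      p ∣ Nat.card ↥(Cfsg.Agent.Helper8.FitPrime.pCoreOf ℓ M) → p ∈ sigma M := by
    intro p hp hd
    obtain ⟨a, ha⟩ := hPp.exists_card_eq
    rw [ha] at hd
    have e : p = ℓ :=
      (Nat.prime_dvd_prime_iff_eq hp (Fact.out : ℓ.Prime)).1 (hp.dvd_of_dvd_pow hd)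
    rw [e]
    exact hℓσ
  have h1 : Cfsg.Agent.Helper8.FitPrime.pCoreOf ℓ M ≤ sigmaCore M :=
    le_of_isPiHallOf_of_le_normalizer h1350 hMn hPM hPcard
  exact le_fittingOf h1 (hσM.trans hMP) hPp.isNilpotent

/-- `O_ℓ(M) ≤ O_{σ'}(F(M))` for `ℓ ∉ σ(M)` -/
theorem pCoreOf_le_piCoreOf_fittingOf (M : Subgroup G) (ℓ : ℕ) [Fact ℓ.Prime]
    (hℓσ : ℓ ∉ sigma M) :
    Cfsg.Agent.Helper8.FitPrime.pCoreOf ℓ M ≤
      piCoreOf {q | q.Prime ∧ q ∉ sigma M} (fittingOf M) := by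
  have hFM : fittingOf M ≤ M := Subgroup.map_subtype_le _
  have hPp : IsPGroup ℓ ↥(Cfsg.Agent.Helper8.FitPrime.pCoreOf ℓ M) :=
    Cfsg.Agent.Helper8.FitPrime.pCoreOf_isPGroup ℓ M
  have hMP : M ≤ Subgroup.normalizer
      ((Cfsg.Agent.Helper8.FitPrime.pCoreOf ℓ M : Subgroup G) : Set G) :=
    Cfsg.Agent.Helper14.BGUniq.le_normalizer_pCoreOf ℓ M
  have hPcard : ∀ p : ℕ, p.Prime →
      p ∣ Nat.card ↥(Cfsg.Agent.Helper8.FitPrime.pCoreOf ℓ M) →
      p ∈ {q : ℕ | q.Prime ∧ q ∉ sigma M} := by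
    intro p hp hd
    obtain ⟨a, ha⟩ := hPp.exists_card_eq
    rw [ha] at hd
    have e : p = ℓ :=
      (Nat.prime_dvd_prime_iff_eq hp (Fact.out : ℓ.Prime)).1 (hp.dvd_of_dvd_pow hd)
    rw [e]
    exact ⟨Fact.out, hℓσ⟩
  exact Cfsg.Agent.Helper14.BGTrans.le_piCoreOf _
    (Cfsg.Agent.Helper14.BGUniq.pCoreOf_le_fittingOf ℓ M) (hFM.trans hMP) hPcard

/-- `F(M) ≤ F(M_σ) O_{σ'}(F(M))` -/
theorem fittingOf_le_sup {M : Subgroup G} [Group.IsSolvable ↥M]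
    (h1350 : IsPiHallOf (sigma M) (sigmaCore M) M) :
    fittingOf M ≤ fittingOf (sigmaCore M) ⊔
      piCoreOf {q | q.Prime ∧ q ∉ sigma M} (fittingOf M) := by
  classical
  refine (le_of_eq (Cfsg.Agent.Helper8.FitPrime.fittingOf_eq_iSup M)).trans (iSup_le fun ℓ => ?_)
  haveI : Fact (ℓ : ℕ).Prime := ⟨ℓ.2⟩
  by_cases hℓσ : (ℓ : ℕ) ∈ sigma M
  · exact (pCoreOf_le_fittingOf_sigmaCore h1350 (ℓ : ℕ) hℓσ).trans le_sup_left
  · exact (pCoreOf_le_piCoreOf_fittingOf M (ℓ : ℕ) hℓσ).trans le_sup_right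

/-- `M` normalizes `O_ℓ(M_σ)` -/
theorem le_normalizer_pCoreOf_sigmaCore (M : Subgroup G) (ℓ : ℕ) :
    M ≤ Subgroup.normalizer
      ((Cfsg.Agent.Helper8.FitPrime.pCoreOf ℓ (sigmaCore M) : Subgroup G) : Set G) := by
  have hMn : M ≤ Subgroup.normalizer (sigmaCore M : Set G) :=
    Cfsg.Agent.Helper14.BGTrans.le_normalizer_piCoreOf (sigma M) M
  have h := hMn.trans (Cfsg.Agent.Helper14.normalizer_le_normalizer_pCoreOf ℓ (sigmaCore M))
  unfold Cfsg.pCoreOf at h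
  unfold Cfsg.Agent.Helper8.FitPrime.pCoreOf
  exact h

/-- `F(M_σ) ≤ F(M)` -/
theorem fittingOf_sigmaCore_le (M : Subgroup G) : fittingOf (sigmaCore M) ≤ fittingOf M := by
  classical
  have hσM : sigmaCore M ≤ M := Subgroup.map_subtype_le _
  refine (le_of_eq (Cfsg.Agent.Helper8.FitPrime.fittingOf_eq_iSup (sigmaCore M))).trans
    (iSup_le fun ℓ => ?_)
  haveI : Fact (ℓ : ℕ).Prime := ⟨ℓ.2⟩
  have hTp : IsPGroup (ℓ : ℕ) ↥(Cfsg.Agent.Helper8.FitPrime.pCoreOf (ℓ : ℕ) (sigmaCore M)) :=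
    Cfsg.Agent.Helper8.FitPrime.pCoreOf_isPGroup (ℓ : ℕ) _
  have hT : Cfsg.Agent.Helper8.FitPrime.pCoreOf (ℓ : ℕ) (sigmaCore M) ≤ sigmaCore M :=
    Cfsg.Agent.Helper8.FitPrime.pCoreOf_le (ℓ : ℕ) _
  exact le_fittingOf (hT.trans hσM) (le_normalizer_pCoreOf_sigmaCore M (ℓ : ℕ)) hTp.isNilpotent

/-- the statement of S1439, from the Hall property of `M_σ` and the first part of S1438 for
`H = M_σ` -/
theorem fitting_structure (hG : IsMinSimpleOddOrder G) {M : Subgroup G} (hM : IsCoatom M)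
    (h1350 : IsPiHallOf (sigma M) (sigmaCore M) M)
    (h1438 : ∃ X : Subgroup G, IsCyclic X ∧
      (∀ p : ℕ, p.Prime → p ∣ Nat.card X → p ∈ tau2 M) ∧
      M ⊓ Subgroup.centralizer (sigmaCore M : Set G) =
        (sigmaCore M ⊓ Subgroup.centralizer (sigmaCore M : Set G)) ⊔ X) :
    IsCyclic ↥(piCoreOf {q | q.Prime ∧ q ∉ sigma M} (fittingOf M)) ∧
      (∀ p : ℕ, p.Prime →
        p ∣ Nat.card ↥(piCoreOf {q | q.Prime ∧ q ∉ sigma M} (fittingOf M)) → p ∈ tau2 M) ∧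
      fittingOf M = fittingOf (sigmaCore M) ⊔
        piCoreOf {q | q.Prime ∧ q ∉ sigma M} (fittingOf M) := by
  classical
  have hσM : sigmaCore M ≤ M := Subgroup.map_subtype_le _
  have hMn : M ≤ Subgroup.normalizer (sigmaCore M : Set G) :=
    Cfsg.Agent.Helper14.BGTrans.le_normalizer_piCoreOf (sigma M) M
  have hFM : fittingOf M ≤ M := Subgroup.map_subtype_le _
  have hMF : M ≤ Subgroup.normalizer (fittingOf M : Set G) :=
    Cfsg.Agent.Helper14.BGUniq.le_normalizer_fittingOf M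
  have hYF : piCoreOf {q | q.Prime ∧ q ∉ sigma M} (fittingOf M) ≤ fittingOf M :=
    Cfsg.Agent.Helper14.BGTrans.piCoreOf_le _ _
  have hMY : M ≤ Subgroup.normalizer
      ((piCoreOf {q | q.Prime ∧ q ∉ sigma M} (fittingOf M) : Subgroup G) : Set G) :=
    hMF.trans (Cfsg.Agent.Helper14.BGTrans.normalizer_le_normalizer_piCoreOf _ _)
  have hYcard : ∀ p : ℕ, p.Prime →
      p ∣ Nat.card ↥(piCoreOf {q | q.Prime ∧ q ∉ sigma M} (fittingOf M)) →
      p ∈ {q | q.Prime ∧ q ∉ sigma M} :=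
    Cfsg.Agent.Helper14.BGTrans.card_piCoreOf _ _
  have hσcard : ∀ p : ℕ, p.Prime → p ∣ Nat.card ↥(sigmaCore M) → p ∈ sigma M := h1350.2.1
  have hYσ : piCoreOf {q | q.Prime ∧ q ∉ sigma M} (fittingOf M) ⊓ sigmaCore M = ⊥ :=
    inf_eq_bot_of_coprime (coprime_of_pi hYcard (fun p hp hd hpσ' => hpσ'.2 (hσcard p hp hd)))
  haveI hsolv : Group.IsSolvable ↥M := hG.2.2.2 M hM.1
  obtain ⟨X, hXc, hXτ, hCX⟩ := h1438
  obtain ⟨C, hC⟩ : ∃ C : Subgroup G, C = M ⊓ Subgroup.centralizer (sigmaCore M : Set G) :=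
    ⟨_, rfl⟩
  obtain ⟨Z, hZ⟩ : ∃ Z : Subgroup G,
      Z = sigmaCore M ⊓ Subgroup.centralizer (sigmaCore M : Set G) := ⟨_, rfl⟩
  rw [← hC, ← hZ] at hCX
  have hCM : C ≤ M := by rw [hC]; exact inf_le_left
  have hXC : X ≤ C := by rw [hCX]; exact le_sup_right
  haveI : Group.IsSolvable ↥C := hG.2.2.2 C (fun htop => hM.1 (top_le_iff.1 (htop ▸ hCM)))
  -- `Y` centralizes `M_σ`
  have hYC : piCoreOf {q | q.Prime ∧ q ∉ sigma M} (fittingOf M) ≤ C := by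
    intro y hy
    rw [hC]
    refine Subgroup.mem_inf.2 ⟨hFM (hYF hy), ?_⟩
    rw [Subgroup.mem_centralizer_iff]
    intro s hs
    exact (commute_of_normalize_of_inf_eq_bot ((hYF.trans hFM).trans hMn) (hσM.trans hMY) hYσ
      hy hs).symm
  -- `X` is a Hall `σ'`-subgroup of `C`
  have hXhall : IsPiHallOf {q | q.Prime ∧ q ∉ sigma M} X C := by
    refine ⟨hXC, fun p hp hd => ⟨hp, (hXτ p hp hd).2.1⟩, ?_⟩
    intro p hp hpσ' hd
    have hXZ : X ≤ Subgroup.normalizer (Z : Set G) := by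
      rw [hZ]
      exact (hXC.trans hCM).trans (Cfsg.Agent.Helper14.le_normalizer_inf hMn
        (Cfsg.Agent.Helper14.le_normalizer_centralizer_of_le_normalizer hMn))
    have h1 : Nat.card ↥(Z ⊔ X) ∣ Nat.card ↥Z * Nat.card ↥X :=
      Cfsg.Agent.Helper7.card_sup_dvd_mul_of_le_normalizer hXZ
    have h2 := card_eq_card_mul_relIndex hXC
    have h3 : X.relIndex C ∣ Nat.card ↥Z := by
      have h4 : Nat.card ↥X * X.relIndex C ∣ Nat.card ↥X * Nat.card ↥Z := by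
        rw [← h2, mul_comm, hCX]
        exact h1
      exact Nat.dvd_of_mul_dvd_mul_left Nat.card_pos h4
    have h5 : Nat.card ↥Z ∣ Nat.card ↥(sigmaCore M) := by
      rw [hZ]; exact Subgroup.card_dvd_of_le inf_le_left
    exact hpσ'.2 (hσcard p hp ((hd.trans h3).trans h5))
  obtain ⟨c, -, hc⟩ := exists_conj_le_of_isPiHallOf hXhall hYC hYcard
  refine ⟨?_, ?_, ?_⟩
  · haveI := hXc
    haveI : IsCyclic ↥((piCoreOf {q | q.Prime ∧ q ∉ sigma M} (fittingOf M)).map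
        (MulAut.conj c).toMonoidHom) := Subgroup.isCyclic_of_le hc
    exact isCyclic_of_surjective
      ((piCoreOf {q | q.Prime ∧ q ∉ sigma M} (fittingOf M)).equivMapOfInjective
        (MulAut.conj c).toMonoidHom (MulAut.conj c).injective).symm (MulEquiv.surjective _)
  · intro p hp hd
    apply hXτ p hp
    rw [← card_map_conj _ c] at hd
    exact hd.trans (Subgroup.card_dvd_of_le hc)
  · exact le_antisymm (fittingOf_le_sup h1350) (sup_le (fittingOf_sigmaCore_le M) hYF)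

end Cfsg.Agent.Helper1.BG152
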