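import Mathlib

set_option autoImplicit false

/-!
# Frobenius groups acting on modules, part A: the idempotent counting lemma

If a finite group `E` acts on a finite module `M` and `π` is an idempotent endomorphism whose
`E`-conjugates are pairwise orthogonal and sum to `1`, then `#M = #(M^E) ^ #E`.
-/

namespace Cfsg.Agent.Helper1.FrobMod

open scoped BigOperators

theorem card_eq_card_fixed_pow {R : Type*} [Semiring R]
    {M : Type*} [AddCommGroup M] [Module R M] [Finite M] {E : Type*} [Group E] [Fintype E]
    (σ : E →* Module.End R M) (π : Module.End R M)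
    (hπ : π * π = π)
    (horth : ∀ e : E, e ≠ 1 → π * σ e * π = 0)
    (hsum : ∑ e : E, σ e * π * σ e⁻¹ = 1) :
    Nat.card M = Nat.card {m : M // ∀ e : E, σ e m = m} ^ Nat.card E := by
  classical
  have hπN : ∀ n : LinearMap.range π, π (n : M) = n := by
    rintro ⟨n, x, rfl⟩
    have := congrArg (fun f : Module.End R M => f x) hπ
    simpa using this
  have horth' : ∀ (e : E) (n : LinearMap.range π), e ≠ 1 → π (σ e (n : M)) = 0 := by
    rintro e ⟨n, x, rfl⟩ he
    have := congrArg (fun f : Module.End R M => f x) (horth e he)
    simpa using this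
  have hsum' : ∀ m : M, ∑ e : E, σ e (π (σ e⁻¹ m)) = m := by
    intro m
    have := congrArg (fun f : Module.End R M => f m) hsum
    simpa [LinearMap.sum_apply] using this
  have hinv : ∀ (e : E) (m : M), σ e⁻¹ (σ e m) = m := by
    intro e m
    rw [← Module.End.mul_apply, ← map_mul, inv_mul_cancel, map_one]; rfl
  have hmul : ∀ (e f : E) (m : M), σ e (σ f m) = σ (e * f) m := by
    intro e f m
    rw [map_mul]; rfl
  -- equivalence `M ≃ (E → N)`
  let Φ : M ≃ (E → LinearMap.range π) :=
    { toFun := fun m e => ⟨π (σ e⁻¹ m), LinearMap.mem_range_self _ _⟩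
      invFun := fun n => ∑ e : E, σ e (n e : M)
      left_inv := fun m => by simpa using hsum' m
      right_inv := fun n => by
        funext f
        apply Subtype.ext
        simp only [map_sum]
        rw [Finset.sum_eq_single f]
        · rw [hinv, hπN]
        · intro e _ hef
          rw [hmul]
          apply horth'
          intro h
          apply hef
          have := inv_mul_eq_one.mp h
          exact this.symm
        · intro h; exact absurd (Finset.mem_univ f) h }
  -- equivalence `Fix ≃ N`
  let Ψ : {m : M // ∀ e : E, σ e m = m} ≃ LinearMap.range π :=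
    { toFun := fun m => ⟨π (m : M), LinearMap.mem_range_self _ _⟩
      invFun := fun n => ⟨∑ e : E, σ e (n : M), by
        intro f
        rw [map_sum]
        simp only [hmul]
        exact Fintype.sum_equiv (Equiv.mulLeft f) _ _ (fun e => rfl)⟩
      left_inv := fun m => by
        apply Subtype.ext
        show ∑ e : E, σ e (π (m : M)) = m
        have := hsum' (m : M)
        simp only [m.2] at this
        exact this
      right_inv := fun n => by
        apply Subtype.ext
        show π (∑ e : E, σ e (n : M)) = n
        rw [map_sum, Finset.sum_eq_single (1 : E)]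
        · rw [map_one]
          show π (n : M) = n
          exact hπN n
        · intro e _ he
          exact horth' e n he
        · intro h; exact absurd (Finset.mem_univ _) h }
  rw [Nat.card_congr Φ, Nat.card_congr Ψ, Nat.card_fun, Nat.card_eq_fintype_card (α := E)]

end Cfsg.Agent.Helper1.FrobMod

namespace Cfsg.Agent.Helper1.FrobMod

open scoped BigOperators

/-- Family version: orthogonal idempotents `ε l` summing to `1`, permuted by `E` through an action
on the index set which is free on the support. -/
theorem card_eq_card_fixed_pow_of_family {R : Type*} [Semiring R]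
    {M : Type*} [AddCommGroup M] [Module R M] [Finite M] {E : Type*} [Group E] [Fintype E]
    {L : Type*} [Fintype L] [DecidableEq L] [MulAction E L]
    (σ : E →* Module.End R M) (ε : L → Module.End R M)
    (horth : ∀ l m : L, ε l * ε m = if l = m then ε l else 0)
    (hone : ∑ l : L, ε l = 1)
    (hconj : ∀ (e : E) (l : L), σ e * ε l = ε (e • l) * σ e)
    (hfree : ∀ (e : E) (l : L), e ≠ 1 → e • l = l → ε l = 0) :
    Nat.card M = Nat.card {m : M // ∀ e : E, σ e m = m} ^ Nat.card E := by
  classical
  have hσinv : ∀ e : E, σ e * σ e⁻¹ = 1 := by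
    intro e; rw [← map_mul, mul_inv_cancel, map_one]
  have hzero : ∀ (e : E) (l : L), ε l = 0 → ε (e • l) = 0 := by
    intro e l h
    calc ε (e • l) = ε (e • l) * (σ e * σ e⁻¹) := by rw [hσinv, mul_one]
      _ = (ε (e • l) * σ e) * σ e⁻¹ := by rw [mul_assoc]
      _ = (σ e * ε l) * σ e⁻¹ := by rw [hconj]
      _ = 0 := by rw [h, mul_zero, zero_mul]
  let Ω := MulAction.orbitRel.Quotient E L
  let rep : Ω → L := fun ω => Quotient.out ω
  have hrep : ∀ ω : Ω, (Quotient.mk'' (rep ω) : Ω) = ω := fun ω => Quotient.out_eq' ω
  have hrep_inj : Function.Injective rep := by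
    intro a b h
    rw [← hrep a, ← hrep b, h]
  have hclass : ∀ (e : E) (l : L), (Quotient.mk'' (e • l) : Ω) = Quotient.mk'' l := by
    intro e l
    apply Quotient.sound'
    show e • l ∈ MulAction.orbit E l
    exact MulAction.mem_orbit _ _
  set π : Module.End R M := ∑ ω : Ω, ε (rep ω) with hπdef
  apply card_eq_card_fixed_pow σ π
  · -- idempotent
    rw [hπdef, Finset.sum_mul]
    apply Finset.sum_congr rfl
    intro ω _
    rw [Finset.mul_sum, Finset.sum_eq_single ω]
    · rw [horth, if_pos rfl]
    · intro ω' _ hne
      rw [horth, if_neg]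
      intro h
      exact hne (hrep_inj h).symm
    · intro h; exact absurd (Finset.mem_univ _) h
  · -- orthogonality
    intro e he
    rw [hπdef, Finset.sum_mul, Finset.sum_mul]
    apply Finset.sum_eq_zero
    intro ω _
    rw [Finset.mul_sum]
    apply Finset.sum_eq_zero
    intro ω' _
    rw [mul_assoc, hconj, ← mul_assoc, horth]
    split_ifs with h
    · -- rep ω = e • rep ω'
      have h1 : ω = ω' := by
        rw [← hrep ω, ← hrep ω', h, hclass]
      subst h1
      rw [hfree e (rep ω) he h.symm, zero_mul]
    · rw [zero_mul]
  · -- sum of conjugates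
    have h1 : ∀ e : E, σ e * π * σ e⁻¹ = ∑ ω : Ω, ε (e • rep ω) := by
      intro e
      rw [hπdef, Finset.mul_sum, Finset.sum_mul]
      apply Finset.sum_congr rfl
      intro ω _
      rw [hconj, mul_assoc, hσinv, mul_one]
    simp only [h1]
    rw [← hone, ← Finset.sum_product']
    apply Finset.sum_bij_ne_zero (fun (x : E × Ω) _ _ => x.1 • rep x.2)
    · intro x _ _; exact Finset.mem_univ _
    · rintro ⟨e, ω⟩ _ h1 ⟨e', ω'⟩ _ h2 h
      simp only at h h1 h2
      have hω : ω = ω' := by
        rw [← hrep ω, ← hrep ω', ← hclass e (rep ω), ← hclass e' (rep ω'), h]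
      subst hω
      have h3 : (e'⁻¹ * e) • rep ω = rep ω := by
        rw [mul_smul, h, inv_smul_smul]
      have h4 : ε (rep ω) ≠ 0 := fun h0 => h1 (hzero e _ h0)
      have h5 : e'⁻¹ * e = 1 := by
        by_contra hne
        exact h4 (hfree _ _ hne h3)
      have h6 : e = e' := by
        have := inv_mul_eq_one.mp h5
        exact this.symm
      rw [h6]
    · intro l _ _
      have hl : (Quotient.mk'' l : Ω) = Quotient.mk'' (rep (Quotient.mk'' l)) := (hrep _).symm
      have h2 : l ∈ MulAction.orbit E (rep (Quotient.mk'' l)) := Quotient.exact' hl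
      obtain ⟨e, he⟩ := h2
      have he : e • rep (Quotient.mk'' l) = l := he
      refine ⟨(e, Quotient.mk'' l), Finset.mem_univ _, ?_, ?_⟩
      · show ε (e • rep (Quotient.mk'' l)) ≠ 0
        rw [he]; assumption
      · exact he
    · intro x _ _; rfl

end Cfsg.Agent.Helper1.FrobMod
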