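import Mathlib
import Cfsg.Agent.Lib.Helper1.FrobModA

set_option autoImplicit false

/-!
# Frobenius groups acting on modules, part B: character idempotents after base change
-/

namespace Cfsg.Agent.Helper1.FrobMod

open scoped BigOperators TensorProduct

section Core

variable {k : Type*} [Field k] {V : Type*} [AddCommGroup V] [Module k V]
variable (K : Type*) [Field K] [Algebra k K]
variable {A : Type*} [CommGroup A] [Fintype A]
variable (τ : A →* Module.End k V)

/-- Base change of the operators `τ a`. -/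
noncomputable def T (a : A) : Module.End K (K ⊗[k] V) := Module.End.baseChangeHom k K V (τ a)

theorem T_mul (a b : A) : T K τ (a * b) = T K τ a * T K τ b := by
  unfold T; rw [map_mul, map_mul]

theorem T_one : T K τ 1 = 1 := by unfold T; rw [map_one, map_one]

/-- The character idempotent attached to `l`. -/
noncomputable def eps (l : A →* Kˣ) : Module.End K (K ⊗[k] V) :=
  ((Fintype.card A : K)⁻¹) • ∑ a : A, ((l a⁻¹ : Kˣ) : K) • T K τ a

theorem T_mul_eps (b : A) (l : A →* Kˣ) :
    T K τ b * eps K τ l = ((l b : Kˣ) : K) • eps K τ l := by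
  have key : T K τ b * ∑ a : A, ((l a⁻¹ : Kˣ) : K) • T K τ a
      = ((l b : Kˣ) : K) • ∑ a : A, ((l a⁻¹ : Kˣ) : K) • T K τ a := by
    rw [Finset.mul_sum, Finset.smul_sum]
    apply Fintype.sum_equiv (Equiv.mulLeft b)
    intro a
    simp only [Equiv.coe_mulLeft]
    rw [mul_smul_comm, ← T_mul, smul_smul]
    congr 1
    rw [mul_inv_rev, map_mul, Units.val_mul, ← mul_assoc, mul_comm ((l b : Kˣ) : K), mul_assoc,
      ← Units.val_mul, ← map_mul, mul_inv_cancel, map_one, Units.val_one, mul_one]
  unfold eps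
  rw [mul_smul_comm, key, smul_comm]

theorem eps_mul (l : A →* Kˣ) (X : Module.End K (K ⊗[k] V)) :
    eps K τ l * X = ((Fintype.card A : K)⁻¹) • ∑ b : A, ((l b⁻¹ : Kˣ) : K) • (T K τ b * X) := by
  unfold eps
  rw [smul_mul_assoc, Finset.sum_mul]
  simp only [smul_mul_assoc]

theorem eps_mul_eps [DecidableEq (A →* Kˣ)] (hn : (Fintype.card A : K) ≠ 0) (l m : A →* Kˣ) :
    eps K τ l * eps K τ m = if l = m then eps K τ l else 0 := by
  classical
  rw [eps_mul]
  have h1 : ∀ b : A, ((l b⁻¹ : Kˣ) : K) • (T K τ b * eps K τ m)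
      = ((Units.coeHom K).comp (l⁻¹ * m)) b • eps K τ m := by
    intro b
    rw [T_mul_eps, smul_smul]
    congr 1
    simp [map_inv]
  simp only [h1]
  rw [← Finset.sum_smul, sum_hom_units]
  by_cases hlm : l = m
  · subst hlm
    have : (Units.coeHom K).comp (l⁻¹ * l) = 1 := by
      have e : l⁻¹ * l = 1 := inv_mul_cancel l
      rw [e]; rfl
    rw [if_pos this, if_pos rfl, smul_smul, inv_mul_cancel₀ hn, one_smul]
  · have : (Units.coeHom K).comp (l⁻¹ * m) ≠ 1 := by
      intro h
      apply hlm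
      have h2 : l⁻¹ * m = 1 := by
        ext a
        have := DFunLike.congr_fun h a
        simpa using this
      exact (inv_mul_eq_one.mp h2)
    rw [if_neg this, if_neg hlm, Nat.cast_zero, zero_smul, smul_zero]

theorem sum_char_apply [DecidableEq A] [Fintype (A →* Kˣ)]
    [HasEnoughRootsOfUnity K (Monoid.exponent A)] (b : A) :
    ∑ l : A →* Kˣ, ((l b : Kˣ) : K) = if b = 1 then (Fintype.card A : K) else 0 := by
  classical
  by_cases hb : b = 1
  · subst hb
    rw [if_pos rfl]
    simp only [map_one, Units.val_one, Finset.sum_const, Finset.card_univ, nsmul_eq_mul, mul_one]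
    have := CommGroup.card_monoidHom_of_hasEnoughRootsOfUnity A K
    rw [Nat.card_eq_fintype_card, Nat.card_eq_fintype_card] at this
    rw [this]
  · rw [if_neg hb]
    obtain ⟨φ, hφ⟩ := CommGroup.exists_apply_ne_one_of_hasEnoughRootsOfUnity A K hb
    let f : (A →* Kˣ) →* K := (Units.coeHom K).comp (MonoidHom.eval b)
    have hf : f ≠ 1 := by
      intro h
      apply hφ
      have := DFunLike.congr_fun h φ
      have h2 : ((φ b : Kˣ) : K) = 1 := by simpa [f] using this
      exact Units.ext h2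
    exact sum_hom_units_eq_zero f hf

theorem sum_eps [Fintype (A →* Kˣ)] [HasEnoughRootsOfUnity K (Monoid.exponent A)]
    (hn : (Fintype.card A : K) ≠ 0) : ∑ l : A →* Kˣ, eps K τ l = 1 := by
  classical
  unfold eps
  rw [← Finset.smul_sum, Finset.sum_comm]
  simp only [← Finset.sum_smul, sum_char_apply]
  rw [Finset.sum_eq_single (1 : A)]
  · rw [if_pos (inv_one : (1 : A)⁻¹ = 1), T_one, smul_smul, inv_mul_cancel₀ hn, one_smul]
  · intro b _ hb
    rw [if_neg (by simpa using hb), zero_smul]
  · intro h; exact absurd (Finset.mem_univ _) h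

theorem sum_tau_eq_zero (hC : ∀ v : V, (∀ a : A, τ a v = v) → v = 0) : ∑ a : A, τ a = 0 := by
  ext v
  apply hC
  intro b
  rw [LinearMap.sum_apply, map_sum]
  apply Fintype.sum_equiv (Equiv.mulLeft b)
  intro a
  simp only [Equiv.coe_mulLeft, map_mul]
  rfl

theorem eps_one_eq_zero (hC : ∀ v : V, (∀ a : A, τ a v = v) → v = 0) : eps K τ 1 = 0 := by
  unfold eps
  have h1 : ∑ a : A, (((1 : A →* Kˣ) a⁻¹ : Kˣ) : K) • T K τ a
      = Module.End.baseChangeHom k K V (∑ a : A, τ a) := by
    rw [map_sum]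
    apply Finset.sum_congr rfl
    intro a _
    simp [T]
  rw [h1, sum_tau_eq_zero τ hC, map_zero, smul_zero]

section Conj

variable {E : Type*} [Group E] (σ : E →* Module.End k V) (α : E →* MulAut A)

/-- Base change of the operators `σ e`. -/
noncomputable def S : E →* Module.End K (K ⊗[k] V) :=
  (MonoidHomClass.toMonoidHom (Module.End.baseChangeHom k K V)).comp σ

theorem S_apply (e : E) : S K σ e = Module.End.baseChangeHom k K V (σ e) := rfl

theorem S_mul_T (hcompat : ∀ (e : E) (a : A), σ e * τ a = τ (α e a) * σ e) (e : E) (a : A) :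
    S K σ e * T K τ a = T K τ (α e a) * S K σ e := by
  rw [S_apply]
  unfold T
  rw [← map_mul, hcompat, map_mul]

/-- The action of `E` on characters. -/
def charAct : MulAction E (A →* Kˣ) where
  smul e l := l.comp ((α e)⁻¹ : MulAut A).toMonoidHom
  one_smul l := by
    show l.comp ((α 1)⁻¹ : MulAut A).toMonoidHom = l
    rw [map_one, inv_one]
    rfl
  mul_smul e f l := by
    show l.comp ((α (e * f))⁻¹ : MulAut A).toMonoidHom
      = (l.comp ((α f)⁻¹ : MulAut A).toMonoidHom).comp ((α e)⁻¹ : MulAut A).toMonoidHom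
    rw [map_mul, mul_inv_rev]
    rfl

theorem S_mul_eps (hcompat : ∀ (e : E) (a : A), σ e * τ a = τ (α e a) * σ e) (e : E)
    (l : A →* Kˣ) :
    S K σ e * eps K τ l = eps K τ (l.comp ((α e)⁻¹ : MulAut A).toMonoidHom) * S K σ e := by
  unfold eps
  rw [mul_smul_comm, smul_mul_assoc, Finset.mul_sum, Finset.sum_mul]
  congr 1
  apply Fintype.sum_equiv (α e).toEquiv
  intro a
  rw [mul_smul_comm, smul_mul_assoc, S_mul_T K τ σ α hcompat]
  congr 2
  simp only [MulEquiv.toEquiv_eq_coe, EquivLike.coe_coe, MonoidHom.coe_comp, Function.comp_apply]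
  congr 2
  show a⁻¹ = (α e)⁻¹ ((α e a)⁻¹)
  rw [map_inv]
  congr 1
  show a = (α e)⁻¹ (α e a)
  rw [← MulAut.mul_apply, inv_mul_cancel, MulAut.one_apply]

theorem eq_one_of_comp_eq [Finite A] (hfpf : ∀ e : E, e ≠ 1 → ∀ a : A, α e a = a → a = 1) (e : E)
    (he : e ≠ 1) (l : A →* Kˣ) (h : l.comp ((α e)⁻¹ : MulAut A).toMonoidHom = l) : l = 1 := by
  have h1 : ∀ a : A, l (α e a) = l a := by
    intro a
    have := DFunLike.congr_fun h (α e a)
    simp only [MonoidHom.coe_comp, Function.comp_apply] at this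
    rw [← this]
    congr 1
    show (α e)⁻¹ (α e a) = a
    rw [← MulAut.mul_apply, inv_mul_cancel, MulAut.one_apply]
  have hinj : Function.Injective (fun a : A => α e a * a⁻¹) := by
    intro a b hab
    simp only at hab
    have h2 : α e (a * b⁻¹) = a * b⁻¹ := by
      have h4 : α e a = α e b * b⁻¹ * a := by rw [← hab, inv_mul_cancel_right]
      rw [map_mul, map_inv, h4]
      rw [mul_comm (α e b * b⁻¹ * a), ← mul_assoc, ← mul_assoc, inv_mul_cancel, one_mul, mul_comm]
    have h3 := hfpf e he _ h2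
    exact mul_inv_eq_one.mp h3
  have hsurj := Finite.surjective_of_injective hinj
  ext a
  obtain ⟨c, hc⟩ := hsurj a
  simp only at hc
  rw [← hc, map_mul, h1, map_inv, mul_inv_cancel]
  rfl

/-- The counting statement after base change. -/
theorem card_baseChange_eq [Fintype E] [Finite K] [Finite (K ⊗[k] V)]
    [HasEnoughRootsOfUnity K (Monoid.exponent A)]
    (hcompat : ∀ (e : E) (a : A), σ e * τ a = τ (α e a) * σ e)
    (hfpf : ∀ e : E, e ≠ 1 → ∀ a : A, α e a = a → a = 1)
    (hn : (Fintype.card A : K) ≠ 0)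
    (hC : ∀ v : V, (∀ a : A, τ a v = v) → v = 0) :
    Nat.card (K ⊗[k] V) = Nat.card {x : K ⊗[k] V // ∀ e : E, S K σ e x = x} ^ Nat.card E := by
  classical
  haveI : Finite (A →* Kˣ) := DFunLike.finite _
  letI : Fintype (A →* Kˣ) := Fintype.ofFinite _
  letI : MulAction E (A →* Kˣ) := charAct K α
  apply card_eq_card_fixed_pow_of_family (S K σ) (eps K τ) (eps_mul_eps K τ hn) (sum_eps K τ hn)
  · intro e l
    exact S_mul_eps K τ σ α hcompat e l
  · intro e l he h
    have h1 : l = 1 := eq_one_of_comp_eq K α hfpf e he l h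
    rw [h1]
    exact eps_one_eq_zero K τ hC

end Conj

end Core

end Cfsg.Agent.Helper1.FrobMod
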