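import Mathlib
import Cfsg.Agent.Lib.Helper1.FrobModB

set_option autoImplicit false

/-!
# Frobenius groups acting on modules, part C: descent from the base change, abelian core lemma
-/

namespace Cfsg.Agent.Helper1.FrobMod

open scoped BigOperators TensorProduct

section Transfer

variable {k : Type*} [Field k] {V : Type*} [AddCommGroup V] [Module k V]
variable (K : Type*) [Field K] [Algebra k K] [Module.Finite k K]
variable {E : Type*} [Group E] (σ : E →* Module.End k V)

/-- Coordinates of the base change with respect to a basis of `K` over `k`. -/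
noncomputable def coords : (K ⊗[k] V) ≃ₗ[k] (Fin (Module.finrank k K) → V) :=
  (TensorProduct.equivFinsuppOfBasisLeft (Module.finBasis k K)).trans
    (Finsupp.linearEquivFunOnFinite k V (Fin (Module.finrank k K)))

theorem coords_S (e : E) (x : K ⊗[k] V) (i : Fin (Module.finrank k K)) :
    coords (V := V) K (S K σ e x) i = σ e (coords K x i) := by
  induction x using TensorProduct.induction_on with
  | zero => simp
  | tmul a v =>
    rw [S_apply]
    show coords (V := V) K ((σ e).baseChange K (a ⊗ₜ[k] v)) i = _
    rw [LinearMap.baseChange_tmul]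
    simp only [coords, LinearEquiv.trans_apply, Finsupp.linearEquivFunOnFinite_apply,
      TensorProduct.equivFinsuppOfBasisLeft_apply_tmul_apply, map_smul]
  | add x y hx hy =>
    rw [map_add, map_add, Pi.add_apply, hx, hy, map_add, Pi.add_apply, map_add]

theorem card_baseChange [Finite V] :
    Nat.card (K ⊗[k] V) = Nat.card V ^ Module.finrank k K := by
  rw [Nat.card_congr (coords (V := V) K).toEquiv, Nat.card_fun, Nat.card_fin]

theorem finite_baseChange [Finite V] : Finite (K ⊗[k] V) :=
  Finite.of_equiv _ (coords (V := V) K).toEquiv.symm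

theorem card_fixed_baseChange [Finite V] :
    Nat.card {x : K ⊗[k] V // ∀ e : E, S K σ e x = x}
      = Nat.card {v : V // ∀ e : E, σ e v = v} ^ Module.finrank k K := by
  let Θ : {x : K ⊗[k] V // ∀ e : E, S K σ e x = x}
      ≃ (Fin (Module.finrank k K) → {v : V // ∀ e : E, σ e v = v}) :=
    { toFun := fun x i => ⟨coords K x.1 i, fun e => by rw [← coords_S, x.2 e]⟩
      invFun := fun f => ⟨(coords K).symm (fun i => (f i).1), fun e => by
        apply (coords (V := V) K).injective
        funext i
        rw [coords_S, LinearEquiv.apply_symm_apply]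
        exact (f i).2 e⟩
      left_inv := fun x => by
        apply Subtype.ext
        simp
      right_inv := fun f => by
        funext i
        apply Subtype.ext
        simp }
  rw [Nat.card_congr Θ, Nat.card_fun, Nat.card_fin]

end Transfer

/-- **Abelian core lemma.** A finite abelian group `A` of order prime to the characteristic acts
on the finite module `V` without nonzero fixed vectors, and the finite group `E` acts on `V`
normalising the action of `A`, inducing a fixed-point-free action on `A`.  Then
`#C_V(E) ^ #E = #V`. -/
theorem abelian_core {k : Type*} [Field k] [Finite k] {V : Type*} [AddCommGroup V] [Module k V]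
    [Finite V] {A : Type*} [CommGroup A] [Finite A] {E : Type*} [Group E] [Finite E]
    (τ : A →* Module.End k V) (σ : E →* Module.End k V) (α : E →* MulAut A)
    (hcompat : ∀ (e : E) (a : A), σ e * τ a = τ (α e a) * σ e)
    (hfpf : ∀ e : E, e ≠ 1 → ∀ a : A, α e a = a → a = 1)
    (hA : ((Nat.card A : ℕ) : k) ≠ 0)
    (hC : ∀ v : V, (∀ a : A, τ a v = v) → v = 0) :
    Nat.card {v : V // ∀ e : E, σ e v = v} ^ Nat.card E = Nat.card V := by
  classical
  letI := Fintype.ofFinite A
  letI := Fintype.ofFinite E
  haveI : NeZero (Nat.card A) := ⟨Nat.card_pos.ne'⟩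
  haveI : NeZero ((Nat.card A : ℕ) : k) := ⟨hA⟩
  haveI : IsCyclotomicExtension {Nat.card A} k (CyclotomicField (Nat.card A) k) :=
    CyclotomicField.isCyclotomicExtension (Nat.card A) k
  haveI : FiniteDimensional k (CyclotomicField (Nat.card A) k) :=
    IsCyclotomicExtension.finiteDimensional {Nat.card A} k (CyclotomicField (Nat.card A) k)
  haveI : Finite (CyclotomicField (Nat.card A) k) := Module.finite_of_finite k
  have hζ := IsCyclotomicExtension.zeta_spec (Nat.card A) k (CyclotomicField (Nat.card A) k)
  haveI : HasEnoughRootsOfUnity (CyclotomicField (Nat.card A) k) (Nat.card A) :=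
    ⟨⟨_, hζ⟩, inferInstance⟩
  haveI : HasEnoughRootsOfUnity (CyclotomicField (Nat.card A) k) (Monoid.exponent A) :=
    HasEnoughRootsOfUnity.of_dvd (CyclotomicField (Nat.card A) k) (Group.exponent_dvd_nat_card)
  haveI := finite_baseChange (k := k) (V := V) (CyclotomicField (Nat.card A) k)
  have hnK : (Fintype.card A : CyclotomicField (Nat.card A) k) ≠ 0 := by
    rw [← Nat.card_eq_fintype_card]
    have : ((Nat.card A : ℕ) : CyclotomicField (Nat.card A) k)
        = algebraMap k (CyclotomicField (Nat.card A) k) ((Nat.card A : ℕ) : k) := by simp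
    rw [this]
    exact (map_ne_zero _).mpr hA
  have h1 := card_baseChange_eq (CyclotomicField (Nat.card A) k) τ σ α hcompat hfpf hnK hC
  rw [card_baseChange, card_fixed_baseChange, ← pow_mul, mul_comm, pow_mul] at h1
  have hd : Module.finrank k (CyclotomicField (Nat.card A) k) ≠ 0 := Module.finrank_pos.ne'
  exact (Nat.pow_left_injective hd h1).symm

end Cfsg.Agent.Helper1.FrobMod
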