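import Mathlib
import Cfsg.Agent.Lib.Helper1.FrobModC
import Cfsg.Agent.Lib.Helper1.FpfAut

set_option autoImplicit false

/-!
# Frobenius groups acting on modules, part D: irreducible modules for a Frobenius group
-/

namespace Cfsg.Agent.Helper1.FrobMod

open scoped BigOperators

section Module

variable {k : Type*} [Field k] {V : Type*} [AddCommGroup V] [Module k V]
variable {Γ : Type*} [Group Γ] (ρ : Γ →* Module.End k V) (U E : Subgroup Γ)

theorem rho_mul_inv (g : Γ) : ρ g * ρ g⁻¹ = 1 := by rw [← map_mul, mul_inv_cancel, map_one]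

theorem rho_inv_mul (g : Γ) : ρ g⁻¹ * ρ g = 1 := by rw [← map_mul, inv_mul_cancel, map_one]

/-- The elements of `U` whose image commutes with the image of `U`. -/
def zsub : Subgroup Γ where
  carrier := {z | z ∈ U ∧ ∀ u ∈ U, ρ z * ρ u = ρ u * ρ z}
  mul_mem' := by
    rintro a b ⟨ha, ha'⟩ ⟨hb, hb'⟩
    refine ⟨U.mul_mem ha hb, fun u hu => ?_⟩
    rw [map_mul, mul_assoc, hb' u hu, ← mul_assoc, ha' u hu, mul_assoc]
  one_mem' := ⟨U.one_mem, fun u _ => by rw [map_one, one_mul, mul_one]⟩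
  inv_mem' := by
    rintro a ⟨ha, ha'⟩
    refine ⟨U.inv_mem ha, fun u hu => ?_⟩
    calc ρ a⁻¹ * ρ u = ρ a⁻¹ * ρ u * (ρ a * ρ a⁻¹) := by rw [rho_mul_inv, mul_one]
      _ = ρ a⁻¹ * (ρ u * ρ a) * ρ a⁻¹ := by simp only [mul_assoc]
      _ = ρ a⁻¹ * (ρ a * ρ u) * ρ a⁻¹ := by rw [ha' u hu]
      _ = (ρ a⁻¹ * ρ a) * ρ u * ρ a⁻¹ := by simp only [mul_assoc]
      _ = ρ u * ρ a⁻¹ := by rw [rho_inv_mul, one_mul]

theorem mem_zsub {z : Γ} : z ∈ zsub ρ U ↔ z ∈ U ∧ ∀ u ∈ U, ρ z * ρ u = ρ u * ρ z := Iff.rfl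

theorem zsub_le : zsub ρ U ≤ U := fun _ h => h.1

theorem exists_zsub_ne_one (hnil : Group.IsNilpotent U) {u₀ : Γ} (hu₀ : u₀ ∈ U) (h : ρ u₀ ≠ 1) :
    ∃ z ∈ zsub ρ U, ρ z ≠ 1 := by
  let f : U →* (Module.End k V)ˣ := (ρ.comp U.subtype).toHomUnits
  have hf : ∀ u : U, ((f u : (Module.End k V)ˣ) : Module.End k V) = ρ u := fun u => rfl
  haveI : Group.IsNilpotent f.range := nilpotent_of_surjective f.rangeRestrict f.rangeRestrict_surjective
  haveI : Nontrivial f.range := by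
    refine ⟨⟨⟨f ⟨u₀, hu₀⟩, ⟨_, rfl⟩⟩, 1, ?_⟩⟩
    intro h1
    apply h
    have h2 := congrArg (fun x : f.range => ((x : (Module.End k V)ˣ) : Module.End k V)) h1
    simpa [hf] using h2
  have hc := Group.IsNilpotent.center_ne_bot (G := f.range)
  obtain ⟨⟨⟨c, u, rfl⟩, hcc⟩, hc1⟩ := (Subgroup.ne_bot_iff_exists_ne_one).mp hc
  refine ⟨u, ⟨u.2, fun u' hu' => ?_⟩, ?_⟩
  · have h1 := (Subgroup.mem_center_iff.mp hcc) ⟨f ⟨u', hu'⟩, ⟨_, rfl⟩⟩
    have h2 := congrArg (fun x : f.range => ((x : (Module.End k V)ˣ) : Module.End k V)) h1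
    simp only [Subgroup.coe_mul, Units.val_mul, hf] at h2
    exact h2.symm
  · intro h1
    apply hc1
    apply Subtype.ext
    apply Subtype.ext
    apply Units.ext
    show ((f u : (Module.End k V)ˣ) : Module.End k V) = 1
    rw [hf]; exact h1

theorem rho_conj_of_mem_zsub {u z : Γ} (hu : u ∈ U) (hz : z ∈ zsub ρ U) :
    ρ (u * z * u⁻¹) = ρ z := by
  rw [map_mul, map_mul, ← hz.2 u hu, mul_assoc, rho_mul_inv, mul_one]

theorem conj_mem_zsub_of_mem {u z : Γ} (hu : u ∈ U) (hz : z ∈ zsub ρ U) :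
    u * z * u⁻¹ ∈ zsub ρ U := by
  refine ⟨U.mul_mem (U.mul_mem hu hz.1) (U.inv_mem hu), fun u' hu' => ?_⟩
  rw [rho_conj_of_mem_zsub ρ U hu hz]
  exact hz.2 u' hu'

theorem conj_mem_zsub_of_mem_E (hEU : ∀ e ∈ E, ∀ u ∈ U, e * u * e⁻¹ ∈ U) {e z : Γ} (he : e ∈ E)
    (hz : z ∈ zsub ρ U) : e * z * e⁻¹ ∈ zsub ρ U := by
  refine ⟨hEU e he z hz.1, fun u' hu' => ?_⟩
  have hw : e⁻¹ * u' * e ∈ U := by
    have := hEU e⁻¹ (E.inv_mem he) u' hu'
    rwa [inv_inv] at this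
  have e1 : e * z * e⁻¹ * u' = e * (z * (e⁻¹ * u' * e)) * e⁻¹ := by group
  have e2 : u' * (e * z * e⁻¹) = e * ((e⁻¹ * u' * e) * z) * e⁻¹ := by group
  rw [← map_mul, ← map_mul, e1, e2, map_mul, map_mul, map_mul ρ z, hz.2 _ hw, ← map_mul ρ _ z,
    ← map_mul, ← map_mul]

/-- The fixed vectors of a subgroup, as a submodule. -/
def fixSub (S : Subgroup Γ) : Submodule k V where
  carrier := {v | ∀ s ∈ S, ρ s v = v}
  add_mem' := by
    intro a b ha hb s hs
    rw [map_add, ha s hs, hb s hs]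
  zero_mem' := fun s _ => map_zero _
  smul_mem' := by
    intro c v hv s hs
    rw [map_smul, hv s hs]

theorem mem_fixSub {S : Subgroup Γ} {v : V} : v ∈ fixSub ρ S ↔ ∀ s ∈ S, ρ s v = v := Iff.rfl

theorem rho_mem_fixSub {S : Subgroup Γ} {g : Γ} (hg : ∀ s ∈ S, g⁻¹ * s * g ∈ S) {v : V}
    (hv : v ∈ fixSub ρ S) : ρ g v ∈ fixSub ρ S := by
  intro s hs
  have e1 : s * g = g * (g⁻¹ * s * g) := by group
  rw [← Module.End.mul_apply, ← map_mul, e1, map_mul, Module.End.mul_apply, hv _ (hg s hs)]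

theorem rho_eq_one_of_conj [Finite Γ] (hEU : ∀ e ∈ E, ∀ u ∈ U, e * u * e⁻¹ ∈ U)
    (hfpf : ∀ e ∈ E, e ≠ 1 → ∀ u ∈ U, e * u = u * e → u = 1) {e : Γ} (he : e ∈ E) (he1 : e ≠ 1)
    {u : Γ} (hu : u ∈ U) (h : ρ (e * u * e⁻¹) = ρ u) : ρ u = 1 := by
  have hInv : Fpf.Inv (MulAut.conj e) U := fun x hx => by
    rw [MulAut.conj_apply]; exact hEU e he x hx
  set φ : U ≃* U := Fpf.restrict (MulAut.conj e) U hInv with hφ
  have hφa : ∀ x : U, ((φ x : U) : Γ) = e * x * e⁻¹ := fun x => rfl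
  have hfp : MonoidHom.FixedPointFree φ := by
    intro x hx
    have h1 : e * (x : Γ) * e⁻¹ = x := by rw [← hφa, hx]
    have h2 : e * (x : Γ) = x * e := by
      calc e * (x : Γ) = (e * x * e⁻¹) * e := by group
        _ = x * e := by rw [h1]
    exact Subtype.ext (hfpf e he he1 x x.2 h2)
  let K₀ : Subgroup U := (ρ.comp U.subtype).ker
  have hK : Fpf.Inv φ K₀ := by
    intro x hx
    rw [MonoidHom.mem_ker] at hx ⊢
    simp only [MonoidHom.coe_comp, Function.comp_apply, Subgroup.coe_subtype] at hx ⊢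
    rw [hφa, map_mul, map_mul, hx, mul_one, rho_mul_inv]
  have hq := Fpf.quot_fpf hfp K₀ hK
  have h1 : Fpf.quot φ K₀ hK ((⟨u, hu⟩ : U) : U ⧸ K₀) = ((⟨u, hu⟩ : U) : U ⧸ K₀) := by
    rw [Fpf.quot_mk, QuotientGroup.eq, MonoidHom.mem_ker]
    simp only [MonoidHom.coe_comp, Function.comp_apply, Subgroup.coe_subtype, Subgroup.coe_mul,
      Subgroup.coe_inv]
    rw [hφa, map_mul]
    show ρ (e * u * e⁻¹)⁻¹ * ρ u = 1
    rw [← h, rho_inv_mul]
  have h2 := hq _ h1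
  rw [QuotientGroup.eq_one_iff, MonoidHom.mem_ker] at h2
  exact h2

end Module

section Main

variable {k : Type*} [Field k] [Finite k] {V : Type*} [AddCommGroup V] [Module k V] [Finite V]
variable {Γ : Type*} [Group Γ] [Finite Γ] (ρ : Γ →* Module.End k V) (U E : Subgroup Γ)

theorem natCast_ne_zero_of_dvd {d n : ℕ} (hdn : d ∣ n) (hn : ((n : ℕ) : k) ≠ 0) :
    ((d : ℕ) : k) ≠ 0 := by
  obtain ⟨m, rfl⟩ := hdn
  intro h
  apply hn
  rw [Nat.cast_mul, h, zero_mul]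

/-- If the "central" part of `U` has no nonzero fixed vector, then `#C_V(E) ^ #E = #V`. -/
theorem card_fixed_pow_of_fixSub_zsub_eq_bot
    (hEU : ∀ e ∈ E, ∀ u ∈ U, e * u * e⁻¹ ∈ U)
    (hfpf : ∀ e ∈ E, e ≠ 1 → ∀ u ∈ U, e * u = u * e → u = 1)
    (hUk : ((Nat.card U : ℕ) : k) ≠ 0)
    (hW : fixSub ρ (zsub ρ U) = ⊥) :
    Nat.card {v : V // ∀ e ∈ E, ρ e v = v} ^ Nat.card E = Nat.card V := by
  classical
  let ρu : Γ →* (Module.End k V)ˣ := ρ.toHomUnits
  have hρu : ∀ g : Γ, ((ρu g : (Module.End k V)ˣ) : Module.End k V) = ρ g := fun g => rfl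
  haveI : Finite (Module.End k V) := DFunLike.finite _
  let A : Subgroup (Module.End k V)ˣ := (zsub ρ U).map ρu
  letI : CommGroup A :=
    { (inferInstance : Group A) with
      mul_comm := by
        rintro ⟨_, a, ha, rfl⟩ ⟨_, b, hb, rfl⟩
        apply Subtype.ext
        apply Units.ext
        show ρ a * ρ b = ρ b * ρ a
        exact ha.2 b hb.1 }
  let τ : A →* Module.End k V := (Units.coeHom (Module.End k V)).comp A.subtype
  let σ : E →* Module.End k V := ρ.comp E.subtype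
  have hInv : ∀ e : E, Fpf.Inv (MulAut.conj (ρu e)) A := by
    rintro e _ ⟨z, hz, rfl⟩
    refine ⟨(e : Γ) * z * (e : Γ)⁻¹, conj_mem_zsub_of_mem_E ρ U E hEU e.2 hz, ?_⟩
    rw [MulAut.conj_apply, map_mul, map_mul, map_inv]
  let α : E →* MulAut A :=
    { toFun := fun e => Fpf.restrict (MulAut.conj (ρu e)) A (hInv e)
      map_one' := by
        apply MulEquiv.ext
        intro x
        apply Subtype.ext
        show ((Fpf.restrict (MulAut.conj (ρu ((1 : E) : Γ))) A (hInv 1) x : A) : (Module.End k V)ˣ)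
          = x
        rw [Fpf.restrict_apply]
        simp
      map_mul' := by
        intro e f
        apply MulEquiv.ext
        intro x
        apply Subtype.ext
        show ((Fpf.restrict (MulAut.conj (ρu ((e * f : E) : Γ))) A (hInv (e * f)) x : A) :
          (Module.End k V)ˣ) = _
        rw [Fpf.restrict_apply, MulAut.mul_apply, Fpf.restrict_apply, Fpf.restrict_apply]
        simp [map_mul] }
  have hα : ∀ (e : E) (a : A), ((α e a : A) : (Module.End k V)ˣ) = ρu e * a * (ρu e)⁻¹ :=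
    fun e a => rfl
  have hcompat : ∀ (e : E) (a : A), σ e * τ a = τ (α e a) * σ e := by
    intro e a
    show ρ e * ((a : (Module.End k V)ˣ) : Module.End k V)
      = (((α e a : A) : (Module.End k V)ˣ) : Module.End k V) * ρ e
    rw [hα, Units.val_mul, Units.val_mul, hρu, mul_assoc, mul_assoc, ← hρu, Units.inv_mul,
      mul_one]
  have hfpf' : ∀ e : E, e ≠ 1 → ∀ a : A, α e a = a → a = 1 := by
    rintro e he ⟨_, z, hz, rfl⟩ h
    have h1 := congrArg (fun x : A => ((x : (Module.End k V)ˣ) : Module.End k V)) h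
    simp only [hα] at h1
    have h2 : ρ ((e : Γ) * z * (e : Γ)⁻¹) = ρ z := by
      rw [map_mul, map_mul]
      rw [Units.val_mul, Units.val_mul, hρu, hρu] at h1
      have h3 : (((ρu (e : Γ))⁻¹ : (Module.End k V)ˣ) : Module.End k V) = ρ (e : Γ)⁻¹ := by
        rw [← map_inv]; rfl
      rw [h3] at h1
      exact h1
    have he1 : (e : Γ) ≠ 1 := fun h => he (Subtype.ext h)
    have h3 := rho_eq_one_of_conj ρ U E hEU hfpf e.2 he1 hz.1 h2
    apply Subtype.ext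
    apply Units.ext
    show ρ z = 1
    exact h3
  have hA : ((Nat.card A : ℕ) : k) ≠ 0 := by
    apply natCast_ne_zero_of_dvd _ hUk
    exact (Subgroup.card_map_dvd _ _).trans (Subgroup.card_dvd_of_le (zsub_le ρ U))
  have hC : ∀ v : V, (∀ a : A, τ a v = v) → v = 0 := by
    intro v hv
    have : v ∈ fixSub ρ (zsub ρ U) := by
      intro z hz
      exact hv ⟨ρu z, z, hz, rfl⟩
    rw [hW] at this
    exact (Submodule.mem_bot k).mp this
  have h1 := abelian_core τ σ α hcompat hfpf' hA hC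
  have e1 : {v : V // ∀ e : E, σ e v = v} ≃ {v : V // ∀ e ∈ E, ρ e v = v} :=
    Equiv.subtypeEquivRight (fun v => ⟨fun h e he => h ⟨e, he⟩, fun h e => h e e.2⟩)
  rw [Nat.card_congr e1] at h1
  exact h1

/-- **Irreducible modules for a Frobenius group `UE`** (with nilpotent kernel `U` of order prime to
the characteristic): the fixed-point formula. -/
theorem frob_module_irred
    (hEU : ∀ e ∈ E, ∀ u ∈ U, e * u * e⁻¹ ∈ U)
    (hfpf : ∀ e ∈ E, e ≠ 1 → ∀ u ∈ U, e * u = u * e → u = 1)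
    (hnil : Group.IsNilpotent U)
    (hUk : ((Nat.card U : ℕ) : k) ≠ 0)
    (hirr : ∀ W : Submodule k V, (∀ u ∈ U, ∀ w ∈ W, ρ u w ∈ W) → (∀ e ∈ E, ∀ w ∈ W, ρ e w ∈ W) →
      W = ⊥ ∨ W = ⊤) :
    Nat.card {v : V // (∀ u ∈ U, ρ u v = v) ∧ ∀ e ∈ E, ρ e v = v} ^ Nat.card E * Nat.card V
      = Nat.card {v : V // ∀ e ∈ E, ρ e v = v} ^ Nat.card E
        * Nat.card {v : V // ∀ u ∈ U, ρ u v = v} := by
  by_cases h : ∀ u ∈ U, ρ u = 1
  · have e1 : {v : V // (∀ u ∈ U, ρ u v = v) ∧ ∀ e ∈ E, ρ e v = v} ≃ {v : V // ∀ e ∈ E, ρ e v = v} :=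
      Equiv.subtypeEquivRight (fun v => ⟨fun hh => hh.2, fun hh => ⟨fun u hu => by
        rw [h u hu]; rfl, hh⟩⟩)
    have e2 : {v : V // ∀ u ∈ U, ρ u v = v} ≃ V :=
      Equiv.subtypeUnivEquiv (fun v u hu => by rw [h u hu]; rfl)
    rw [Nat.card_congr e1, Nat.card_congr e2]
  · push Not at h
    obtain ⟨u₀, hu₀, hne⟩ := h
    obtain ⟨z, hz, hz1⟩ := exists_zsub_ne_one ρ U hnil hu₀ hne
    have hUinv : ∀ u ∈ U, ∀ w ∈ fixSub ρ (zsub ρ U), ρ u w ∈ fixSub ρ (zsub ρ U) := by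
      intro u hu w hw
      apply rho_mem_fixSub ρ _ hw
      intro s hs
      have := conj_mem_zsub_of_mem ρ U (U.inv_mem hu) hs
      rwa [inv_inv] at this
    have hEinv : ∀ e ∈ E, ∀ w ∈ fixSub ρ (zsub ρ U), ρ e w ∈ fixSub ρ (zsub ρ U) := by
      intro e he w hw
      apply rho_mem_fixSub ρ _ hw
      intro s hs
      have := conj_mem_zsub_of_mem_E ρ U E hEU (E.inv_mem he) hs
      rwa [inv_inv] at this
    have hW : fixSub ρ (zsub ρ U) = ⊥ := by
      rcases hirr (fixSub ρ (zsub ρ U)) hUinv hEinv with h0 | h0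
      · exact h0
      · exfalso
        apply hz1
        ext v
        have : v ∈ fixSub ρ (zsub ρ U) := by rw [h0]; trivial
        exact this z hz
    have h1 := card_fixed_pow_of_fixSub_zsub_eq_bot ρ U E hEU hfpf hUk hW
    have hzero : ∀ v : V, (∀ u ∈ U, ρ u v = v) → v = 0 := by
      intro v hv
      have : v ∈ fixSub ρ (zsub ρ U) := fun s hs => hv s hs.1
      rw [hW] at this
      exact (Submodule.mem_bot k).mp this
    have h2 : Nat.card {v : V // ∀ u ∈ U, ρ u v = v} = 1 := by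
      rw [Nat.card_eq_one_iff_unique]
      refine ⟨⟨fun a b => ?_⟩, ⟨⟨0, fun u _ => map_zero _⟩⟩⟩
      apply Subtype.ext
      rw [hzero a a.2, hzero b b.2]
    have h3 : Nat.card {v : V // (∀ u ∈ U, ρ u v = v) ∧ ∀ e ∈ E, ρ e v = v} = 1 := by
      rw [Nat.card_eq_one_iff_unique]
      refine ⟨⟨fun a b => ?_⟩, ⟨⟨0, fun u _ => map_zero _, fun e _ => map_zero _⟩⟩⟩
      apply Subtype.ext
      rw [hzero a a.2.1, hzero b b.2.1]
    rw [h2, h3, one_pow, one_mul, mul_one, h1]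

end Main

end Cfsg.Agent.Helper1.FrobMod
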