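import Mathlib
import Cfsg.Agent.Lib.Helper1.FrobModD
import Cfsg.Agent.Lib.Helper1.Coprime
import Cfsg.Agent.Lib.Helper1.CommutatorBasic
import Cfsg.Agent.Lib.Helper1.FpfThompson

set_option autoImplicit false

/-!
# Frobenius groups acting on modules, part E: multiplicative sections
-/

namespace Cfsg.Agent.Helper1.FrobMod

section Mul

variable {Γ : Type*} [Group Γ] [Finite Γ] {Vm : Type*} [CommGroup Vm] [Finite Vm]

theorem frob_section_aux (p : ℕ) [Fact p.Prime] [Module (ZMod p) (Additive Vm)]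
    (ψ : Γ →* MulAut Vm) (U E : Subgroup Γ)
    (hEU : ∀ e ∈ E, ∀ u ∈ U, e * u * e⁻¹ ∈ U)
    (hfpf : ∀ e ∈ E, e ≠ 1 → ∀ u ∈ U, e * u = u * e → u = 1)
    (hnil : Group.IsNilpotent U)
    (hpU : ¬ p ∣ Nat.card U)
    (hirr : ∀ W : Subgroup Vm, (∀ u ∈ U, ∀ w ∈ W, ψ u w ∈ W) → (∀ e ∈ E, ∀ w ∈ W, ψ e w ∈ W) →
      W = ⊥ ∨ W = ⊤) :
    Nat.card {v : Vm // (∀ u ∈ U, ψ u v = v) ∧ ∀ e ∈ E, ψ e v = v} ^ Nat.card E * Nat.card Vm
      = Nat.card {v : Vm // ∀ e ∈ E, ψ e v = v} ^ Nat.card E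
        * Nat.card {v : Vm // ∀ u ∈ U, ψ u v = v} := by
  let L : Γ → (Additive Vm →ₗ[ZMod p] Additive Vm) := fun γ =>
    AddMonoidHom.toZModLinearMap p (MonoidHom.toAdditive (ψ γ).toMonoidHom)
  have hcoe : ∀ (γ : Γ) (v : Additive Vm),
      L γ v = Additive.ofMul (ψ γ (Additive.toMul v)) := fun γ v => by
    show (AddMonoidHom.toZModLinearMap p (MonoidHom.toAdditive (ψ γ).toMonoidHom)) v = _
    rw [AddMonoidHom.coe_toZModLinearMap]; rfl
  let ρ : Γ →* Module.End (ZMod p) (Additive Vm) :=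
    { toFun := L
      map_one' := by
        apply LinearMap.ext
        intro v
        rw [hcoe, map_one]
        rfl
      map_mul' := by
        intro a b
        apply LinearMap.ext
        intro v
        rw [Module.End.mul_apply, hcoe, hcoe, hcoe, map_mul]
        rfl }
  have hρ : ∀ γ v, ρ γ v = Additive.ofMul (ψ γ (Additive.toMul v)) := fun γ v => hcoe γ v
  have hUk : ((Nat.card U : ℕ) : ZMod p) ≠ 0 := by
    intro h0
    rw [ZMod.natCast_eq_zero_iff] at h0
    exact hpU h0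
  have hirr' : ∀ W : Submodule (ZMod p) (Additive Vm), (∀ u ∈ U, ∀ w ∈ W, ρ u w ∈ W) →
      (∀ e ∈ E, ∀ w ∈ W, ρ e w ∈ W) → W = ⊥ ∨ W = ⊤ := by
    intro W hWU hWE
    let W' : Subgroup Vm :=
      { carrier := {v | Additive.ofMul v ∈ W}
        mul_mem' := fun {a b} ha hb => W.add_mem ha hb
        one_mem' := W.zero_mem
        inv_mem' := fun {a} ha => W.neg_mem ha }
    have hW'mem : ∀ v, v ∈ W' ↔ Additive.ofMul v ∈ W := fun v => Iff.rfl
    rcases hirr W' (fun u hu w hw => hWU u hu _ hw) (fun e he w hw => hWE e he _ hw) with h | h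
    · left
      rw [Submodule.eq_bot_iff]
      intro w hw
      have : Additive.toMul w ∈ W' := hw
      rw [h, Subgroup.mem_bot] at this
      exact this
    · right
      rw [Submodule.eq_top_iff']
      intro w
      have : Additive.toMul w ∈ W' := by rw [h]; exact Subgroup.mem_top _
      exact this
  have main := frob_module_irred ρ U E hEU hfpf hnil hUk hirr'
  have e0 : Nat.card (Additive Vm) = Nat.card Vm := Nat.card_congr Additive.toMul
  have e1 : Nat.card {v : Additive Vm // (∀ u ∈ U, ρ u v = v) ∧ ∀ e ∈ E, ρ e v = v}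
      = Nat.card {v : Vm // (∀ u ∈ U, ψ u v = v) ∧ ∀ e ∈ E, ψ e v = v} :=
    Nat.card_congr (Additive.toMul.subtypeEquiv (fun v => Iff.rfl))
  have e2 : Nat.card {v : Additive Vm // ∀ e ∈ E, ρ e v = v}
      = Nat.card {v : Vm // ∀ e ∈ E, ψ e v = v} :=
    Nat.card_congr (Additive.toMul.subtypeEquiv (fun v => Iff.rfl))
  have e3 : Nat.card {v : Additive Vm // ∀ u ∈ U, ρ u v = v}
      = Nat.card {v : Vm // ∀ u ∈ U, ψ u v = v} :=
    Nat.card_congr (Additive.toMul.subtypeEquiv (fun v => Iff.rfl))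
  rw [e0, e1, e2, e3] at main
  exact main

/-- **Irreducible abelian sections for a Frobenius group `UE`**, multiplicative form. -/
theorem frob_section (ψ : Γ →* MulAut Vm) (U E : Subgroup Γ)
    (hEU : ∀ e ∈ E, ∀ u ∈ U, e * u * e⁻¹ ∈ U)
    (hfpf : ∀ e ∈ E, e ≠ 1 → ∀ u ∈ U, e * u = u * e → u = 1)
    (hnil : Group.IsNilpotent U)
    (hcop : (Nat.card Vm).Coprime (Nat.card U))
    (hirr : ∀ W : Subgroup Vm, (∀ u ∈ U, ∀ w ∈ W, ψ u w ∈ W) → (∀ e ∈ E, ∀ w ∈ W, ψ e w ∈ W) →
      W = ⊥ ∨ W = ⊤) :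
    Nat.card {v : Vm // (∀ u ∈ U, ψ u v = v) ∧ ∀ e ∈ E, ψ e v = v} ^ Nat.card E * Nat.card Vm
      = Nat.card {v : Vm // ∀ e ∈ E, ψ e v = v} ^ Nat.card E
        * Nat.card {v : Vm // ∀ u ∈ U, ψ u v = v} := by
  by_cases h1 : Nat.card Vm = 1
  · haveI : Subsingleton Vm := (Nat.card_eq_one_iff_unique.mp h1).1
    have key : ∀ P : Vm → Prop, P 1 → Nat.card {v : Vm // P v} = 1 := fun P hP =>
      Nat.card_eq_one_iff_unique.mpr ⟨inferInstance, ⟨⟨1, hP⟩⟩⟩
    rw [key _ ⟨fun u _ => map_one _, fun e _ => map_one _⟩, key _ (fun e _ => map_one _),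
      key _ (fun u _ => map_one _), h1]
  -- the prime `p`
  have hp : (Nat.card Vm).minFac.Prime := Nat.minFac_prime h1
  set p := (Nat.card Vm).minFac with hpdef
  haveI : Fact p.Prime := ⟨hp⟩
  have hpV : p ∣ Nat.card Vm := Nat.minFac_dvd _
  obtain ⟨x, hx⟩ := exists_prime_orderOf_dvd_card' p hpV
  -- exponent `p`
  have hexp : ∀ v : Vm, v ^ p = 1 := by
    have hW := hirr (powMonoidHom p : Vm →* Vm).ker
      (fun u _ w hw => by
        rw [MonoidHom.mem_ker, powMonoidHom_apply] at hw ⊢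
        rw [← map_pow, hw, map_one])
      (fun e _ w hw => by
        rw [MonoidHom.mem_ker, powMonoidHom_apply] at hw ⊢
        rw [← map_pow, hw, map_one])
    rcases hW with hW | hW
    · exfalso
      have hxm : x ∈ (powMonoidHom p : Vm →* Vm).ker := by
        rw [MonoidHom.mem_ker, powMonoidHom_apply, ← hx, pow_orderOf_eq_one]
      rw [hW, Subgroup.mem_bot] at hxm
      rw [hxm, orderOf_one] at hx
      exact hp.one_lt.ne hx
    · intro v
      have : v ∈ (powMonoidHom p : Vm →* Vm).ker := by rw [hW]; exact Subgroup.mem_top v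
      rwa [MonoidHom.mem_ker, powMonoidHom_apply] at this
  letI : Module (ZMod p) (Additive Vm) := AddCommGroup.zmodModule (n := p) (fun x => by
    rw [← ofMul_toMul x, ← ofMul_pow, hexp, ofMul_one])
  have hpU : ¬ p ∣ Nat.card U := by
    intro h0
    have := Nat.dvd_gcd hpV h0
    rw [hcop.gcd_eq_one] at this
    exact hp.one_lt.ne' (Nat.dvd_one.mp this)
  exact frob_section_aux p ψ U E hEU hfpf hnil hpU hirr

end Mul

section Grp

open Subgroup
open scoped commutatorElement

variable {X : Type*} [Group X] [Finite X]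

theorem inv_conj (K M : Subgroup X) (h : K ≤ normalizer (M : Set X)) (x : ↥K) :
    Fpf.Inv (MulAut.conj (x : X)) M := fun m hm => by
  rw [MulAut.conj_apply]; exact (Subgroup.mem_normalizer_iff.mp (h x.2) m).mp hm

/-- The conjugation action of `K` on a subgroup `M` it normalises. -/
noncomputable def conjM (K M : Subgroup X) (h : K ≤ normalizer (M : Set X)) : ↥K →* MulAut ↥M where
  toFun x := Fpf.restrict (MulAut.conj (x : X)) M (inv_conj K M h x)
  map_one' := by
    apply MulEquiv.ext; intro m; apply Subtype.ext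
    rw [Fpf.restrict_apply]; simp
  map_mul' := by
    intro a b; apply MulEquiv.ext; intro m; apply Subtype.ext
    rw [MulAut.mul_apply, Fpf.restrict_apply, Fpf.restrict_apply, Fpf.restrict_apply]
    simp [mul_assoc]

theorem conjM_coe (K M : Subgroup X) (h : K ≤ normalizer (M : Set X)) (x : ↥K) (m : ↥M) :
    ((conjM K M h x m : ↥M) : X) = x * m * (x : X)⁻¹ := rfl

theorem inv_conjM (K M L : Subgroup X) (hM : K ≤ normalizer (M : Set X))
    (hL : K ≤ normalizer (L : Set X)) (x : ↥K) :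
    Fpf.Inv (conjM K M hM x) (L.subgroupOf M) := fun m hm => by
  rw [Subgroup.mem_subgroupOf] at hm ⊢
  rw [conjM_coe]
  exact (Subgroup.mem_normalizer_iff.mp (hL x.2) m).mp hm

/-- The conjugation action of `K` on a section `M / L` it normalises. -/
noncomputable def conjQ (K M L : Subgroup X) (hM : K ≤ normalizer (M : Set X))
    (hL : K ≤ normalizer (L : Set X)) [(L.subgroupOf M).Normal] :
    ↥K →* MulAut (↥M ⧸ L.subgroupOf M) where
  toFun x := Fpf.quot (conjM K M hM x) (L.subgroupOf M) (inv_conjM K M L hM hL x)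
  map_one' := by
    apply MulEquiv.ext; intro v
    induction v using QuotientGroup.induction_on with
    | H m =>
      rw [Fpf.quot_mk, map_one]
      rfl
  map_mul' := by
    intro a b
    apply MulEquiv.ext; intro v
    induction v using QuotientGroup.induction_on with
    | H m =>
      rw [MulAut.mul_apply, Fpf.quot_mk, Fpf.quot_mk, Fpf.quot_mk, map_mul]
      rfl

theorem conjQ_mk (K M L : Subgroup X) (hM : K ≤ normalizer (M : Set X))
    (hL : K ≤ normalizer (L : Set X)) [(L.subgroupOf M).Normal] (x : ↥K) (m : ↥M) :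
    conjQ K M L hM hL x (m : ↥M ⧸ L.subgroupOf M)
      = ((conjM K M hM x m : ↥M) : ↥M ⧸ L.subgroupOf M) := rfl

/-- Fixed points of a coprime action on a section. -/
theorem card_cent_section (K M L : Subgroup X) (hM : K ≤ normalizer (M : Set X))
    (hL : K ≤ normalizer (L : Set X)) (hLM : L ≤ M) [(L.subgroupOf M).Normal]
    (S : Subgroup X) (hSK : S ≤ K) (hcop : (Nat.card S).Coprime (Nat.card L))
    (hsolv : Group.IsSolvable L) :
    Nat.card ↥(M ⊓ centralizer (S : Set X))
      = Nat.card ↥(L ⊓ centralizer (S : Set X))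
        * Nat.card {v : ↥M ⧸ L.subgroupOf M //
            ∀ s ∈ S.subgroupOf K, conjQ K M L hM hL s v = v} := by
  let f : ↥(M ⊓ centralizer (S : Set X)) →* (↥M ⧸ L.subgroupOf M) :=
    (QuotientGroup.mk' (L.subgroupOf M)).comp (Subgroup.inclusion inf_le_left)
  have hf : ∀ c : ↥(M ⊓ centralizer (S : Set X)),
      f c = ((⟨c, c.2.1⟩ : ↥M) : ↥M ⧸ L.subgroupOf M) := fun c => rfl
  have hker : f.ker = (L ⊓ centralizer (S : Set X)).subgroupOf (M ⊓ centralizer (S : Set X)) := by
    ext c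
    rw [MonoidHom.mem_ker, hf, QuotientGroup.eq_one_iff, Subgroup.mem_subgroupOf,
      Subgroup.mem_subgroupOf, Subgroup.mem_inf]
    constructor
    · intro h; exact ⟨h, c.2.2⟩
    · intro h; exact h.1
  have hrange : ∀ v, v ∈ f.range ↔ ∀ s ∈ S.subgroupOf K, conjQ K M L hM hL s v = v := by
    intro v
    constructor
    · rintro ⟨c, rfl⟩ s hs
      rw [hf, conjQ_mk]
      congr 1
      apply Subtype.ext
      rw [conjM_coe]
      have := (Subgroup.mem_centralizer_iff.mp c.2.2) (s : X) hs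
      show (s : X) * (c : X) * (s : X)⁻¹ = c
      rw [this]; group
    · intro hv
      induction v using QuotientGroup.induction_on with
      | H m =>
        have hx : ∀ a ∈ S, (m : X)⁻¹ * a * m * a⁻¹ ∈ L := by
          intro a ha
          have h1 := hv ⟨a, hSK ha⟩ (Subgroup.mem_subgroupOf.mpr ha)
          rw [conjQ_mk, QuotientGroup.eq, Subgroup.mem_subgroupOf] at h1
          have h2 : (a * m * a⁻¹)⁻¹ * (m : X) ∈ L := h1
          have h3 := L.inv_mem h2
          have e : ((a * m * a⁻¹)⁻¹ * (m : X))⁻¹ = (m : X)⁻¹ * a * m * a⁻¹ := by group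
          rwa [e] at h3
        obtain ⟨c, hc, hcL⟩ := exists_centralizer_mem_coset L S (hSK.trans hL) hcop
          (Or.inr hsolv) (m : X) hx
        have hcM : c ∈ M := by
          have : c = m * ((m : X)⁻¹ * c) := by group
          rw [this]; exact M.mul_mem m.2 (hLM hcL)
        refine ⟨⟨c, Subgroup.mem_inf.mpr ⟨hcM, hc⟩⟩, ?_⟩
        rw [hf]
        symm
        rw [QuotientGroup.eq, Subgroup.mem_subgroupOf]
        exact hcL
  have h1 := f.ker.card_mul_index
  rw [Subgroup.index_ker, hker,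
    Cfsg.Agent.S0001.card_subgroupOf_of_le (inf_le_inf_right _ hLM)] at h1
  rw [← h1]
  congr 1
  exact Nat.card_congr (Equiv.subtypeEquivRight hrange)

/-- Induction over a chief-type series: the fixed point formula for a Frobenius group `K = UE`
acting coprimely on a solvable group `M`. -/
theorem frob_solvable_aux (U E K : Subgroup X) (hUK : U ≤ K) (hEK : E ≤ K)
    (hsup : ∀ x ∈ K, ∃ u ∈ U, ∃ e ∈ E, x = u * e)
    (hEU : ∀ e ∈ E, ∀ u ∈ U, e * u * e⁻¹ ∈ U)
    (hfpf : ∀ e ∈ E, e ≠ 1 → ∀ u ∈ U, e * u = u * e → u = 1)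
    (hnil : Group.IsNilpotent U) :
    ∀ (n : ℕ) (M : Subgroup X), Nat.card M = n → K ≤ normalizer (M : Set X) →
      Group.IsSolvable M → (Nat.card M).Coprime (Nat.card K) →
      Nat.card ↥(M ⊓ centralizer (K : Set X)) ^ Nat.card E * Nat.card M
        = Nat.card ↥(M ⊓ centralizer (E : Set X)) ^ Nat.card E
          * Nat.card ↥(M ⊓ centralizer (U : Set X)) := by
  intro n
  induction n using Nat.strong_induction_on with
  | _ n ih =>
  intro M hn hMn hMs hMc
  by_cases hM1 : M = ⊥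
  · subst hM1
    simp
  -- the family of invariant proper subgroups containing the derived subgroup
  let P : Subgroup X → Prop := fun L =>
    L ≤ M ∧ L ≠ M ∧ ⁅M, M⁆ ≤ L ∧ K ≤ normalizer (L : Set X)
  have hD : P ⁅M, M⁆ := by
    refine ⟨Subgroup.commutator_le_self M, ?_, le_rfl,
      le_trans (le_inf hMn hMn) (normalizer_inf_normalizer_le_normalizer_commutator M M)⟩
    intro h
    haveI : Nontrivial M := (Subgroup.nontrivial_iff_ne_bot M).mpr hM1
    have h1 : commutator M < ⊤ := Group.IsSolvable.commutator_lt_top_of_nontrivial M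
    apply ne_of_lt h1
    rw [eq_top_iff]
    intro x _
    have hx : (x : X) ∈ ⁅M, M⁆ := by rw [h]; exact x.2
    rw [← Subgroup.map_subtype_commutator] at hx
    obtain ⟨y, hy, hyx⟩ := hx
    have : y = x := Subtype.ext hyx
    rw [← this]; exact hy
  obtain ⟨L, -, hLmax⟩ := Finite.exists_le_maximal hD
  obtain ⟨hLM, hLne, hDL, hLn⟩ := hLmax.prop
  haveI hnorm : (L.subgroupOf M).Normal := by
    constructor
    intro n hn g
    rw [Subgroup.mem_subgroupOf] at hn ⊢
    have h1 : ⁅(g : X), (n : X)⁆ ∈ L := hDL (Subgroup.commutator_mem_commutator g.2 n.2)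
    have e : ((g * n * g⁻¹ : ↥M) : X) = ⁅(g : X), (n : X)⁆ * n := by
      simp only [commutatorElement_def, Subgroup.coe_mul, Subgroup.coe_inv]; group
    rw [e]; exact L.mul_mem h1 hn
  letI : CommGroup (↥M ⧸ L.subgroupOf M) :=
    { (inferInstance : Group (↥M ⧸ L.subgroupOf M)) with
      mul_comm := by
        intro a b
        induction a using QuotientGroup.induction_on with
        | H a =>
        induction b using QuotientGroup.induction_on with
        | H b =>
        rw [← QuotientGroup.mk_mul, ← QuotientGroup.mk_mul, QuotientGroup.eq,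
          Subgroup.mem_subgroupOf]
        have h1 : ⁅(b : X)⁻¹, (a : X)⁻¹⁆ ∈ L :=
          hDL (Subgroup.commutator_mem_commutator (M.inv_mem b.2) (M.inv_mem a.2))
        have e : (((a * b)⁻¹ * (b * a) : ↥M) : X) = ⁅(b : X)⁻¹, (a : X)⁻¹⁆ := by
          simp only [commutatorElement_def, Subgroup.coe_mul, Subgroup.coe_inv]; group
        rw [e]; exact h1 }
  have hsup' : ∀ x : ↥K, ∃ u ∈ U.subgroupOf K, ∃ e ∈ E.subgroupOf K, x = u * e := by
    intro x
    obtain ⟨u, hu, e, he, hx⟩ := hsup x x.2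
    exact ⟨⟨u, hUK hu⟩, hu, ⟨e, hEK he⟩, he, Subtype.ext hx⟩
  have hEU' : ∀ e ∈ E.subgroupOf K, ∀ u ∈ U.subgroupOf K, e * u * e⁻¹ ∈ U.subgroupOf K :=
    fun e he u hu => by
      rw [Subgroup.mem_subgroupOf] at he hu ⊢
      exact hEU _ he _ hu
  have hfpf' : ∀ e ∈ E.subgroupOf K, e ≠ 1 → ∀ u ∈ U.subgroupOf K, e * u = u * e → u = 1 :=
    fun e he he1 u hu hc => by
      rw [Subgroup.mem_subgroupOf] at he hu
      apply Subtype.ext
      exact hfpf _ he (fun h => he1 (Subtype.ext h)) _ hu (congrArg Subtype.val hc)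
  have hnil' : Group.IsNilpotent ↥(U.subgroupOf K) :=
    (Group.isNilpotent_congr (Subgroup.subgroupOfEquivOfLe hUK)).mpr hnil
  have hcardV : Nat.card ↥M = Nat.card (↥M ⧸ L.subgroupOf M) * Nat.card L := by
    rw [Subgroup.card_eq_card_quotient_mul_card_subgroup (L.subgroupOf M),
      Cfsg.Agent.S0001.card_subgroupOf_of_le hLM]
  have hcop' : (Nat.card (↥M ⧸ L.subgroupOf M)).Coprime (Nat.card ↥(U.subgroupOf K)) := by
    have h1 : Nat.card (↥M ⧸ L.subgroupOf M) ∣ Nat.card M := ⟨_, hcardV⟩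
    have h2 : Nat.card ↥(U.subgroupOf K) ∣ Nat.card ↥K := Subgroup.card_subgroup_dvd_card _
    exact Nat.Coprime.coprime_dvd_left h1 (Nat.Coprime.coprime_dvd_right h2 hMc)
  have hirr' : ∀ W : Subgroup (↥M ⧸ L.subgroupOf M),
      (∀ u ∈ U.subgroupOf K, ∀ w ∈ W, conjQ K M L hMn hLn u w ∈ W) →
      (∀ e ∈ E.subgroupOf K, ∀ w ∈ W, conjQ K M L hMn hLn e w ∈ W) → W = ⊥ ∨ W = ⊤ := by
    intro W hWU hWE
    have hWK : ∀ x : ↥K, ∀ w ∈ W, conjQ K M L hMn hLn x w ∈ W := by
      intro x w hw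
      obtain ⟨u, hu, e, he, rfl⟩ := hsup' x
      rw [map_mul, MulAut.mul_apply]
      exact hWU u hu _ (hWE e he w hw)
    let Q : Subgroup X := (W.comap (QuotientGroup.mk' (L.subgroupOf M))).map M.subtype
    have hQmem : ∀ x, x ∈ Q ↔ ∃ hx : x ∈ M, ((⟨x, hx⟩ : ↥M) : ↥M ⧸ L.subgroupOf M) ∈ W := by
      intro x
      constructor
      · rintro ⟨m, hm, rfl⟩
        exact ⟨m.2, hm⟩
      · rintro ⟨hx, hw⟩
        exact ⟨⟨x, hx⟩, hw, rfl⟩
    have hQM : Q ≤ M := fun x hx => ((hQmem x).mp hx).1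
    have hLQ : L ≤ Q := by
      intro x hx
      rw [hQmem]
      refine ⟨hLM hx, ?_⟩
      have : ((⟨x, hLM hx⟩ : ↥M) : ↥M ⧸ L.subgroupOf M) = 1 := by
        rw [QuotientGroup.eq_one_iff, Subgroup.mem_subgroupOf]; exact hx
      rw [this]; exact W.one_mem
    have hQn : K ≤ normalizer (Q : Set X) := by
      apply le_normalizer_of_forall_conj_mem
      intro g hg x hx
      obtain ⟨hxM, hw⟩ := (hQmem x).mp hx
      rw [hQmem]
      have hgx : g * x * g⁻¹ ∈ M := (Subgroup.mem_normalizer_iff.mp (hMn hg) x).mp hxM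
      have h1 := hWK ⟨g, hg⟩ _ hw
      rw [conjQ_mk] at h1
      have h2 : (conjM K M hMn ⟨g, hg⟩ ⟨x, hxM⟩ : ↥M) = ⟨g * x * g⁻¹, hgx⟩ :=
        Subtype.ext (conjM_coe K M hMn ⟨g, hg⟩ ⟨x, hxM⟩)
      rw [h2] at h1
      exact ⟨hgx, h1⟩
    by_cases hQeq : Q = M
    · right
      rw [eq_top_iff]
      intro w _
      induction w using QuotientGroup.induction_on with
      | H m =>
        have : (m : X) ∈ Q := by rw [hQeq]; exact m.2
        obtain ⟨_, hw⟩ := (hQmem _).mp this
        exact hw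
    · left
      have hQP : P Q := ⟨hQM, hQeq, hDL.trans hLQ, hQn⟩
      have hQL : Q ≤ L := hLmax.2 hQP hLQ
      rw [eq_bot_iff]
      intro w hw
      induction w using QuotientGroup.induction_on with
      | H m =>
        rw [Subgroup.mem_bot, QuotientGroup.eq_one_iff, Subgroup.mem_subgroupOf]
        apply hQL
        rw [hQmem]
        exact ⟨m.2, hw⟩
  have hFS := frob_section (conjQ K M L hMn hLn) (U.subgroupOf K) (E.subgroupOf K)
    hEU' hfpf' hnil' hcop' hirr'
  rw [Cfsg.Agent.S0001.card_subgroupOf_of_le hEK] at hFS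
  -- the inductive hypothesis
  have hLs : Group.IsSolvable L := solvable_of_solvable_injective (Subgroup.inclusion_injective hLM)
  have hLdvd : Nat.card L ∣ Nat.card M := Subgroup.card_dvd_of_le hLM
  have hLcard : Nat.card L < n := by
    rw [← hn]
    rcases Nat.lt_or_ge (Nat.card L) (Nat.card M) with h | h
    · exact h
    · exact absurd (Subgroup.eq_of_le_of_card_ge hLM h) hLne
  have hLc : (Nat.card L).Coprime (Nat.card K) := Nat.Coprime.coprime_dvd_left hLdvd hMc
  have hIH := ih (Nat.card L) hLcard L rfl hLn hLs hLc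
  -- the section formulas
  have hsK := card_cent_section K M L hMn hLn hLM K le_rfl hLc.symm hLs
  have hsE := card_cent_section K M L hMn hLn hLM E hEK
    (Nat.Coprime.coprime_dvd_left (Subgroup.card_dvd_of_le hEK) hLc.symm) hLs
  have hsU := card_cent_section K M L hMn hLn hLM U hUK
    (Nat.Coprime.coprime_dvd_left (Subgroup.card_dvd_of_le hUK) hLc.symm) hLs
  have eK : Nat.card {v : ↥M ⧸ L.subgroupOf M //
        ∀ s ∈ K.subgroupOf K, conjQ K M L hMn hLn s v = v}
      = Nat.card {v : ↥M ⧸ L.subgroupOf M //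
        (∀ u ∈ U.subgroupOf K, conjQ K M L hMn hLn u v = v) ∧
          ∀ e ∈ E.subgroupOf K, conjQ K M L hMn hLn e v = v} := by
    apply Nat.card_congr
    apply Equiv.subtypeEquivRight
    intro v
    constructor
    · intro h
      exact ⟨fun u _ => h u (Subgroup.mem_subgroupOf.mpr u.2),
        fun e _ => h e (Subgroup.mem_subgroupOf.mpr e.2)⟩
    · intro h s _
      obtain ⟨u, hu, e, he, rfl⟩ := hsup' s
      rw [map_mul, MulAut.mul_apply, h.2 e he, h.1 u hu]
  rw [eK] at hsK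
  rw [hsK, hsE, hsU, hcardV]
  generalize Nat.card ↥(L ⊓ centralizer (K : Set X)) = a at *
  generalize Nat.card ↥(L ⊓ centralizer (E : Set X)) = b at *
  generalize Nat.card ↥(L ⊓ centralizer (U : Set X)) = c at *
  generalize Nat.card {v : ↥M ⧸ L.subgroupOf M //
        (∀ u ∈ U.subgroupOf K, conjQ K M L hMn hLn u v = v) ∧
          ∀ e ∈ E.subgroupOf K, conjQ K M L hMn hLn e v = v} = f at *
  generalize Nat.card {v : ↥M ⧸ L.subgroupOf M //
        ∀ e ∈ E.subgroupOf K, conjQ K M L hMn hLn e v = v} = g at *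
  generalize Nat.card {v : ↥M ⧸ L.subgroupOf M //
        ∀ u ∈ U.subgroupOf K, conjQ K M L hMn hLn u v = v} = h at *
  generalize Nat.card (↥M ⧸ L.subgroupOf M) = v at *
  generalize Nat.card ↥L = l at *
  generalize Nat.card ↥E = d at *
  calc (a * f) ^ d * (v * l) = (a ^ d * l) * (f ^ d * v) := by rw [mul_pow]; ring
    _ = (b ^ d * c) * (g ^ d * h) := by rw [hIH, hFS]
    _ = (b * g) ^ d * (c * h) := by rw [mul_pow]; ring

/-- The kernel of a Frobenius-type action is nilpotent (Thompson). -/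
theorem nilpotent_kernel (U E : Subgroup X) (hE1 : E ≠ ⊥)
    (hUn : ∀ e ∈ E, ∀ u ∈ U, e * u * e⁻¹ ∈ U)
    (hfpf : ∀ e ∈ E, e ≠ 1 → ∀ u ∈ U, e * u = u * e → u = 1) : Group.IsNilpotent U := by
  have hEcard : Nat.card E ≠ 1 := fun h => hE1 (Subgroup.card_eq_one.mp h)
  obtain ⟨r, hr, hrdvd⟩ := Nat.exists_prime_and_dvd hEcard
  haveI : Fact r.Prime := ⟨hr⟩
  obtain ⟨h, hh⟩ := exists_prime_orderOf_dvd_card' r hrdvd
  have hh1 : (h : X) ≠ 1 := by
    intro e
    have : h = 1 := Subtype.ext e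
    rw [this, orderOf_one] at hh
    exact hr.one_lt.ne hh
  have hhr : (h : X) ^ r = 1 := by
    have := pow_orderOf_eq_one h
    rw [hh] at this
    have h2 := congrArg Subtype.val this
    simpa using h2
  have hinv : Fpf.Inv (MulAut.conj (h : X)) U := fun u hu => by
    rw [MulAut.conj_apply]; exact hUn _ h.2 _ hu
  have hφr : (Fpf.restrict (MulAut.conj (h : X)) U hinv) ^ r = 1 :=
    Fpf.restrict_pow_eq_one _ _ _ (by rw [← map_pow, hhr, map_one])
  have hφ : MonoidHom.FixedPointFree (Fpf.restrict (MulAut.conj (h : X)) U hinv) := by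
    intro u hu
    have h2 : (h : X) * u * (h : X)⁻¹ = u := congrArg Subtype.val hu
    apply Subtype.ext
    apply hfpf _ h.2 hh1 _ u.2
    calc (h : X) * u = ((h : X) * u * (h : X)⁻¹) * h := by group
      _ = u * h := by rw [h2]
  exact Fpf.fpf_nilpotent _ hφ hr hφr

/-- **Fixed point formula** for a Frobenius group `UE` acting coprimely on a solvable group `H`:
`|C_H(UE)|^|E| |H| = |C_H(E)|^|E| |C_H(U)|`. -/
theorem frob_solvable (U E H : Subgroup X) (hE1 : E ≠ ⊥)
    (hUn : ∀ e ∈ E, ∀ u ∈ U, e * u * e⁻¹ ∈ U)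
    (hfpf : ∀ e ∈ E, e ≠ 1 → ∀ u ∈ U, e * u = u * e → u = 1)
    (hHn : ∀ x ∈ U ⊔ E, ∀ h ∈ H, x * h * x⁻¹ ∈ H)
    (hsolv : Group.IsSolvable H)
    (hcop : Nat.Coprime (Nat.card H) (Nat.card ↥(U ⊔ E))) :
    Nat.card ↥(H ⊓ centralizer ((U ⊔ E : Subgroup X) : Set X)) ^ Nat.card E * Nat.card H
      = Nat.card ↥(H ⊓ centralizer (E : Set X)) ^ Nat.card E
        * Nat.card ↥(H ⊓ centralizer (U : Set X)) := by
  have hnil := nilpotent_kernel U E hE1 hUn hfpf
  have hEnU : E ≤ normalizer (U : Set X) := le_normalizer_of_forall_conj_mem hUn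
  have hsup : ∀ x ∈ U ⊔ E, ∃ u ∈ U, ∃ e ∈ E, x = u * e := fun x hx =>
    exists_mul_of_mem_sup hEnU hx
  exact frob_solvable_aux U E (U ⊔ E) le_sup_left le_sup_right hsup hUn hfpf hnil
    (Nat.card H) H rfl (le_normalizer_of_forall_conj_mem hHn) hsolv hcop

end Grp

end Cfsg.Agent.Helper1.FrobMod
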