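import Mathlib
import Cfsg.Agent.Lib.Helper1.PiHall
import Cfsg.Agent.Lib.Helper1.FrobModE
import Cfsg.Agent.Lib.Helper7.BG121a
import Cfsg.Agent.Lib.Helper23.PSolvable
import Cfsg.Agent.Lib.Helper14.BGUniqA

/-!
# BG Theorem 15.2, group-theoretic core, part 1 (helper1)

`K` acts coprimely on the solvable group `S` with `C_S(k) = C_S(K) = K*` for all `k ∈ K#`, and `K*`
lies in a normal `q`-subgroup `Q₁` of `S K`.  Then `S / Q₁` is nilpotent (Thompson) and the Sylow
`q`-subgroup of `S` is normal.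
-/

set_option autoImplicit false

namespace Cfsg.Agent.Helper1.BG152T

open Cfsg
open Cfsg.Agent.Helper1.PiHall
open Cfsg.Agent.Helper1.FrobMod

universe u

variable {G : Type u} [Group G] [Finite G]

/-- the centralizer of the cyclic group generated by `k` is the centralizer of `k` -/
theorem centralizer_zpowers (k : G) :
    Subgroup.centralizer ((Subgroup.zpowers k : Subgroup G) : Set G) =
      Subgroup.centralizer ({k} : Set G) := by
  rw [Subgroup.zpowers_eq_closure, Subgroup.centralizer_closure]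

/-- Thompson: if `k` (of prime order `p₀`) normalizes `S` and the normal subgroup `Q₁` of `S`, acts
coprimely on `Q₁`, and `C_S(k) ≤ Q₁`, then `S / Q₁` is nilpotent. -/
theorem nilpotent_quotient_of_fixed_le {S Q₁ : Subgroup G} {k : G} {p₀ : ℕ} (hp₀ : p₀.Prime)
    (hk : k ^ p₀ = 1) (hkS : k ∈ Subgroup.normalizer (S : Set G))
    (hkQ : k ∈ Subgroup.normalizer (Q₁ : Set G)) (hQS : Q₁ ≤ S)
    [hN : (Q₁.subgroupOf S).Normal] (hcop : (Nat.card ↥(Subgroup.zpowers k)).Coprime (Nat.card ↥Q₁))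
    (hsolv : Group.IsSolvable ↥Q₁)
    (hfix : S ⊓ Subgroup.centralizer ({k} : Set G) ≤ Q₁) :
    Group.IsNilpotent (↥S ⧸ Q₁.subgroupOf S) := by
  classical
  have hKS : Subgroup.zpowers k ≤ Subgroup.normalizer (S : Set G) := Subgroup.zpowers_le.2 hkS
  have hKQ : Subgroup.zpowers k ≤ Subgroup.normalizer (Q₁ : Set G) := Subgroup.zpowers_le.2 hkQ
  obtain ⟨k', hk'⟩ : ∃ k' : ↥(Subgroup.zpowers k), k' = ⟨k, Subgroup.mem_zpowers k⟩ := ⟨_, rfl⟩
  have hcard := card_cent_section (Subgroup.zpowers k) S Q₁ hKS hKQ hQS (Subgroup.zpowers k) le_rfl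
    hcop hsolv
  have e1 : S ⊓ Subgroup.centralizer ((Subgroup.zpowers k : Subgroup G) : Set G) =
      Q₁ ⊓ Subgroup.centralizer ((Subgroup.zpowers k : Subgroup G) : Set G) := by
    apply le_antisymm
    · intro x hx
      refine Subgroup.mem_inf.2 ⟨hfix ?_, hx.2⟩
      rw [← centralizer_zpowers]
      exact hx
    · exact inf_le_inf_right _ hQS
  rw [e1] at hcard
  have hfixcard : Nat.card {v : ↥S ⧸ Q₁.subgroupOf S //
      ∀ s ∈ (Subgroup.zpowers k).subgroupOf (Subgroup.zpowers k),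
        conjQ (Subgroup.zpowers k) S Q₁ hKS hKQ s v = v} = 1 := by
    have hpos : 0 < Nat.card ↥(Q₁ ⊓ Subgroup.centralizer
      ((Subgroup.zpowers k : Subgroup G) : Set G)) := Nat.card_pos
    exact Nat.eq_of_mul_eq_mul_left hpos (by rw [mul_one]; exact hcard.symm)
  have hfpf : MonoidHom.FixedPointFree
      ((conjQ (Subgroup.zpowers k) S Q₁ hKS hKQ k' : (↥S ⧸ Q₁.subgroupOf S) ≃* _) :
        (↥S ⧸ Q₁.subgroupOf S) →* (↥S ⧸ Q₁.subgroupOf S)) := by
    intro v hv
    have hv' : conjQ (Subgroup.zpowers k) S Q₁ hKS hKQ k' v = v := hv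
    have hall : ∀ s ∈ (Subgroup.zpowers k).subgroupOf (Subgroup.zpowers k),
        conjQ (Subgroup.zpowers k) S Q₁ hKS hKQ s v = v := by
      intro s _
      obtain ⟨n, hn⟩ := Subgroup.mem_zpowers_iff.1 s.2
      have hs : s = k' ^ n := by
        apply Subtype.ext
        rw [Subgroup.coe_zpow, hk']
        exact hn.symm
      rw [hs, map_zpow]
      have hmem : conjQ (Subgroup.zpowers k) S Q₁ hKS hKQ k' ∈
          MulAction.stabilizer (MulAut (↥S ⧸ Q₁.subgroupOf S)) v := by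
        rw [MulAction.mem_stabilizer_iff]
        exact hv'
      have h2 := Subgroup.zpow_mem _ hmem n
      rw [MulAction.mem_stabilizer_iff] at h2
      exact h2
    have hone : ∀ s ∈ (Subgroup.zpowers k).subgroupOf (Subgroup.zpowers k),
        conjQ (Subgroup.zpowers k) S Q₁ hKS hKQ s (1 : ↥S ⧸ Q₁.subgroupOf S) = 1 :=
      fun s _ => map_one _
    haveI : Subsingleton {v : ↥S ⧸ Q₁.subgroupOf S //
        ∀ s ∈ (Subgroup.zpowers k).subgroupOf (Subgroup.zpowers k),
          conjQ (Subgroup.zpowers k) S Q₁ hKS hKQ s v = v} :=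
      (Nat.card_eq_one_iff_unique.1 hfixcard).1
    have h3 : (⟨v, hall⟩ : {v : ↥S ⧸ Q₁.subgroupOf S //
        ∀ s ∈ (Subgroup.zpowers k).subgroupOf (Subgroup.zpowers k),
          conjQ (Subgroup.zpowers k) S Q₁ hKS hKQ s v = v}) = ⟨1, hone⟩ := Subsingleton.elim _ _
    exact congrArg Subtype.val h3
  have hpow : (conjQ (Subgroup.zpowers k) S Q₁ hKS hKQ k') ^ p₀ = 1 := by
    rw [← map_pow]
    have h1 : k' ^ p₀ = 1 := by
      apply Subtype.ext
      rw [Subgroup.coe_pow, hk']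
      exact hk
    rw [h1, map_one]
  exact Cfsg.Agent.Helper1.Fpf.fpf_nilpotent _ hfpf hp₀ hpow

/-- if `S / Q₁` is nilpotent for a normal `q`-subgroup `Q₁` of `S`, the Sylow `q`-subgroups of `S` are
normal in `S` -/
theorem sylow_normal_of_nilpotent_quotient {S Q₁ : Subgroup G} {q : ℕ} [Fact q.Prime]
    (hQS : Q₁ ≤ S) [hN : (Q₁.subgroupOf S).Normal] (hQ₁ : IsPGroup q ↥Q₁)
    (hnil : Group.IsNilpotent (↥S ⧸ Q₁.subgroupOf S)) (P : Sylow q ↥S) :
    (P : Subgroup ↥S).Normal := by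
  have hNp : IsPGroup q ↥(Q₁.subgroupOf S) := hQ₁.comap_subtype
  have hNP : Q₁.subgroupOf S ≤ P :=
    Cfsg.Agent.Helper23.PSolv.normal_pGroup_le_sylow _ hNp P
  have hker : (QuotientGroup.mk' (Q₁.subgroupOf S)).ker ≤ (P : Subgroup ↥S) := by
    rw [QuotientGroup.ker_mk']; exact hNP
  have hidx : ((P : Subgroup ↥S).map (QuotientGroup.mk' (Q₁.subgroupOf S))).index =
      (P : Subgroup ↥S).index :=
    Subgroup.index_map_eq _ (QuotientGroup.mk'_surjective _) hker
  have hcop : (Nat.card ↥((P : Subgroup ↥S).map (QuotientGroup.mk' (Q₁.subgroupOf S)))).Coprime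
      ((P : Subgroup ↥S).map (QuotientGroup.mk' (Q₁.subgroupOf S))).index := by
    rw [hidx]
    obtain ⟨a, ha⟩ := (P.isPGroup'.map (QuotientGroup.mk' (Q₁.subgroupOf S))).exists_card_eq
    rw [ha]
    apply Nat.Coprime.pow_left
    rw [Nat.Prime.coprime_iff_not_dvd Fact.out]
    exact P.not_dvd_index
  haveI := hnil
  haveI hnorm : ((P : Subgroup ↥S).map (QuotientGroup.mk' (Q₁.subgroupOf S))).Normal :=
    Cfsg.Agent.Helper7.BG12.normal_of_isNilpotent_of_hall _ hcop
  have hcomap : ((P : Subgroup ↥S).map (QuotientGroup.mk' (Q₁.subgroupOf S))).comap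
      (QuotientGroup.mk' (Q₁.subgroupOf S)) = (P : Subgroup ↥S) :=
    Subgroup.comap_map_eq_self hker
  rw [← hcomap]
  exact Subgroup.Normal.comap hnorm _

/-- the normal Sylow `q`-subgroup of `S`, as a subgroup of `G` -/
theorem exists_normal_sylow {S Q₁ : Subgroup G} {q : ℕ} [Fact q.Prime]
    (hQS : Q₁ ≤ S) (hSQ : S ≤ Subgroup.normalizer (Q₁ : Set G)) (hQ₁ : IsPGroup q ↥Q₁)
    (hnil : ∀ [(Q₁.subgroupOf S).Normal], Group.IsNilpotent (↥S ⧸ Q₁.subgroupOf S)) :
    ∃ Q : Subgroup G, Q₁ ≤ Q ∧ Q ≤ S ∧ IsPGroup q ↥Q ∧ ¬ q ∣ Q.relIndex S ∧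
      Subgroup.normalizer (S : Set G) ≤ Subgroup.normalizer (Q : Set G) := by
  haveI hN : (Q₁.subgroupOf S).Normal := (Subgroup.normal_subgroupOf_iff_le_normalizer hQS).2 hSQ
  obtain ⟨P⟩ : Nonempty (Sylow q ↥S) := inferInstance
  haveI hPn : (P : Subgroup ↥S).Normal := sylow_normal_of_nilpotent_quotient hQS hQ₁ hnil P
  have hNp : IsPGroup q ↥(Q₁.subgroupOf S) := hQ₁.comap_subtype
  have hNP : Q₁.subgroupOf S ≤ P :=
    Cfsg.Agent.Helper23.PSolv.normal_pGroup_le_sylow _ hNp P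
  have hsub : ((P : Subgroup ↥S).map S.subtype).subgroupOf S = (P : Subgroup ↥S) := by
    unfold Subgroup.subgroupOf
    exact Subgroup.comap_map_eq_self_of_injective S.subtype_injective _
  have hQp : IsPGroup q ↥((P : Subgroup ↥S).map S.subtype) := P.isPGroup'.map S.subtype
  have hrel : ¬ q ∣ ((P : Subgroup ↥S).map S.subtype).relIndex S := by
    unfold Subgroup.relIndex
    rw [hsub]
    exact P.not_dvd_index
  have hSn : S ≤ Subgroup.normalizer (((P : Subgroup ↥S).map S.subtype : Subgroup G) : Set G) :=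
    Cfsg.Agent.Helper14.BGUniq.le_normalizer_map_subtype S (P : Subgroup ↥S)
  refine ⟨(P : Subgroup ↥S).map S.subtype, ?_, Subgroup.map_subtype_le _, hQp, hrel, ?_⟩
  · calc Q₁ = (Q₁.subgroupOf S).map S.subtype := (Subgroup.map_subgroupOf_eq_of_le hQS).symm
      _ ≤ (P : Subgroup ↥S).map S.subtype := Subgroup.map_mono hNP
  · intro g hg
    apply mem_normalizer_of_map_conj_le
    have hHall : IsPiHallOf {r | r = q} ((P : Subgroup ↥S).map S.subtype) S := by
      refine ⟨Subgroup.map_subtype_le _, ?_, ?_⟩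
      · intro p hp hd
        obtain ⟨a, ha⟩ := hQp.exists_card_eq
        rw [ha] at hd
        exact (Nat.prime_dvd_prime_iff_eq hp Fact.out).1 (hp.dvd_of_dvd_pow hd)
      · intro p _ hpq hd
        have hpq' : p = q := hpq
        rw [hpq'] at hd
        exact hrel hd
    apply le_of_isPiHallOf_of_le_normalizer hHall hSn
    · rintro _ ⟨y, hy, rfl⟩
      exact (Subgroup.mem_normalizer_iff.1 hg y).1 (Subgroup.map_subtype_le _ hy)
    · intro p hp hd
      rw [card_map_conj] at hd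
      obtain ⟨a, ha⟩ := hQp.exists_card_eq
      rw [ha] at hd
      exact (Nat.prime_dvd_prime_iff_eq hp Fact.out).1 (hp.dvd_of_dvd_pow hd)

end Cfsg.Agent.Helper1.BG152T
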