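import Mathlib
import Cfsg.Agent.Lib.Helper1.PiHall
import Cfsg.Agent.Lib.Helper1.FrobModE
import Cfsg.Agent.Lib.Helper7.Signalizer
import Cfsg.Agent.Lib.Helper7.BG16a
import Cfsg.Agent.Lib.Helper14.Normalize

/-!
# BG Theorem 15.2, group-theoretic core, part 2 (helper1)

`S = Q ⋊ D` with `Q` a normal Sylow `q`-subgroup, `K` acting on `S` with `C_S(k) = K*` of prime
order `q` for all `k ∈ K#`, `K* ≤ Q`, `K` normalizing `D`, and `D` not centralizing `Q`.
Then (fixed point formula for the Frobenius group `D K`): `K` has prime order `p`,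
`Q₀ = C_Q(D)` is normalized by `Q D K`, `|Q : Q₀| = q ^ p`, `Q / Q₀` is elementary abelian and no
`D K`-invariant subgroup lies strictly between `Q₀` and `Q`.
-/

set_option autoImplicit false

namespace Cfsg.Agent.Helper1.BG152T

open Cfsg
open Cfsg.Agent.Helper1.PiHall
open Cfsg.Agent.Helper1.FrobMod

universe u

variable {G : Type u} [Group G] [Finite G]

/-- the hypotheses -/
structure Ctx (S K Q D : Subgroup G) (q : ℕ) : Prop where
  hq : q.Prime
  hK1 : K ≠ ⊥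
  hQS : Q ≤ S
  hQn : S ≤ Subgroup.normalizer (Q : Set G)
  hKQ : K ≤ Subgroup.normalizer (Q : Set G)
  hQp : IsPGroup q ↥Q
  hDS : D ≤ S
  hQD : Q ⊓ D = ⊥
  hKD : K ≤ Subgroup.normalizer (D : Set G)
  hcopK : (Nat.card ↥K).Coprime (Nat.card ↥S)
  hDq : (Nat.card ↥D).Coprime q
  hPA : ∀ k ∈ K, k ≠ 1 → S ⊓ Subgroup.centralizer ({k} : Set G) =
    S ⊓ Subgroup.centralizer (K : Set G)
  hKs : Nat.card ↥(S ⊓ Subgroup.centralizer (K : Set G)) = q
  hKsQ : S ⊓ Subgroup.centralizer (K : Set G) ≤ Q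
  hnn : ¬ Q ≤ Subgroup.centralizer (D : Set G)

theorem inf_centralizer_le_centralizer_sup (A B : Subgroup G) :
    Subgroup.centralizer (A : Set G) ⊓ Subgroup.centralizer (B : Set G) ≤
      Subgroup.centralizer ((A ⊔ B : Subgroup G) : Set G) := by
  intro x hx
  have hA : A ≤ Subgroup.centralizer ({x} : Set G) := by
    intro a ha
    rw [Subgroup.mem_centralizer_iff]
    intro y hy
    rw [Set.mem_singleton_iff.1 hy]
    exact ((Subgroup.mem_centralizer_iff.1 hx.1) a ha).symm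
  have hB : B ≤ Subgroup.centralizer ({x} : Set G) := by
    intro b hb
    rw [Subgroup.mem_centralizer_iff]
    intro y hy
    rw [Set.mem_singleton_iff.1 hy]
    exact ((Subgroup.mem_centralizer_iff.1 hx.2) b hb).symm
  rw [Subgroup.mem_centralizer_iff]
  intro h hh
  have h1 := (sup_le hA hB) hh
  exact ((Subgroup.mem_centralizer_iff.1 h1) x (Set.mem_singleton x)).symm

variable {S K Q D : Subgroup G} {q : ℕ}

namespace Ctx

theorem fpf (c : Ctx S K Q D q) : ∀ k ∈ K, k ≠ 1 → ∀ d ∈ D, k * d = d * k → d = 1 := by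
  intro k hk hk1 d hd hkd
  have h1 : d ∈ S ⊓ Subgroup.centralizer ({k} : Set G) := by
    refine Subgroup.mem_inf.2 ⟨c.hDS hd, ?_⟩
    rw [Subgroup.mem_centralizer_iff]
    intro y hy
    rw [Set.mem_singleton_iff.1 hy]
    exact hkd
  rw [c.hPA k hk hk1] at h1
  have h2 : d ∈ Q ⊓ D := ⟨c.hKsQ h1, hd⟩
  rw [c.hQD] at h2
  exact Subgroup.mem_bot.1 h2

theorem conj_mem (c : Ctx S K Q D q) : ∀ e ∈ K, ∀ u ∈ D, e * u * e⁻¹ ∈ D :=
  fun e he u hu => (Subgroup.mem_normalizer_iff.1 (c.hKD he) u).1 hu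

theorem coprime_q_K (c : Ctx S K Q D q) : (Nat.card ↥K).Coprime q := by
  have h1 : q ∣ Nat.card ↥S := by
    rw [← c.hKs]; exact Subgroup.card_dvd_of_le inf_le_left
  exact Nat.Coprime.coprime_dvd_right h1 c.hcopK

/-- the fixed point formula for the Frobenius group `D E`, `E ≤ K`, acting on `H ≤ Q` -/
theorem formula (c : Ctx S K Q D q) {E : Subgroup G} (hEK : E ≤ K) (hE1 : E ≠ ⊥)
    {H : Subgroup G} (hHQ : H ≤ Q) (hDH : D ≤ Subgroup.normalizer (H : Set G))
    (hKH : K ≤ Subgroup.normalizer (H : Set G)) :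
    Nat.card ↥(H ⊓ Subgroup.centralizer ((D ⊔ E : Subgroup G) : Set G)) ^ Nat.card ↥E *
        Nat.card ↥H =
      Nat.card ↥(H ⊓ Subgroup.centralizer (E : Set G)) ^ Nat.card ↥E *
        Nat.card ↥(H ⊓ Subgroup.centralizer (D : Set G)) := by
  haveI : Fact q.Prime := ⟨c.hq⟩
  have hHp : IsPGroup q ↥H := c.hQp.to_le hHQ
  haveI : Group.IsNilpotent ↥H := hHp.isNilpotent
  have hsolv : Group.IsSolvable ↥H := inferInstance
  have hcop : Nat.Coprime (Nat.card ↥H) (Nat.card ↥(D ⊔ E)) := by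
    obtain ⟨a, ha⟩ := hHp.exists_card_eq
    rw [ha]
    apply Nat.Coprime.pow_left
    have h1 : Nat.card ↥(D ⊔ E) ∣ Nat.card ↥D * Nat.card ↥E :=
      Cfsg.Agent.Helper7.card_sup_dvd_mul_of_le_normalizer (hEK.trans c.hKD)
    apply Nat.Coprime.coprime_dvd_right h1
    apply Nat.Coprime.mul_right c.hDq.symm
    exact (Nat.Coprime.coprime_dvd_left (Subgroup.card_dvd_of_le hEK) c.coprime_q_K).symm
  have hHn : ∀ x ∈ D ⊔ E, ∀ h ∈ H, x * h * x⁻¹ ∈ H := by
    intro x hx h hh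
    have h1 : D ⊔ E ≤ Subgroup.normalizer (H : Set G) := sup_le hDH (hEK.trans hKH)
    exact (Subgroup.mem_normalizer_iff.1 (h1 hx) h).1 hh
  exact frob_solvable D E H hE1 (fun e he u hu => c.conj_mem e (hEK he) u hu)
    (fun e he he1 u hu h => c.fpf e (hEK he) he1 u hu h) hHn hsolv hcop

/-- `Q ∩ C(K) = K*` -/
theorem Q_inf_centralizer_K (c : Ctx S K Q D q) :
    Q ⊓ Subgroup.centralizer (K : Set G) = S ⊓ Subgroup.centralizer (K : Set G) :=
  le_antisymm (inf_le_inf_right _ c.hQS) (le_inf c.hKsQ inf_le_right)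

theorem D_le_normalizer_Q (c : Ctx S K Q D q) : D ≤ Subgroup.normalizer (Q : Set G) :=
  c.hDS.trans c.hQn

/-- a subgroup of `K*` has order `1` or `q` -/
theorem card_le_Ks (c : Ctx S K Q D q) {X : Subgroup G}
    (hX : X ≤ S ⊓ Subgroup.centralizer (K : Set G)) : Nat.card ↥X = 1 ∨ Nat.card ↥X = q := by
  have h1 : Nat.card ↥X ∣ q := by
    rw [← c.hKs]; exact Subgroup.card_dvd_of_le hX
  exact (Nat.dvd_prime c.hq).1 h1

theorem card_K_pos (c : Ctx S K Q D q) : 0 < Nat.card ↥K := Nat.card_pos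

/-- `C_Q(D K) = 1` and `|Q| = q ^ |K| |C_Q(D)|` -/
theorem card_Q (c : Ctx S K Q D q) :
    Q ⊓ Subgroup.centralizer ((D ⊔ K : Subgroup G) : Set G) = ⊥ ∧
      Nat.card ↥Q = q ^ Nat.card ↥K * Nat.card ↥(Q ⊓ Subgroup.centralizer (D : Set G)) := by
  have hf := c.formula le_rfl c.hK1 le_rfl c.D_le_normalizer_Q c.hKQ
  rw [c.Q_inf_centralizer_K, c.hKs] at hf
  have hX : Q ⊓ Subgroup.centralizer ((D ⊔ K : Subgroup G) : Set G) ≤
      S ⊓ Subgroup.centralizer (K : Set G) := by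
    rw [← c.Q_inf_centralizer_K]
    exact inf_le_inf_left _ (Subgroup.centralizer_le (by exact_mod_cast (le_sup_right : K ≤ D ⊔ K)))
  rcases c.card_le_Ks hX with h1 | h1
  · rw [h1, one_pow, one_mul] at hf
    exact ⟨Subgroup.card_eq_one.1 h1, hf⟩
  · exfalso
    rw [h1] at hf
    have hpos : 0 < q ^ Nat.card ↥K := Nat.pos_of_ne_zero (pow_ne_zero _ c.hq.ne_zero)
    have h2 : Nat.card ↥Q = Nat.card ↥(Q ⊓ Subgroup.centralizer (D : Set G)) :=
      Nat.eq_of_mul_eq_mul_left hpos hf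
    have h3 : Q ⊓ Subgroup.centralizer (D : Set G) = Q :=
      Subgroup.eq_of_le_of_card_ge inf_le_left (le_of_eq h2)
    apply c.hnn
    rw [← h3]
    exact inf_le_right

/-- `C_Q(D) ∩ K* = 1` -/
theorem Q₀_inf_Ks (c : Ctx S K Q D q) :
    (Q ⊓ Subgroup.centralizer (D : Set G)) ⊓ (S ⊓ Subgroup.centralizer (K : Set G)) = ⊥ := by
  rw [eq_bot_iff, ← c.card_Q.1]
  intro x hx
  refine Subgroup.mem_inf.2 ⟨hx.1.1, ?_⟩
  exact inf_centralizer_le_centralizer_sup D K ⟨hx.1.2, hx.2.2⟩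

/-- `K` has prime order -/
theorem card_K_prime (c : Ctx S K Q D q) : (Nat.card ↥K).Prime := by
  have hKcard : Nat.card ↥K ≠ 1 := fun h => c.hK1 (Subgroup.card_eq_one.1 h)
  obtain ⟨r, hr, hrdvd⟩ := Nat.exists_prime_and_dvd hKcard
  haveI : Fact r.Prime := ⟨hr⟩
  obtain ⟨k, hk⟩ := exists_prime_orderOf_dvd_card' r hrdvd
  have hk1 : (k : G) ≠ 1 := by
    intro e
    have : k = 1 := Subtype.ext e
    rw [this, orderOf_one] at hk
    exact hr.one_lt.ne hk
  have hcardE : Nat.card ↥(Subgroup.zpowers (k : G)) = r := by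
    rw [Nat.card_zpowers, Subgroup.orderOf_coe, hk]
  have hEK : Subgroup.zpowers (k : G) ≤ K := Subgroup.zpowers_le.2 k.2
  have hE1 : Subgroup.zpowers (k : G) ≠ ⊥ := by
    intro h
    rw [Subgroup.zpowers_eq_bot] at h
    exact hk1 h
  have hf := c.formula hEK hE1 le_rfl c.D_le_normalizer_Q c.hKQ
  have hcent : Q ⊓ Subgroup.centralizer ((Subgroup.zpowers (k : G) : Subgroup G) : Set G) =
      S ⊓ Subgroup.centralizer (K : Set G) := by
    have e1 : Subgroup.centralizer ((Subgroup.zpowers (k : G) : Subgroup G) : Set G) =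
        Subgroup.centralizer ({(k : G)} : Set G) := by
      rw [Subgroup.zpowers_eq_closure, Subgroup.centralizer_closure]
    rw [e1]
    apply le_antisymm
    · rw [← c.hPA k k.2 hk1]
      exact inf_le_inf_right _ c.hQS
    · rw [← c.hPA k k.2 hk1]
      refine le_inf ?_ inf_le_right
      rw [c.hPA k k.2 hk1]
      exact c.hKsQ
  have hbot : Q ⊓ Subgroup.centralizer ((D ⊔ Subgroup.zpowers (k : G) : Subgroup G) : Set G) =
      ⊥ := by
    rw [eq_bot_iff, ← c.Q₀_inf_Ks]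
    intro x hx
    have hxD : x ∈ Subgroup.centralizer (D : Set G) :=
      Subgroup.centralizer_le (by exact_mod_cast (le_sup_left : D ≤ D ⊔ Subgroup.zpowers (k : G)))
        hx.2
    have hxE : x ∈ Subgroup.centralizer ((Subgroup.zpowers (k : G) : Subgroup G) : Set G) :=
      Subgroup.centralizer_le
        (by exact_mod_cast (le_sup_right : Subgroup.zpowers (k : G) ≤ D ⊔ Subgroup.zpowers (k : G)))
        hx.2
    have hxKs : x ∈ S ⊓ Subgroup.centralizer (K : Set G) := by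
      rw [← hcent]; exact ⟨hx.1, hxE⟩
    exact ⟨⟨hx.1, hxD⟩, hxKs⟩
  rw [hcent, c.hKs, hbot, Subgroup.card_bot, one_pow, one_mul, hcardE] at hf
  have h2 := c.card_Q.2
  rw [h2] at hf
  have hpos : 0 < Nat.card ↥(Q ⊓ Subgroup.centralizer (D : Set G)) := Nat.card_pos
  have h3 : q ^ Nat.card ↥K = q ^ r := Nat.eq_of_mul_eq_mul_right hpos hf
  have h4 : Nat.card ↥K = r := Nat.pow_right_injective c.hq.two_le h3
  rw [h4]; exact hr

/-- `C_Q(D) < Q` -/
theorem Q₀_lt (c : Ctx S K Q D q) : Q ⊓ Subgroup.centralizer (D : Set G) < Q := by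
  refine lt_of_le_of_ne inf_le_left ?_
  intro h
  apply c.hnn
  rw [← h]; exact inf_le_right

theorem K_le_normalizer_Q₀ (c : Ctx S K Q D q) :
    K ≤ Subgroup.normalizer ((Q ⊓ Subgroup.centralizer (D : Set G) : Subgroup G) : Set G) :=
  Cfsg.Agent.Helper14.le_normalizer_inf c.hKQ
    (Cfsg.Agent.Helper14.le_normalizer_centralizer_of_le_normalizer c.hKD)

theorem D_le_normalizer_Q₀ (c : Ctx S K Q D q) :
    D ≤ Subgroup.normalizer ((Q ⊓ Subgroup.centralizer (D : Set G) : Subgroup G) : Set G) :=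
  Cfsg.Agent.Helper14.le_normalizer_inf c.D_le_normalizer_Q
    (Cfsg.Agent.Helper14.le_normalizer_centralizer_of_le_normalizer Subgroup.le_normalizer)

/-- **dichotomy**: a `D K`-invariant subgroup between `C_Q(D)` and `Q` is one of the two -/
theorem dichotomy (c : Ctx S K Q D q) {H : Subgroup G} (hHQ : H ≤ Q)
    (hQ₀H : Q ⊓ Subgroup.centralizer (D : Set G) ≤ H)
    (hDH : D ≤ Subgroup.normalizer (H : Set G)) (hKH : K ≤ Subgroup.normalizer (H : Set G)) :
    H = Q ⊓ Subgroup.centralizer (D : Set G) ∨ H = Q := by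
  have hf := c.formula le_rfl c.hK1 hHQ hDH hKH
  have hbot : H ⊓ Subgroup.centralizer ((D ⊔ K : Subgroup G) : Set G) = ⊥ := by
    rw [eq_bot_iff, ← c.card_Q.1]
    exact inf_le_inf_right _ hHQ
  have hHD : H ⊓ Subgroup.centralizer (D : Set G) = Q ⊓ Subgroup.centralizer (D : Set G) :=
    le_antisymm (inf_le_inf_right _ hHQ) (le_inf hQ₀H inf_le_right)
  rw [hbot, Subgroup.card_bot, one_pow, one_mul, hHD] at hf
  have hX : H ⊓ Subgroup.centralizer (K : Set G) ≤ S ⊓ Subgroup.centralizer (K : Set G) :=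
    inf_le_inf_right _ (hHQ.trans c.hQS)
  rcases c.card_le_Ks hX with h1 | h1
  · left
    rw [h1, one_pow, one_mul] at hf
    exact (Subgroup.eq_of_le_of_card_ge hQ₀H (le_of_eq hf)).symm
  · right
    rw [h1, ← c.card_Q.2] at hf
    exact Subgroup.eq_of_le_of_card_ge hHQ (le_of_eq hf.symm)

/-- `Q` normalizes `C_Q(D)` -/
theorem Q_le_normalizer_Q₀ (c : Ctx S K Q D q) :
    Q ≤ Subgroup.normalizer ((Q ⊓ Subgroup.centralizer (D : Set G) : Subgroup G) : Set G) := by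
  haveI : Fact q.Prime := ⟨c.hq⟩
  haveI : Group.IsNilpotent ↥Q := c.hQp.isNilpotent
  have hlt : (Q ⊓ Subgroup.centralizer (D : Set G)).subgroupOf Q < ⊤ := by
    rw [lt_top_iff_ne_top]
    intro h
    rw [Subgroup.subgroupOf_eq_top] at h
    exact c.Q₀_lt.ne (le_antisymm inf_le_left h)
  have hnc := Group.normalizerCondition_of_isNilpotent (G := ↥Q) _ hlt
  obtain ⟨x, hxN, hxn⟩ := SetLike.exists_of_lt hnc
  have hx1 : (x : G) ∈ Subgroup.normalizer
      ((Q ⊓ Subgroup.centralizer (D : Set G) : Subgroup G) : Set G) := by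
    apply mem_normalizer_of_map_conj_le
    rintro _ ⟨y, hy, rfl⟩
    have hy' : (⟨y, hy.1⟩ : ↥Q) ∈ (Q ⊓ Subgroup.centralizer (D : Set G)).subgroupOf Q :=
      Subgroup.mem_subgroupOf.2 hy
    have h1 := (Subgroup.mem_normalizer_iff.1 hxN _).1 hy'
    exact Subgroup.mem_subgroupOf.1 h1
  have hx2 : (x : G) ∉ Q ⊓ Subgroup.centralizer (D : Set G) := fun h =>
    hxn (Subgroup.mem_subgroupOf.2 h)
  have hN2 : ∀ {A : Subgroup G}, A ≤ Subgroup.normalizer (Q : Set G) →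
      A ≤ Subgroup.normalizer ((Q ⊓ Subgroup.centralizer (D : Set G) : Subgroup G) : Set G) →
      A ≤ Subgroup.normalizer ((Q ⊓ Subgroup.normalizer
        ((Q ⊓ Subgroup.centralizer (D : Set G) : Subgroup G) : Set G) : Subgroup G) : Set G) :=
    fun hA1 hA2 => Cfsg.Agent.Helper14.le_normalizer_inf hA1 (hA2.trans Subgroup.le_normalizer)
  rcases c.dichotomy (H := Q ⊓ Subgroup.normalizer
      ((Q ⊓ Subgroup.centralizer (D : Set G) : Subgroup G) : Set G)) inf_le_left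
      (le_inf inf_le_left Subgroup.le_normalizer)
      (hN2 c.D_le_normalizer_Q c.D_le_normalizer_Q₀) (hN2 c.hKQ c.K_le_normalizer_Q₀) with h | h
  · exfalso
    apply hx2
    rw [← h]
    exact ⟨x.2, hx1⟩
  · exact h.symm.le.trans inf_le_right

/-- a maximal subgroup of `Q` containing `C_Q(D)`, with the Frattini-type properties -/
theorem exists_maximal (c : Ctx S K Q D q) :
    ∃ Qm : Subgroup G, Q ⊓ Subgroup.centralizer (D : Set G) ≤ Qm ∧ Qm ≤ Q ∧ Qm ≠ Q ∧
      (∀ a ∈ Q, a ^ q ∈ Qm) ∧ ∀ a ∈ Q, ∀ b ∈ Q, a * b * a⁻¹ * b⁻¹ ∈ Qm := by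
  haveI : Fact q.Prime := ⟨c.hq⟩
  obtain ⟨n, hn⟩ := c.hQp.exists_card_eq
  have hleQ₀ : Q ⊓ Subgroup.centralizer (D : Set G) ≤ Q := inf_le_left
  obtain ⟨b, hb⟩ := (c.hQp.to_le hleQ₀).exists_card_eq
  have hcard := c.card_Q.2
  rw [hn, hb, ← pow_add] at hcard
  have hnb : n = Nat.card ↥K + b := Nat.pow_right_injective c.hq.two_le hcard
  have hKpos : 1 ≤ Nat.card ↥K := c.card_K_pos
  have hcardsub : Nat.card ↥((Q ⊓ Subgroup.centralizer (D : Set G)).subgroupOf Q) = q ^ b := by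
    rw [card_subgroupOf inf_le_left]; exact hb
  have hdvd : q ^ (n - 1) ∣ Nat.card ↥Q := by
    rw [hn]; exact pow_dvd_pow q (Nat.sub_le n 1)
  obtain ⟨K', hK'card, hK'le⟩ := Sylow.exists_subgroup_card_pow_prime_le q hdvd
    ((Q ⊓ Subgroup.centralizer (D : Set G)).subgroupOf Q) hcardsub (by omega)
  have hidx : K'.index = q := by
    have h1 := Subgroup.card_mul_index K'
    rw [hK'card, hn] at h1
    have h2 : q ^ (n - 1) * q = q ^ n := by
      rw [← pow_succ]; congr 1; omega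
    have hpos : 0 < q ^ (n - 1) := Nat.pos_of_ne_zero (pow_ne_zero _ c.hq.ne_zero)
    exact Nat.eq_of_mul_eq_mul_left hpos (h1.trans h2.symm)
  have hminFac : (Nat.card ↥Q).minFac = q := by
    rw [hn]; exact Nat.Prime.pow_minFac c.hq (by omega)
  haveI hK'n : K'.Normal := Subgroup.normal_of_index_eq_minFac_card (hidx.trans hminFac.symm)
  have hqcard : Nat.card (↥Q ⧸ K') = q := by
    rw [← Subgroup.index_eq_card]; exact hidx
  haveI : IsCyclic (↥Q ⧸ K') := isCyclic_of_prime_card hqcard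
  have hpowmem : ∀ x : ↥Q, x ^ q ∈ K' := by
    intro x
    rw [← QuotientGroup.eq_one_iff, QuotientGroup.mk_pow, ← hqcard]
    exact pow_card_eq_one'
  have hcommem : ∀ x y : ↥Q, x * y * x⁻¹ * y⁻¹ ∈ K' := by
    intro x y
    rw [← QuotientGroup.eq_one_iff]
    obtain ⟨g, hg⟩ := IsCyclic.exists_generator (α := ↥Q ⧸ K')
    obtain ⟨i, hi⟩ := Subgroup.mem_zpowers_iff.1 (hg (x : ↥Q ⧸ K'))
    obtain ⟨j, hj⟩ := Subgroup.mem_zpowers_iff.1 (hg (y : ↥Q ⧸ K'))
    rw [QuotientGroup.mk_mul, QuotientGroup.mk_mul, QuotientGroup.mk_mul, QuotientGroup.mk_inv,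
      QuotientGroup.mk_inv, ← hi, ← hj]
    rw [← zpow_add, ← zpow_neg, ← zpow_add, ← zpow_neg, ← zpow_add]
    have : i + j + -i + -j = 0 := by ring
    rw [this, zpow_zero]
  refine ⟨K'.map Q.subtype, ?_, Subgroup.map_subtype_le _, ?_, ?_, ?_⟩
  · calc Q ⊓ Subgroup.centralizer (D : Set G) =
          ((Q ⊓ Subgroup.centralizer (D : Set G)).subgroupOf Q).map Q.subtype :=
          (Subgroup.map_subgroupOf_eq_of_le inf_le_left).symm
      _ ≤ K'.map Q.subtype := Subgroup.map_mono hK'le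
  · intro h
    have h1 : Nat.card ↥(K'.map Q.subtype) = Nat.card ↥Q := by rw [h]
    rw [Subgroup.card_map_of_injective Q.subtype_injective, hK'card, hn] at h1
    have h2 : n - 1 = n := Nat.pow_right_injective c.hq.two_le h1
    omega
  · intro a ha
    exact ⟨⟨a, ha⟩ ^ q, hpowmem ⟨a, ha⟩, by simp⟩
  · intro a ha b' hb'
    exact ⟨⟨a, ha⟩ * ⟨b', hb'⟩ * ⟨a, ha⟩⁻¹ * ⟨b', hb'⟩⁻¹, hcommem ⟨a, ha⟩ ⟨b', hb'⟩, by simp⟩

/-- conjugation-invariant generating sets give invariant closures -/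
theorem le_normalizer_closure {A : Subgroup G} {T : Set G}
    (h : ∀ g ∈ A, ∀ t ∈ T, g * t * g⁻¹ ∈ T) :
    A ≤ Subgroup.normalizer ((Subgroup.closure T : Subgroup G) : Set G) := by
  intro g hg
  apply mem_normalizer_of_map_conj_le
  rw [MonoidHom.map_closure]
  apply Subgroup.closure_mono
  rintro _ ⟨t, ht, rfl⟩
  exact h g hg t ht

/-- `Q / C_Q(D)` is elementary abelian -/
theorem frattini_le (c : Ctx S K Q D q) :
    ∀ a ∈ Q, ∀ b ∈ Q, a ^ q ∈ Q ⊓ Subgroup.centralizer (D : Set G) ∧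
      a * b * a⁻¹ * b⁻¹ ∈ Q ⊓ Subgroup.centralizer (D : Set G) := by
  obtain ⟨Qm, hQ₀m, hmQ, hmne, hpow, hcom⟩ := c.exists_maximal
  obtain ⟨T, hT⟩ : ∃ T : Set G, T = {y | (∃ a ∈ Q, y = a ^ q) ∨
      ∃ a ∈ Q, ∃ b ∈ Q, y = a * b * a⁻¹ * b⁻¹} := ⟨_, rfl⟩
  have hTm : Subgroup.closure T ≤ Qm := by
    rw [Subgroup.closure_le, hT]
    rintro y (⟨a, ha, rfl⟩ | ⟨a, ha, b, hb, rfl⟩)
    · exact hpow a ha
    · exact hcom a ha b hb
  have hinv : ∀ {A : Subgroup G}, A ≤ Subgroup.normalizer (Q : Set G) →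
      A ≤ Subgroup.normalizer ((Subgroup.closure T : Subgroup G) : Set G) := by
    intro A hA
    apply le_normalizer_closure
    intro g hg t ht
    have hgQ : ∀ a ∈ Q, g * a * g⁻¹ ∈ Q := fun a ha =>
      (Subgroup.mem_normalizer_iff.1 (hA hg) a).1 ha
    rw [hT] at ht ⊢
    rcases ht with ⟨a, ha, rfl⟩ | ⟨a, ha, b, hb, rfl⟩
    · left
      refine ⟨g * a * g⁻¹, hgQ a ha, ?_⟩
      rw [conj_pow]
    · right
      refine ⟨g * a * g⁻¹, hgQ a ha, g * b * g⁻¹, hgQ b hb, ?_⟩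
      group
  have hH : (Q ⊓ Subgroup.centralizer (D : Set G)) ⊔ Subgroup.closure T ≤ Qm :=
    sup_le hQ₀m hTm
  rcases c.dichotomy (H := (Q ⊓ Subgroup.centralizer (D : Set G)) ⊔ Subgroup.closure T)
      (hH.trans hmQ) le_sup_left
      (Cfsg.Agent.Helper7.BG16.le_normalizer_sup c.D_le_normalizer_Q₀ (hinv c.D_le_normalizer_Q))
      (Cfsg.Agent.Helper7.BG16.le_normalizer_sup c.K_le_normalizer_Q₀ (hinv c.hKQ)) with h | h
  · have hTle : Subgroup.closure T ≤ Q ⊓ Subgroup.centralizer (D : Set G) := by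
      rw [← h]; exact le_sup_right
    intro a ha b hb
    constructor
    · apply hTle
      apply Subgroup.subset_closure
      rw [hT]
      exact Or.inl ⟨a, ha, rfl⟩
    · apply hTle
      apply Subgroup.subset_closure
      rw [hT]
      exact Or.inr ⟨a, ha, b, hb, rfl⟩
  · exfalso
    apply hmne
    apply le_antisymm hmQ
    rw [← h]
    exact hH

end Ctx

end Cfsg.Agent.Helper1.BG152T
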