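import Mathlib
import Cfsg.Agent.Lib.Helper1.BG152F
import Cfsg.Agent.Lib.Helper1.BG152G
import Cfsg.Agent.Lib.Helper20.BG12A
import Cfsg.Agent.Lib.Helper19.BG16C
import Cfsg.Agent.Lib.Helper14.BGUniqA

/-!
# BG Theorem 15.2 (c)-(e): the group-theoretic core (helper1)

`M = S K` with `S` normal, solvable, not nilpotent, `K ≠ 1` of order prime to `|S|` acting with
prime action `C_S(k) = C_S(K) =: K*` of prime order `q`, and `K*` contained in a normal
`q`-subgroup `Q₁ ≤ S` of `M`.  Then `|K|` is prime, `S` has a normal Sylow `q`-subgroup `Q`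
(normal in `M`), and for every complement `D` of `Q` in `S` the clauses of BG 15.2(e) hold.
-/

set_option autoImplicit false

namespace Cfsg.Agent.Helper1.BG152T

open Cfsg
open Cfsg.Agent.Helper1.PiHall
open Cfsg.Agent.Helper1.FrobMod

universe u

variable {G : Type u} [Group G] [Finite G]

/-- a product of two commuting nilpotent subgroups is nilpotent -/
theorem isNilpotent_of_commuting_compl {Q D S : Subgroup G} (h : IsComplIn Q D S)
    (hQ : Group.IsNilpotent ↥Q) (hD : Group.IsNilpotent ↥D)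
    (hcomm : Q ≤ Subgroup.centralizer (D : Set G)) : Group.IsNilpotent ↥S := by
  have hc : ∀ (a : ↥Q) (b : ↥D),
      Commute ((Subgroup.inclusion h.1) a) ((Subgroup.inclusion h.2.1) b) := by
    intro a b
    apply Subtype.ext
    have h1 := (Subgroup.mem_centralizer_iff.1 (hcomm a.2)) b b.2
    exact h1.symm
  have hsurj : Function.Surjective
      (MonoidHom.noncommCoprod (Subgroup.inclusion h.1) (Subgroup.inclusion h.2.1) hc) := by
    rintro ⟨s, hs⟩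
    obtain ⟨a, ha, b, hb, rfl⟩ := h.2.2.2 s hs
    refine ⟨(⟨a, ha⟩, ⟨b, hb⟩), ?_⟩
    rw [MonoidHom.noncommCoprod_apply]
    rfl
  exact Group.nilpotent_of_surjective _ hsurj

/-- intersecting a complement of `Q` in `M` with `S ≥ Q` gives a complement of `Q` in `S` -/
theorem isComplIn_inf {C' Q S M : Subgroup G} (h : IsComplIn C' Q M) (hQS : Q ≤ S)
    (hSM : S ≤ M) : IsComplIn Q (C' ⊓ S) S := by
  refine ⟨hQS, inf_le_right, ?_, ?_⟩
  · rw [eq_bot_iff, ← h.2.2.1]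
    exact le_inf (inf_le_right.trans inf_le_left) inf_le_left
  · intro s hs
    obtain ⟨c, hc, a, ha, hca⟩ := h.2.2.2 s⁻¹ (hSM (S.inv_mem hs))
    have hs' : s = a⁻¹ * c⁻¹ := by
      rw [← mul_inv_rev, ← hca, inv_inv]
    refine ⟨a⁻¹, Q.inv_mem ha, c⁻¹, ⟨C'.inv_mem hc, ?_⟩, hs'⟩
    have h1 : c⁻¹ = a * s := by rw [hs']; group
    rw [h1]
    exact S.mul_mem (hQS ha) hs

theorem fpf_of {S K Q D : Subgroup G} (hDS : D ≤ S) (hQD : Q ⊓ D = ⊥)
    (hPA : ∀ k ∈ K, k ≠ 1 → S ⊓ Subgroup.centralizer ({k} : Set G) =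
      S ⊓ Subgroup.centralizer (K : Set G))
    (hKsQ : S ⊓ Subgroup.centralizer (K : Set G) ≤ Q) :
    ∀ k ∈ K, k ≠ 1 → ∀ d ∈ D, k * d = d * k → d = 1 := by
  intro k hk hk1 d hd hkd
  have h1 : d ∈ S ⊓ Subgroup.centralizer ({k} : Set G) := by
    refine Subgroup.mem_inf.2 ⟨hDS hd, ?_⟩
    rw [Subgroup.mem_centralizer_iff]
    intro y hy
    rw [Set.mem_singleton_iff.1 hy]
    exact hkd
  rw [hPA k hk hk1] at h1
  have h2 : d ∈ Q ⊓ D := ⟨hKsQ h1, hd⟩
  rw [hQD] at h2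
  exact Subgroup.mem_bot.1 h2

/-- conjugating `D` by an element normalizing `Q` and `C_Q(D)` does not change `C_Q(D)` -/
theorem inf_centralizer_map_conj {Q D : Subgroup G} {s : G}
    (hsQ : s ∈ Subgroup.normalizer (Q : Set G))
    (hs0 : s ∈ Subgroup.normalizer
      ((Q ⊓ Subgroup.centralizer (D : Set G) : Subgroup G) : Set G)) :
    Q ⊓ Subgroup.centralizer ((D.map (MulAut.conj s).toMonoidHom : Subgroup G) : Set G) =
      Q ⊓ Subgroup.centralizer (D : Set G) := by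
  apply le_antisymm
  · intro x hx
    have hx'Q : s⁻¹ * x * s ∈ Q := by
      have h0 := (Subgroup.mem_normalizer_iff.1 (Subgroup.inv_mem _ hsQ) x).1 hx.1
      rw [inv_inv] at h0
      exact h0
    have hx'C : s⁻¹ * x * s ∈ Subgroup.centralizer (D : Set G) := by
      rw [Subgroup.mem_centralizer_iff]
      intro d hd
      have hsd : s * d * s⁻¹ ∈ D.map (MulAut.conj s).toMonoidHom :=
        Subgroup.mem_map.2 ⟨d, hd, rfl⟩
      have h1 := (Subgroup.mem_centralizer_iff.1 hx.2) _ hsd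
      calc d * (s⁻¹ * x * s) = s⁻¹ * ((s * d * s⁻¹) * x) * s := by group
        _ = s⁻¹ * (x * (s * d * s⁻¹)) * s := by rw [h1]
        _ = s⁻¹ * x * s * d := by group
    have h2 := (Subgroup.mem_normalizer_iff.1 hs0 (s⁻¹ * x * s)).1 ⟨hx'Q, hx'C⟩
    have h3 : s * (s⁻¹ * x * s) * s⁻¹ = x := by group
    rw [h3] at h2
    exact h2
  · intro x hx
    refine Subgroup.mem_inf.2 ⟨hx.1, ?_⟩
    have hx' := (Subgroup.mem_normalizer_iff.1 (Subgroup.inv_mem _ hs0) x).1 hx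
    rw [inv_inv] at hx'
    rw [Subgroup.mem_centralizer_iff]
    rintro _ ⟨d, hd, rfl⟩
    have h1 := (Subgroup.mem_centralizer_iff.1 hx'.2) d hd
    show s * d * s⁻¹ * x = x * (s * d * s⁻¹)
    calc s * d * s⁻¹ * x = s * (d * (s⁻¹ * x * s)) * s⁻¹ := by group
      _ = s * ((s⁻¹ * x * s) * d) * s⁻¹ := by rw [h1]
      _ = x * (s * d * s⁻¹) := by group

omit [Finite G] in
theorem isNilpotent_map {D : Subgroup G} (f : G →* G) (hD : Group.IsNilpotent ↥D) :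
    Group.IsNilpotent ↥(D.map f) :=
  Group.nilpotent_of_surjective (f.subgroupMap D) (f.subgroupMap_surjective D)

/-- a complement of a normal Sylow `q`-subgroup is a Hall `q'`-subgroup -/
theorem isPiHallOf_compl {Q D S : Subgroup G} {q : ℕ} (hq : q.Prime) (hQp : IsPGroup q ↥Q)
    (hrel : ¬ q ∣ Q.relIndex S) (h : IsComplIn Q D S) : IsPiHallOf {r | r ≠ q} D S := by
  haveI : Fact q.Prime := ⟨hq⟩
  have hcard := Cfsg.Agent.Helper20.BG12.card_mul_of_isComplIn h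
  have h1 := card_eq_card_mul_relIndex h.1
  have h2 := card_eq_card_mul_relIndex h.2.1
  have hrelQ : Q.relIndex S = Nat.card ↥D := by
    rw [← hcard] at h1
    exact (Nat.eq_of_mul_eq_mul_left Nat.card_pos h1).symm
  have hrelD : D.relIndex S = Nat.card ↥Q := by
    rw [← hcard, mul_comm] at h2
    exact (Nat.eq_of_mul_eq_mul_left Nat.card_pos h2).symm
  refine ⟨h.2.1, ?_, ?_⟩
  · intro p hp hd hpq
    have hpq' : p = q := hpq
    apply hrel
    rw [hrelQ, ← hpq']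
    exact hd
  · intro p hp hpq hd
    rw [hrelD] at hd
    obtain ⟨n, hn⟩ := hQp.exists_card_eq
    rw [hn] at hd
    exact hpq ((Nat.prime_dvd_prime_iff_eq hp hq).1 (hp.dvd_of_dvd_pow hd))

/-- if every complement `D` of the normal Sylow `q`-subgroup `Q` of `S` has `C_Q(D) < Q`, then `S`
has no normal `q`-complement -/
theorem not_hasNormalPComplement {S Q : Subgroup G} {q : ℕ} (hq : q.Prime) (hQS : Q ≤ S)
    (hSQ : S ≤ Subgroup.normalizer (Q : Set G)) (hQp : IsPGroup q ↥Q)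
    (hrel : ¬ q ∣ Q.relIndex S)
    (hD : ∀ D : Subgroup G, IsComplIn Q D S → Q ⊓ Subgroup.centralizer (D : Set G) < Q) :
    ¬ Cfsg.HasNormalPComplement q ↥S := by
  haveI : Fact q.Prime := ⟨hq⟩
  rintro ⟨P, N, hN, hc⟩
  haveI hQn : (Q.subgroupOf S).Normal :=
    (Subgroup.normal_subgroupOf_iff_le_normalizer hQS).2 hSQ
  have hQ'p : IsPGroup q ↥(Q.subgroupOf S) := hQp.comap_subtype
  have hPle : (P : Subgroup ↥S) ≤ Q.subgroupOf S := by
    apply le_normal_of_coprime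
    obtain ⟨n, hn⟩ := P.2.exists_card_eq
    rw [hn]
    exact Nat.Coprime.pow_left n ((Nat.Prime.coprime_iff_not_dvd hq).2 hrel)
  have hPeq : Q.subgroupOf S = (P : Subgroup ↥S) := P.is_maximal' hQ'p hPle
  have hcompl : IsComplIn ((P : Subgroup ↥S).map S.subtype) (N.map S.subtype) S :=
    Cfsg.Agent.Helper19.BG16.isComplIn_of_isComplement' hc
  rw [← hPeq, Subgroup.map_subgroupOf_eq_of_le hQS] at hcompl
  have hlt := hD _ hcompl
  have hND : S ≤ Subgroup.normalizer ((N.map S.subtype : Subgroup G) : Set G) :=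
    Cfsg.Agent.Helper14.BGUniq.le_normalizer_map_subtype S N
  apply hlt.ne
  apply le_antisymm inf_le_left
  refine le_inf le_rfl ?_
  intro a ha
  rw [Subgroup.mem_centralizer_iff]
  intro d hd
  have hdS : d ∈ S := hcompl.2.1 hd
  have h1 : a * d * a⁻¹ * d⁻¹ ∈ Q ⊓ N.map S.subtype := by
    refine ⟨?_, ?_⟩
    · have h2 : d * a⁻¹ * d⁻¹ ∈ Q :=
        (Subgroup.mem_normalizer_iff.1 (hSQ hdS) a⁻¹).1 (Q.inv_mem ha)
      have h3 : a * d * a⁻¹ * d⁻¹ = a * (d * a⁻¹ * d⁻¹) := by group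
      rw [h3]
      exact Q.mul_mem ha h2
    · have h2 : a * d * a⁻¹ ∈ N.map S.subtype :=
        (Subgroup.mem_normalizer_iff.1 (hND (hQS ha)) d).1 hd
      exact Subgroup.mul_mem _ h2 (Subgroup.inv_mem _ hd)
  rw [hcompl.2.2.1] at h1
  have h3 := Subgroup.mem_bot.1 h1
  have h4 : a * d = (a * d * a⁻¹ * d⁻¹) * (d * a) := by group
  rw [h3, one_mul] at h4
  exact h4.symm

/-- **BG 15.2 (c)-(e), core** (existence of `Q` and the structure of all complements) -/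
theorem core_aux {M S K Q₁ : Subgroup G} {q : ℕ} (hq : q.Prime) [hsolvM : Group.IsSolvable ↥M]
    (hSM : S ≤ M) (hMS : M ≤ Subgroup.normalizer (S : Set G)) (hKM : K ≤ M) (hK1 : K ≠ ⊥)
    (hMSK : M ≤ S ⊔ K) (hcop : (Nat.card ↥K).Coprime (Nat.card ↥S))
    (hnn : ¬ Group.IsNilpotent ↥S)
    (hPA : ∀ k ∈ K, k ≠ 1 → S ⊓ Subgroup.centralizer ({k} : Set G) =
      S ⊓ Subgroup.centralizer (K : Set G))
    (hKs : Nat.card ↥(S ⊓ Subgroup.centralizer (K : Set G)) = q)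
    (hQ₁p : IsPGroup q ↥Q₁) (hKsQ₁ : S ⊓ Subgroup.centralizer (K : Set G) ≤ Q₁)
    (hQ₁S : Q₁ ≤ S) (hMQ₁ : M ≤ Subgroup.normalizer (Q₁ : Set G)) :
    (Nat.card ↥K).Prime ∧
    ∃ Q : Subgroup G, Q₁ ≤ Q ∧ Q ≤ S ∧ M ≤ Subgroup.normalizer (Q : Set G) ∧ IsPGroup q ↥Q ∧
      ¬ q ∣ Q.relIndex S ∧ ¬ q ∣ Q.relIndex M ∧
      ∀ D : Subgroup G, IsComplIn Q D S →
        Group.IsNilpotent ↥D ∧
        M ≤ Subgroup.normalizer ((Q ⊓ Subgroup.centralizer (D : Set G) : Subgroup G) : Set G) ∧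
        Q ⊓ Subgroup.centralizer (D : Set G) < Q ∧
        Nat.card ↥Q = Nat.card ↥(Q ⊓ Subgroup.centralizer (D : Set G)) * q ^ Nat.card ↥K ∧
        (∀ a ∈ Q, ∀ b ∈ Q, a ^ q ∈ Q ⊓ Subgroup.centralizer (D : Set G) ∧
          a * b * a⁻¹ * b⁻¹ ∈ Q ⊓ Subgroup.centralizer (D : Set G)) ∧
        ∀ N : Subgroup G, Q ⊓ Subgroup.centralizer (D : Set G) < N → N < Q →
          ¬ M ≤ Subgroup.normalizer (N : Set G) := by
  haveI : Fact q.Prime := ⟨hq⟩
  haveI hsolvS : Group.IsSolvable ↥S :=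
    solvable_of_solvable_injective (Subgroup.inclusion_injective hSM)
  have hKNS : K ≤ Subgroup.normalizer (S : Set G) := hKM.trans hMS
  -- an element of prime order of `K`
  have hKcard : Nat.card ↥K ≠ 1 := fun h => hK1 (Subgroup.card_eq_one.1 h)
  obtain ⟨r, hr, hrdvd⟩ := Nat.exists_prime_and_dvd hKcard
  haveI : Fact r.Prime := ⟨hr⟩
  obtain ⟨k, hk⟩ := exists_prime_orderOf_dvd_card' r hrdvd
  have hk1 : (k : G) ≠ 1 := by
    intro e
    have : k = 1 := Subtype.ext e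
    rw [this, orderOf_one] at hk
    exact hr.one_lt.ne hk
  have hkr : (k : G) ^ r = 1 := by
    have h0 : k ^ r = 1 := by rw [← hk]; exact pow_orderOf_eq_one k
    have h1 := congrArg Subtype.val h0
    rw [Subgroup.coe_pow] at h1
    exact h1
  have hcopk : (Nat.card ↥(Subgroup.zpowers (k : G))).Coprime (Nat.card ↥Q₁) := by
    have h1 : Nat.card ↥(Subgroup.zpowers (k : G)) ∣ Nat.card ↥K :=
      Subgroup.card_dvd_of_le (Subgroup.zpowers_le.2 k.2)
    have h2 : Nat.card ↥Q₁ ∣ Nat.card ↥S := Subgroup.card_dvd_of_le hQ₁S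
    exact Nat.Coprime.coprime_dvd_left h1 (Nat.Coprime.coprime_dvd_right h2 hcop)
  haveI : Group.IsNilpotent ↥Q₁ := hQ₁p.isNilpotent
  have hsolvQ₁ : Group.IsSolvable ↥Q₁ := inferInstance
  have hfix : S ⊓ Subgroup.centralizer ({(k : G)} : Set G) ≤ Q₁ := by
    rw [hPA k k.2 hk1]; exact hKsQ₁
  obtain ⟨Q, hQ₁Q, hQS, hQp, hrel, hNQ⟩ := exists_normal_sylow hQ₁S (hSM.trans hMQ₁) hQ₁p
    (by
      intro hNn
      exact nilpotent_quotient_of_fixed_le hr hkr (hKNS k.2) (hKM.trans hMQ₁ k.2) hQ₁S hcopk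
        hsolvQ₁ hfix)
  have hMQ : M ≤ Subgroup.normalizer (Q : Set G) := hMS.trans hNQ
  -- orders
  have hcardM : Nat.card ↥M = Nat.card ↥S * Nat.card ↥K := by
    apply Nat.dvd_antisymm
    · exact (Subgroup.card_dvd_of_le hMSK).trans
        (Cfsg.Agent.Helper7.card_sup_dvd_mul_of_le_normalizer hKNS)
    · exact Nat.Coprime.mul_dvd_of_dvd_of_dvd hcop.symm (Subgroup.card_dvd_of_le hSM)
        (Subgroup.card_dvd_of_le hKM)
  have hqS : q ∣ Nat.card ↥S := by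
    rw [← hKs]; exact Subgroup.card_dvd_of_le inf_le_left
  have hqK : ¬ q ∣ Nat.card ↥K := fun h =>
    hq.one_lt.ne' (Nat.eq_one_of_dvd_coprimes hcop h hqS)
  have hrelM : Q.relIndex M = Q.relIndex S * Nat.card ↥K := by
    have h1 := card_eq_card_mul_relIndex (hQS.trans hSM)
    have h2 := card_eq_card_mul_relIndex hQS
    rw [hcardM, h2, mul_assoc] at h1
    exact (Nat.eq_of_mul_eq_mul_left Nat.card_pos h1).symm
  have hrelMq : ¬ q ∣ Q.relIndex M := by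
    rw [hrelM]
    intro h
    rcases (Nat.Prime.dvd_mul hq).1 h with h | h
    · exact hrel h
    · exact hqK h
  have hHallQ : IsPiHallOf {r | r = q} Q M := by
    refine ⟨hQS.trans hSM, ?_, ?_⟩
    · intro p hp hd
      obtain ⟨n, hn⟩ := hQp.exists_card_eq
      rw [hn] at hd
      exact (Nat.prime_dvd_prime_iff_eq hp hq).1 (hp.dvd_of_dvd_pow hd)
    · intro p hp hpq hd
      have hpq' : p = q := hpq
      rw [hpq'] at hd
      exact hrelMq hd
  -- a `K`-invariant complement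
  obtain ⟨C', hC', hKC', hC'π, -⟩ := exists_isComplIn_ge (π := {r | r = q}) hHallQ hMQ hKM
    (by
      intro p hp hd hpq
      have hpq' : p = q := hpq
      rw [hpq'] at hd
      exact hqK hd)
  obtain ⟨D₁, hD₁def⟩ : ∃ D₁ : Subgroup G, D₁ = C' ⊓ S := ⟨_, rfl⟩
  have hD₁ : IsComplIn Q D₁ S := by
    rw [hD₁def]; exact isComplIn_inf hC' hQS hSM
  have hKD₁ : K ≤ Subgroup.normalizer (D₁ : Set G) := by
    rw [hD₁def]
    exact Cfsg.Agent.Helper14.le_normalizer_inf (hKC'.trans Subgroup.le_normalizer) hKNS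
  have hD₁q : (Nat.card ↥D₁).Coprime q := by
    rw [Nat.coprime_comm, Nat.Prime.coprime_iff_not_dvd hq]
    intro hd
    have h1 : q ∣ Nat.card ↥C' :=
      hd.trans (Subgroup.card_dvd_of_le (by rw [hD₁def]; exact inf_le_left))
    exact hC'π q hq h1 (show q ∈ {r : ℕ | r = q} from rfl)
  have hKsQ : S ⊓ Subgroup.centralizer (K : Set G) ≤ Q := hKsQ₁.trans hQ₁Q
  have hfpf := fpf_of hD₁.2.1 hD₁.2.2.1 hPA hKsQ
  have hD₁nil : Group.IsNilpotent ↥D₁ := nilpotent_kernel D₁ K hK1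
    (fun e he u hu => (Subgroup.mem_normalizer_iff.1 (hKD₁ he) u).1 hu) hfpf
  have hQnil : Group.IsNilpotent ↥Q := hQp.isNilpotent
  have hnotc : ¬ Q ≤ Subgroup.centralizer (D₁ : Set G) := fun h =>
    hnn (isNilpotent_of_commuting_compl hD₁ hQnil hD₁nil h)
  have c : Ctx S K Q D₁ q :=
    { hq := hq, hK1 := hK1, hQS := hQS, hQn := hSM.trans hMQ, hKQ := hKM.trans hMQ, hQp := hQp,
      hDS := hD₁.2.1, hQD := hD₁.2.2.1, hKD := hKD₁, hcopK := hcop, hDq := hD₁q, hPA := hPA,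
      hKs := hKs, hKsQ := hKsQ, hnn := hnotc }
  refine ⟨c.card_K_prime, Q, hQ₁Q, hQS, hMQ, hQp, hrel, hrelMq, ?_⟩
  intro D hD
  have hH₁ := isPiHallOf_compl hq hQp hrel hD₁
  have hH := isPiHallOf_compl hq hQp hrel hD
  obtain ⟨s, hs, hconj⟩ := exists_conj_of_isPiHallOf hH₁ hH
  have hS_le : S ≤ Q ⊔ D₁ := by
    intro x hx
    obtain ⟨a, ha, b, hb, rfl⟩ := hD₁.2.2.2 x hx
    exact Subgroup.mul_mem _ (Subgroup.mem_sup_left ha) (Subgroup.mem_sup_right hb)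
  have hSN₀ : S ≤ Subgroup.normalizer
      ((Q ⊓ Subgroup.centralizer (D₁ : Set G) : Subgroup G) : Set G) :=
    hS_le.trans (sup_le c.Q_le_normalizer_Q₀ c.D_le_normalizer_Q₀)
  have heq : Q ⊓ Subgroup.centralizer (D : Set G) = Q ⊓ Subgroup.centralizer (D₁ : Set G) := by
    rw [← hconj]
    exact inf_centralizer_map_conj (c.hQn hs) (hSN₀ hs)
  have hMN₀ : M ≤ Subgroup.normalizer
      ((Q ⊓ Subgroup.centralizer (D₁ : Set G) : Subgroup G) : Set G) :=
    hMSK.trans (sup_le hSN₀ c.K_le_normalizer_Q₀)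
  have hDnil : Group.IsNilpotent ↥D := by
    rw [← hconj]; exact isNilpotent_map _ hD₁nil
  rw [heq]
  refine ⟨hDnil, hMN₀, c.Q₀_lt, ?_, c.frattini_le, ?_⟩
  · rw [c.card_Q.2, mul_comm]
  · intro N hN₀ hNQ hMN
    rcases c.dichotomy hNQ.le hN₀.le ((hD₁.2.1.trans hSM).trans hMN) (hKM.trans hMN) with h | h
    · exact hN₀.ne' h
    · exact hNQ.ne h

/-- **BG 15.2 (c)-(e), core**, with the absence of a normal `q`-complement of `S` -/
theorem core {M S K Q₁ : Subgroup G} {q : ℕ} (hq : q.Prime) [hsolvM : Group.IsSolvable ↥M]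
    (hSM : S ≤ M) (hMS : M ≤ Subgroup.normalizer (S : Set G)) (hKM : K ≤ M) (hK1 : K ≠ ⊥)
    (hMSK : M ≤ S ⊔ K) (hcop : (Nat.card ↥K).Coprime (Nat.card ↥S))
    (hnn : ¬ Group.IsNilpotent ↥S)
    (hPA : ∀ k ∈ K, k ≠ 1 → S ⊓ Subgroup.centralizer ({k} : Set G) =
      S ⊓ Subgroup.centralizer (K : Set G))
    (hKs : Nat.card ↥(S ⊓ Subgroup.centralizer (K : Set G)) = q)
    (hQ₁p : IsPGroup q ↥Q₁) (hKsQ₁ : S ⊓ Subgroup.centralizer (K : Set G) ≤ Q₁)
    (hQ₁S : Q₁ ≤ S) (hMQ₁ : M ≤ Subgroup.normalizer (Q₁ : Set G)) :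
    (Nat.card ↥K).Prime ∧ ¬ Cfsg.HasNormalPComplement q ↥S ∧
    ∃ Q : Subgroup G, Q₁ ≤ Q ∧ Q ≤ S ∧ M ≤ Subgroup.normalizer (Q : Set G) ∧ IsPGroup q ↥Q ∧
      ¬ q ∣ Q.relIndex S ∧ ¬ q ∣ Q.relIndex M ∧
      ∀ D : Subgroup G, IsComplIn Q D S →
        Group.IsNilpotent ↥D ∧
        M ≤ Subgroup.normalizer ((Q ⊓ Subgroup.centralizer (D : Set G) : Subgroup G) : Set G) ∧
        Q ⊓ Subgroup.centralizer (D : Set G) < Q ∧
        Nat.card ↥Q = Nat.card ↥(Q ⊓ Subgroup.centralizer (D : Set G)) * q ^ Nat.card ↥K ∧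
        (∀ a ∈ Q, ∀ b ∈ Q, a ^ q ∈ Q ⊓ Subgroup.centralizer (D : Set G) ∧
          a * b * a⁻¹ * b⁻¹ ∈ Q ⊓ Subgroup.centralizer (D : Set G)) ∧
        ∀ N : Subgroup G, Q ⊓ Subgroup.centralizer (D : Set G) < N → N < Q →
          ¬ M ≤ Subgroup.normalizer (N : Set G) := by
  obtain ⟨h1, Q, h2, h3, h4, h5, h6, h7, h8⟩ := core_aux hq hSM hMS hKM hK1 hMSK hcop hnn hPA hKs
    hQ₁p hKsQ₁ hQ₁S hMQ₁
  exact ⟨h1, not_hasNormalPComplement hq h3 (hSM.trans h4) h5 h6 (fun D hD => (h8 D hD).2.2.1),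
    Q, h2, h3, h4, h5, h6, h7, h8⟩

end Cfsg.Agent.Helper1.BG152T
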