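import Mathlib
import Cfsg.Agent.Lib.Helper1.PiHall
import Cfsg.Agent.Lib.Helper1.BG152
import Cfsg.Agent.Lib.Helper14.BGUniqA
import Cfsg.Agent.Lib.Helper14.Normalize
import Cfsg.Agent.Lib.Helper17.BG11X
import Cfsg.Agent.Lib.Helper22.BG127B
import Cfsg.Agent.Lib.Helper22.BG13E
import Cfsg.Agent.Lib.Helper23.BG10A
import Cfsg.Agent.Lib.Helper23.BG10H
import Cfsg.Agent.Lib.Helper19.BG152A
import Cfsg.Agent.Lib.Helper19.BG16D
import Cfsg.Agent.Lib.Helper4.BGSigA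
import Cfsg.Agent.Lib.Helper11.BG108B
import Cfsg.Agent.Lib.Helper7.TypeP
import Cfsg.Agent.Lib.Helper7.BG121a
import Cfsg.Agent.Lib.Helper7.Signalizer
import Cfsg.Agent.Lib.Helper15.SylowIn
import Cfsg.Agent.Lib.Helper21.PiSubgroup
import Cfsg.Agent.Lib.Lead.BGThmC2

/-!
# Bender–Glauberman Theorem 15.8, contrapositive form (helper1)

If `F(M)` is not a TI-subset of `G`, then some `y ∈ M_σ` of prime order `p ∈ σ(M) - β(M)` has
`C_G(y) ≰ M`; the maximal subgroup `N ≥ C_G(y)` has `M ∩ N` as a complement of `N_σ`.  From this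
datum: `M_σ` nilpotent forces `[A, A] ≤ C(M_σ)` for every `σ(M)'`-subgroup `A` of `M`, which is
impossible when `K ≠ 1 ≠ U` (S1372); and `M` has no normal Sylow `q`-subgroup, `q ∈ β(M)` (S1357).
All frozen inputs are hypotheses of the statements' shapes.
-/

set_option autoImplicit false

namespace Cfsg.Agent.Helper1.BG157

open Cfsg

universe u

variable {G : Type u} [Group G] [Finite G]

/-- replace a non-identity element by a power of prime order -/
theorem exists_prime_order {F : Subgroup G} {g x : G} (hx : x ∈ F) (hx1 : x ≠ 1)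
    (hgx : g * x * g⁻¹ ∈ F) :
    ∃ x₁ : G, x₁ ∈ F ∧ (orderOf x₁).Prime ∧ g * x₁ * g⁻¹ ∈ F := by
  have hpos : 0 < orderOf x := orderOf_pos x
  have hne1 : orderOf x ≠ 1 := fun h => hx1 (orderOf_eq_one_iff.1 h)
  have hp : (orderOf x).minFac.Prime := Nat.minFac_prime hne1
  have hdvd : (orderOf x).minFac ∣ orderOf x := Nat.minFac_dvd _
  refine ⟨x ^ (orderOf x / (orderOf x).minFac), F.pow_mem hx _, ?_, ?_⟩
  · rw [orderOf_pow_orderOf_div hpos.ne' hdvd]
    exact hp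
  · rw [← conj_pow]
    exact F.pow_mem hgx _

/-- the core of the `σ`-membership argument, for an abstract normal `p`-subgroup `P₀` of `M` -/
theorem false_of_pCore (hG : IsMinSimpleOddOrder G) {M : Subgroup G} (hM : IsCoatom M)
    (h17d : ∀ (p : ℕ) [Fact p.Prime], p ∈ tau2 M → ∀ A : Subgroup G, A ≤ M →
      IsElementaryAbelian p A → Nat.card ↥A = p ^ 2 →
      sigmaCore M ⊓ Subgroup.centralizer (A : Set G) = ⊥)
    {p : ℕ} [Fact p.Prime] (hpσ : p ∉ sigma M) {P₀ : Subgroup G} (hP₀M : P₀ ≤ M)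
    (hP₀p : IsPGroup p ↥P₀) (hMP₀ : M ≤ Subgroup.normalizer (P₀ : Set G)) {g x : G}
    (hg : g ∉ M) (hxP : x ∈ P₀) (hxo : orderOf x = p) (hyP : g * x * g⁻¹ ∈ P₀) : False := by
  have hp : p.Prime := Fact.out
  have hpG : p ∣ Nat.card G := by
    have := orderOf_dvd_natCard x
    rwa [hxo] at this
  have hodd : Odd p := Odd.of_dvd_nat hG.1 hpG
  have hx1 : x ≠ 1 := by
    intro h
    rw [h, orderOf_one] at hxo
    exact hp.one_lt.ne hxo
  have hMσ : sigmaCore M ≤ M := Cfsg.Agent.Helper14.BGTrans.piCoreOf_le (sigma M) M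
  have hMn : M ≤ Subgroup.normalizer ((sigmaCore M : Subgroup G) : Set G) :=
    Cfsg.Agent.Helper14.BGTrans.le_normalizer_piCoreOf (sigma M) M
  have hr2 : PRankLE p 2 ↥M := by
    by_contra h
    exact hpσ (Cfsg.Agent.Helper23.BG10.alpha_subset_sigma hG
      (Cfsg.Agent.Helper17.BG11.uniqThm hG) hM ⟨hp, h⟩)
  have hcyc : IsCyclic ↥P₀ := by
    by_contra hnc
    have hr1P : ¬ PRankLE p 1 ↥P₀ := fun h =>
      hnc (Cfsg.Agent.Helper7.BG12.isCyclic_of_pRankLE_one hodd hP₀p h)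
    have hr2P : PRankLE p 2 ↥P₀ :=
      Cfsg.Agent.Helper7.BG12.pRankLE_of_injective (Subgroup.inclusion hP₀M)
        (Subgroup.inclusion_injective hP₀M) hr2
    obtain ⟨A, hAP, hAe, hAc⟩ := Cfsg.Agent.Helper23.BG10.exists_elemAb_sq hr2P hr1P
    have hr1M : ¬ PRankLE p 1 ↥M := fun h =>
      hr1P (Cfsg.Agent.Helper7.BG12.pRankLE_of_injective (Subgroup.inclusion hP₀M)
        (Subgroup.inclusion_injective hP₀M) h)
    have hτ : p ∈ tau2 M := ⟨hp, hpσ, hr2, hr1M⟩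
    have h1 := h17d p hτ A (hAP.trans hP₀M) hAe hAc
    have hcop : (Nat.card ↥P₀).Coprime (Nat.card ↥(sigmaCore M)) := by
      obtain ⟨k, hk⟩ := IsPGroup.iff_card.mp hP₀p
      rw [hk]
      apply Nat.Coprime.pow_left
      rw [Nat.Prime.coprime_iff_not_dvd hp]
      intro hd
      exact hpσ (Cfsg.Agent.Lead.BGSig.isPiNum_card_sigmaCore M p hp hd)
    have hbot : P₀ ⊓ sigmaCore M = ⊥ := Cfsg.Agent.Helper1.PiHall.inf_eq_bot_of_coprime hcop
    have hcent : sigmaCore M ≤ Subgroup.centralizer (A : Set G) := by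
      intro s hs
      rw [Subgroup.mem_centralizer_iff]
      intro a ha
      exact Cfsg.Agent.Helper1.BG152.commute_of_normalize_of_inf_eq_bot (hP₀M.trans hMn)
        (hMσ.trans hMP₀) hbot (hAP ha) hs
    have h2 : sigmaCore M ≤ ⊥ :=
      calc sigmaCore M ≤ sigmaCore M ⊓ Subgroup.centralizer (A : Set G) := le_inf le_rfl hcent
        _ = ⊥ := h1
    exact Cfsg.Agent.Helper17.BG11.sigmaCore_ne_bot' hG hM (eq_bot_iff.2 h2)
  have key : ∀ t : G, t * x * t⁻¹ ∈ P₀ →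
      t ∈ Subgroup.normalizer ((Subgroup.zpowers x : Subgroup G) : Set G) := by
    intro t ht
    apply Cfsg.Agent.Helper1.PiHall.mem_normalizer_of_map_conj_le
    apply le_of_eq
    apply Cfsg.Agent.Helper7.eq_of_card_eq_of_le_isCyclic P₀ hcyc
    · rw [MonoidHom.map_zpowers, Subgroup.zpowers_le]
      exact ht
    · rw [Subgroup.zpowers_le]
      exact hxP
    · exact Cfsg.Agent.Helper1.PiHall.card_map_conj _ t
  have hgN := key g hyP
  have hMN : M ≤ Subgroup.normalizer ((Subgroup.zpowers x : Subgroup G) : Set G) := by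
    intro m hm
    exact key m ((Subgroup.mem_normalizer_iff.1 (hMP₀ hm) x).1 hxP)
  have hX1 : Subgroup.zpowers x ≠ ⊥ := fun h => hx1 (Subgroup.zpowers_eq_bot.1 h)
  have hX2 : Subgroup.zpowers x ≠ ⊤ := by
    apply ne_top_of_le_ne_top hM.1
    rw [Subgroup.zpowers_le]
    exact hP₀M hxP
  have hNtop := Cfsg.Agent.Helper22.BG127.normalizer_ne_top_of_simple hG hX1 hX2
  have hNM : Subgroup.normalizer ((Subgroup.zpowers x : Subgroup G) : Set G) = M :=
    (hM.le_iff.1 hMN).resolve_left hNtop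
  rw [hNM] at hgN
  exact hg hgN

/-- an element of prime order `p` of `F(M)` fused into `F(M)` by some `g ∉ M` has `p ∈ σ(M)` -/
theorem mem_sigma_of_conj (hG : IsMinSimpleOddOrder G) {M : Subgroup G} (hM : IsCoatom M)
    (h17d : ∀ (p : ℕ) [Fact p.Prime], p ∈ tau2 M → ∀ A : Subgroup G, A ≤ M →
      IsElementaryAbelian p A → Nat.card ↥A = p ^ 2 →
      sigmaCore M ⊓ Subgroup.centralizer (A : Set G) = ⊥)
    {p : ℕ} (hp : p.Prime) {g x : G} (hg : g ∉ M) (hx : x ∈ fittingOf M) (hxo : orderOf x = p)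
    (hgx : g * x * g⁻¹ ∈ fittingOf M) : p ∈ sigma M := by
  by_contra hpσ
  haveI : Fact p.Prime := ⟨hp⟩
  have hxp : x ^ p = 1 := by
    rw [← hxo]
    exact pow_orderOf_eq_one x
  exact false_of_pCore hG hM h17d hpσ (Cfsg.Agent.Helper8.FitPrime.pCoreOf_le p M)
    (Cfsg.Agent.Helper8.FitPrime.pCoreOf_isPGroup p M)
    (Cfsg.Agent.Helper14.BGUniq.le_normalizer_pCoreOf p M) hg
    (Cfsg.Agent.Helper14.BGUniq.mem_pCoreOf_of_mem_fittingOf p hx
      ⟨1, by rw [pow_one]; exact hxp⟩) hxo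
    (Cfsg.Agent.Helper14.BGUniq.mem_pCoreOf_of_mem_fittingOf p hgx
      ⟨1, by rw [pow_one, conj_pow, hxp, mul_one, mul_inv_cancel]⟩)

/-- **the datum of a failure of the TI property of `F(M)`** -/
theorem exists_data (hG : IsMinSimpleOddOrder G) {M : Subgroup G} (hM : IsCoatom M)
    (h50M : IsPiHallOf (sigma M) (sigmaCore M) M)
    (h17d : ∀ (p : ℕ) [Fact p.Prime], p ∈ tau2 M → ∀ A : Subgroup G, A ≤ M →
      IsElementaryAbelian p A → Nat.card ↥A = p ^ 2 →
      sigmaCore M ⊓ Subgroup.centralizer (A : Set G) = ⊥)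
    (h26 : ∀ g : G, g ∉ M → ∀ p : ℕ, p.Prime →
      p ∣ Nat.card ↥(sigmaCore M ⊓ M.map (MulAut.conj g).toMonoidHom) → p ∉ beta M)
    (h74 : ∀ y : G, y ∈ sigmaCore M → y ≠ 1 → ∃ R : Subgroup G,
      IsComplIn (M ⊓ Subgroup.centralizer ({y} : Set G)) R (Subgroup.centralizer ({y} : Set G)) ∧
      ∀ g : G, y ∈ M.map (MulAut.conj g).toMonoidHom →
        ∃! r : G, r ∈ R ∧
          M.map (MulAut.conj r).toMonoidHom = M.map (MulAut.conj g).toMonoidHom)
    (h75 : ∀ y : G, y ∈ sigmaCore M → y ≠ 1 → ¬ Subgroup.centralizer ({y} : Set G) ≤ M →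
      ∃ N : Subgroup G, IsCoatom N ∧ Subgroup.centralizer ({y} : Set G) ≤ N ∧
        IsComplIn (M ⊓ N) (sigmaCore N) N)
    {g x : G} (hg : g ∉ Subgroup.normalizer ((fittingOf M : Subgroup G) : Set G))
    (hx : x ∈ fittingOf M) (hx1 : x ≠ 1) (hgx : g * x * g⁻¹ ∈ fittingOf M) :
    ∃ (p : ℕ) (y : G) (N : Subgroup G), p.Prime ∧ p ∈ sigma M ∧ p ∉ beta M ∧ y ∈ sigmaCore M ∧
      y ∈ fittingOf M ∧ orderOf y = p ∧ IsCoatom N ∧ Subgroup.centralizer ({y} : Set G) ≤ N ∧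
      ¬ Subgroup.centralizer ({y} : Set G) ≤ M ∧ IsComplIn (M ⊓ N) (sigmaCore N) N := by
  have hgM : g ∉ M := fun h => hg (Cfsg.Agent.Helper14.BGUniq.le_normalizer_fittingOf M h)
  obtain ⟨x₁, hx₁F, hx₁p, hgx₁⟩ := exists_prime_order hx hx1 hgx
  have hFM : fittingOf M ≤ M := Cfsg.Agent.Helper8.FitPrime.fittingOf_le M
  have hpσ : orderOf x₁ ∈ sigma M := mem_sigma_of_conj hG hM h17d hx₁p hgM hx₁F rfl hgx₁
  have hyo : orderOf (g * x₁ * g⁻¹) = orderOf x₁ :=
    orderOf_injective (MulAut.conj g).toMonoidHom (MulAut.conj g).injective x₁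
  have hyσ : g * x₁ * g⁻¹ ∈ sigmaCore M :=
    Cfsg.Agent.Lead.BGThmC.mem_sigmaCore_of_orderOf M h50M hx₁p hpσ (hFM hgx₁) hyo
  have hy1 : g * x₁ * g⁻¹ ≠ 1 := by
    intro h
    rw [h, orderOf_one] at hyo
    exact hx₁p.one_lt.ne hyo
  have hyMg : g * x₁ * g⁻¹ ∈ M.map (MulAut.conj g).toMonoidHom :=
    Subgroup.mem_map.2 ⟨x₁, hFM hx₁F, rfl⟩
  have hpβ : orderOf x₁ ∉ beta M := by
    apply h26 g hgM (orderOf x₁) hx₁p
    have := Subgroup.orderOf_dvd_natCard (sigmaCore M ⊓ M.map (MulAut.conj g).toMonoidHom)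
      (x := g * x₁ * g⁻¹) ⟨hyσ, hyMg⟩
    rwa [hyo] at this
  have hCM : ¬ Subgroup.centralizer ({g * x₁ * g⁻¹} : Set G) ≤ M := by
    intro hC
    obtain ⟨R, hR, huniq⟩ := h74 _ hyσ hy1
    obtain ⟨r, ⟨hrR, hrM⟩, -⟩ := huniq g hyMg
    have hr1 : r = 1 := by
      have h1 : r ∈ (M ⊓ Subgroup.centralizer ({g * x₁ * g⁻¹} : Set G)) ⊓ R :=
        ⟨⟨hC (hR.2.1 hrR), hR.2.1 hrR⟩, hrR⟩
      rw [hR.2.2.1] at h1
      exact Subgroup.mem_bot.1 h1
    rw [hr1, Cfsg.Agent.Helper15.map_conj_one] at hrM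
    exact hgM (Cfsg.Agent.Helper22.BG127.mem_of_map_conj_eq hG hM hrM.symm)
  obtain ⟨N, hN, hCN, hcompl⟩ := h75 _ hyσ hy1 hCM
  exact ⟨orderOf x₁, g * x₁ * g⁻¹, N, hx₁p, hpσ, hpβ, hyσ, hgx₁, hyo, hN, hCN, hCM, hcompl⟩

/-- the Sylow `p`-subgroup of `M_σ` is narrow for `p ∈ σ(M) - β(M)`, hence centralized by the
derived subgroup of any odd-order `p'`-group acting on it -/
theorem commutator_le_centralizer_sylow_p (hG : IsMinSimpleOddOrder G) {M : Subgroup G}
    (hM : IsCoatom M) (h50M : IsPiHallOf (sigma M) (sigmaCore M) M) {p : ℕ} [Fact p.Prime]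
    (hpσ : p ∈ sigma M) (hpβ : p ∉ beta M) {T : Subgroup G}
    (hT : Cfsg.Agent.Helper15.IsSylowIn p T (sigmaCore M)) {A : Subgroup G}
    (hAT : A ≤ Subgroup.normalizer (T : Set G)) (hAodd : Odd (Nat.card ↥A))
    (hAsolv : Group.IsSolvable ↥A) (hcopp : (Nat.card ↥A).Coprime p) (hp2 : p ≠ 2) :
    ⁅A, A⁆ ≤ Subgroup.centralizer (T : Set G) := by
  have hp : p.Prime := Fact.out
  have hU := Cfsg.Agent.Helper17.BG11.uniqThm hG
  have hMσ : sigmaCore M ≤ M := Cfsg.Agent.Helper14.BGTrans.piCoreOf_le (sigma M) M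
  have hTM : T ≤ M := hT.le.trans hMσ
  have hnar : IsNarrow p ↥T := by
    by_cases hr : PRankLE p 2 ↥M
    · exact Or.inl (Cfsg.Agent.Helper7.BG12.pRankLE_of_injective (Subgroup.inclusion hTM)
        (Subgroup.inclusion_injective hTM) hr)
    · have hα : p ∈ alpha M := ⟨hp, hr⟩
      have hni : ¬ IsIdealPrime p G := fun h => hpβ ⟨hα, h⟩
      have hTS : Cfsg.Agent.Helper15.IsSylowIn p T M := by
        apply Cfsg.Agent.Helper15.isSylowIn_of_not_dvd_relIndex hT.isPGroup hTM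
        rw [← Subgroup.relIndex_mul_relIndex T (sigmaCore M) M hT.le hMσ]
        intro hd
        rcases (Nat.Prime.dvd_mul hp).1 hd with h | h
        · exact hT.not_dvd_relIndex h
        · exact h50M.2.2 p hp hpσ h
      have h1 := Cfsg.Agent.Helper11.BG108.isNarrow_sylow hG hU hM hα hni hTS.toSylow
      have e : ↥((hTS.toSylow : Sylow p ↥M) : Subgroup ↥M) ≃* ↥T :=
        (MulEquiv.subgroupCongr hTS.coe_toSylow).trans (Subgroup.subgroupOfEquivOfLe hTM)
      exact Cfsg.Agent.Helper8.Narrow.isNarrow_of_mulEquiv e h1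
  exact Cfsg.Agent.Helper19.BG152.commutator_le_centralizer_of_narrow p hp2 T A hT.isPGroup hnar
    hAT hAodd hAsolv hcopp

/-- for the primes `u ≠ p`, a Sylow `u`-subgroup `T` of the nilpotent `M_σ` lies in `M ∩ N`, so it
is trivial or of rank at most two -/
theorem commutator_le_centralizer_sylow_u (hG : IsMinSimpleOddOrder G) {M : Subgroup G}
    (hnil : Group.IsNilpotent ↥(sigmaCore M)) {p : ℕ} {y : G} {N : Subgroup G} (hp : p.Prime)
    (hyσ : y ∈ sigmaCore M) (hyo : orderOf y = p) (hN : IsCoatom N)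
    (h50N : IsPiHallOf (sigma N) (sigmaCore N) N)
    (hCN : Subgroup.centralizer ({y} : Set G) ≤ N) (hcompl : IsComplIn (M ⊓ N) (sigmaCore N) N)
    {u : ℕ} [Fact u.Prime] (hup : u ≠ p) {T : Subgroup G}
    (hT : Cfsg.Agent.Helper15.IsSylowIn u T (sigmaCore M)) {A : Subgroup G}
    (hAT : A ≤ Subgroup.normalizer (T : Set G)) (hAodd : Odd (Nat.card ↥A))
    (hAsolv : Group.IsSolvable ↥A) (hcopu : (Nat.card ↥A).Coprime u) (hu2 : u ≠ 2) :
    ⁅A, A⁆ ≤ Subgroup.centralizer (T : Set G) := by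
  have hu : u.Prime := Fact.out
  have hU := Cfsg.Agent.Helper17.BG11.uniqThm hG
  have hMσ : sigmaCore M ≤ M := Cfsg.Agent.Helper14.BGTrans.piCoreOf_le (sigma M) M
  have hTC : T ≤ Subgroup.centralizer ({y} : Set G) := by
    intro t ht
    rw [Subgroup.mem_centralizer_iff]
    intro z hz
    rw [Set.mem_singleton_iff] at hz
    rw [hz]
    obtain ⟨k, hk⟩ := (IsPGroup.iff_orderOf.1 hT.isPGroup) ⟨t, ht⟩
    have hk' : orderOf t = u ^ k := by rw [← hk, Subgroup.orderOf_mk]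
    have hc : (orderOf y).Coprime (orderOf t) := by
      rw [hyo, hk']
      exact Nat.Coprime.pow_right k ((Nat.coprime_primes hp hu).2 (Ne.symm hup))
    exact Cfsg.Agent.Helper21.commute_of_mem_of_nilpotent hnil hyσ (hT.le ht) hc
  have hTN : T ≤ N := hTC.trans hCN
  have hTMN : T ≤ M ⊓ N := le_inf (hT.le.trans hMσ) hTN
  by_cases huσ : u ∈ sigma N
  · have hNn : N ≤ Subgroup.normalizer ((sigmaCore N : Subgroup G) : Set G) :=
      Cfsg.Agent.Helper14.BGTrans.le_normalizer_piCoreOf (sigma N) N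
    have hTσ : T ≤ sigmaCore N := by
      apply Cfsg.Agent.Helper1.PiHall.le_of_isPiHallOf_of_le_normalizer h50N hNn hTN
      intro q hq hqd
      obtain ⟨k, hk⟩ := IsPGroup.iff_card.mp hT.isPGroup
      rw [hk] at hqd
      have hqu : q = u := (Nat.prime_dvd_prime_iff_eq hq hu).1 (hq.dvd_of_dvd_pow hqd)
      rw [hqu]
      exact huσ
    have hTbot : T = ⊥ := eq_bot_iff.2 ((le_inf hTMN hTσ).trans hcompl.2.2.1.le)
    intro c _
    rw [Subgroup.mem_centralizer_iff]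
    intro z hz
    have hz' : z ∈ T := hz
    rw [hTbot, Subgroup.mem_bot] at hz'
    rw [hz', one_mul, mul_one]
  · have hr : PRankLE u 2 ↥N := by
      by_contra h
      exact huσ (Cfsg.Agent.Helper23.BG10.alpha_subset_sigma hG hU hN ⟨hu, h⟩)
    have hrT : PRankLE u 2 ↥T :=
      Cfsg.Agent.Helper7.BG12.pRankLE_of_injective (Subgroup.inclusion hTN)
        (Subgroup.inclusion_injective hTN) hr
    exact Cfsg.Agent.Helper4.BGSig.commutator_le_centralizer_of_rank_two hu2 hT.isPGroup hrT hAT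
      hAsolv hAodd hcopu

/-- **Lemma D.** With the datum `(p, y, N)` and `M_σ` nilpotent, the derived subgroup of every
`σ(M)'`-subgroup of `M` centralizes `M_σ`. -/
theorem commutator_le_centralizer_sigmaCore (hG : IsMinSimpleOddOrder G) {M : Subgroup G}
    (hM : IsCoatom M) (h50M : IsPiHallOf (sigma M) (sigmaCore M) M)
    (hnil : Group.IsNilpotent ↥(sigmaCore M))
    {p : ℕ} {y : G} {N : Subgroup G} (hp : p.Prime) (hpσ : p ∈ sigma M) (hpβ : p ∉ beta M)
    (hyσ : y ∈ sigmaCore M) (hyo : orderOf y = p) (hN : IsCoatom N)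
    (h50N : IsPiHallOf (sigma N) (sigmaCore N) N)
    (hCN : Subgroup.centralizer ({y} : Set G) ≤ N) (hcompl : IsComplIn (M ⊓ N) (sigmaCore N) N)
    {A : Subgroup G} (hAM : A ≤ M) (hcop : (Nat.card ↥A).Coprime (Nat.card ↥(sigmaCore M))) :
    ⁅A, A⁆ ≤ Subgroup.centralizer ((sigmaCore M : Subgroup G) : Set G) := by
  have hMn : M ≤ Subgroup.normalizer ((sigmaCore M : Subgroup G) : Set G) :=
    Cfsg.Agent.Helper14.BGTrans.le_normalizer_piCoreOf (sigma M) M
  have hAodd : Odd (Nat.card ↥A) := Odd.of_dvd_nat hG.1 (Subgroup.card_subgroup_dvd_card A)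
  have hAsolv : Group.IsSolvable ↥A := hG.2.2.2 A (ne_top_of_le_ne_top hM.1 hAM)
  rw [Subgroup.le_centralizer_iff]
  have hCle : sigmaCore M ⊓ Subgroup.centralizer ((⁅A, A⁆ : Subgroup G) : Set G) ≤ sigmaCore M :=
    inf_le_left
  have heq : sigmaCore M ⊓ Subgroup.centralizer ((⁅A, A⁆ : Subgroup G) : Set G) = sigmaCore M := by
    apply Cfsg.Agent.Helper4.BGSig.eq_of_forall_sylow_le hCle
    intro u hu hud
    have hu2 : u ≠ 2 := by
      intro h2
      have h3 : u ∣ Nat.card G := hud.trans (Subgroup.card_subgroup_dvd_card _)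
      have h4 : Odd u := Odd.of_dvd_nat hG.1 h3
      rw [h2] at h4
      exact absurd h4 (by decide)
    have hcopu : (Nat.card ↥A).Coprime u := Nat.Coprime.coprime_dvd_right hud hcop
    haveI : Fact u.Prime := ⟨hu⟩
    obtain ⟨T, hT⟩ := Cfsg.Agent.Helper15.exists_isSylowIn (p := u) (sigmaCore M)
    have hMT : M ≤ Subgroup.normalizer (T : Set G) :=
      Cfsg.Agent.Helper22.BG13.le_normalizer_sylow_of_nilpotent_normal hMn hnil hT
    refine ⟨T, hT, le_inf hT.le ?_⟩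
    rw [Subgroup.le_centralizer_iff]
    by_cases hup : u = p
    · subst hup
      exact commutator_le_centralizer_sylow_p hG hM h50M hpσ hpβ hT (hAM.trans hMT) hAodd hAsolv
        hcopu hu2
    · exact commutator_le_centralizer_sylow_u hG hnil hp hyσ hyo hN h50N hCN hcompl hup hT
        (hAM.trans hMT) hAodd hAsolv hcopu hu2
  exact heq.symm.le.trans inf_le_right

/-- `M_σ` is nilpotent when `U ≠ 1` (from the shape of S1429) -/
theorem isNilpotent_sigmaCore {M : Subgroup G}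
    (h50M : IsPiHallOf (sigma M) (sigmaCore M) M)
    {K U : Subgroup G} (hKU : IsSigmaDecomposition M K U) (hU1 : U ≠ ⊥)
    (h29 : ¬ (∀ q : ℕ, q.Prime → q ∣ Nat.card ↥M → q ∉ sigma M → q ∈ kappa M) →
      ∀ (r : ℕ) [Fact r.Prime], r ∣ Nat.card ↥M → r ∉ sigma M ∪ kappa M → ∀ S : Sylow r ↥M,
        sigmaCore M ⊓ Subgroup.centralizer ((Subgroup.closure
          {x : G | x ∈ (S : Subgroup ↥M).map M.subtype ∧ x ^ r = 1} : Subgroup G) : Set G) = ⊥ ∧
        Group.IsNilpotent ↥(sigmaCore M)) :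
    Group.IsNilpotent ↥(sigmaCore M) := by
  obtain ⟨r, hr, hrU⟩ := Nat.exists_prime_and_dvd (n := Nat.card ↥U)
    (fun h => hU1 (Subgroup.card_eq_one.1 h))
  haveI : Fact r.Prime := ⟨hr⟩
  have hrσ : r ∉ sigma M :=
    Cfsg.Agent.Lead.BGThmC.not_mem_sigma_of_dvd_card M K U hKU h50M hr hrU
  have hrκ : r ∉ kappa M := Cfsg.Agent.Lead.BGThmC2.not_mem_kappa_of_dvd_card M K U hKU hr hrU
  have hrM : r ∣ Nat.card ↥M := hrU.trans (Subgroup.card_dvd_of_le hKU.compl.1)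
  have hP1 : ¬ (∀ q : ℕ, q.Prime → q ∣ Nat.card ↥M → q ∉ sigma M → q ∈ kappa M) :=
    fun h => hrκ (h r hr hrM hrσ)
  obtain ⟨S⟩ : Nonempty (Sylow r ↥M) := inferInstance
  exact (h29 hP1 r hrM (by rintro (h | h); exacts [hrσ h, hrκ h]) S).2

/-- **Lemma E.** The datum `(p, y, N)` is impossible when `K ≠ 1` and `U ≠ 1`. -/
theorem false_of_typeP2 (hG : IsMinSimpleOddOrder G) {M : Subgroup G} (hM : IsCoatom M)
    (h50M : IsPiHallOf (sigma M) (sigmaCore M) M)
    {K U : Subgroup G} (hKU : IsSigmaDecomposition M K U) (hK1 : K ≠ ⊥) (hU1 : U ≠ ⊥)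
    (h53 : ∀ k ∈ K, k ≠ 1 → U ⊓ Subgroup.centralizer ({k} : Set G) = ⊥)
    (h29 : ¬ (∀ q : ℕ, q.Prime → q ∣ Nat.card ↥M → q ∉ sigma M → q ∈ kappa M) →
      ∀ (r : ℕ) [Fact r.Prime], r ∣ Nat.card ↥M → r ∉ sigma M ∪ kappa M → ∀ S : Sylow r ↥M,
        sigmaCore M ⊓ Subgroup.centralizer ((Subgroup.closure
          {x : G | x ∈ (S : Subgroup ↥M).map M.subtype ∧ x ^ r = 1} : Subgroup G) : Set G) = ⊥ ∧
        Group.IsNilpotent ↥(sigmaCore M))
    {p : ℕ} {y : G} {N : Subgroup G} (hp : p.Prime) (hpσ : p ∈ sigma M) (hpβ : p ∉ beta M)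
    (hyσ : y ∈ sigmaCore M) (hyo : orderOf y = p) (hN : IsCoatom N)
    (h50N : IsPiHallOf (sigma N) (sigmaCore N) N)
    (hCN : Subgroup.centralizer ({y} : Set G) ≤ N)
    (hcompl : IsComplIn (M ⊓ N) (sigmaCore N) N) : False := by
  obtain ⟨r, hr, hrU⟩ := Nat.exists_prime_and_dvd (n := Nat.card ↥U)
    (fun h => hU1 (Subgroup.card_eq_one.1 h))
  haveI : Fact r.Prime := ⟨hr⟩
  have hrσ : r ∉ sigma M :=
    Cfsg.Agent.Lead.BGThmC.not_mem_sigma_of_dvd_card M K U hKU h50M hr hrU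
  have hrκ : r ∉ kappa M := Cfsg.Agent.Lead.BGThmC2.not_mem_kappa_of_dvd_card M K U hKU hr hrU
  have hUM : U ≤ M := hKU.compl.1
  have hKM : K ≤ M := hKU.hall.1
  have hrM : r ∣ Nat.card ↥M := hrU.trans (Subgroup.card_dvd_of_le hUM)
  have hP1 : ¬ (∀ q : ℕ, q.Prime → q ∣ Nat.card ↥M → q ∉ sigma M → q ∈ kappa M) :=
    fun h => hrκ (h r hr hrM hrσ)
  obtain ⟨S⟩ : Nonempty (Sylow r ↥M) := inferInstance
  obtain ⟨hcent, hnil⟩ := h29 hP1 r hrM (by rintro (h | h); exacts [hrσ h, hrκ h]) S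
  -- `A = U K` is a `σ(M)'`-group
  have hdvd : Nat.card ↥(U ⊔ K) ∣ Nat.card ↥U * Nat.card ↥K :=
    Cfsg.Agent.Helper7.card_sup_dvd_mul_of_le_normalizer hKU.normal
  have hcop : (Nat.card ↥(U ⊔ K)).Coprime (Nat.card ↥(sigmaCore M)) := by
    apply Nat.coprime_of_dvd
    intro q hq hqA hqS
    have hqσ : q ∈ sigma M := Cfsg.Agent.Lead.BGSig.isPiNum_card_sigmaCore M q hq hqS
    rcases (Nat.Prime.dvd_mul hq).1 (hqA.trans hdvd) with h | h
    · exact Cfsg.Agent.Lead.BGThmC.not_mem_sigma_of_dvd_card M K U hKU h50M hq h hqσ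
    · exact (hKU.hall.2.1 q hq h).2.2.1 hqσ
  have hD := commutator_le_centralizer_sigmaCore hG hM h50M hnil hp hpσ hpβ hyσ hyo hN h50N hCN
    hcompl (sup_le hUM hKM) hcop
  -- `U = [U, K] ≤ C(M_σ)`
  have hcopKU : (Nat.card ↥K).Coprime (Nat.card ↥U) := by
    apply Nat.coprime_of_dvd
    intro q hq hqK hqU
    exact Cfsg.Agent.Lead.BGThmC2.not_mem_kappa_of_dvd_card M K U hKU hq hqU
      (hKU.hall.2.1 q hq hqK)
  obtain ⟨⟨k, hk⟩, hk1⟩ := Subgroup.ne_bot_iff_exists_ne_one.1 hK1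
  have hk1' : k ≠ 1 := fun h => hk1 (Subtype.ext h)
  have hfix : U ⊓ Subgroup.centralizer (K : Set G) = ⊥ := by
    rw [eq_bot_iff]
    calc U ⊓ Subgroup.centralizer (K : Set G) ≤ U ⊓ Subgroup.centralizer ({k} : Set G) :=
          inf_le_inf_left U (Subgroup.centralizer_le (Set.singleton_subset_iff.2 hk))
      _ = ⊥ := h53 k hk hk1'
  have hUcomm : U ≤ ⁅U, K⁆ :=
    Cfsg.Agent.Helper19.BG16.le_commutator_of_fpf hKU.normal hcopKU
      (Or.inl (hG.2.2.2 K (ne_top_of_le_ne_top hM.1 hKM))) hfix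
  have hUC : U ≤ Subgroup.centralizer ((sigmaCore M : Subgroup G) : Set G) :=
    hUcomm.trans ((Subgroup.commutator_mono le_sup_left le_sup_right).trans hD)
  -- every `r`-subgroup of `M` lies in the normal subgroup `C_M(M_σ)` of `r'`-index
  have hMn : M ≤ Subgroup.normalizer ((sigmaCore M : Subgroup G) : Set G) :=
    Cfsg.Agent.Helper14.BGTrans.le_normalizer_piCoreOf (sigma M) M
  have hCn : M ≤ Subgroup.normalizer
      ((M ⊓ Subgroup.centralizer ((sigmaCore M : Subgroup G) : Set G) : Subgroup G) : Set G) :=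
    Cfsg.Agent.Helper14.le_normalizer_inf Subgroup.le_normalizer
      (Cfsg.Agent.Helper14.le_normalizer_centralizer_of_le_normalizer hMn)
  haveI hnorm : ((M ⊓ Subgroup.centralizer ((sigmaCore M : Subgroup G) : Set G)).subgroupOf
      M).Normal := (Subgroup.normal_subgroupOf_iff_le_normalizer inf_le_left).2 hCn
  have h1 : (M ⊓ Subgroup.centralizer ((sigmaCore M : Subgroup G) : Set G)).relIndex M ∣
      U.relIndex M := Subgroup.relIndex_dvd_of_le_left M (le_inf hUM hUC)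
  have h2 : U.relIndex M = Nat.card ↥(K ⊔ sigmaCore M) := by
    have e1 := Cfsg.Agent.Helper7.IsComplIn.card_eq hKU.compl
    have e2 := Cfsg.Agent.Helper1.PiHall.card_eq_card_mul_relIndex hUM
    have hUpos : 0 < Nat.card ↥U := Nat.card_pos
    apply Nat.eq_of_mul_eq_mul_left hUpos
    exact e2.symm.trans e1
  have h3 : ¬ r ∣ (M ⊓ Subgroup.centralizer ((sigmaCore M : Subgroup G) : Set G)).relIndex M := by
    intro hd
    have hd' : r ∣ Nat.card ↥(K ⊔ sigmaCore M) := by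
      rw [← h2]
      exact hd.trans h1
    rcases Cfsg.Agent.Lead.BGThmC2.prime_dvd_card_sup M K U hKU hr hd' with h | h
    · exact hrκ h
    · exact hrσ h
  have h4 : (Nat.card ↥(S : Subgroup ↥M)).Coprime
      ((M ⊓ Subgroup.centralizer ((sigmaCore M : Subgroup G) : Set G)).subgroupOf M).index := by
    obtain ⟨k', hk'⟩ := IsPGroup.iff_card.mp S.isPGroup'
    rw [hk']
    exact Nat.Coprime.pow_left k' ((Nat.Prime.coprime_iff_not_dvd hr).2 h3)
  have h5 : (S : Subgroup ↥M) ≤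
      (M ⊓ Subgroup.centralizer ((sigmaCore M : Subgroup G) : Set G)).subgroupOf M :=
    Cfsg.Agent.Helper1.PiHall.le_normal_of_coprime _ _ h4
  have h6 : Subgroup.closure {x : G | x ∈ (S : Subgroup ↥M).map M.subtype ∧ x ^ r = 1} ≤
      Subgroup.centralizer ((sigmaCore M : Subgroup G) : Set G) := by
    rw [Subgroup.closure_le]
    rintro x ⟨⟨s, hs, rfl⟩, -⟩
    exact (Subgroup.mem_subgroupOf.1 (h5 hs)).2
  have h7 : y ∈ sigmaCore M ⊓ Subgroup.centralizer ((Subgroup.closure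
      {x : G | x ∈ (S : Subgroup ↥M).map M.subtype ∧ x ^ r = 1} : Subgroup G) : Set G) :=
    ⟨hyσ, (Subgroup.le_centralizer_iff.1 h6) hyσ⟩
  rw [hcent, Subgroup.mem_bot] at h7
  rw [h7, orderOf_one] at hyo
  exact hp.one_lt.ne hyo

/-- **The datum is impossible when `M` has a normal Sylow `q`-subgroup with `q ∈ β(M)`**
(the situation of S1437, `M_F ≠ M_σ`). -/
theorem false_of_normal_beta (hG : IsMinSimpleOddOrder G) {M : Subgroup G} (hM : IsCoatom M)
    (h50M : IsPiHallOf (sigma M) (sigmaCore M) M) {q : ℕ} (hqβ : q ∈ beta M) {Q : Subgroup G}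
    (hQM : Q ≤ M) (hMQ : M ≤ Subgroup.normalizer (Q : Set G)) (hQq : IsPGroup q ↥Q)
    (hQi : ¬ q ∣ Q.relIndex (sigmaCore M))
    {p : ℕ} {y : G} {N : Subgroup G} (hp : p.Prime) (hpβ : p ∉ beta M)
    (hyF : y ∈ fittingOf M) (hyo : orderOf y = p) (hN : IsCoatom N)
    (hCN : Subgroup.centralizer ({y} : Set G) ≤ N)
    (hCM : ¬ Subgroup.centralizer ({y} : Set G) ≤ M) : False := by
  have hq : q.Prime := hqβ.1.1
  haveI : Fact q.Prime := ⟨hq⟩
  have hU := Cfsg.Agent.Helper17.BG11.uniqThm hG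
  have hqσ : q ∈ sigma M := Cfsg.Agent.Helper23.BG10.alpha_subset_sigma hG hU hM hqβ.1
  have hMσ : sigmaCore M ≤ M := Cfsg.Agent.Helper14.BGTrans.piCoreOf_le (sigma M) M
  have hMn : M ≤ Subgroup.normalizer ((sigmaCore M : Subgroup G) : Set G) :=
    Cfsg.Agent.Helper14.BGTrans.le_normalizer_piCoreOf (sigma M) M
  have hQσ : Q ≤ sigmaCore M := by
    apply Cfsg.Agent.Helper1.PiHall.le_of_isPiHallOf_of_le_normalizer h50M hMn hQM
    intro t ht htd
    obtain ⟨k, hk⟩ := IsPGroup.iff_card.mp hQq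
    rw [hk] at htd
    have htq : t = q := (Nat.prime_dvd_prime_iff_eq ht hq).1 (ht.dvd_of_dvd_pow htd)
    rw [htq]
    exact hqσ
  have hQS : Cfsg.Agent.Helper15.IsSylowIn q Q M := by
    apply Cfsg.Agent.Helper15.isSylowIn_of_not_dvd_relIndex hQq hQM
    rw [← Subgroup.relIndex_mul_relIndex Q (sigmaCore M) M hQσ hMσ]
    intro hd
    rcases (Nat.Prime.dvd_mul hq).1 hd with h | h
    · exact hQi h
    · exact h50M.2.2 q hq hqσ h
  have hQU : InUniqueMaximal Q :=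
    Cfsg.Agent.Helper23.BG10.inUniqueMaximal_of_sylow_rank hG hU hqβ.1.2 hQS
  have hpq : p ≠ q := by
    intro h
    apply hpβ
    rw [h]
    exact hqβ
  have hQF : Q ≤ fittingOf M := Cfsg.Agent.Helper1.BG152.le_fittingOf hQM hMQ hQq.isNilpotent
  have hQC : Q ≤ Subgroup.centralizer ({y} : Set G) := by
    intro t ht
    rw [Subgroup.mem_centralizer_iff]
    intro z hz
    rw [Set.mem_singleton_iff] at hz
    rw [hz]
    obtain ⟨k, hk⟩ := (IsPGroup.iff_orderOf.1 hQq) ⟨t, ht⟩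
    have hk' : orderOf t = q ^ k := by rw [← hk, Subgroup.orderOf_mk]
    have hc : (orderOf y).Coprime (orderOf t) := by
      rw [hyo, hk']
      exact Nat.Coprime.pow_right k ((Nat.coprime_primes hp hq).2 hpq)
    exact Cfsg.Agent.Helper21.commute_of_mem_of_nilpotent
      (Cfsg.Agent.Helper14.BGUniq.isNilpotent_fittingOf M) hyF (hQF ht) hc
  have hMN : M = N :=
    Cfsg.Agent.Helper22.BG13.eq_of_inUniqueMaximal_le hQU hM hQM hN (hQC.trans hCN)
  apply hCM
  rw [hMN]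
  exact hCN

end Cfsg.Agent.Helper1.BG157
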