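import Mathlib
import Cfsg.Prelude.Def_OddOrderLocal
import Cfsg.Agent.Lib.Helper15.SylowIn
import Cfsg.Agent.Lib.Helper22.PPrimeCore
import Cfsg.Agent.Lib.Helper22.BG13C
import Cfsg.Agent.Lib.Helper20.BG12A
import Cfsg.Agent.Lib.Helper20.MinInv
import Cfsg.Agent.Lib.Helper1.CommutatorBasic
import Cfsg.Agent.Lib.Helper1.CoprimeAbelian
import Cfsg.Agent.S0026

/-!
# Bender–Glauberman 15.8, the trichotomy: general group-theoretic lemmas (helper1)

Nilpotent groups with cyclic Sylow subgroups outside one prime, elementary abelian subgroups,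
faithful actions on groups of prime order, the commutator pairing of a class-two group.
-/

set_option autoImplicit false

namespace Cfsg.Agent.Helper1.BG158

open Cfsg Subgroup
open Cfsg.Agent.Helper15 (IsSylowIn)
open scoped commutatorElement

universe u

variable {G : Type u} [Group G] [Finite G]

/-! ### normal Sylow subgroups -/

/-- a normal relative Sylow subgroup contains every `t`-subgroup -/
theorem le_of_isSylowIn_of_le_normalizer {t : ℕ} [Fact t.Prime] {T H Q : Subgroup G}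
    (hT : IsSylowIn t T H) (hHT : H ≤ normalizer (T : Set G))
    (hQ : IsPGroup t ↥Q) (hQH : Q ≤ H) : Q ≤ T := by
  obtain ⟨T', hQT', hT'⟩ := Cfsg.Agent.Helper15.exists_isSylowIn_ge hQ hQH
  obtain ⟨k, hk, hkT⟩ := hT.exists_conj hT'
  have h2 : T.map (MulAut.conj k).toMonoidHom = T :=
    Cfsg.Agent.Helper15.map_conj_eq_of_mem_normalizer (hHT hk)
  rw [h2] at hkT
  rw [hkT]
  exact hQT'

/-- the Sylow subgroups of `↥H` are cyclic when the relative ones are -/
theorem sylow_isCyclic_of_isSylowIn {H : Subgroup G} {t : ℕ}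
    (h : ∀ T : Subgroup G, IsSylowIn t T H → IsCyclic ↥T) (S : Sylow t ↥H) :
    IsCyclic ↥(S : Subgroup ↥H) := by
  haveI : IsCyclic ↥((S : Subgroup ↥H).map H.subtype) :=
    h _ (Cfsg.Agent.Helper15.isSylowIn_map_subtype S)
  exact isCyclic_of_injective
    ((S : Subgroup ↥H).equivMapOfInjective H.subtype H.subtype_injective).toMonoidHom
    (MulEquiv.injective _)

/-- `O_{p'}(X)` is cyclic for a nilpotent `X` whose Sylow `t`-subgroups, `t ≠ p`, are cyclic -/
theorem isCyclic_pPrimeCore_of_sylow {X : Type*} [Group X] [Finite X] (hX : Group.IsNilpotent X)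
    {p : ℕ} (hcyc : ∀ t : ℕ, t.Prime → t ≠ p → ∀ S : Sylow t X, IsCyclic ↥(S : Subgroup X)) :
    IsCyclic ↥(pPrimeCore p X) := by
  haveI : Group.IsNilpotent X := hX
  haveI : IsZGroup ↥(pPrimeCore p X) := by
    refine ⟨fun t ht S => ?_⟩
    haveI : Fact t.Prime := ⟨ht⟩
    by_cases htp : t = p
    · subst htp
      have h1 : Nat.card ↥(S : Subgroup ↥(pPrimeCore t X)) ∣ Nat.card ↥(pPrimeCore t X) :=
        Subgroup.card_subgroup_dvd_card _
      have h2 : (Nat.card ↥(pPrimeCore t X)).Coprime t :=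
        Cfsg.Agent.Helper22.card_pPrimeCore_coprime t
      obtain ⟨k, hk⟩ := IsPGroup.iff_card.mp S.isPGroup'
      have h3 : (Nat.card ↥(S : Subgroup ↥(pPrimeCore t X))).Coprime t :=
        Nat.Coprime.coprime_dvd_left h1 h2
      have h4 : Nat.card ↥(S : Subgroup ↥(pPrimeCore t X)) = 1 := by
        rw [hk] at h3 ⊢
        rcases Nat.eq_zero_or_pos k with h0 | h0
        · rw [h0, pow_zero]
        · exfalso
          have h5 : t = 1 := Nat.Coprime.eq_one_of_dvd h3.symm (dvd_pow_self t h0.ne')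
          exact ht.one_lt.ne' h5
      haveI : Subsingleton ↥(S : Subgroup ↥(pPrimeCore t X)) :=
        (Nat.card_eq_one_iff_unique.1 h4).1
      exact isCyclic_of_subsingleton
    · obtain ⟨Q, hQ⟩ := (S.isPGroup'.map (pPrimeCore p X).subtype).exists_le_sylow
      haveI : IsCyclic ↥(Q : Subgroup X) := hcyc t ht htp Q
      have hle : ∀ s : ↥(S : Subgroup ↥(pPrimeCore p X)),
          ((s : ↥(pPrimeCore p X)) : X) ∈ (Q : Subgroup X) := fun s =>
        hQ (Subgroup.mem_map_of_mem _ s.2)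
      let f : ↥(S : Subgroup ↥(pPrimeCore p X)) →* ↥(Q : Subgroup X) :=
        { toFun := fun s => ⟨((s : ↥(pPrimeCore p X)) : X), hle s⟩
          map_one' := rfl
          map_mul' := fun _ _ => rfl }
      have hf : Function.Injective f := by
        intro a b hab
        have h1 := congrArg Subtype.val hab
        exact Subtype.ext (Subtype.ext h1)
      exact isCyclic_of_injective f hf
  infer_instance

/-- `O_{p'}(H)` is cyclic for a nilpotent subgroup `H` whose Sylow `t`-subgroups, `t ≠ p`, are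
cyclic -/
theorem isCyclic_pPrimeCore {H : Subgroup G} (hnil : Group.IsNilpotent ↥H) {p : ℕ}
    (hcyc : ∀ t : ℕ, t.Prime → t ≠ p → ∀ T : Subgroup G, IsSylowIn t T H → IsCyclic ↥T) :
    IsCyclic ↥(pPrimeCore p ↥H) :=
  isCyclic_pPrimeCore_of_sylow hnil
    (fun t ht htp S => sylow_isCyclic_of_isSylowIn (hcyc t ht htp) S)

/-- a nilpotent group is abelian modulo a normal subgroup of index prime to `p` when its Sylow
`t`-subgroups, `t ≠ p`, are cyclic -/
theorem commutator_le_of_sylow_cyclic {X : Type*} [Group X] [Finite X]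
    (hX : Group.IsNilpotent X) {p : ℕ} (P : Subgroup X) [P.Normal] (hP : (P.index).Coprime p)
    (hcyc : ∀ t : ℕ, t.Prime → t ≠ p → ∀ S : Sylow t X, IsCyclic ↥(S : Subgroup X)) :
    commutator X ≤ P := by
  haveI : Group.IsNilpotent X := hX
  haveI : IsZGroup (X ⧸ P) := by
    refine ⟨fun t ht S => ?_⟩
    haveI : Fact t.Prime := ⟨ht⟩
    by_cases htp : t = p
    · subst htp
      have h1 : Nat.card ↥(S : Subgroup (X ⧸ P)) ∣ P.index := by
        rw [Subgroup.index_eq_card]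
        exact Subgroup.card_subgroup_dvd_card _
      obtain ⟨k, hk⟩ := IsPGroup.iff_card.mp S.isPGroup'
      have h3 : (Nat.card ↥(S : Subgroup (X ⧸ P))).Coprime t :=
        Nat.Coprime.coprime_dvd_left h1 hP
      have h4 : Nat.card ↥(S : Subgroup (X ⧸ P)) = 1 := by
        rw [hk] at h3 ⊢
        rcases Nat.eq_zero_or_pos k with h0 | h0
        · rw [h0, pow_zero]
        · exfalso
          have h5 : t = 1 := Nat.Coprime.eq_one_of_dvd h3.symm (dvd_pow_self t h0.ne')
          exact ht.one_lt.ne' h5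
      haveI : Subsingleton ↥(S : Subgroup (X ⧸ P)) := (Nat.card_eq_one_iff_unique.1 h4).1
      exact isCyclic_of_subsingleton
    · obtain ⟨Q, rfl⟩ := Sylow.mapSurjective_surjective (QuotientGroup.mk'_surjective P) t S
      haveI : IsCyclic ↥(Q : Subgroup X) := hcyc t ht htp Q
      exact isCyclic_of_surjective _ ((QuotientGroup.mk' P).subgroupMap_surjective Q)
  haveI : IsCyclic (X ⧸ P) := inferInstance
  rw [_root_.commutator_def, Subgroup.commutator_le]
  intro a _ b _
  rw [← QuotientGroup.eq_one_iff, commutatorElement_def]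
  have h1 : ((a : X) : X ⧸ P) * (b : X ⧸ P) = (b : X ⧸ P) * (a : X ⧸ P) := mul_comm' _ _
  rw [QuotientGroup.mk_mul, QuotientGroup.mk_mul, QuotientGroup.mk_mul, QuotientGroup.mk_inv,
    QuotientGroup.mk_inv, h1]
  group

/-- in a nilpotent subgroup `H` whose Sylow `t`-subgroups, `t ≠ p`, are cyclic, the derived
subgroup lies in the Sylow `p`-subgroup -/
theorem commutator_le_sylow {H P : Subgroup G} (hnil : Group.IsNilpotent ↥H) {p : ℕ}
    [Fact p.Prime] (hP : IsSylowIn p P H)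
    (hcyc : ∀ t : ℕ, t.Prime → t ≠ p → ∀ T : Subgroup G, IsSylowIn t T H → IsCyclic ↥T) :
    ⁅H, H⁆ ≤ P := by
  have hp : p.Prime := Fact.out
  have hHP : H ≤ normalizer (P : Set G) :=
    Cfsg.Agent.Helper22.BG13.le_normalizer_of_isNilpotent hnil hP
  haveI : (P.subgroupOf H).Normal := (Subgroup.normal_subgroupOf_iff_le_normalizer hP.le).mpr hHP
  have hidx : ((P.subgroupOf H).index).Coprime p :=
    Nat.Coprime.symm ((Nat.Prime.coprime_iff_not_dvd hp).2 hP.not_dvd_relIndex)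
  have h1 := commutator_le_of_sylow_cyclic hnil (P.subgroupOf H) hidx
    (fun t ht htp S => sylow_isCyclic_of_isSylowIn (hcyc t ht htp) S)
  rw [← Subgroup.map_subtype_commutator]
  calc (commutator ↥H).map H.subtype ≤ (P.subgroupOf H).map H.subtype := Subgroup.map_mono h1
    _ = P := Subgroup.map_subgroupOf_eq_of_le hP.le

/-- a nilpotent subgroup with an abelian Sylow `p`-subgroup and cyclic Sylow `t`-subgroups,
`t ≠ p`, is abelian -/
theorem comm_of_sylow {H P : Subgroup G} (hnil : Group.IsNilpotent ↥H) {p : ℕ} [Fact p.Prime]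
    (hP : IsSylowIn p P H) (hPab : ∀ a ∈ P, ∀ b ∈ P, a * b = b * a)
    (hcyc : ∀ t : ℕ, t.Prime → t ≠ p → ∀ T : Subgroup G, IsSylowIn t T H → IsCyclic ↥T) :
    ∀ a ∈ H, ∀ b ∈ H, a * b = b * a := by
  have hHP : H ≤ normalizer (P : Set G) :=
    Cfsg.Agent.Helper22.BG13.le_normalizer_of_isNilpotent hnil hP
  have h : IsMulCommutative ↥H := by
    apply Cfsg.Agent.Helper20.BG12.isMulCommutative_of_isNilpotent_of_sylow hnil
    intro q hq S
    by_cases hqp : q = p
    · subst hqp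
      have hS := Cfsg.Agent.Helper15.isSylowIn_map_subtype S
      have hle : (S : Subgroup ↥H).map H.subtype ≤ P :=
        le_of_isSylowIn_of_le_normalizer hP hHP hS.isPGroup hS.le
      rw [isMulCommutative_iff]
      intro x y
      have hx : ((x : ↥H) : G) ∈ P := hle (Subgroup.mem_map_of_mem _ x.2)
      have hy : ((y : ↥H) : G) ∈ P := hle (Subgroup.mem_map_of_mem _ y.2)
      exact Subtype.ext (Subtype.ext (hPab _ hx _ hy))
    · haveI : IsCyclic ↥(S : Subgroup ↥H) :=
        sylow_isCyclic_of_isSylowIn (hcyc q hq.out hqp) S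
      exact IsCyclic.isMulCommutative
  intro a ha b hb
  have := (isMulCommutative_iff.mp h) ⟨a, ha⟩ ⟨b, hb⟩
  exact congrArg Subtype.val this

/-- `O_p(H)` is the normal Sylow `p`-subgroup -/
theorem pCore_eq_subgroupOf {H P : Subgroup G} {p : ℕ} [Fact p.Prime] (hP : IsSylowIn p P H)
    (hHP : H ≤ normalizer (P : Set G)) : Cfsg.pCore p ↥H = P.subgroupOf H := by
  apply le_antisymm
  · unfold Cfsg.pCore
    apply sSup_le
    rintro N ⟨-, hNp⟩
    intro x hx
    rw [Subgroup.mem_subgroupOf]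
    have h1 : N.map H.subtype ≤ P :=
      le_of_isSylowIn_of_le_normalizer hP hHP (hNp.map _) (Subgroup.map_subtype_le _)
    exact h1 (Subgroup.mem_map_of_mem _ hx)
  · unfold Cfsg.pCore
    apply le_sSup
    exact ⟨(Subgroup.normal_subgroupOf_iff_le_normalizer hP.le).mpr hHP,
      hP.isPGroup.comap_subtype⟩

theorem card_pCore_eq {H P : Subgroup G} {p : ℕ} [Fact p.Prime] (hP : IsSylowIn p P H)
    (hHP : H ≤ normalizer (P : Set G)) : Nat.card ↥(Cfsg.pCore p ↥H) = Nat.card ↥P := by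
  rw [pCore_eq_subgroupOf hP hHP]
  exact Nat.card_congr (Subgroup.subgroupOfEquivOfLe hP.le).toEquiv

/-! ### elementary abelian subgroups -/

/-- the join of two commuting elementary abelian subgroups is elementary abelian -/
theorem elemAb_sup {p : ℕ} {A B : Subgroup G} (hAA : ∀ a ∈ A, ∀ a' ∈ A, a * a' = a' * a)
    (hBB : ∀ b ∈ B, ∀ b' ∈ B, b * b' = b' * b) (hAB : ∀ a ∈ A, ∀ b ∈ B, a * b = b * a)
    (hA : ∀ a ∈ A, a ^ p = 1) (hB : ∀ b ∈ B, b ^ p = 1) :
    (∀ x ∈ A ⊔ B, ∀ y ∈ A ⊔ B, x * y = y * x) ∧ ∀ x ∈ A ⊔ B, x ^ p = 1 := by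
  have h1 : A ⊔ B ≤ centralizer ((A ⊔ B : Subgroup G) : Set G) := by
    apply sup_le
    · rw [Subgroup.le_centralizer_iff]
      apply sup_le
      · intro a ha
        rw [Subgroup.mem_centralizer_iff]
        intro a' ha'
        exact hAA a' ha' a ha
      · intro b hb
        rw [Subgroup.mem_centralizer_iff]
        intro a ha
        exact hAB a ha b hb
    · rw [Subgroup.le_centralizer_iff]
      apply sup_le
      · intro a ha
        rw [Subgroup.mem_centralizer_iff]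
        intro b hb
        exact (hAB a ha b hb).symm
      · intro b hb
        rw [Subgroup.mem_centralizer_iff]
        intro b' hb'
        exact hBB b' hb' b hb
  have hcomm : ∀ x ∈ A ⊔ B, ∀ y ∈ A ⊔ B, x * y = y * x := by
    intro x hx y hy
    exact (Subgroup.mem_centralizer_iff.1 (h1 hy)) x hx
  refine ⟨hcomm, ?_⟩
  let T : Subgroup G :=
    { carrier := {y | y ∈ A ⊔ B ∧ y ^ p = 1}
      mul_mem' := by
        rintro y z ⟨hy, hyp⟩ ⟨hz, hzp⟩
        refine ⟨(A ⊔ B).mul_mem hy hz, ?_⟩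
        have hc : Commute y z := hcomm y hy z hz
        rw [hc.mul_pow, hyp, hzp, one_mul]
      one_mem' := ⟨(A ⊔ B).one_mem, one_pow p⟩
      inv_mem' := by
        rintro y ⟨hy, hyp⟩
        exact ⟨(A ⊔ B).inv_mem hy, by rw [inv_pow, hyp, inv_one]⟩ }
  have hT : A ⊔ B ≤ T := by
    apply sup_le
    · intro a ha
      exact ⟨(le_sup_left : A ≤ A ⊔ B) ha, hA a ha⟩
    · intro b hb
      exact ⟨(le_sup_right : B ≤ A ⊔ B) hb, hB b hb⟩
  intro x hx
  exact (hT hx).2

/-- proper containment of `p`-groups costs a factor `p` -/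
theorem mul_card_le_of_ne {p : ℕ} [Fact p.Prime] {A B : Subgroup G} (hB : IsPGroup p ↥B)
    (hAB : A ≤ B) (hne : A ≠ B) : p * Nat.card ↥A ≤ Nat.card ↥B := by
  have hp : p.Prime := Fact.out
  obtain ⟨b, hb⟩ := IsPGroup.iff_card.mp hB
  obtain ⟨a, ha⟩ := IsPGroup.iff_card.mp (hB.to_le hAB)
  have hdvd : Nat.card ↥A ∣ Nat.card ↥B := Subgroup.card_dvd_of_le hAB
  rw [ha, hb] at hdvd ⊢
  have hab : a ≤ b := (Nat.pow_dvd_pow_iff_le_right hp.one_lt).1 hdvd
  have hab' : a ≠ b := by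
    intro h
    apply hne
    apply Subgroup.eq_of_le_of_card_ge hAB
    rw [ha, hb, h]
  have h1 : a + 1 ≤ b := by omega
  calc p * p ^ a = p ^ (a + 1) := by rw [pow_succ']
    _ ≤ p ^ b := Nat.pow_le_pow_right hp.pos h1

/-- the elements of order dividing `p` in the centre of `P` -/
def omegaCenter (P : Subgroup G) (p : ℕ) : Subgroup G where
  carrier := {z | z ∈ P ∧ z ∈ centralizer (P : Set G) ∧ z ^ p = 1}
  mul_mem' := by
    rintro y z ⟨hy, hyc, hyp⟩ ⟨hz, hzc, hzp⟩
    refine ⟨P.mul_mem hy hz, (centralizer (P : Set G)).mul_mem hyc hzc, ?_⟩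
    have hc : Commute y z := Subgroup.mem_centralizer_iff.1 hzc y hy
    rw [hc.mul_pow, hyp, hzp, one_mul]
  one_mem' := ⟨P.one_mem, (centralizer (P : Set G)).one_mem, one_pow p⟩
  inv_mem' := by
    rintro y ⟨hy, hyc, hyp⟩
    exact ⟨P.inv_mem hy, (centralizer (P : Set G)).inv_mem hyc, by rw [inv_pow, hyp, inv_one]⟩

omit [Finite G] in
theorem mem_omegaCenter {P : Subgroup G} {p : ℕ} {z : G} :
    z ∈ omegaCenter P p ↔ z ∈ P ∧ z ∈ centralizer (P : Set G) ∧ z ^ p = 1 := Iff.rfl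

omit [Finite G] in
theorem omegaCenter_le (P : Subgroup G) (p : ℕ) : omegaCenter P p ≤ P := fun _ h => h.1

omit [Finite G] in
theorem omegaCenter_le_centralizer (P : Subgroup G) (p : ℕ) :
    omegaCenter P p ≤ centralizer (P : Set G) := fun _ h => h.2.1

omit [Finite G] in
theorem le_normalizer_omegaCenter {P K : Subgroup G} (p : ℕ)
    (hKP : K ≤ normalizer (P : Set G)) :
    K ≤ normalizer ((omegaCenter P p : Subgroup G) : Set G) := by
  apply Cfsg.Agent.Helper1.le_normalizer_of_forall_conj_mem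
  rintro g hg x ⟨hx, hxc, hxp⟩
  have hgn := hKP hg
  refine ⟨(Subgroup.mem_normalizer_iff.1 hgn x).1 hx, ?_, ?_⟩
  · rw [Subgroup.mem_centralizer_iff]
    intro y hy
    have hy' : g⁻¹ * y * g⁻¹⁻¹ ∈ P :=
      (Subgroup.mem_normalizer_iff.1 (Subgroup.inv_mem _ hgn) y).1 hy
    have h1 := Subgroup.mem_centralizer_iff.1 hxc _ hy'
    calc y * (g * x * g⁻¹) = g * ((g⁻¹ * y * g⁻¹⁻¹) * x) * g⁻¹ := by group
      _ = g * (x * (g⁻¹ * y * g⁻¹⁻¹)) * g⁻¹ := by rw [h1]
      _ = g * x * g⁻¹ * y := by group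
  · rw [conj_pow, hxp, mul_one, mul_inv_cancel]

/-! ### faithful action on a group of prime order -/

/-- a group acting faithfully on a group of prime order `p` has order dividing `p - 1` -/
theorem card_dvd_pred_of_faithful {p : ℕ} (hp : p.Prime) {K D : Subgroup G}
    (hD : Nat.card ↥D = p) (hKD : K ≤ normalizer (D : Set G))
    (hfaith : K ⊓ centralizer (D : Set G) = ⊥) : Nat.card ↥K ∣ p - 1 := by
  haveI : Fact p.Prime := ⟨hp⟩
  haveI : IsCyclic ↥D := isCyclic_of_prime_card hD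
  let φ : ↥K →* MulAut ↥D := (D.normalizerMonoidHom).comp (Subgroup.inclusion hKD)
  have hφapp : ∀ (a : ↥K) (x : ↥D), ((φ a x : ↥D) : G) = (a : G) * (x : G) * (a : G)⁻¹ :=
    fun _ _ => rfl
  have hφinj : Function.Injective φ := by
    rw [injective_iff_map_eq_one]
    intro a ha
    have h1 : (a : G) ∈ K ⊓ centralizer (D : Set G) := by
      refine Subgroup.mem_inf.mpr ⟨a.2, ?_⟩
      rw [Subgroup.mem_centralizer_iff]
      intro x hx
      have h2 := DFunLike.congr_fun ha ⟨x, hx⟩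
      have h3 : (a : G) * x * (a : G)⁻¹ = x := by
        have := congrArg Subtype.val h2
        rwa [hφapp] at this
      calc x * (a : G) = ((a : G) * x * (a : G)⁻¹) * (a : G) := by rw [h3]
        _ = (a : G) * x := by group
    rw [hfaith, Subgroup.mem_bot] at h1
    exact Subtype.ext h1
  have h1 : Nat.card ↥K ∣ Nat.card (MulAut ↥D) := by
    have := Subgroup.card_subgroup_dvd_card φ.range
    rwa [← Nat.card_congr (MonoidHom.ofInjective hφinj).toEquiv] at this
  rw [IsCyclic.card_mulAut, hD, Nat.totient_prime hp] at h1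
  exact h1

/-! ### the commutator pairing of a class-two group -/

omit [Finite G] in
theorem commutatorElement_pow_left {a b : G} (h : Commute ⁅a, b⁆ a) (i : ℕ) :
    ⁅a ^ i, b⁆ = ⁅a, b⁆ ^ i := by
  induction i with
  | zero => simp
  | succ i ih =>
    have h1 : ⁅a ^ (i + 1), b⁆ = a * ⁅a ^ i, b⁆ * a⁻¹ * ⁅a, b⁆ := by
      rw [pow_succ']
      simp only [commutatorElement_def]
      group
    rw [h1, ih]
    have h2 : a * ⁅a, b⁆ ^ i * a⁻¹ = ⁅a, b⁆ ^ i := by
      have h3 := (h.pow_left i).eq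
      rw [← h3, mul_inv_cancel_right]
    rw [h2, ← pow_succ]

omit [Finite G] in
theorem commutatorElement_pow_right {a b : G} (h : Commute ⁅a, b⁆ b) (j : ℕ) :
    ⁅a, b ^ j⁆ = ⁅a, b⁆ ^ j := by
  induction j with
  | zero => simp
  | succ j ih =>
    have h1 : ⁅a, b ^ (j + 1)⁆ = ⁅a, b⁆ * (b * ⁅a, b ^ j⁆ * b⁻¹) := by
      rw [pow_succ']
      simp only [commutatorElement_def]
      group
    rw [h1, ih]
    have h2 : b * ⁅a, b⁆ ^ j * b⁻¹ = ⁅a, b⁆ ^ j := by
      have h3 := (h.pow_left j).eq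
      rw [← h3, mul_inv_cancel_right]
    rw [h2, ← pow_succ']

omit [Finite G] in
theorem commutatorElement_pow_pow {a b : G} (ha : Commute ⁅a, b⁆ a) (hb : Commute ⁅a, b⁆ b)
    (i j : ℕ) : ⁅a ^ i, b ^ j⁆ = ⁅a, b⁆ ^ (i * j) := by
  have h1 : ⁅a ^ i, b⁆ = ⁅a, b⁆ ^ i := commutatorElement_pow_left ha i
  have h2 : Commute ⁅a ^ i, b⁆ b := by
    rw [h1]
    exact hb.pow_left i
  rw [commutatorElement_pow_right h2 j, h1, ← pow_mul]

omit [Finite G] in
/-- the "determinant one" relation -/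
theorem mul_modEq_one_of_conj {p : ℕ} {k a b : G} {i j : ℕ} (hka : k * a * k⁻¹ = a ^ i)
    (hkb : k * b * k⁻¹ = b ^ j) (hca : Commute ⁅a, b⁆ a) (hcb : Commute ⁅a, b⁆ b)
    (hck : k * ⁅a, b⁆ * k⁻¹ = ⁅a, b⁆) (hco : orderOf ⁅a, b⁆ = p) : i * j ≡ 1 [MOD p] := by
  have h1 : k * ⁅a, b⁆ * k⁻¹ = ⁅k * a * k⁻¹, k * b * k⁻¹⁆ := by
    simp only [commutatorElement_def]
    group
  rw [hka, hkb, commutatorElement_pow_pow hca hcb, hck] at h1
  have h2 : ⁅a, b⁆ ^ (i * j) = ⁅a, b⁆ ^ 1 := by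
    rw [pow_one]
    exact h1.symm
  rw [pow_eq_pow_iff_modEq, hco] at h2
  exact h2

/-! ### the eigen-line of an invariant abelian group of order `p ^ 2` -/

/-- for a coprime action on a group `L` of order `p ^ 2` with fixed points `Z₁` of order `p`, the
commutator `[L, S]` is an invariant complement of `Z₁` of order `p` -/
theorem eigen_line {p : ℕ} (hp : p.Prime) {L Z₁ S : Subgroup G} (hL : Nat.card ↥L = p ^ 2)
    (hZ : Nat.card ↥Z₁ = p) (hSL : S ≤ normalizer (L : Set G))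
    (hcop : (Nat.card ↥S).Coprime p) (hfix : L ⊓ centralizer (S : Set G) = Z₁) :
    Nat.card ↥⁅L, S⁆ = p ∧ S ≤ normalizer ((⁅L, S⁆ : Subgroup G) : Set G) ∧ ⁅L, S⁆ ⊓ Z₁ = ⊥ ∧
      ⁅L, S⁆ ≤ L := by
  haveI : Fact p.Prime := ⟨hp⟩
  have hLc : ∀ a b : ↥L, a * b = b * a := IsPGroup.commutative_of_card_eq_prime_sq hL
  haveI : IsMulCommutative ↥L := isMulCommutative_iff.2 hLc
  have hcopL : (Nat.card ↥S).Coprime (Nat.card ↥L) := by
    rw [hL]
    exact Nat.Coprime.pow_right 2 hcop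
  have hsolv : Group.IsSolvable ↥S ∨ Group.IsSolvable ↥L := Or.inr (Group.isSolvable_of_comm hLc)
  have h26 := Cfsg.Agent.S0026.result S L hSL hcopL hsolv
  have hbot := Cfsg.Agent.Helper1.commutator_inf_centralizer_eq_bot S L hSL hcopL
  have hDL : ⁅L, S⁆ ≤ L := Cfsg.Agent.Helper1.commutator_le_of_le_normalizer hSL
  have hDZ : ⁅L, S⁆ ⊓ Z₁ = ⊥ := by
    rw [eq_bot_iff, ← hbot]
    apply inf_le_inf_left
    rw [← hfix]
    exact inf_le_right
  have hSD : S ≤ normalizer ((⁅L, S⁆ : Subgroup G) : Set G) :=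
    (le_inf hSL Subgroup.le_normalizer).trans
      (Cfsg.Agent.Helper20.MinInv.normalizer_inf_le_normalizer_comm L S)
  refine ⟨?_, hSD, hDZ, hDL⟩
  rw [hfix] at h26
  have hdvd : Nat.card ↥⁅L, S⁆ ∣ p ^ 2 := by
    rw [← hL]
    exact Subgroup.card_dvd_of_le hDL
  obtain ⟨j, hj2, hj⟩ := (Nat.dvd_prime_pow hp).1 hdvd
  have hj0 : j ≠ 0 := by
    intro h0
    rw [h0, pow_zero] at hj
    have hD1 : ⁅L, S⁆ = ⊥ := Subgroup.card_eq_one.1 hj
    rw [hD1, bot_sup_eq] at h26
    rw [h26, hL] at hZ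
    have : p ^ 2 = p ^ 1 := by rw [pow_one]; exact hZ
    have := Nat.pow_right_injective hp.two_le this
    omega
  have hj2' : j ≠ 2 := by
    intro h2
    rw [h2] at hj
    have hDL' : ⁅L, S⁆ = L := Subgroup.eq_of_le_of_card_ge hDL (by rw [hj, hL])
    have hZL : Z₁ ≤ L := by
      rw [← hfix]
      exact inf_le_left
    have hZ1 : Z₁ = ⊥ := by
      rw [eq_bot_iff, ← hDZ, hDL']
      exact le_inf hZL le_rfl
    rw [hZ1, Subgroup.card_bot] at hZ
    exact hp.one_lt.ne hZ
  have hj1 : j = 1 := by omega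
  rw [hj, hj1, pow_one]

omit [Finite G] in
/-- elements of `zpowers a` are natural powers in a torsion group -/
theorem exists_pow_eq_of_mem_zpowers [Finite G] {a x : G} (h : x ∈ zpowers a) :
    ∃ i : ℕ, x = a ^ i := by
  rw [← mem_powers_iff_mem_zpowers, Submonoid.mem_powers_iff] at h
  obtain ⟨n, hn⟩ := h
  exact ⟨n, hn.symm⟩

end Cfsg.Agent.Helper1.BG158
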