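import Mathlib
import Cfsg.Prelude.Def_OddOrderLocal
import Cfsg.Agent.Lib.Helper1.BG158A
import Cfsg.Agent.Lib.Helper22.MaxClass
import Cfsg.Agent.Lib.Helper19.PGroupBasic
import Cfsg.Agent.Lib.Helper14.Normalize
import Cfsg.Agent.S1448
import Cfsg.Agent.S1454

/-!
# Bender–Glauberman 15.8, the trichotomy: a cyclic group of odd order acting on a `p`-group with
fixed points of order `p` (helper1)

`XS.card_dvd`: a cyclic `p'`-group `K` of odd order acting on a nonabelian group `P` of order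
`p ^ 3` such that every nonidentity element of `K` has the centre of `P` as its fixed points has
order dividing `p - 1` or `p + 1` (`K` acts on the `p + 1` lines of `P / Z(P)`; an element
normalising three lines is trivial by the determinant relation).

`card_dvd_of_prime_action`: the same conclusion for a narrow nonabelian `p`-group `P` with cyclic
centre.
-/

set_option autoImplicit false

namespace Cfsg.Agent.Helper1.BG158

open Cfsg Subgroup
open scoped commutatorElement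

universe u

variable {G : Type u} [Group G] [Finite G]

/-! ### general lemmas -/

/-- a nontrivial `q`-subgroup has a central element of order `q` -/
theorem exists_central_orderOf_eq {q : ℕ} [Fact q.Prime] {T : Subgroup G} (hT : IsPGroup q ↥T)
    (hT1 : T ≠ ⊥) : ∃ z : G, z ∈ T ∧ z ∈ centralizer (T : Set G) ∧ orderOf z = q := by
  haveI : Nontrivial ↥T := (Subgroup.nontrivial_iff_ne_bot T).mpr hT1
  have hcn : Nontrivial ↥(center ↥T) := hT.center_nontrivial
  have hZp : IsPGroup q ↥(center ↥T) := hT.to_subgroup _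
  obtain ⟨n, hn0, hn⟩ := hZp.nontrivial_iff_card.mp hcn
  have hdvd : q ∣ Nat.card ↥(center ↥T) := by
    rw [hn]
    exact dvd_pow_self q hn0.ne'
  obtain ⟨z, hz⟩ := exists_prime_orderOf_dvd_card' q hdvd
  refine ⟨((z : ↥T) : G), (z : ↥T).2, ?_, ?_⟩
  · rw [Subgroup.mem_centralizer_iff]
    intro t ht
    have := Subgroup.mem_center_iff.mp z.2 ⟨t, ht⟩
    exact congrArg Subtype.val this
  · rw [Subgroup.orderOf_coe, Subgroup.orderOf_coe]
    exact hz

/-- a nontrivial normal subgroup of a `p`-group meets the centre -/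
theorem inf_centralizer_ne_bot {p : ℕ} [Fact p.Prime] {P D : Subgroup G} (hP : IsPGroup p ↥P)
    (hDP : D ≤ P) (hPD : P ≤ normalizer (D : Set G)) (hD1 : D ≠ ⊥) :
    D ⊓ centralizer (P : Set G) ≠ ⊥ := by
  haveI hDn : (D.subgroupOf P).Normal :=
    (Subgroup.normal_subgroupOf_iff_le_normalizer hDP).2 hPD
  have hne : D.subgroupOf P ≠ ⊥ := by
    intro h
    apply hD1
    rw [eq_bot_iff]
    intro d hd
    have : (⟨d, hDP hd⟩ : ↥P) ∈ D.subgroupOf P := Subgroup.mem_subgroupOf.2 hd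
    rw [h, Subgroup.mem_bot] at this
    rw [Subgroup.mem_bot]
    exact congrArg Subtype.val this
  have h1 := Cfsg.Agent.Helper19.normal_inf_center_ne_bot hP (D.subgroupOf P) hne
  intro h0
  apply h1
  rw [eq_bot_iff]
  rintro ⟨z, hzP⟩ ⟨hzD, hzZ⟩
  have hz : z ∈ D ⊓ centralizer (P : Set G) := by
    refine ⟨Subgroup.mem_subgroupOf.1 hzD, ?_⟩
    show z ∈ centralizer (P : Set G)
    rw [Subgroup.mem_centralizer_iff]
    intro s hs
    have := Subgroup.mem_center_iff.1 hzZ ⟨s, hs⟩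
    exact congrArg Subtype.val this
  rw [h0, Subgroup.mem_bot] at hz
  rw [Subgroup.mem_bot]
  exact Subtype.ext hz

/-- a nontrivial subgroup of a group of prime order is everything -/
theorem eq_of_le_of_ne_bot_of_card_prime {p : ℕ} (hp : p.Prime) {W Z : Subgroup G}
    (hZ : Nat.card ↥Z = p) (hWZ : W ≤ Z) (hW : W ≠ ⊥) : W = Z := by
  apply Subgroup.eq_of_le_of_card_ge hWZ
  have hdvd : Nat.card ↥W ∣ p := by
    rw [← hZ]
    exact Subgroup.card_dvd_of_le hWZ
  rcases (Nat.dvd_prime hp).1 hdvd with h1 | h1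
  · exact absurd (Subgroup.card_eq_one.1 h1) hW
  · rw [hZ, h1]

theorem ncard_diff_eq {A B : Subgroup G} (hAB : A ≤ B) :
    ({x : G | x ∈ B ∧ x ∉ A} : Set G).ncard = Nat.card ↥B - Nat.card ↥A := by
  have h1 : ({x : G | x ∈ B ∧ x ∉ A} : Set G) = (B : Set G) \ (A : Set G) := rfl
  rw [h1, Set.ncard_sdiff (SetLike.coe_subset_coe.2 hAB) (Set.toFinite _)]
  rw [← Nat.card_coe_set_eq, ← Nat.card_coe_set_eq]
  rfl

theorem card_filter_diff_eq [Fintype G] {A B : Subgroup G}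
    [DecidablePred fun x : G => x ∈ B ∧ x ∉ A] (hAB : A ≤ B) :
    (Finset.univ.filter (fun x : G => x ∈ B ∧ x ∉ A)).card = Nat.card ↥B - Nat.card ↥A := by
  rw [← Set.ncard_coe_finset, Finset.coe_filter_univ, ncard_diff_eq hAB]

/-! ### the configuration -/

/-- a nonabelian group `P` of order `p ^ 3` with centre `Z₁`, acted on by the cyclic `p'`-group `K`
of odd order whose nonidentity elements have fixed points `Z₁` -/
structure XS (P Z₁ K : Subgroup G) (p : ℕ) : Prop where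
  hp : p.Prime
  hP : Nat.card ↥P = p ^ 3
  hZ : Nat.card ↥Z₁ = p
  hZP : Z₁ ≤ P
  hZc : Z₁ ≤ centralizer (P : Set G)
  hcen : P ⊓ centralizer (P : Set G) ≤ Z₁
  hKP : K ≤ normalizer (P : Set G)
  hKodd : Odd (Nat.card ↥K)
  hKcop : (Nat.card ↥K).Coprime p
  hKc : IsCyclic ↥K
  hfix : ∀ k ∈ K, k ≠ 1 → P ⊓ centralizer ({k} : Set G) = Z₁

/-- the subgroups of order `p ^ 2` between `Z₁` and `P` -/
def IsLine (P Z₁ : Subgroup G) (p : ℕ) (L : Subgroup G) : Prop :=
  Z₁ ≤ L ∧ L ≤ P ∧ Nat.card ↥L = p ^ 2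

namespace XS

variable {P Z₁ K : Subgroup G} {p : ℕ}

theorem isPGroup (h : XS P Z₁ K p) : IsPGroup p ↥P := by
  haveI : Fact p.Prime := ⟨h.hp⟩
  exact IsPGroup.of_card h.hP

theorem comm_mem (h : XS P Z₁ K p) {a b : G} (ha : a ∈ P) (hb : b ∈ P) : ⁅a, b⁆ ∈ Z₁ := by
  haveI : Fact p.Prime := ⟨h.hp⟩
  have hna : ¬ IsMulCommutative ↥P := by
    intro hc
    have h1 : P ≤ Z₁ := by
      intro x hx
      apply h.hcen
      refine Subgroup.mem_inf.2 ⟨hx, ?_⟩
      rw [Subgroup.mem_centralizer_iff]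
      intro y hy
      have := (isMulCommutative_iff.mp hc) ⟨y, hy⟩ ⟨x, hx⟩
      exact congrArg Subtype.val this
    have h2 := Subgroup.card_le_of_le h1
    rw [h.hP, h.hZ] at h2
    have h3 : p ^ 1 < p ^ 3 := Nat.pow_lt_pow_right h.hp.one_lt (by norm_num)
    rw [pow_one] at h3
    omega
  have h1 := Cfsg.Agent.Helper22.comm_mem_center_of_card_cube p h.hP hna ⟨a, ha⟩ ⟨b, hb⟩
  apply h.hcen
  refine Subgroup.mem_inf.2 ⟨?_, ?_⟩
  · rw [commutatorElement_def]
    exact P.mul_mem (P.mul_mem (P.mul_mem ha hb) (P.inv_mem ha)) (P.inv_mem hb)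
  · rw [Subgroup.mem_centralizer_iff]
    intro y hy
    have := Subgroup.mem_center_iff.mp h1 ⟨y, hy⟩
    exact congrArg Subtype.val this

theorem conj_eq_of_mem (h : XS P Z₁ K p) {k z : G} (hk : k ∈ K) (hz : z ∈ Z₁) :
    k * z * k⁻¹ = z := by
  by_cases hk1 : k = 1
  · rw [hk1, one_mul, inv_one, mul_one]
  · have h1 : z ∈ P ⊓ centralizer ({k} : Set G) := by
      rw [h.hfix k hk hk1]
      exact hz
    have h2 := Subgroup.mem_centralizer_iff.1 h1.2 k (Set.mem_singleton k)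
    rw [h2, mul_inv_cancel_right]

theorem isLine_map_conj (h : XS P Z₁ K p) {x : G} (hx : x ∈ K) {L : Subgroup G}
    (hL : IsLine P Z₁ p L) : IsLine P Z₁ p (L.map (MulAut.conj x).toMonoidHom) := by
  refine ⟨?_, ?_, ?_⟩
  · intro z hz
    rw [Cfsg.Agent.Helper15.mem_map_conj_iff]
    have h1 : x⁻¹ * z * x⁻¹⁻¹ = z := h.conj_eq_of_mem (K.inv_mem hx) hz
    rw [inv_inv] at h1
    rw [h1]
    exact hL.1 hz
  · calc L.map (MulAut.conj x).toMonoidHom ≤ P.map (MulAut.conj x).toMonoidHom :=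
        Subgroup.map_mono hL.2.1
      _ = P := Cfsg.Agent.Helper15.map_conj_eq_of_mem_normalizer (h.hKP hx)
  · rw [Cfsg.Agent.Helper15.card_map_conj]
    exact hL.2.2

theorem mem_normalizer_map_conj (h : XS P Z₁ K p) {k x : G} (hk : k ∈ K) (hx : x ∈ K)
    {L : Subgroup G} (hkL : k ∈ normalizer (L : Set G)) :
    k ∈ normalizer ((L.map (MulAut.conj x).toMonoidHom : Subgroup G) : Set G) := by
  haveI := h.hKc
  have hcomm : k * x = x * k := by
    have h1 : IsMulCommutative ↥K := IsCyclic.isMulCommutative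
    have := (isMulCommutative_iff.mp h1) ⟨k, hk⟩ ⟨x, hx⟩
    exact congrArg Subtype.val this
  apply Cfsg.Agent.Helper15.mem_normalizer_of_map_conj_eq
  rw [Cfsg.Agent.Helper15.map_conj_map_conj, hcomm, ← Cfsg.Agent.Helper15.map_conj_map_conj,
    Cfsg.Agent.Helper15.map_conj_eq_of_mem_normalizer hkL]

/-- an element of a line outside `Z₁` generates it together with `Z₁` -/
theorem line_eq (h : XS P Z₁ K p) {L : Subgroup G} (hL : IsLine P Z₁ p L) {a : G} (haL : a ∈ L)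
    (haZ : a ∉ Z₁) : zpowers a ⊔ Z₁ = L := by
  haveI : Fact p.Prime := ⟨h.hp⟩
  have hle : zpowers a ⊔ Z₁ ≤ L := sup_le (by rw [Subgroup.zpowers_le]; exact haL) hL.1
  apply Subgroup.eq_of_le_of_card_ge hle
  have hLp : IsPGroup p ↥L := IsPGroup.of_card hL.2.2
  have hne : Z₁ ≠ zpowers a ⊔ Z₁ := by
    intro h0
    apply haZ
    rw [h0]
    exact (le_sup_left : zpowers a ≤ zpowers a ⊔ Z₁) (Subgroup.mem_zpowers a)
  have h1 := mul_card_le_of_ne (hLp.to_le hle) (le_sup_right : Z₁ ≤ zpowers a ⊔ Z₁) hne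
  rw [h.hZ] at h1
  rw [hL.2.2]
  calc p ^ 2 = p * p := sq p
    _ ≤ _ := h1

/-- every element of `P` outside `Z₁` lies on a line -/
theorem isLine_zpowers_sup (h : XS P Z₁ K p) {x : G} (hxP : x ∈ P) (hxZ : x ∉ Z₁) :
    IsLine P Z₁ p (zpowers x ⊔ Z₁) := by
  have hp := h.hp
  haveI : Fact p.Prime := ⟨hp⟩
  have hle : zpowers x ⊔ Z₁ ≤ P := sup_le (by rw [Subgroup.zpowers_le]; exact hxP) h.hZP
  refine ⟨le_sup_right, hle, ?_⟩
  have hxM : x ∈ zpowers x ⊔ Z₁ :=
    (le_sup_left : zpowers x ≤ zpowers x ⊔ Z₁) (Subgroup.mem_zpowers x)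
  have hne : Z₁ ≠ zpowers x ⊔ Z₁ := by
    intro h0
    apply hxZ
    rw [h0]
    exact hxM
  have h1 := mul_card_le_of_ne (h.isPGroup.to_le hle) (le_sup_right : Z₁ ≤ zpowers x ⊔ Z₁) hne
  rw [h.hZ] at h1
  have hMc : zpowers x ⊔ Z₁ ≤ centralizer ({x} : Set G) := by
    apply sup_le
    · rw [Subgroup.zpowers_le, Subgroup.mem_centralizer_iff]
      intro y hy
      rw [Set.mem_singleton_iff.1 hy]
    · intro z hz
      rw [Subgroup.mem_centralizer_iff]
      intro y hy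
      rw [Set.mem_singleton_iff.1 hy]
      exact Subgroup.mem_centralizer_iff.1 (h.hZc hz) x hxP
  have hneP : zpowers x ⊔ Z₁ ≠ P := by
    intro h0
    apply hxZ
    apply h.hcen
    refine Subgroup.mem_inf.2 ⟨hxP, ?_⟩
    rw [Subgroup.mem_centralizer_iff]
    intro y hy
    have hy' : y ∈ zpowers x ⊔ Z₁ := by
      rw [h0]
      exact hy
    exact (Subgroup.mem_centralizer_iff.1 (hMc hy') x (Set.mem_singleton x)).symm
  have hdvd : Nat.card ↥(zpowers x ⊔ Z₁ : Subgroup G) ∣ p ^ 3 := by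
    rw [← h.hP]
    exact Subgroup.card_dvd_of_le hle
  obtain ⟨j, hj3, hj⟩ := (Nat.dvd_prime_pow hp).1 hdvd
  have hj2 : 2 ≤ j := by
    by_contra hlt
    push Not at hlt
    have h2 : p ^ j ≤ p ^ 1 := Nat.pow_le_pow_right hp.pos (by omega)
    rw [pow_one] at h2
    rw [hj] at h1
    have h3 : p * 2 ≤ p * p := Nat.mul_le_mul_left p hp.two_le
    have h4 := hp.pos
    omega
  have hj3' : j ≠ 3 := by
    intro h3
    apply hneP
    apply Subgroup.eq_of_le_of_card_ge hle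
    rw [hj, h3, h.hP]
  have hj2' : j = 2 := by omega
  rw [hj, hj2']

/-- two distinct lines generate `P` -/
theorem sup_eq_of_ne (h : XS P Z₁ K p) {L₁ L₂ : Subgroup G} (h1 : IsLine P Z₁ p L₁)
    (h2 : IsLine P Z₁ p L₂) (hne : L₁ ≠ L₂) : L₁ ⊔ L₂ = P := by
  haveI : Fact p.Prime := ⟨h.hp⟩
  have hle : L₁ ⊔ L₂ ≤ P := sup_le h1.2.1 h2.2.1
  apply Subgroup.eq_of_le_of_card_ge hle
  have hne' : L₁ ≠ L₁ ⊔ L₂ := by
    intro h0
    apply hne
    have h21 : L₂ ≤ L₁ := by
      rw [h0]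
      exact le_sup_right
    exact (Subgroup.eq_of_le_of_card_ge h21 (by rw [h1.2.2, h2.2.2])).symm
  have h3 := mul_card_le_of_ne (h.isPGroup.to_le hle) (le_sup_left : L₁ ≤ L₁ ⊔ L₂) hne'
  rw [h1.2.2] at h3
  rw [h.hP]
  calc p ^ 3 = p * p ^ 2 := by ring
    _ ≤ _ := h3

/-- elements of distinct lines outside `Z₁` do not commute -/
theorem not_comm (h : XS P Z₁ K p) {L₁ L₂ : Subgroup G} (h1 : IsLine P Z₁ p L₁)
    (h2 : IsLine P Z₁ p L₂) (hne : L₁ ≠ L₂) {a₁ a₂ : G} (ha₁ : a₁ ∈ L₁) (hz₁ : a₁ ∉ Z₁)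
    (ha₂ : a₂ ∈ L₂) (hz₂ : a₂ ∉ Z₁) : a₁ * a₂ ≠ a₂ * a₁ := by
  intro hc
  apply hz₁
  apply h.hcen
  refine Subgroup.mem_inf.2 ⟨h1.2.1 ha₁, ?_⟩
  have hZa : Z₁ ≤ centralizer ({a₁} : Set G) := by
    intro z hz
    rw [Subgroup.mem_centralizer_iff]
    intro x hx
    rw [Set.mem_singleton_iff.1 hx]
    exact Subgroup.mem_centralizer_iff.1 (h.hZc hz) a₁ (h1.2.1 ha₁)
  have hL₁ : L₁ ≤ centralizer ({a₁} : Set G) := by
    rw [← h.line_eq h1 ha₁ hz₁]
    refine sup_le ?_ hZa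
    rw [Subgroup.zpowers_le, Subgroup.mem_centralizer_iff]
    intro x hx
    rw [Set.mem_singleton_iff.1 hx]
  have hL₂ : L₂ ≤ centralizer ({a₁} : Set G) := by
    rw [← h.line_eq h2 ha₂ hz₂]
    refine sup_le ?_ hZa
    rw [Subgroup.zpowers_le, Subgroup.mem_centralizer_iff]
    intro x hx
    rw [Set.mem_singleton_iff.1 hx]
    exact hc
  have hP : P ≤ centralizer ({a₁} : Set G) := by
    rw [← h.sup_eq_of_ne h1 h2 hne]
    exact sup_le hL₁ hL₂
  rw [Subgroup.mem_centralizer_iff]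
  intro y hy
  exact (Subgroup.mem_centralizer_iff.1 (hP hy) a₁ (Set.mem_singleton a₁)).symm

/-- a nonidentity element of `K` normalising a line has an eigenvector on it -/
theorem eigen (h : XS P Z₁ K p) {k : G} (hk : k ∈ K) (hk1 : k ≠ 1) {L : Subgroup G}
    (hL : IsLine P Z₁ p L) (hkL : k ∈ normalizer (L : Set G)) :
    ∃ (a : G) (i : ℕ), a ∈ L ∧ a ∉ Z₁ ∧ orderOf a = p ∧ k * a * k⁻¹ = a ^ i := by
  have hp := h.hp
  haveI : Fact p.Prime := ⟨hp⟩
  have hSK : zpowers k ≤ K := by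
    rw [Subgroup.zpowers_le]
    exact hk
  have hSL : zpowers k ≤ normalizer (L : Set G) := by
    rw [Subgroup.zpowers_le]
    exact hkL
  have hcop : (Nat.card ↥(zpowers k)).Coprime p :=
    Nat.Coprime.coprime_dvd_left (Subgroup.card_dvd_of_le hSK) h.hKcop
  have hcent : centralizer ((zpowers k : Subgroup G) : Set G) = centralizer ({k} : Set G) := by
    rw [Subgroup.zpowers_eq_closure, Subgroup.centralizer_closure]
  have hz := h.hfix k hk hk1
  have hfix : L ⊓ centralizer ((zpowers k : Subgroup G) : Set G) = Z₁ := by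
    rw [hcent]
    apply le_antisymm
    · rw [← hz]
      exact inf_le_inf_right _ hL.2.1
    · refine le_inf hL.1 ?_
      exact hz.symm.le.trans inf_le_right
  obtain ⟨D, hDc, hSD, hDZ, hDL⟩ : ∃ D : Subgroup G, Nat.card ↥D = p ∧
      zpowers k ≤ normalizer (D : Set G) ∧ D ⊓ Z₁ = ⊥ ∧ D ≤ L :=
    ⟨_, eigen_line hp hL.2.2 h.hZ hSL hcop hfix⟩
  have hD1 : D ≠ ⊥ := by
    intro h0
    rw [h0, Subgroup.card_bot] at hDc
    exact hp.one_lt.ne hDc
  obtain ⟨a, haD, ha1⟩ : ∃ a ∈ D, a ≠ 1 := by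
    by_contra hcon
    push Not at hcon
    exact hD1 ((Subgroup.eq_bot_iff_forall D).2 hcon)
  have hao : orderOf a = p := by
    have h1 : orderOf a ∣ p := by
      rw [← hDc]
      exact Subgroup.orderOf_dvd_natCard D haD
    rcases (Nat.dvd_prime hp).1 h1 with h2 | h2
    · exact absurd (orderOf_eq_one_iff.1 h2) ha1
    · exact h2
  have hzD : zpowers a = D := by
    apply Subgroup.eq_of_le_of_card_ge
    · rw [Subgroup.zpowers_le]
      exact haD
    · rw [Nat.card_zpowers, hao, hDc]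
  have hkD : k * a * k⁻¹ ∈ D := by
    have hkn : k ∈ normalizer (D : Set G) := hSD (Subgroup.mem_zpowers k)
    exact (Subgroup.mem_normalizer_iff.1 hkn a).1 haD
  rw [← hzD] at hkD
  obtain ⟨i, hi⟩ := exists_pow_eq_of_mem_zpowers hkD
  refine ⟨a, i, hDL haD, ?_, hao, hi⟩
  intro haZ
  have h3 : a ∈ D ⊓ Z₁ := ⟨haD, haZ⟩
  rw [hDZ, Subgroup.mem_bot] at h3
  exact ha1 h3

/-- the determinant relation for eigenvectors on two distinct lines -/
theorem rel (h : XS P Z₁ K p) {k : G} (hk : k ∈ K) {L₁ L₂ : Subgroup G}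
    (h1 : IsLine P Z₁ p L₁) (h2 : IsLine P Z₁ p L₂) (hne : L₁ ≠ L₂) {a₁ a₂ : G} {i₁ i₂ : ℕ}
    (ha₁ : a₁ ∈ L₁) (hz₁ : a₁ ∉ Z₁) (ha₂ : a₂ ∈ L₂) (hz₂ : a₂ ∉ Z₁)
    (he₁ : k * a₁ * k⁻¹ = a₁ ^ i₁) (he₂ : k * a₂ * k⁻¹ = a₂ ^ i₂) : i₁ * i₂ ≡ 1 [MOD p] := by
  have hc : ⁅a₁, a₂⁆ ∈ Z₁ := h.comm_mem (h1.2.1 ha₁) (h2.2.1 ha₂)
  have hc1 : ⁅a₁, a₂⁆ ≠ 1 := by
    intro h0
    apply h.not_comm h1 h2 hne ha₁ hz₁ ha₂ hz₂
    rw [commutatorElement_eq_one_iff_commute] at h0
    exact h0.eq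
  have hco : orderOf ⁅a₁, a₂⁆ = p := by
    have h3 : orderOf ⁅a₁, a₂⁆ ∣ p := by
      rw [← h.hZ]
      exact Subgroup.orderOf_dvd_natCard Z₁ hc
    rcases (Nat.dvd_prime h.hp).1 h3 with h4 | h4
    · exact absurd (orderOf_eq_one_iff.1 h4) hc1
    · exact h4
  have hca : Commute ⁅a₁, a₂⁆ a₁ :=
    (Subgroup.mem_centralizer_iff.1 (h.hZc hc) a₁ (h1.2.1 ha₁)).symm
  have hcb : Commute ⁅a₁, a₂⁆ a₂ :=
    (Subgroup.mem_centralizer_iff.1 (h.hZc hc) a₂ (h2.2.1 ha₂)).symm
  have hck : k * ⁅a₁, a₂⁆ * k⁻¹ = ⁅a₁, a₂⁆ := h.conj_eq_of_mem hk hc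
  exact mul_modEq_one_of_conj he₁ he₂ hca hcb hck hco

/-- a nonidentity element of `K` normalises at most two lines -/
theorem three_lines (h : XS P Z₁ K p) {k : G} (hk : k ∈ K) (hk1 : k ≠ 1)
    {L₁ L₂ L₃ : Subgroup G} (h1 : IsLine P Z₁ p L₁) (h2 : IsLine P Z₁ p L₂)
    (h3 : IsLine P Z₁ p L₃) (h12 : L₁ ≠ L₂) (h13 : L₁ ≠ L₃) (h23 : L₂ ≠ L₃)
    (hk₁ : k ∈ normalizer (L₁ : Set G)) (hk₂ : k ∈ normalizer (L₂ : Set G))
    (hk₃ : k ∈ normalizer (L₃ : Set G)) : False := by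
  obtain ⟨a₁, i₁, ha₁, hz₁, -, he₁⟩ := h.eigen hk hk1 h1 hk₁
  obtain ⟨a₂, i₂, ha₂, hz₂, ho₂, he₂⟩ := h.eigen hk hk1 h2 hk₂
  obtain ⟨a₃, i₃, ha₃, hz₃, -, he₃⟩ := h.eigen hk hk1 h3 hk₃
  have r12 := h.rel hk h1 h2 h12 ha₁ hz₁ ha₂ hz₂ he₁ he₂
  have r13 := h.rel hk h1 h3 h13 ha₁ hz₁ ha₃ hz₃ he₁ he₃
  have r23 := h.rel hk h2 h3 h23 ha₂ hz₂ ha₃ hz₃ he₂ he₃
  have r22 : i₂ * i₂ ≡ 1 [MOD p] := by
    have e1 : i₁ * i₂ * (i₂ * i₃) ≡ 1 * 1 [MOD p] := r12.mul r23
    have e2 : i₂ * i₂ * (i₁ * i₃) ≡ i₂ * i₂ * 1 [MOD p] := Nat.ModEq.mul_left _ r13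
    have e3 : i₁ * i₂ * (i₂ * i₃) = i₂ * i₂ * (i₁ * i₃) := by ring
    rw [e3] at e1
    rw [mul_one] at e1 e2
    exact e2.symm.trans e1
  have hkk : (k * k) * a₂ * (k * k)⁻¹ = a₂ := by
    have e1 : (k * k) * a₂ * (k * k)⁻¹ = k * (k * a₂ * k⁻¹) * k⁻¹ := by group
    rw [e1, he₂, ← conj_pow, he₂, ← pow_mul]
    have e2 : a₂ ^ (i₂ * i₂) = a₂ ^ 1 := by
      rw [pow_eq_pow_iff_modEq, ho₂]
      exact r22
    rw [e2, pow_one]
  have hkk1 : k * k ≠ 1 := by
    intro h0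
    have h4 : orderOf k ∣ 2 := orderOf_dvd_of_pow_eq_one (by rw [pow_two]; exact h0)
    have h5 : orderOf k ∣ Nat.card ↥K := Subgroup.orderOf_dvd_natCard K hk
    rcases (Nat.dvd_prime Nat.prime_two).1 h4 with h6 | h6
    · exact hk1 (orderOf_eq_one_iff.1 h6)
    · rw [h6] at h5
      exact (Nat.not_even_iff_odd.2 h.hKodd) (even_iff_two_dvd.2 h5)
  have hmem : a₂ ∈ P ⊓ centralizer ({k * k} : Set G) := by
    refine Subgroup.mem_inf.2 ⟨h2.2.1 ha₂, ?_⟩
    rw [Subgroup.mem_centralizer_iff]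
    intro x hx
    rw [Set.mem_singleton_iff.1 hx]
    calc k * k * a₂ = (k * k * a₂ * (k * k)⁻¹) * (k * k) := by group
      _ = a₂ * (k * k) := by rw [hkk]
  rw [h.hfix (k * k) (K.mul_mem hk hk) hkk1] at hmem
  exact hz₂ hmem

/-- an invariant line gives `|K| ∣ p - 1` -/
theorem card_dvd_pred_of_line (h : XS P Z₁ K p) {L : Subgroup G} (hL : IsLine P Z₁ p L)
    (hKL : K ≤ normalizer (L : Set G)) : Nat.card ↥K ∣ p - 1 := by
  by_cases hK1 : K = ⊥
  · rw [hK1, Subgroup.card_bot]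
    exact one_dvd _
  obtain ⟨k, hk, hk1⟩ : ∃ k ∈ K, k ≠ 1 := by
    by_contra hcon
    push Not at hcon
    exact hK1 ((Subgroup.eq_bot_iff_forall K).2 hcon)
  have hfix : L ⊓ centralizer (K : Set G) = Z₁ := by
    apply le_antisymm
    · rw [← h.hfix k hk hk1]
      exact inf_le_inf hL.2.1 (Subgroup.centralizer_le (Set.singleton_subset_iff.2 hk))
    · refine le_inf hL.1 ?_
      intro z hz
      rw [Subgroup.mem_centralizer_iff]
      intro x hx
      have h1 := h.conj_eq_of_mem hx hz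
      calc x * z = (x * z * x⁻¹) * x := by group
        _ = z * x := by rw [h1]
  obtain ⟨hDc, hKD, hDZ, hDL⟩ := eigen_line h.hp hL.2.2 h.hZ hKL h.hKcop hfix
  apply card_dvd_pred_of_faithful h.hp hDc hKD
  rw [eq_bot_iff]
  rintro x ⟨hxK, hxD⟩
  rw [Subgroup.mem_bot]
  by_contra hx1
  have hDle : ⁅L, K⁆ ≤ Z₁ := by
    rw [← h.hfix x hxK hx1]
    refine le_inf (hDL.trans hL.2.1) ?_
    intro d hd
    rw [Subgroup.mem_centralizer_iff]
    intro y hy
    rw [Set.mem_singleton_iff.1 hy]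
    exact (Subgroup.mem_centralizer_iff.1 hxD d hd).symm
  have hD0 : ⁅L, K⁆ = ⊥ := by
    rw [eq_bot_iff, ← hDZ]
    exact le_inf le_rfl hDle
  rw [hD0, Subgroup.card_bot] at hDc
  exact h.hp.one_lt.ne hDc

/-- without an invariant line no nonidentity element of `K` normalises a line -/
theorem not_mem_normalizer_of_forall (h : XS P Z₁ K p)
    (hno : ∀ L : Subgroup G, IsLine P Z₁ p L → ¬ K ≤ normalizer (L : Set G))
    {k : G} (hk : k ∈ K) (hk1 : k ≠ 1) {L : Subgroup G} (hL : IsLine P Z₁ p L) :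
    k ∉ normalizer (L : Set G) := by
  intro hkL
  haveI := h.hKc
  obtain ⟨g, hg⟩ := IsCyclic.exists_generator (α := ↥K)
  have hKz : K ≤ zpowers (g : G) := by
    intro x hx
    obtain ⟨n, hn⟩ := Subgroup.mem_zpowers_iff.1 (hg ⟨x, hx⟩)
    rw [Subgroup.mem_zpowers_iff]
    refine ⟨n, ?_⟩
    have := congrArg Subtype.val hn
    simpa using this
  have hgen : ∀ L' : Subgroup G, IsLine P Z₁ p L' → (g : G) ∉ normalizer (L' : Set G) := by
    intro L' hL' hgL
    apply hno L' hL'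
    refine hKz.trans ?_
    rw [Subgroup.zpowers_le]
    exact hgL
  have hL1 := h.isLine_map_conj g.2 hL
  have hL2 := h.isLine_map_conj g.2 hL1
  have hk1' := h.mem_normalizer_map_conj hk g.2 hkL
  have hk2' := h.mem_normalizer_map_conj hk g.2 hk1'
  have h01 : L ≠ L.map (MulAut.conj (g : G)).toMonoidHom := by
    intro h0
    exact hgen L hL (Cfsg.Agent.Helper15.mem_normalizer_of_map_conj_eq h0.symm)
  have h12 : L.map (MulAut.conj (g : G)).toMonoidHom ≠
      (L.map (MulAut.conj (g : G)).toMonoidHom).map (MulAut.conj (g : G)).toMonoidHom := by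
    intro h0
    exact hgen _ hL1 (Cfsg.Agent.Helper15.mem_normalizer_of_map_conj_eq h0.symm)
  have h02 : L ≠
      (L.map (MulAut.conj (g : G)).toMonoidHom).map (MulAut.conj (g : G)).toMonoidHom := by
    intro h0
    rw [Cfsg.Agent.Helper15.map_conj_map_conj] at h0
    have hgg : (g : G) * (g : G) ∈ normalizer (L : Set G) :=
      Cfsg.Agent.Helper15.mem_normalizer_of_map_conj_eq h0.symm
    apply hgen L hL
    have hodd : Odd (orderOf (g : G)) :=
      h.hKodd.of_dvd_nat (Subgroup.orderOf_dvd_natCard K g.2)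
    obtain ⟨m, hm⟩ := hodd
    have hpow : ((g : G) * (g : G)) ^ (m + 1) = (g : G) := by
      rw [← pow_two, ← pow_mul]
      have e : 2 * (m + 1) = orderOf (g : G) + 1 := by omega
      rw [e, pow_succ, pow_orderOf_eq_one, one_mul]
    rw [← hpow]
    exact Subgroup.pow_mem _ hgg _
  exact h.three_lines hk hk1 hL hL1 hL2 h01 h02 h12 hkL hk1' hk2'

/-- there are `p + 1` lines -/
theorem card_lines (h : XS P Z₁ K p) :
    Nat.card {L : Subgroup G // IsLine P Z₁ p L} = p + 1 := by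
  classical
  haveI : Fintype G := Fintype.ofFinite G
  haveI : Fintype (Subgroup G) := Fintype.ofFinite _
  have hp := h.hp
  have hf : Set.MapsTo (fun x : G => zpowers x ⊔ Z₁)
      ((Finset.univ.filter (fun x : G => x ∈ P ∧ x ∉ Z₁) : Finset G) : Set G)
      ((Finset.univ.filter (fun L : Subgroup G => IsLine P Z₁ p L) : Finset (Subgroup G)) :
        Set (Subgroup G)) := by
    intro x hx
    have hx' := (Finset.mem_filter.1 (Finset.mem_coe.1 hx)).2
    exact Finset.mem_coe.2 (Finset.mem_filter.2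
      ⟨Finset.mem_univ _, h.isLine_zpowers_sup hx'.1 hx'.2⟩)
  have h1 : (Finset.univ.filter (fun x : G => x ∈ P ∧ x ∉ Z₁)).card =
      (Finset.univ.filter (fun L : Subgroup G => IsLine P Z₁ p L)).card * (p ^ 2 - p) := by
    rw [Finset.card_eq_sum_card_fiberwise hf]
    apply Finset.sum_const_nat
    intro L hL
    have hL' : IsLine P Z₁ p L := (Finset.mem_filter.1 hL).2
    trans (Finset.univ.filter (fun x : G => x ∈ L ∧ x ∉ Z₁)).card
    · congr 1
      ext x
      simp only [Finset.mem_filter, Finset.mem_univ, true_and]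
      constructor
      · rintro ⟨⟨_, hxZ⟩, hfx⟩
        refine ⟨?_, hxZ⟩
        rw [← hfx]
        exact (le_sup_left : zpowers x ≤ zpowers x ⊔ Z₁) (Subgroup.mem_zpowers x)
      · rintro ⟨hxL, hxZ⟩
        exact ⟨⟨hL'.2.1 hxL, hxZ⟩, h.line_eq hL' hxL hxZ⟩
    · rw [card_filter_diff_eq hL'.1, hL'.2.2, h.hZ]
  rw [card_filter_diff_eq h.hZP, h.hP, h.hZ] at h1
  have h4 : Nat.card {L : Subgroup G // IsLine P Z₁ p L} =
      (Finset.univ.filter (fun L : Subgroup G => IsLine P Z₁ p L)).card := by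
    rw [Nat.card_eq_fintype_card]
    exact Fintype.card_subtype _
  rw [h4]
  have hlt : p < p ^ 2 := by
    have h5 := Nat.pow_lt_pow_right hp.one_lt (show 1 < 2 by norm_num)
    rwa [pow_one] at h5
  obtain ⟨q, hq⟩ := Nat.exists_eq_add_of_le hlt.le
  have hq0 : 0 < q := by omega
  have hq' : p ^ 2 - p = q := by omega
  have hp3 : p ^ 3 = p + q + p * q := by
    calc p ^ 3 = p * p ^ 2 := by ring
      _ = p * (p + q) := by rw [hq]
      _ = p ^ 2 + p * q := by ring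
      _ = p + q + p * q := by rw [hq]
  rw [hq', hp3] at h1
  have h5 : (Finset.univ.filter (fun L : Subgroup G => IsLine P Z₁ p L)).card * q =
      (p + 1) * q := by
    rw [← h1]
    have e : p + q + p * q - p = q + p * q := by omega
    rw [e]
    ring
  exact Nat.eq_of_mul_eq_mul_right hq0 h5

/-- without an invariant line, `K` acts freely on the lines -/
theorem card_dvd_succ_of_no_line (h : XS P Z₁ K p)
    (hno : ∀ L : Subgroup G, IsLine P Z₁ p L → ¬ K ≤ normalizer (L : Set G)) :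
    Nat.card ↥K ∣ p + 1 := by
  rw [← h.card_lines]
  letI act : MulAction ↥K {L : Subgroup G // IsLine P Z₁ p L} :=
    { smul := fun k L =>
        ⟨L.1.map (MulAut.conj (k : G)).toMonoidHom, h.isLine_map_conj k.2 L.2⟩
      one_smul := fun L => Subtype.ext (Cfsg.Agent.Helper15.map_conj_one L.1)
      mul_smul := fun a b L =>
        Subtype.ext (Cfsg.Agent.Helper15.map_conj_map_conj L.1 (a : G) (b : G)).symm }
  have hfree : ∀ L : {L : Subgroup G // IsLine P Z₁ p L}, MulAction.stabilizer ↥K L = ⊥ := by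
    intro L
    rw [eq_bot_iff]
    intro k hk
    rw [Subgroup.mem_bot]
    by_contra hk1
    have hk' : (k : G) ≠ 1 := fun h0 => hk1 (Subtype.ext h0)
    have h1 : k • L = L := hk
    have h2 : L.1.map (MulAut.conj (k : G)).toMonoidHom = L.1 := congrArg Subtype.val h1
    exact h.not_mem_normalizer_of_forall hno k.2 hk' L.2
      (Cfsg.Agent.Helper15.mem_normalizer_of_map_conj_eq h2)
  have e := MulAction.selfEquivOrbitsQuotientProd hfree
  have h3 := Nat.card_congr e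
  rw [Nat.card_prod] at h3
  exact Dvd.intro_left _ h3.symm

/-- **the `K`-lemma** -/
theorem card_dvd (h : XS P Z₁ K p) : Nat.card ↥K ∣ p - 1 ∨ Nat.card ↥K ∣ p + 1 := by
  by_cases hex : ∃ L : Subgroup G, IsLine P Z₁ p L ∧ K ≤ normalizer (L : Set G)
  · obtain ⟨L, hL, hKL⟩ := hex
    exact Or.inl (h.card_dvd_pred_of_line hL hKL)
  · right
    apply h.card_dvd_succ_of_no_line
    intro L hL hKL
    exact hex ⟨L, hL, hKL⟩

end XS

/-! ### narrow `p`-groups -/

/-- the case `Ω₁(Z(P)) = C_P(k)` -/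
theorem card_dvd_of_center {p : ℕ} [Fact p.Prime] (hp2 : p ≠ 2) {P K Z₁ : Subgroup G}
    (hPp : IsPGroup p ↥P) (hnar : IsNarrow p ↥P) (hnab : ¬ IsMulCommutative ↥P)
    (hKP : K ≤ normalizer (P : Set G)) (hKc : IsCyclic ↥K) (hKodd : Odd (Nat.card ↥K))
    (hKcop : (Nat.card ↥K).Coprime p) (hK1 : K ≠ ⊥)
    (hZ : Nat.card ↥Z₁ = p) (hZP : Z₁ ≤ P) (hZc : Z₁ ≤ centralizer (P : Set G))
    (hfix : ∀ k ∈ K, k ≠ 1 → P ⊓ centralizer ({k} : Set G) = Z₁)
    (hΩ : ∀ z ∈ P, z ∈ centralizer (P : Set G) → z ^ p = 1 → z ∈ Z₁) :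
    Nat.card ↥K ∣ p - 1 ∨ (Nat.card ↥P = p ^ 3 ∧ Nat.card ↥K ∣ p + 1) := by
  have hp : p.Prime := Fact.out
  haveI := hKc
  have hKcomm : IsMulCommutative ↥K := IsCyclic.isMulCommutative
  have hKsolv : Group.IsSolvable ↥K := Group.isSolvable_of_comm (isMulCommutative_iff.mp hKcomm)
  obtain ⟨k₁, hk₁, hk₁1⟩ : ∃ k ∈ K, k ≠ 1 := by
    by_contra hcon
    push Not at hcon
    exact hK1 ((Subgroup.eq_bot_iff_forall K).2 hcon)
  have hZK : Z₁ ≤ centralizer (K : Set G) := by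
    intro z hz
    rw [Subgroup.mem_centralizer_iff]
    intro k hk
    by_cases hk1 : k = 1
    · rw [hk1, one_mul, mul_one]
    · have h1 : z ∈ P ⊓ centralizer ({k} : Set G) := by
        rw [hfix k hk hk1]
        exact hz
      exact Subgroup.mem_centralizer_iff.1 h1.2 k (Set.mem_singleton k)
  have hCPK : P ⊓ centralizer (K : Set G) ≤ Z₁ := by
    rw [← hfix k₁ hk₁ hk₁1]
    exact inf_le_inf_left _ (Subgroup.centralizer_le (Set.singleton_subset_iff.2 hk₁))
  have hPZ : ¬ P ≤ Z₁ := by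
    intro hle
    apply hnab
    rw [isMulCommutative_iff]
    intro a b
    have hb : (b : G) ∈ centralizer (P : Set G) := hZc (hle b.2)
    exact Subtype.ext (Subgroup.mem_centralizer_iff.1 hb (a : G) a.2)
  have hP1 : P ≠ ⊥ := by
    intro h0
    apply hPZ
    rw [h0]
    exact bot_le
  have hcopP : (Nat.card ↥K).Coprime (Nat.card ↥P) := by
    obtain ⟨n, hn⟩ := IsPGroup.iff_card.mp hPp
    rw [hn]
    exact Nat.Coprime.pow_right n hKcop
  -- the centre of `P` is `Z₁`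
  have hcen : P ⊓ centralizer (P : Set G) ≤ Z₁ := by
    haveI hZPc : IsMulCommutative ↥(P ⊓ centralizer (P : Set G) : Subgroup G) := by
      rw [isMulCommutative_iff]
      intro a b
      exact Subtype.ext (Subgroup.mem_centralizer_iff.1 b.2.2 (a : G) a.2.1)
    have hKZP : K ≤ normalizer ((P ⊓ centralizer (P : Set G) : Subgroup G) : Set G) :=
      Cfsg.Agent.Helper14.le_normalizer_inf hKP
        (Cfsg.Agent.Helper14.le_normalizer_centralizer_of_le_normalizer hKP)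
    have hZPp : IsPGroup p ↥(P ⊓ centralizer (P : Set G) : Subgroup G) := hPp.to_le inf_le_left
    have hcopZ : (Nat.card ↥K).Coprime
        (Nat.card ↥(P ⊓ centralizer (P : Set G) : Subgroup G)) := by
      obtain ⟨n, hn⟩ := IsPGroup.iff_card.mp hZPp
      rw [hn]
      exact Nat.Coprime.pow_right n hKcop
    have h26 := Cfsg.Agent.S0026.result K (P ⊓ centralizer (P : Set G)) hKZP hcopZ
      (Or.inl hKsolv)
    have hbot := Cfsg.Agent.Helper1.commutator_inf_centralizer_eq_bot K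
      (P ⊓ centralizer (P : Set G)) hKZP hcopZ
    have hDle : ⁅(P ⊓ centralizer (P : Set G) : Subgroup G), K⁆ ≤ P ⊓ centralizer (P : Set G) :=
      Cfsg.Agent.Helper1.commutator_le_of_le_normalizer hKZP
    have hD0 : ⁅(P ⊓ centralizer (P : Set G) : Subgroup G), K⁆ = ⊥ := by
      by_contra hne
      obtain ⟨z, hzD, -, hzo⟩ := exists_central_orderOf_eq (hZPp.to_le hDle) hne
      have hzZ : z ∈ Z₁ := hΩ z (hDle hzD).1 (hDle hzD).2 (by
        rw [← hzo]
        exact pow_orderOf_eq_one z)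
      have h3 : z ∈ ⁅(P ⊓ centralizer (P : Set G) : Subgroup G), K⁆ ⊓ centralizer (K : Set G) :=
        ⟨hzD, hZK hzZ⟩
      rw [hbot, Subgroup.mem_bot] at h3
      rw [h3, orderOf_one] at hzo
      exact hp.one_lt.ne hzo
    rw [hD0, bot_sup_eq] at h26
    intro z hz
    apply hCPK
    refine ⟨hz.1, ?_⟩
    have h3 : z ∈ (P ⊓ centralizer (P : Set G)) ⊓ centralizer (K : Set G) := by
      rw [h26]
      exact hz
    exact h3.2
  -- `[P, K] = P`
  have hRA : ⁅P, K⁆ = P := by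
    have h26 := Cfsg.Agent.S0026.result K P hKP hcopP (Or.inl hKsolv)
    have hDP : ⁅P, K⁆ ≤ P := Cfsg.Agent.Helper1.commutator_le_of_le_normalizer hKP
    have hPD : P ≤ normalizer ((⁅P, K⁆ : Subgroup G) : Set G) :=
      Cfsg.Agent.Helper1.le_normalizer_commutator_left P K
    have hD1 : ⁅P, K⁆ ≠ ⊥ := by
      intro h0
      rw [h0, bot_sup_eq] at h26
      exact hPZ (h26.symm.le.trans hCPK)
    have hW := inf_centralizer_ne_bot hPp hDP hPD hD1
    have hWle : ⁅P, K⁆ ⊓ centralizer (P : Set G) ≤ Z₁ := (inf_le_inf_right _ hDP).trans hcen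
    have hWeq : ⁅P, K⁆ ⊓ centralizer (P : Set G) = Z₁ :=
      eq_of_le_of_ne_bot_of_card_prime hp hZ hWle hW
    have hZD : Z₁ ≤ ⁅P, K⁆ := by
      rw [← hWeq]
      exact inf_le_left
    apply le_antisymm hDP
    calc P = ⁅P, K⁆ ⊔ (P ⊓ centralizer (K : Set G)) := h26.symm
      _ ≤ ⁅P, K⁆ ⊔ Z₁ := sup_le_sup_left hCPK _
      _ ≤ ⁅P, K⁆ := sup_le le_rfl hZD
  have hfaith : K ⊓ centralizer (P : Set G) = ⊥ := by
    rw [eq_bot_iff]
    rintro x ⟨hxK, hxP⟩
    rw [Subgroup.mem_bot]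
    by_contra hx1
    apply hPZ
    rw [← hfix x hxK hx1]
    refine le_inf le_rfl ?_
    intro y hy
    rw [Subgroup.mem_centralizer_iff]
    intro w hw
    rw [Set.mem_singleton_iff.1 hw]
    exact (Subgroup.mem_centralizer_iff.1 hxP y hy).symm
  by_cases hr : PRankLE p 2 ↥P
  · obtain ⟨-, hor⟩ := Cfsg.Agent.S1448.result p hp2 P K hPp hP1 hr hKP hKcop hKodd hRA
    rcases hor with hab | ⟨R₁, R₂, hsup, hcomm, hR₁na, hR₁c, -, hR₂c, hcl⟩
    · exact absurd hab hnab
    · have hR₂P : R₂ ≤ P := by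
        rw [← hsup]
        exact le_sup_right
      have hR₂Z : R₂ ≤ Z₁ := by
        intro b hb
        apply hcen
        refine Subgroup.mem_inf.2 ⟨hR₂P hb, ?_⟩
        have hle : P ≤ centralizer ({b} : Set G) := by
          rw [← hsup]
          apply sup_le
          · intro a ha
            rw [Subgroup.mem_centralizer_iff]
            intro w hw
            rw [Set.mem_singleton_iff.1 hw]
            exact (hcomm a ha b hb).symm
          · intro c hc
            rw [Subgroup.mem_centralizer_iff]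
            intro w hw
            rw [Set.mem_singleton_iff.1 hw]
            haveI := hR₂c
            have h1 : IsMulCommutative ↥R₂ := IsCyclic.isMulCommutative
            have h2 := (isMulCommutative_iff.mp h1) ⟨b, hb⟩ ⟨c, hc⟩
            exact congrArg Subtype.val h2
        rw [Subgroup.mem_centralizer_iff]
        intro y hy
        exact (Subgroup.mem_centralizer_iff.1 (hle hy) b (Set.mem_singleton b)).symm
      have hcR : ⁅R₁, R₁⁆ ≤ R₂ := by
        rw [← hcl, Subgroup.closure_le]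
        intro x hx
        exact hx.1
      have hc1 : ⁅R₁, R₁⁆ ≠ ⊥ := by
        intro h0
        apply hR₁na
        rw [Subgroup.commutator_eq_bot_iff_le_centralizer] at h0
        rw [isMulCommutative_iff]
        intro a b
        exact Subtype.ext (Subgroup.mem_centralizer_iff.1 (h0 b.2) (a : G) a.2)
      have hcZ : ⁅R₁, R₁⁆ = Z₁ :=
        eq_of_le_of_ne_bot_of_card_prime hp hZ (hcR.trans hR₂Z) hc1
      have hcR₁ : ⁅R₁, R₁⁆ ≤ R₁ :=
        Cfsg.Agent.Helper1.commutator_le_of_le_normalizer Subgroup.le_normalizer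
      have hZR₁ : Z₁ ≤ R₁ := by
        rw [← hcZ]
        exact hcR₁
      have hPR : P = R₁ := by
        rw [← hsup]
        exact sup_eq_left.2 (hR₂Z.trans hZR₁)
      have hPc : Nat.card ↥P = p ^ 3 := by
        rw [hPR]
        exact hR₁c
      have hXS : XS P Z₁ K p :=
        { hp := hp, hP := hPc, hZ := hZ, hZP := hZP, hZc := hZc, hcen := hcen, hKP := hKP,
          hKodd := hKodd, hKcop := hKcop, hKc := hKc, hfix := hfix }
      rcases hXS.card_dvd with h1 | h1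
      · exact Or.inl h1
      · exact Or.inr ⟨hPc, h1⟩
  · left
    have h54 := (Cfsg.Agent.S1454.result p hp2 P K hPp hnar hKP hKsolv hKodd hfaith).2.1 hr
    obtain ⟨g, hg⟩ := IsCyclic.exists_generator (α := ↥K)
    have ho : orderOf (g : G) = Nat.card ↥K := by
      rw [Subgroup.orderOf_coe]
      exact orderOf_eq_card_of_forall_mem_zpowers hg
    have h3 := h54 (g : G) g.2 (by rw [ho]; exact hKcop)
    rwa [ho] at h3

/-- **a cyclic group of odd order acting on a narrow nonabelian `p`-group with cyclic centre, all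
of whose nonidentity elements have the same fixed points of order `p`** -/
theorem card_dvd_of_prime_action {p : ℕ} [Fact p.Prime] (hp2 : p ≠ 2) {P K Z : Subgroup G}
    (hPp : IsPGroup p ↥P) (hnar : IsNarrow p ↥P) (hnab : ¬ IsMulCommutative ↥P)
    (hKP : K ≤ normalizer (P : Set G)) (hKc : IsCyclic ↥K) (hKodd : Odd (Nat.card ↥K))
    (hKcop : (Nat.card ↥K).Coprime p) (hK1 : K ≠ ⊥)
    (hZ : Nat.card ↥Z = p) (hZP : Z ≤ P)
    (hfix : ∀ k ∈ K, k ≠ 1 → P ⊓ centralizer ({k} : Set G) = Z)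
    (hΩ : ∀ A : Subgroup G, A ≤ P → A ≤ centralizer (P : Set G) → (∀ a ∈ A, a ^ p = 1) →
      Nat.card ↥A ≤ p) :
    Nat.card ↥K ∣ p - 1 ∨ (Nat.card ↥P = p ^ 3 ∧ Nat.card ↥K ∣ p + 1) := by
  have hp : p.Prime := Fact.out
  have hP1 : P ≠ ⊥ := by
    intro h0
    rw [h0, le_bot_iff] at hZP
    rw [hZP, Subgroup.card_bot] at hZ
    exact hp.one_lt.ne hZ
  have hZ₁le : Nat.card ↥(omegaCenter P p) ≤ p :=
    hΩ _ (omegaCenter_le P p) (omegaCenter_le_centralizer P p) (fun a ha => ha.2.2)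
  obtain ⟨z, hzP, hzc, hzo⟩ := exists_central_orderOf_eq hPp hP1
  have hzZ₁ : zpowers z ≤ omegaCenter P p := by
    rw [Subgroup.zpowers_le]
    refine ⟨hzP, hzc, ?_⟩
    rw [← hzo]
    exact pow_orderOf_eq_one z
  have hZ₁ : Nat.card ↥(omegaCenter P p) = p := by
    apply le_antisymm hZ₁le
    have h1 := Subgroup.card_le_of_le hzZ₁
    rwa [Nat.card_zpowers, hzo] at h1
  by_cases hZZ : omegaCenter P p = Z
  · subst hZZ
    exact card_dvd_of_center hp2 hPp hnar hnab hKP hKc hKodd hKcop hK1 hZ (omegaCenter_le P p)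
      (omegaCenter_le_centralizer P p) hfix (fun z hz hzc hzp => ⟨hz, hzc, hzp⟩)
  · left
    apply card_dvd_pred_of_faithful hp hZ₁ (le_normalizer_omegaCenter p hKP)
    rw [eq_bot_iff]
    rintro x ⟨hxK, hxC⟩
    rw [Subgroup.mem_bot]
    by_contra hx1
    apply hZZ
    apply Subgroup.eq_of_le_of_card_ge
    · rw [← hfix x hxK hx1]
      refine le_inf (omegaCenter_le P p) ?_
      intro y hy
      rw [Subgroup.mem_centralizer_iff]
      intro w hw
      rw [Set.mem_singleton_iff.1 hw]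
      exact (Subgroup.mem_centralizer_iff.1 hxC y hy).symm
    · rw [hZ, hZ₁]

end Cfsg.Agent.Helper1.BG158
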