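import Mathlib
import Cfsg.Agent.Lib.Helper1.BG157A
import Cfsg.Agent.Lib.Helper1.BG158A
import Cfsg.Agent.Lib.Helper1.BG158B
import Cfsg.Agent.Lib.Helper22.BG13A

/-!
# Bender–Glauberman 15.8, the trichotomy for `U = 1` (helper1)

`trichotomy`: let `M = K M_σ` (`K ≠ 1`, `U = 1`, `M_F = M_σ`) and suppose `F(M)` meets a
conjugate `F(M)^g`, `g ∉ M`, nontrivially.  Then for some prime `p` dividing `|M_F|` the group
`O_{p'}(M_F)` is cyclic and `|K|` divides `p - 1`, or `|O_p(M_F)| = p ^ 3` and `|K|` divides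
`p + 1`.  All frozen inputs are hypotheses of the statements' shapes.
-/

set_option autoImplicit false

namespace Cfsg.Agent.Helper1.BG158

open Cfsg Subgroup
open Cfsg.Agent.Helper15 (IsSylowIn)
open Cfsg.Agent.Helper22.BG13 (Hyp1350 Hyp1417 Hyp1418)

universe u

variable {G : Type u} [Group G] [Finite G]

/-! ### auxiliary lemmas -/

/-- a nontrivial `t`-subgroup of a complement of `N_σ` has `t ∉ σ(N)` -/
theorem not_mem_sigma_of_le_compl {N E T : Subgroup G}
    (h50N : IsPiHallOf (sigma N) (sigmaCore N) N) (hcompl : IsComplIn E (sigmaCore N) N)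
    {t : ℕ} [Fact t.Prime] (hT : IsPGroup t ↥T) (hTE : T ≤ E) (hT1 : T ≠ ⊥) : t ∉ sigma N := by
  intro htσ
  have ht : t.Prime := Fact.out
  have hNn : N ≤ normalizer ((sigmaCore N : Subgroup G) : Set G) :=
    Cfsg.Agent.Helper14.BGTrans.le_normalizer_piCoreOf (sigma N) N
  have hTN : T ≤ N := hTE.trans hcompl.1
  have hTσ : T ≤ sigmaCore N := by
    apply Cfsg.Agent.Helper1.PiHall.le_of_isPiHallOf_of_le_normalizer h50N hNn hTN
    intro q hq hqd
    obtain ⟨k, hk⟩ := IsPGroup.iff_card.mp hT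
    rw [hk] at hqd
    have hqt : q = t := (Nat.prime_dvd_prime_iff_eq hq ht).1 (hq.dvd_of_dvd_pow hqd)
    rw [hqt]
    exact htσ
  exact hT1 (eq_bot_iff.2 ((le_inf hTE hTσ).trans hcompl.2.2.1.le))

theorem pRankLE_two_of_not_mem_sigma (hG : IsMinSimpleOddOrder G) {N : Subgroup G}
    (hN : IsCoatom N) {t : ℕ} (ht : t.Prime) (htσ : t ∉ sigma N) : PRankLE t 2 ↥N := by
  by_contra h
  exact htσ (Cfsg.Agent.Helper23.BG10.alpha_subset_sigma hG
    (Cfsg.Agent.Helper17.BG11.uniqThm hG) hN ⟨ht, h⟩)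

/-- elements of a `u`-subgroup and of a `q`-subgroup of a nilpotent subgroup commute -/
theorem commute_of_isPGroup_of_nilpotent {H T Q : Subgroup G} (hnil : Group.IsNilpotent ↥H)
    {u q : ℕ} (hu : u.Prime) (hq : q.Prime) (huq : u ≠ q) (hT : IsPGroup u ↥T) (hTH : T ≤ H)
    (hQ : IsPGroup q ↥Q) (hQH : Q ≤ H) {t a : G} (ht : t ∈ T) (ha : a ∈ Q) :
    a * t = t * a := by
  haveI : Fact u.Prime := ⟨hu⟩
  haveI : Fact q.Prime := ⟨hq⟩
  obtain ⟨k, hk⟩ := (IsPGroup.iff_orderOf.1 hT) ⟨t, ht⟩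
  have hk' : orderOf t = u ^ k := by rw [← hk, Subgroup.orderOf_mk]
  obtain ⟨j, hj⟩ := (IsPGroup.iff_orderOf.1 hQ) ⟨a, ha⟩
  have hj' : orderOf a = q ^ j := by rw [← hj, Subgroup.orderOf_mk]
  have hc : (orderOf a).Coprime (orderOf t) := by
    rw [hk', hj']
    exact Nat.Coprime.pow _ _ ((Nat.coprime_primes hq hu).2 (Ne.symm huq))
  exact Cfsg.Agent.Helper21.commute_of_mem_of_nilpotent hnil (hQH ha) (hTH ht) hc

/-- an elementary abelian subgroup of a group of `p`-rank at most `k` -/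
theorem card_le_of_pRankLE {N B : Subgroup G} {p k : ℕ} (hr : PRankLE p k ↥N) (hBN : B ≤ N)
    (hBc : ∀ x ∈ B, ∀ y ∈ B, x * y = y * x) (hBe : ∀ x ∈ B, x ^ p = 1) :
    Nat.card ↥B ≤ p ^ k := by
  have h1 := hr (B.subgroupOf N) ?_ ?_
  · rwa [Nat.card_congr (Subgroup.subgroupOfEquivOfLe hBN).toEquiv] at h1
  · rw [isMulCommutative_iff]
    intro a b
    have h2 := hBc _ (Subgroup.mem_subgroupOf.1 a.2) _ (Subgroup.mem_subgroupOf.1 b.2)
    exact Subtype.ext (Subtype.ext h2)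
  · intro a ha
    have h2 := hBe _ (Subgroup.mem_subgroupOf.1 ha)
    apply Subtype.ext
    simpa using h2

/-- the Sylow `p`-subgroup of `M_σ` is narrow for `p ∈ σ(M) - β(M)` -/
theorem isNarrow_sylow_sigmaCore (hG : IsMinSimpleOddOrder G) {M : Subgroup G} (hM : IsCoatom M)
    (h50M : IsPiHallOf (sigma M) (sigmaCore M) M) {p : ℕ} [Fact p.Prime] (hpσ : p ∈ sigma M)
    (hpβ : p ∉ beta M) {T : Subgroup G} (hT : IsSylowIn p T (sigmaCore M)) : IsNarrow p ↥T := by
  have hp : p.Prime := Fact.out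
  have hU := Cfsg.Agent.Helper17.BG11.uniqThm hG
  have hMσ : sigmaCore M ≤ M := Cfsg.Agent.Helper14.BGTrans.piCoreOf_le (sigma M) M
  have hTM : T ≤ M := hT.le.trans hMσ
  by_cases hr : PRankLE p 2 ↥M
  · exact Or.inl (Cfsg.Agent.Helper7.BG12.pRankLE_of_injective (Subgroup.inclusion hTM)
      (Subgroup.inclusion_injective hTM) hr)
  · have hα : p ∈ alpha M := ⟨hp, hr⟩
    have hni : ¬ IsIdealPrime p G := fun h => hpβ ⟨hα, h⟩
    have hTS : IsSylowIn p T M := by
      apply Cfsg.Agent.Helper15.isSylowIn_of_not_dvd_relIndex hT.isPGroup hTM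
      rw [← Subgroup.relIndex_mul_relIndex T (sigmaCore M) M hT.le hMσ]
      intro hd
      rcases (Nat.Prime.dvd_mul hp).1 hd with h | h
      · exact hT.not_dvd_relIndex h
      · exact h50M.2.2 p hp hpσ h
    have h1 := Cfsg.Agent.Helper11.BG108.isNarrow_sylow hG hU hM hα hni hTS.toSylow
    have e : ↥((hTS.toSylow : Sylow p ↥M) : Subgroup ↥M) ≃* ↥T :=
      (MulEquiv.subgroupCongr hTS.coe_toSylow).trans (Subgroup.subgroupOfEquivOfLe hTM)
    exact Cfsg.Agent.Helper8.Narrow.isNarrow_of_mulEquiv e h1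

theorem isNilpotent_fittingHallOf' (M : Subgroup G) : Group.IsNilpotent ↥(fittingHallOf M) := by
  have h := Cfsg.Agent.Helper7.fittingHall_isNilpotent ↥M
  unfold fittingHallOf
  exact Group.nilpotent_of_mulEquiv
    ((fittingHall ↥M).equivMapOfInjective M.subtype M.subtype_injective)

/-! ### the trichotomy from the datum `(p, y, N)` -/

theorem trichotomy_core (hG : IsMinSimpleOddOrder G) (h1350 : Hyp1350 G) (h1417 : Hyp1417 G)
    (h1418 : Hyp1418 G)
    (h1420 : ∀ L : Subgroup G, IsCoatom L → ∀ E : Subgroup G, IsComplIn E (sigmaCore L) L →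
      ∀ X : Subgroup G, X ≤ L → Group.IsNilpotent ↥X →
        (∀ q : ℕ, q.Prime → q ∣ Nat.card ↥X → q ∉ sigma L) → IsMulCommutative ↥X)
    {M K U H : Subgroup G} (hM : IsCoatom M) (hKU : IsSigmaDecomposition M K U) (hK1 : K ≠ ⊥)
    (hU : U = ⊥) (hHσ : H = sigmaCore M) (hnil : Group.IsNilpotent ↥H)
    (h65 : ⁅M, M⁆ = U ⊔ sigmaCore M ∧
      sigmaCore M ⊓ centralizer (K : Set G) ≤ ⁅⁅M, M⁆, ⁅M, M⁆⁆)
    (h73 : (Nat.card ↥(sigmaCore M ⊓ centralizer (K : Set G))).Prime)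
    (h30 : ∀ k ∈ K, k ≠ 1 → sigmaCore M ⊓ centralizer ({k} : Set G) =
      sigmaCore M ⊓ centralizer (K : Set G))
    {p : ℕ} {y : G} {N : Subgroup G} (hp : p.Prime) (hpσ : p ∈ sigma M) (hpβ : p ∉ beta M)
    (hyσ : y ∈ sigmaCore M) (hyo : orderOf y = p) (hN : IsCoatom N)
    (hCN : centralizer ({y} : Set G) ≤ N) (hcompl : IsComplIn (M ⊓ N) (sigmaCore N) N) :
    p ∣ Nat.card ↥H ∧ IsCyclic ↥(pPrimeCore p ↥H) ∧
      (Nat.card ↥K ∣ p - 1 ∨ (Nat.card ↥(pCore p ↥H) = p ^ 3 ∧ Nat.card ↥K ∣ p + 1)) := by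
  subst hHσ
  haveI : Fact p.Prime := ⟨hp⟩
  have h50M : IsPiHallOf (sigma M) (sigmaCore M) M := (h1350 M hM).1
  have h50N : IsPiHallOf (sigma N) (sigmaCore N) N := (h1350 N hN).1
  have hMσ : sigmaCore M ≤ M := Cfsg.Agent.Helper14.BGTrans.piCoreOf_le (sigma M) M
  have hMn : M ≤ normalizer ((sigmaCore M : Subgroup G) : Set G) :=
    Cfsg.Agent.Helper14.BGTrans.le_normalizer_piCoreOf (sigma M) M
  have hoddG : ∀ t : ℕ, t ∣ Nat.card G → Odd t := fun t ht => Odd.of_dvd_nat hG.1 ht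
  -- `K`
  have hKM : K ≤ M := hKU.hall.1
  have hKc : IsCyclic ↥K := hKU.cyclic
  have hKodd : Odd (Nat.card ↥K) := hoddG _ (Subgroup.card_subgroup_dvd_card K)
  have hKcop : (Nat.card ↥K).Coprime p := by
    apply Nat.Coprime.symm
    rw [Nat.Prime.coprime_iff_not_dvd hp]
    intro hd
    exact (hKU.hall.2.1 p hp hd).2.2.1 hpσ
  -- `M' = M_σ` and `K* ≤ (M_σ)'`
  have hM' : ⁅M, M⁆ = sigmaCore M := by
    rw [h65.1, hU, bot_sup_eq]
  have hKs : sigmaCore M ⊓ centralizer (K : Set G) ≤ ⁅sigmaCore M, sigmaCore M⁆ := by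
    have h1 := h65.2
    rwa [hM'] at h1
  have hfalse : (∀ a ∈ sigmaCore M, ∀ b ∈ sigmaCore M, a * b = b * a) → False := by
    intro hab
    have h0 : ⁅sigmaCore M, sigmaCore M⁆ = ⊥ := by
      rw [Subgroup.commutator_eq_bot_iff_le_centralizer]
      intro a ha
      rw [Subgroup.mem_centralizer_iff]
      intro b hb
      exact hab b hb a ha
    rw [h0, le_bot_iff] at hKs
    rw [hKs, Subgroup.card_bot] at h73
    exact Nat.not_prime_one h73
  -- the Sylow `p`-subgroup `P` of `M_σ`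
  obtain ⟨P, hP⟩ := Cfsg.Agent.Helper15.exists_isSylowIn (p := p) (sigmaCore M)
  have hMP : M ≤ normalizer (P : Set G) :=
    Cfsg.Agent.Helper22.BG13.le_normalizer_sylow_of_nilpotent_normal hMn hnil hP
  have hHP : sigmaCore M ≤ normalizer (P : Set G) := hMσ.trans hMP
  have hy1 : y ≠ 1 := by
    intro h0
    rw [h0, orderOf_one] at hyo
    exact hp.one_lt.ne hyo
  have hyQ : IsPGroup p ↥(zpowers y) := by
    apply IsPGroup.of_card (n := 1)
    rw [Nat.card_zpowers, hyo, pow_one]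
  have hyH : zpowers y ≤ sigmaCore M := by
    rw [Subgroup.zpowers_le]
    exact hyσ
  have hyP : y ∈ P :=
    le_of_isSylowIn_of_le_normalizer hP hHP hyQ hyH (Subgroup.mem_zpowers y)
  have hyN : y ∈ N := by
    apply hCN
    rw [Subgroup.mem_centralizer_iff]
    intro z hz
    rw [Set.mem_singleton_iff.1 hz]
  have hyE : zpowers y ≤ M ⊓ N := by
    rw [Subgroup.zpowers_le]
    exact ⟨hMσ hyσ, hyN⟩
  have hpσN : p ∉ sigma N := by
    apply not_mem_sigma_of_le_compl h50N hcompl hyQ hyE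
    intro h0
    exact hy1 (Subgroup.zpowers_eq_bot.1 h0)
  have hr2N : PRankLE p 2 ↥N := pRankLE_two_of_not_mem_sigma hG hN hp hpσN
  -- subgroups of `M_σ` of order prime to `p` lie in `M ∩ N`
  have hTE : ∀ t : ℕ, t.Prime → t ≠ p → ∀ T : Subgroup G, IsPGroup t ↥T → T ≤ sigmaCore M →
      T ≤ M ⊓ N := by
    intro t ht htp T hT hTH
    refine le_inf (hTH.trans hMσ) ?_
    refine le_trans ?_ hCN
    intro x hx
    rw [Subgroup.mem_centralizer_iff]
    intro z hz
    rw [Set.mem_singleton_iff.1 hz]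
    exact commute_of_isPGroup_of_nilpotent hnil ht hp htp hT hTH hyQ hyH hx
      (Subgroup.mem_zpowers y)
  by_cases hcyc : ∀ t : ℕ, t.Prime → t ≠ p → ∀ T : Subgroup G, IsSylowIn t T (sigmaCore M) →
      IsCyclic ↥T
  swap
  · -- some Sylow `q`-subgroup, `q ≠ p`, is not cyclic: `M_σ` is abelian, a contradiction
    exfalso
    push Not at hcyc
    obtain ⟨q, hq, hqp, Q, hQ, hQnc⟩ := hcyc
    haveI : Fact q.Prime := ⟨hq⟩
    have hQE : Q ≤ M ⊓ N := hTE q hq hqp Q hQ.isPGroup hQ.le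
    have hQN : Q ≤ N := hQE.trans inf_le_right
    have hQ1 : Q ≠ ⊥ := by
      intro h0
      apply hQnc
      rw [h0]
      infer_instance
    have hqσN : q ∉ sigma N := not_mem_sigma_of_le_compl h50N hcompl hQ.isPGroup hQE hQ1
    have hr2Nq : PRankLE q 2 ↥N := pRankLE_two_of_not_mem_sigma hG hN hq hqσN
    have hr2Q : PRankLE q 2 ↥Q :=
      Cfsg.Agent.Helper7.BG12.pRankLE_of_injective (Subgroup.inclusion hQN)
        (Subgroup.inclusion_injective hQN) hr2Nq
    have hqodd : Odd q := by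
      apply hoddG
      obtain ⟨k, hk⟩ := IsPGroup.iff_card.mp hQ.isPGroup
      have hk0 : k ≠ 0 := by
        intro h0
        rw [h0, pow_zero] at hk
        exact hQ1 (Subgroup.card_eq_one.1 hk)
      have h1 : q ∣ Nat.card ↥Q := by
        rw [hk]
        exact dvd_pow_self q hk0
      exact h1.trans (Subgroup.card_subgroup_dvd_card Q)
    have hr1Q : ¬ PRankLE q 1 ↥Q := fun h =>
      hQnc (Cfsg.Agent.Helper7.BG12.isCyclic_of_pRankLE_one hqodd hQ.isPGroup h)
    obtain ⟨A, hAQ, hAe, hAc⟩ := Cfsg.Agent.Helper23.BG10.exists_elemAb_sq hr2Q hr1Q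
    have hr1N : ¬ PRankLE q 1 ↥N := fun h =>
      hr1Q (Cfsg.Agent.Helper7.BG12.pRankLE_of_injective (Subgroup.inclusion hQN)
        (Subgroup.inclusion_injective hQN) h)
    have hτ : q ∈ tau2 N := ⟨hq, hqσN, hr2Nq, hr1N⟩
    have h18 := h1418 N hN (M ⊓ N) hcompl q hτ A ⟨hAQ.trans hQE, hAe, hAc⟩
    have hCA : centralizer (A : Set G) ≤ M ⊓ N := by
      rw [← h18.2.1.2.1]
      exact h18.2.1.1
    have hHQ : sigmaCore M ≤ normalizer (Q : Set G) :=
      Cfsg.Agent.Helper22.BG13.le_normalizer_of_isNilpotent hnil hQ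
    have heq : sigmaCore M ⊓ (M ⊓ N) = sigmaCore M := by
      apply Cfsg.Agent.Helper4.BGSig.eq_of_forall_sylow_le inf_le_left
      intro u hu _
      haveI : Fact u.Prime := ⟨hu⟩
      obtain ⟨T, hT⟩ := Cfsg.Agent.Helper15.exists_isSylowIn (p := u) (sigmaCore M)
      refine ⟨T, hT, le_inf hT.le ?_⟩
      by_cases huq : u = q
      · have hTq : IsPGroup q ↥T := by
          rw [← huq]
          exact hT.isPGroup
        exact (le_of_isSylowIn_of_le_normalizer hQ hHQ hTq hT.le).trans hQE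
      · refine le_trans ?_ hCA
        intro t ht
        rw [Subgroup.mem_centralizer_iff]
        intro a ha
        exact commute_of_isPGroup_of_nilpotent hnil hu hq huq hT.isPGroup hT.le hQ.isPGroup
          hQ.le ht (hAQ ha)
    have hHE : sigmaCore M ≤ M ⊓ N := heq.symm.le.trans inf_le_right
    have hprimes : ∀ t : ℕ, t.Prime → t ∣ Nat.card ↥(sigmaCore M) → t ∉ sigma N := by
      intro t ht htd
      haveI : Fact t.Prime := ⟨ht⟩
      obtain ⟨z, hz⟩ := exists_prime_orderOf_dvd_card' t htd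
      have hzo : orderOf (z : G) = t := by
        rw [Subgroup.orderOf_coe]
        exact hz
      apply not_mem_sigma_of_le_compl h50N hcompl (T := zpowers (z : G))
      · apply IsPGroup.of_card (n := 1)
        rw [Nat.card_zpowers, hzo, pow_one]
      · rw [Subgroup.zpowers_le]
        exact hHE z.2
      · intro h0
        have h1 := Subgroup.zpowers_eq_bot.1 h0
        rw [h1, orderOf_one] at hzo
        exact ht.one_lt.ne hzo
    have hab := h1420 N hN (M ⊓ N) hcompl (sigmaCore M) (hHE.trans inf_le_right) hnil hprimes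
    apply hfalse
    intro a ha b hb
    have h1 := (isMulCommutative_iff.mp hab) ⟨a, ha⟩ ⟨b, hb⟩
    exact congrArg Subtype.val h1
  -- all Sylow `t`-subgroups, `t ≠ p`, are cyclic
  have hOcyc : IsCyclic ↥(pPrimeCore p ↥(sigmaCore M)) := isCyclic_pPrimeCore hnil hcyc
  have hcomP : ⁅sigmaCore M, sigmaCore M⁆ ≤ P := commutator_le_sylow hnil hP hcyc
  have hKsP : sigmaCore M ⊓ centralizer (K : Set G) ≤ P := hKs.trans hcomP
  have hKsc : Nat.card ↥(sigmaCore M ⊓ centralizer (K : Set G)) = p := by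
    obtain ⟨n, hn⟩ := IsPGroup.iff_card.mp hP.isPGroup
    have hdvd : Nat.card ↥(sigmaCore M ⊓ centralizer (K : Set G)) ∣ p ^ n := by
      rw [← hn]
      exact Subgroup.card_dvd_of_le hKsP
    exact (Nat.prime_dvd_prime_iff_eq h73 hp).1 (h73.dvd_of_dvd_pow hdvd)
  have hnab : ¬ IsMulCommutative ↥P := by
    intro hab
    apply hfalse
    apply comm_of_sylow hnil hP _ hcyc
    intro a ha b hb
    have h1 := (isMulCommutative_iff.mp hab) ⟨a, ha⟩ ⟨b, hb⟩
    exact congrArg Subtype.val h1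
  have hKP : K ≤ normalizer (P : Set G) := hKM.trans hMP
  have hfix : ∀ k ∈ K, k ≠ 1 → P ⊓ centralizer ({k} : Set G) =
      sigmaCore M ⊓ centralizer (K : Set G) := by
    intro k hk hk1
    apply le_antisymm
    · rw [← h30 k hk hk1]
      exact inf_le_inf_right _ hP.le
    · refine le_inf hKsP ?_
      rw [← h30 k hk hk1]
      exact inf_le_right
  have hnar : IsNarrow p ↥P := isNarrow_sylow_sigmaCore hG hM h50M hpσ hpβ hP
  have hpG : p ∣ Nat.card G := by
    have h1 := orderOf_dvd_natCard y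
    rwa [hyo] at h1
  have hp2 : p ≠ 2 := by
    intro h2
    have h3 := hoddG p hpG
    rw [h2] at h3
    exact absurd h3 (by decide)
  -- `y` is not central in `P`
  have hPy : ¬ P ≤ centralizer ({y} : Set G) := by
    intro hPy
    have hPN : P ≤ N := hPy.trans hCN
    have hr2P : PRankLE p 2 ↥P :=
      Cfsg.Agent.Helper7.BG12.pRankLE_of_injective (Subgroup.inclusion hPN)
        (Subgroup.inclusion_injective hPN) hr2N
    have hr1P : ¬ PRankLE p 1 ↥P := by
      intro h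
      haveI : IsCyclic ↥P :=
        Cfsg.Agent.Helper7.BG12.isCyclic_of_pRankLE_one (hoddG p hpG) hP.isPGroup h
      exact hnab IsCyclic.isMulCommutative
    obtain ⟨A₀, hA₀P, hA₀e, hA₀c⟩ := Cfsg.Agent.Helper23.BG10.exists_elemAb_sq hr2P hr1P
    have hr1N : ¬ PRankLE p 1 ↥N := fun h =>
      hr1P (Cfsg.Agent.Helper7.BG12.pRankLE_of_injective (Subgroup.inclusion hPN)
        (Subgroup.inclusion_injective hPN) h)
    have hτ : p ∈ tau2 N := ⟨hp, hpσN, hr2N, hr1N⟩
    have h17 := (h1417 N hN p hτ A₀ ⟨hA₀P.trans hPN, hA₀e, hA₀c⟩).2.1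
    have hPs : IsPGroup p ↥(P.subgroupOf N) := hP.isPGroup.comap_subtype
    obtain ⟨S, hS⟩ := hPs.exists_le_sylow
    apply hnab
    rw [isMulCommutative_iff]
    intro a b
    have ha : (⟨(a : G), hPN a.2⟩ : ↥N) ∈ (S : Subgroup ↥N) :=
      hS (Subgroup.mem_subgroupOf.2 a.2)
    have hb : (⟨(b : G), hPN b.2⟩ : ↥N) ∈ (S : Subgroup ↥N) :=
      hS (Subgroup.mem_subgroupOf.2 b.2)
    have h3 := (isMulCommutative_iff.mp (h17 S).1) ⟨_, ha⟩ ⟨_, hb⟩
    have h4 := congrArg Subtype.val h3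
    have h5 := congrArg Subtype.val h4
    exact Subtype.ext h5
  -- the centre of `P` is cyclic
  have hΩ : ∀ A : Subgroup G, A ≤ P → A ≤ centralizer (P : Set G) → (∀ a ∈ A, a ^ p = 1) →
      Nat.card ↥A ≤ p := by
    intro A hAP hAc hAe
    have hyA : y ∉ A := by
      intro hyA
      apply hPy
      intro x hx
      rw [Subgroup.mem_centralizer_iff]
      intro z hz
      rw [Set.mem_singleton_iff.1 hz]
      exact (Subgroup.mem_centralizer_iff.1 (hAc hyA) x hx).symm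
    have hAy : ∀ a ∈ A, a * y = y * a := fun a ha =>
      (Subgroup.mem_centralizer_iff.1 (hAc ha) y hyP).symm
    have hyy : ∀ b ∈ zpowers y, ∀ b' ∈ zpowers y, b * b' = b' * b := by
      intro b hb b' hb'
      obtain ⟨i, rfl⟩ := Subgroup.mem_zpowers_iff.1 hb
      obtain ⟨j, rfl⟩ := Subgroup.mem_zpowers_iff.1 hb'
      exact ((Commute.refl y).zpow_zpow i j).eq
    have hAB : ∀ a ∈ A, ∀ b ∈ zpowers y, a * b = b * a := by
      intro a ha b hb
      obtain ⟨i, rfl⟩ := Subgroup.mem_zpowers_iff.1 hb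
      have h1 : Commute a y := hAy a ha
      exact (h1.zpow_right i).eq
    have hAA : ∀ a ∈ A, ∀ a' ∈ A, a * a' = a' * a := by
      intro a ha a' ha'
      exact Subgroup.mem_centralizer_iff.1 (hAc ha') a (hAP ha)
    have hye : ∀ b ∈ zpowers y, b ^ p = 1 := by
      intro b hb
      have h1 : orderOf b ∣ p := by
        have h2 := Subgroup.orderOf_dvd_natCard (zpowers y) hb
        rwa [Nat.card_zpowers, hyo] at h2
      exact orderOf_dvd_iff_pow_eq_one.1 h1
    obtain ⟨hBc, hBe⟩ := elemAb_sup hAA hyy hAB hAe hye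
    have hBP : A ⊔ zpowers y ≤ P := by
      refine sup_le hAP ?_
      rw [Subgroup.zpowers_le]
      exact hyP
    have hBN : A ⊔ zpowers y ≤ N := by
      refine le_trans ?_ hCN
      apply sup_le
      · intro a ha
        rw [Subgroup.mem_centralizer_iff]
        intro z hz
        rw [Set.mem_singleton_iff.1 hz]
        exact (hAy a ha).symm
      · rw [Subgroup.zpowers_le, Subgroup.mem_centralizer_iff]
        intro z hz
        rw [Set.mem_singleton_iff.1 hz]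
    have hBcard : Nat.card ↥(A ⊔ zpowers y : Subgroup G) ≤ p ^ 2 :=
      card_le_of_pRankLE hr2N hBN hBc hBe
    have hne : A ≠ A ⊔ zpowers y := by
      intro h0
      apply hyA
      rw [h0]
      exact (le_sup_right : zpowers y ≤ A ⊔ zpowers y) (Subgroup.mem_zpowers y)
    have h3 := mul_card_le_of_ne (hP.isPGroup.to_le hBP) (le_sup_left : A ≤ A ⊔ zpowers y) hne
    have h4 : p * Nat.card ↥A ≤ p * p := by
      calc p * Nat.card ↥A ≤ Nat.card ↥(A ⊔ zpowers y : Subgroup G) := h3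
        _ ≤ p ^ 2 := hBcard
        _ = p * p := sq p
    exact Nat.le_of_mul_le_mul_left h4 hp.pos
  have hres := card_dvd_of_prime_action hp2 hP.isPGroup hnar hnab hKP hKc hKodd hKcop hK1 hKsc
    hKsP hfix hΩ
  refine ⟨?_, hOcyc, ?_⟩
  · have h1 := Subgroup.orderOf_dvd_natCard (sigmaCore M) hyσ
    rwa [hyo] at h1
  · rw [card_pCore_eq hP hHP]
    exact hres

/-! ### the trichotomy -/

/-- **Bender–Glauberman 15.8 for `U = 1`**, from the frozen shapes of S1350, S1417, S1418, S1420,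
S1426, S1374, S1375, S1365, S1373 and S1430 -/
theorem trichotomy (hG : IsMinSimpleOddOrder G) (h1350 : Hyp1350 G) (h1417 : Hyp1417 G)
    (h1418 : Hyp1418 G)
    (h1420 : ∀ L : Subgroup G, IsCoatom L → ∀ E : Subgroup G, IsComplIn E (sigmaCore L) L →
      ∀ X : Subgroup G, X ≤ L → Group.IsNilpotent ↥X →
        (∀ q : ℕ, q.Prime → q ∣ Nat.card ↥X → q ∉ sigma L) → IsMulCommutative ↥X)
    {M K U : Subgroup G} (hM : IsCoatom M) (hKU : IsSigmaDecomposition M K U) (hK1 : K ≠ ⊥)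
    (hU : U = ⊥) (hH : fittingHallOf M = sigmaCore M)
    (h26 : ∀ g : G, g ∉ M → ∀ p : ℕ, p.Prime →
      p ∣ Nat.card ↥(sigmaCore M ⊓ M.map (MulAut.conj g).toMonoidHom) → p ∉ beta M)
    (h74 : ∀ y : G, y ∈ sigmaCore M → y ≠ 1 → ∃ R : Subgroup G,
      IsComplIn (M ⊓ centralizer ({y} : Set G)) R (centralizer ({y} : Set G)) ∧
      ∀ g : G, y ∈ M.map (MulAut.conj g).toMonoidHom →
        ∃! r : G, r ∈ R ∧
          M.map (MulAut.conj r).toMonoidHom = M.map (MulAut.conj g).toMonoidHom)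
    (h75 : ∀ y : G, y ∈ sigmaCore M → y ≠ 1 → ¬ centralizer ({y} : Set G) ≤ M →
      ∃ N : Subgroup G, IsCoatom N ∧ centralizer ({y} : Set G) ≤ N ∧
        IsComplIn (M ⊓ N) (sigmaCore N) N)
    (h65 : ⁅M, M⁆ = U ⊔ sigmaCore M ∧
      sigmaCore M ⊓ centralizer (K : Set G) ≤ ⁅⁅M, M⁆, ⁅M, M⁆⁆)
    (h73 : (Nat.card ↥(sigmaCore M ⊓ centralizer (K : Set G))).Prime)
    (h30 : ∀ k ∈ K, k ≠ 1 → sigmaCore M ⊓ centralizer ({k} : Set G) =
      sigmaCore M ⊓ centralizer (K : Set G))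
    {g : G} (hg : g ∉ M)
    (hne : fittingOf M ⊓ (fittingOf M).map (MulAut.conj g).toMonoidHom ≠ ⊥) :
    ∃ p : ℕ, p.Prime ∧ p ∣ Nat.card ↥(fittingHallOf M) ∧
      IsCyclic ↥(pPrimeCore p ↥(fittingHallOf M)) ∧
      (Nat.card ↥K ∣ p - 1 ∨
        (Nat.card ↥(pCore p ↥(fittingHallOf M)) = p ^ 3 ∧ Nat.card ↥K ∣ p + 1)) := by
  have h50M : IsPiHallOf (sigma M) (sigmaCore M) M := (h1350 M hM).1
  have h17d : ∀ (p : ℕ) [Fact p.Prime], p ∈ tau2 M → ∀ A : Subgroup G, A ≤ M →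
      IsElementaryAbelian p A → Nat.card ↥A = p ^ 2 →
      sigmaCore M ⊓ centralizer (A : Set G) = ⊥ :=
    fun p _ hp A hAM hAe hAc => (h1417 M hM p hp A ⟨hAM, hAe, hAc⟩).2.2.2.1
  obtain ⟨z, hz, hz1⟩ :
      ∃ z ∈ fittingOf M ⊓ (fittingOf M).map (MulAut.conj g).toMonoidHom, z ≠ 1 := by
    by_contra hcon
    push Not at hcon
    exact hne ((Subgroup.eq_bot_iff_forall _).2 hcon)
  obtain ⟨hzF, hzg⟩ := Subgroup.mem_inf.1 hz
  obtain ⟨x, hxF, hxz⟩ := Subgroup.mem_map.1 hzg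
  have hxz' : g * x * g⁻¹ = z := hxz
  have hx1 : x ≠ 1 := by
    intro h0
    apply hz1
    rw [← hxz', h0, mul_one, mul_inv_cancel]
  have hgN : g ∉ normalizer ((fittingOf M : Subgroup G) : Set G) := by
    have hF1 : fittingOf M ≠ ⊥ := by
      intro h0
      apply hx1
      have h1 := hxF
      rw [h0, Subgroup.mem_bot] at h1
      exact h1
    have hF2 : fittingOf M ≠ ⊤ :=
      ne_top_of_le_ne_top hM.1 (Cfsg.Agent.Helper8.FitPrime.fittingOf_le M)
    have hNtop := Cfsg.Agent.Helper22.BG127.normalizer_ne_top_of_simple hG hF1 hF2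
    have hMN : M ≤ normalizer ((fittingOf M : Subgroup G) : Set G) :=
      Cfsg.Agent.Helper14.BGUniq.le_normalizer_fittingOf M
    have hNM : normalizer ((fittingOf M : Subgroup G) : Set G) = M :=
      (hM.le_iff.1 hMN).resolve_left hNtop
    rw [hNM]
    exact hg
  have hgx : g * x * g⁻¹ ∈ fittingOf M := by
    rw [hxz']
    exact hzF
  obtain ⟨p, y, N, hp, hpσ, hpβ, hyσ, -, hyo, hN, hCN, -, hcompl⟩ :=
    Cfsg.Agent.Helper1.BG157.exists_data hG hM h50M h17d h26 h74 h75 hgN hxF hx1 hgx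
  have hnil : Group.IsNilpotent ↥(fittingHallOf M) := isNilpotent_fittingHallOf' M
  obtain ⟨h1, h2, h3⟩ := trichotomy_core hG h1350 h1417 h1418 h1420 hM hKU hK1 hU hH hnil h65 h73
    h30 hp hpσ hpβ hyσ hyo hN hCN hcompl
  exact ⟨p, hp, h1, h2, h3⟩

end Cfsg.Agent.Helper1.BG158
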