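import Mathlib
import Cfsg.Agent.Lib.Helper3.BcgloBasic

/-!
# Piece G2 of S5110 (for helper3)

In the working context `Ctx F p P`, with `GoalA F P`, the group `Aut_F(P)` is generated by the
restrictions to `P` of maps of the system defined on subgroups of `N_S(P)` strictly containing `P`.
-/

set_option autoImplicit false

namespace Cfsg.Agent.Helper1.BcgloG2

open Cfsg Cfsg.FusionSystem Cfsg.Agent.Helper25 Cfsg.Agent.Helper3.Bcglo

variable {Ω : Type*} [Group Ω] {S : Subgroup Ω}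

/-- `σ`, a map of the system on `N_S(P₁)`, carries `P₁` onto `P`. -/
structure NMap (F : FusionSystem S) (P P₁ : Subgroup Ω) (σ : ↥(normalizerIn S P₁) →* Ω) : Prop where
  mem : σ ∈ F.Hom (normalizerIn S P₁)
  val : ∀ x, σ x ∈ normalizerIn S P
  map : (P₁.subgroupOf (normalizerIn S P₁)).map σ = P

theorem hasNMap_iff (F : FusionSystem S) (P P₁ : Subgroup Ω) :
    HasNMap F P P₁ ↔ ∃ σ, NMap F P P₁ σ :=
  ⟨fun ⟨σ, h1, h2, h3⟩ => ⟨σ, ⟨h1, h2, h3⟩⟩, fun ⟨σ, h⟩ => ⟨σ, h.mem, h.val, h.map⟩⟩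

namespace NMap

variable {F : FusionSystem S} {P P₁ : Subgroup Ω} {σ : ↥(normalizerIn S P₁) →* Ω}

theorem apply_mem (h : NMap F P P₁ σ) {x : Ω} (hx1 : x ∈ normalizerIn S P₁) (hx : x ∈ P₁) :
    σ ⟨x, hx1⟩ ∈ P := by
  rw [← h.map, mem_map_subgroupOf]
  exact ⟨x, hx1, hx, rfl⟩

theorem exists_preimage (h : NMap F P P₁ σ) {y : Ω} (hy : y ∈ P) :
    ∃ (x : Ω) (hx1 : x ∈ normalizerIn S P₁), x ∈ P₁ ∧ σ ⟨x, hx1⟩ = y := by
  rw [← h.map, mem_map_subgroupOf] at hy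
  exact hy

theorem mem_of_apply_mem (h : NMap F P P₁ σ) {x : Ω} (hx1 : x ∈ normalizerIn S P₁)
    (hx : σ ⟨x, hx1⟩ ∈ P) : x ∈ P₁ := by
  obtain ⟨x', hx1', hx', e⟩ := h.exists_preimage hx
  have := F.injective_of_mem h.mem e
  have e2 : x' = x := congrArg Subtype.val this
  rw [← e2]
  exact hx'

end NMap

/-- The automorphism `α` of `P` is `σ'' ∘ φ ∘ σ'⁻¹` on `P`. -/
def Rel {A P P₁ P₂ : Subgroup Ω} (φ : A →* Ω) (σ' : ↥(normalizerIn S P₁) →* Ω)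
    (σ'' : ↥(normalizerIn S P₂) →* Ω) (α : MulAut P) : Prop :=
  ∀ (x : Ω) (hxA : x ∈ A) (hx1 : x ∈ normalizerIn S P₁) (hx2 : φ ⟨x, hxA⟩ ∈ normalizerIn S P₂)
    (hxP : σ' ⟨x, hx1⟩ ∈ P), x ∈ P₁ →
      ((α ⟨σ' ⟨x, hx1⟩, hxP⟩ : P) : Ω) = σ'' ⟨φ ⟨x, hxA⟩, hx2⟩

/-- the image of a subgroup `P₁` of `S` under a map of the system defined on a subgroup of its
normalizer normalizes the image of `P₁` -/
theorem map_mem_normalizerIn {F : FusionSystem S} {P₁ P₂ R₁ : Subgroup Ω}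
    (hR₁N : R₁ ≤ normalizerIn S P₁) {φ : R₁ →* Ω} (hφ : φ ∈ F.Hom R₁)
    (hP₂ : (P₁.subgroupOf R₁).map φ = P₂) (r : R₁) : φ r ∈ normalizerIn S P₂ := by
  rw [mem_normalizerIn]
  refine ⟨(F.le_of_mem hφ).2 r, ?_⟩
  have hrN : (r : Ω) ∈ Subgroup.normalizer (P₁ : Set Ω) := (mem_normalizerIn.mp (hR₁N r.2)).2
  apply mem_normalizer_of_forall
  · intro y hy
    rw [← hP₂, mem_map_subgroupOf] at hy ⊢
    obtain ⟨x, hxR, hxP, rfl⟩ := hy
    refine ⟨r * x * (r : Ω)⁻¹, (r * ⟨x, hxR⟩ * r⁻¹ : R₁).2,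
      (Subgroup.mem_normalizer_iff.mp hrN x).mp hxP, ?_⟩
    have : (⟨r * x * (r : Ω)⁻¹, (r * ⟨x, hxR⟩ * r⁻¹ : R₁).2⟩ : R₁) = r * ⟨x, hxR⟩ * r⁻¹ := rfl
    rw [this, map_mul, map_mul, map_inv]
  · intro y hy
    rw [← hP₂, mem_map_subgroupOf] at hy ⊢
    obtain ⟨x, hxR, hxP, rfl⟩ := hy
    have hrN' : (r : Ω)⁻¹ ∈ Subgroup.normalizer (P₁ : Set Ω) := Subgroup.inv_mem _ hrN
    have hmem : (r : Ω)⁻¹ * x * r ∈ P₁ := by
      have := (Subgroup.mem_normalizer_iff.mp hrN' x).mp hxP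
      simpa using this
    refine ⟨(r : Ω)⁻¹ * x * r, (r⁻¹ * ⟨x, hxR⟩ * r : R₁).2, hmem, ?_⟩
    have : (⟨(r : Ω)⁻¹ * x * r, (r⁻¹ * ⟨x, hxR⟩ * r : R₁).2⟩ : R₁) = r⁻¹ * ⟨x, hxR⟩ * r := rfl
    rw [this, map_mul, map_mul, map_inv]

/-- The key step: a map defined on a subgroup `R₁` of `N_S(P₁)` strictly containing `P₁`. -/
theorem key {F : FusionSystem S} {P : Subgroup Ω} (Δ : Subgroup (MulAut P))
    (hΔ : ∀ (R : Subgroup Ω) (hPR : P ≤ R), R ≤ normalizerIn S P → P ≠ R → ∀ θ ∈ F.Hom R,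
      ∀ α : MulAut P, (∀ x : P, θ (Subgroup.inclusion hPR x) = ((α x : P) : Ω)) → α ∈ Δ)
    {P₁ P₂ R₁ : Subgroup Ω} (hP₁R : P₁ ≤ R₁) (hR₁N : R₁ ≤ normalizerIn S P₁) (hne : P₁ ≠ R₁)
    {φ : R₁ →* Ω} (hφ : φ ∈ F.Hom R₁) (hP₂ : (P₁.subgroupOf R₁).map φ = P₂)
    {σ' : ↥(normalizerIn S P₁) →* Ω} (hσ' : NMap F P P₁ σ')
    {σ'' : ↥(normalizerIn S P₂) →* Ω} (hσ'' : NMap F P P₂ σ'')
    (α : MulAut P) (hα : Rel φ σ' σ'' α) : α ∈ Δ := by
  have hφN : ∀ r : R₁, φ r ∈ normalizerIn S P₂ := map_mem_normalizerIn hR₁N hφ hP₂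
  have hψ : σ'.comp (Subgroup.inclusion hR₁N) ∈ F.Hom R₁ := restrict_mem F hR₁N hσ'.mem
  have hχ : σ''.comp (φ.codRestrict _ hφN) ∈ F.Hom R₁ := F.comp_mem hφ hσ''.mem hφN
  obtain ⟨μ, hμ, hμv, -⟩ := exists_comp_inv F hψ hχ
  have hPR : P ≤ (σ'.comp (Subgroup.inclusion hR₁N)).range := by
    intro y hy
    obtain ⟨x, hx1, hxP₁, rfl⟩ := hσ'.exists_preimage hy
    exact ⟨⟨x, hP₁R hxP₁⟩, rfl⟩
  have hRN : (σ'.comp (Subgroup.inclusion hR₁N)).range ≤ normalizerIn S P := by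
    rintro _ ⟨r, rfl⟩
    exact hσ'.val _
  have hPneR : P ≠ (σ'.comp (Subgroup.inclusion hR₁N)).range := by
    intro heq
    obtain ⟨r, hrR, hrP⟩ := SetLike.exists_of_lt (lt_of_le_of_ne hP₁R hne)
    apply hrP
    have hmem : (σ'.comp (Subgroup.inclusion hR₁N)) ⟨r, hrR⟩ ∈
        (σ'.comp (Subgroup.inclusion hR₁N)).range := ⟨_, rfl⟩
    rw [← heq] at hmem
    exact hσ'.mem_of_apply_mem (hR₁N hrR) hmem
  refine hΔ _ hPR hRN hPneR μ hμ α (fun x => ?_)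
  obtain ⟨y, hy1, hyP₁, hy⟩ := hσ'.exists_preimage x.2
  have e1 : Subgroup.inclusion hPR x =
      ⟨(σ'.comp (Subgroup.inclusion hR₁N)) ⟨y, hP₁R hyP₁⟩, ⟨_, rfl⟩⟩ := Subtype.ext hy.symm
  rw [e1, hμv]
  have hyP : σ' ⟨y, hy1⟩ ∈ P := hy ▸ x.2
  have e2 := hα y (hP₁R hyP₁) hy1 (hφN _) hyP hyP₁
  have e3 : x = ⟨σ' ⟨y, hy1⟩, hyP⟩ := Subtype.ext hy.symm
  rw [e3, e2]
  rfl

/-- the automorphism `σ'' ∘ φ ∘ σ'⁻¹` of `P` exists -/
theorem exists_rel {F : FusionSystem S} {P A P₁ P₂ : Subgroup Ω} (hP₁A : P₁ ≤ A) {φ : A →* Ω}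
    (hφ : φ ∈ F.Hom A) (hP₂ : (P₁.subgroupOf A).map φ = P₂)
    {σ' : ↥(normalizerIn S P₁) →* Ω} (hσ' : NMap F P P₁ σ')
    {σ'' : ↥(normalizerIn S P₂) →* Ω} (hσ'' : NMap F P P₂ σ'') :
    ∃ α : MulAut P, Rel φ σ' σ'' α := by
  have hAS : A ≤ S := (F.le_of_mem hφ).1
  have hP₁S : P₁ ≤ S := hP₁A.trans hAS
  have hP₁N : P₁ ≤ normalizerIn S P₁ := le_normalizerIn hP₁S
  have hP₂S : P₂ ≤ S := by
    rw [← hP₂]
    rintro _ ⟨x, -, rfl⟩
    exact (F.le_of_mem hφ).2 x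
  have hP₂N : P₂ ≤ normalizerIn S P₂ := le_normalizerIn hP₂S
  have hφP₂ : ∀ x : P₁, (φ.comp (Subgroup.inclusion hP₁A)) x ∈ P₂ := by
    intro x
    rw [← hP₂, mem_map_subgroupOf]
    exact ⟨x, hP₁A x.2, x.2, rfl⟩
  have hφN : ∀ x : P₁, (φ.comp (Subgroup.inclusion hP₁A)) x ∈ normalizerIn S P₂ :=
    fun x => hP₂N (hφP₂ x)
  have hψ : σ'.comp (Subgroup.inclusion hP₁N) ∈ F.Hom P₁ := restrict_mem F hP₁N hσ'.mem
  have hφ₁ : φ.comp (Subgroup.inclusion hP₁A) ∈ F.Hom P₁ := restrict_mem F hP₁A hφ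
  have hχ : σ''.comp ((φ.comp (Subgroup.inclusion hP₁A)).codRestrict _ hφN) ∈ F.Hom P₁ :=
    F.comp_mem hφ₁ hσ''.mem hφN
  obtain ⟨μ, hμ, hμv, hμr⟩ := exists_comp_inv F hψ hχ
  have hψr : (σ'.comp (Subgroup.inclusion hP₁N)).range = P := by
    ext y
    constructor
    · rintro ⟨x, rfl⟩
      exact hσ'.apply_mem (hP₁N x.2) x.2
    · intro hy
      obtain ⟨x, hx1, hxP₁, rfl⟩ := hσ'.exists_preimage hy
      exact ⟨⟨x, hxP₁⟩, rfl⟩
  have hχr : (σ''.comp ((φ.comp (Subgroup.inclusion hP₁A)).codRestrict _ hφN)).range = P := by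
    ext y
    constructor
    · rintro ⟨x, rfl⟩
      exact hσ''.apply_mem (hφN x) (hφP₂ x)
    · intro hy
      obtain ⟨z, hz1, hzP₂, rfl⟩ := hσ''.exists_preimage hy
      rw [← hP₂, mem_map_subgroupOf] at hzP₂
      obtain ⟨x, hxA, hxP₁, rfl⟩ := hzP₂
      exact ⟨⟨x, hxP₁⟩, rfl⟩
  let α : MulAut P := (MulEquiv.subgroupCongr hψr.symm).trans
    ((MonoidHom.ofInjective (F.injective_of_mem hμ)).trans
      (MulEquiv.subgroupCongr (hμr.trans hχr)))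
  have hαv : ∀ (y : P) (hy : (y : Ω) ∈ (σ'.comp (Subgroup.inclusion hP₁N)).range),
      ((α y : P) : Ω) = μ ⟨y, hy⟩ := fun y hy => rfl
  refine ⟨α, ?_⟩
  intro x hxA hx1 hx2 hxP hxP₁
  have hr : σ' ⟨x, hx1⟩ ∈ (σ'.comp (Subgroup.inclusion hP₁N)).range := ⟨⟨x, hxP₁⟩, rfl⟩
  rw [hαv ⟨σ' ⟨x, hx1⟩, hxP⟩ hr]
  exact hμv ⟨x, hxP₁⟩

/-- **Piece G2.** -/
theorem autGroup_le_of_restrictions [Finite S] {p : ℕ} [Fact p.Prime] {F : FusionSystem S}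
    {P : Subgroup Ω} (h : Ctx F p P) (hA : GoalA F P) (Δ : Subgroup (MulAut P))
    (hΔ : ∀ (R : Subgroup Ω) (hPR : P ≤ R), R ≤ normalizerIn S P → P ≠ R → ∀ θ ∈ F.Hom R,
      ∀ α : MulAut P, (∀ x : P, θ (Subgroup.inclusion hPR x) = ((α x : P) : Ω)) → α ∈ Δ) :
    F.autGroup P ≤ Δ := by
  -- the predicate
  let Pr : ∀ A : Subgroup Ω, (A →* Ω) → Prop := fun A φ =>
    ∀ (P₁ P₂ : Subgroup Ω), P₁ ≤ A → F.IsConj P P₁ → (P₁.subgroupOf A).map φ = P₂ →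
      ∀ σ' : ↥(normalizerIn S P₁) →* Ω, NMap F P P₁ σ' →
      ∀ σ'' : ↥(normalizerIn S P₂) →* Ω, NMap F P P₂ σ'' →
      ∀ α : MulAut P, Rel φ σ' σ'' α → α ∈ Δ
  have hPr : ∀ {A : Subgroup Ω} {φ : A →* Ω}, φ ∈ F.Hom A → Pr A φ := by
    intro A φ hφ
    refine h.induction Pr ?_ ?_ ?_ ?_ hφ
    · -- conjugations
      intro A g hAS hg P₁ P₂ hP₁A hc hP₂ σ' hσ' σ'' hσ'' α hα
      have hP₁S : P₁ ≤ S := isConj_le_right F hc
      have hne : P₁ ≠ normalizerIn S P₁ := by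
        obtain ⟨g', hg', hg'P⟩ := h.exists_normalizer_not_mem hc
        intro heq
        apply hg'P
        rw [heq]
        exact hg'
      have hφ' : conjHom (normalizerIn S P₁) g ∈ F.Hom (normalizerIn S P₁) :=
        F.conj_mem normalizerIn_le hg
      have hP₂' : (P₁.subgroupOf (normalizerIn S P₁)).map (conjHom (normalizerIn S P₁) g) = P₂ := by
        rw [← hP₂]
        ext y
        rw [mem_map_subgroupOf, mem_map_subgroupOf]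
        constructor
        · rintro ⟨x, hxN, hxP, rfl⟩
          exact ⟨x, hP₁A hxP, hxP, rfl⟩
        · rintro ⟨x, hxA, hxP, rfl⟩
          exact ⟨x, le_normalizerIn hP₁S hxP, hxP, rfl⟩
      refine key Δ hΔ (le_normalizerIn hP₁S) le_rfl hne hφ' hP₂' hσ' hσ'' α ?_
      intro x hxN hx1 hx2 hxP hxP₁
      exact hα x (hP₁A hxP₁) hx1 hx2 hxP hxP₁
    · -- composition
      intro A B φ ψ hφ hψ hPrφ hPrψ hval P₁ P₃ hP₁A hc hP₃ σ' hσ' σ'' hσ'' α hα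
      have hAS : A ≤ S := (F.le_of_mem hφ).1
      have hP₁S : P₁ ≤ S := isConj_le_right F hc
      have hPmB : (P₁.subgroupOf A).map φ ≤ B := by
        rintro _ ⟨x, -, rfl⟩
        exact hval x
      have hcm : F.IsConj P ((P₁.subgroupOf A).map φ) := by
        refine isConj_trans F hc ⟨φ.comp (Subgroup.inclusion hP₁A), restrict_mem F hP₁A hφ, ?_⟩
        ext y
        rw [mem_map_subgroupOf]
        constructor
        · rintro ⟨x, rfl⟩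
          exact ⟨x, hP₁A x.2, x.2, rfl⟩
        · rintro ⟨x, hxA, hxP, rfl⟩
          exact ⟨⟨x, hxP⟩, rfl⟩
      have hPmS : (P₁.subgroupOf A).map φ ≤ S := isConj_le_right F hcm
      obtain ⟨σm, hσm⟩ := (hasNMap_iff _ _ _).mp (hA _ hcm)
      have hP₃' : (((P₁.subgroupOf A).map φ).subgroupOf B).map ψ = P₃ := by
        rw [← hP₃]
        ext y
        rw [mem_map_subgroupOf, mem_map_subgroupOf]
        constructor
        · rintro ⟨z, hzB, hzm, rfl⟩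
          rw [mem_map_subgroupOf] at hzm
          obtain ⟨x, hxA, hxP, rfl⟩ := hzm
          exact ⟨x, hxA, hxP, rfl⟩
        · rintro ⟨x, hxA, hxP, rfl⟩
          refine ⟨φ ⟨x, hxA⟩, hval _, ?_, rfl⟩
          rw [mem_map_subgroupOf]
          exact ⟨x, hxA, hxP, rfl⟩
      have hP₃S : P₃ ≤ S := by
        rw [← hP₃']
        rintro _ ⟨x, -, rfl⟩
        exact (F.le_of_mem hψ).2 x
      obtain ⟨α₁, hα₁⟩ := exists_rel hP₁A hφ rfl hσ' hσm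
      obtain ⟨α₂, hα₂⟩ := exists_rel hPmB hψ hP₃' hσm hσ''
      have h1 := hPrφ P₁ _ hP₁A hc rfl σ' hσ' σm hσm α₁ hα₁
      have h2 := hPrψ _ P₃ hPmB hcm hP₃' σm hσm σ'' hσ'' α₂ hα₂
      have hαeq : α = α₂ * α₁ := by
        ext y
        obtain ⟨x, hx1, hxP₁, hxy⟩ := hσ'.exists_preimage y.2
        have hxA : x ∈ A := hP₁A hxP₁
        have hxP : σ' ⟨x, hx1⟩ ∈ P := hxy ▸ y.2
        have hye : y = ⟨σ' ⟨x, hx1⟩, hxP⟩ := Subtype.ext hxy.symm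
        have hφm : φ ⟨x, hxA⟩ ∈ (P₁.subgroupOf A).map φ := by
          rw [mem_map_subgroupOf]
          exact ⟨x, hxA, hxP₁, rfl⟩
        have hx2 : φ ⟨x, hxA⟩ ∈ normalizerIn S ((P₁.subgroupOf A).map φ) :=
          le_normalizerIn hPmS hφm
        have hψ3 : ψ ⟨φ ⟨x, hxA⟩, hval _⟩ ∈ P₃ := by
          rw [← hP₃', mem_map_subgroupOf]
          exact ⟨φ ⟨x, hxA⟩, hval _, hφm, rfl⟩
        have hx3 : (ψ.comp (φ.codRestrict B hval)) ⟨x, hxA⟩ ∈ normalizerIn S P₃ :=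
          le_normalizerIn hP₃S hψ3
        have e1 := hα x hxA hx1 hx3 hxP hxP₁
        have e2 := hα₁ x hxA hx1 hx2 hxP hxP₁
        have hmP : σm ⟨φ ⟨x, hxA⟩, hx2⟩ ∈ P := hσm.apply_mem hx2 hφm
        have e3 := hα₂ (φ ⟨x, hxA⟩) (hval _) hx2 hx3 hmP hφm
        have e4 : α₁ ⟨σ' ⟨x, hx1⟩, hxP⟩ = ⟨σm ⟨φ ⟨x, hxA⟩, hx2⟩, hmP⟩ := Subtype.ext e2
        rw [hye, MulAut.mul_apply, e4, e1, e3]
        rfl
      rw [hαeq]
      exact Δ.mul_mem h2 h1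
    · -- inverses
      intro A φ hφ hPrφ ψ hψ hinv P₁ P₀ hP₁ hc hP₀ σ' hσ' σ'' hσ'' α hα
      have hP₀A : P₀ ≤ A := by
        rw [← hP₀]
        rintro _ ⟨⟨_, a, rfl⟩, -, rfl⟩
        rw [hinv a]
        exact a.2
      have hc0 : F.IsConj P P₀ := by
        refine isConj_trans F hc ⟨ψ.comp (Subgroup.inclusion hP₁), restrict_mem F hP₁ hψ, ?_⟩
        rw [← hP₀]
        ext y
        rw [mem_map_subgroupOf]
        constructor
        · rintro ⟨x, rfl⟩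
          exact ⟨x, hP₁ x.2, x.2, rfl⟩
        · rintro ⟨x, hxA, hxP, rfl⟩
          exact ⟨⟨x, hxP⟩, rfl⟩
      have hmap : (P₀.subgroupOf A).map φ = P₁ := by
        ext z
        rw [mem_map_subgroupOf]
        constructor
        · rintro ⟨a, haA, haP₀, rfl⟩
          rw [← hP₀, mem_map_subgroupOf] at haP₀
          obtain ⟨w, hwr, hwP₁, hw⟩ := haP₀
          obtain ⟨a', rfl⟩ := hwr
          rw [hinv a'] at hw
          have : a' = ⟨a, haA⟩ := Subtype.ext hw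
          rw [← this]
          exact hwP₁
        · intro hz
          obtain ⟨a, rfl⟩ := hP₁ hz
          refine ⟨a, a.2, ?_, rfl⟩
          rw [← hP₀, mem_map_subgroupOf]
          exact ⟨φ a, ⟨a, rfl⟩, hz, hinv a⟩
      have hrel : Rel φ σ'' σ' α⁻¹ := by
        intro a haA ha1 ha2 haP haP₀
        have hzP₁ : φ ⟨a, haA⟩ ∈ P₁ := by
          rw [← hmap, mem_map_subgroupOf]
          exact ⟨a, haA, haP₀, rfl⟩
        have hzr : φ ⟨a, haA⟩ ∈ φ.range := ⟨_, rfl⟩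
        have hψa : ψ ⟨φ ⟨a, haA⟩, hzr⟩ = a := hinv ⟨a, haA⟩
        have hx2 : ψ ⟨φ ⟨a, haA⟩, hzr⟩ ∈ normalizerIn S P₀ := by
          rw [hψa]; exact ha1
        have hzP : σ' ⟨φ ⟨a, haA⟩, ha2⟩ ∈ P := hσ'.apply_mem ha2 hzP₁
        have e := hα (φ ⟨a, haA⟩) hzr ha2 hx2 hzP hzP₁
        have e' : σ'' ⟨ψ ⟨φ ⟨a, haA⟩, hzr⟩, hx2⟩ = σ'' ⟨a, ha1⟩ := by
          congr 1
          exact Subtype.ext hψa
        have e2 : α ⟨σ' ⟨φ ⟨a, haA⟩, ha2⟩, hzP⟩ = ⟨σ'' ⟨a, ha1⟩, haP⟩ :=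
          Subtype.ext (e.trans e')
        rw [← e2, MulAut.inv_apply_self]
      have := hPrφ P₀ P₁ hP₀A hc0 hmap σ'' hσ'' σ' hσ' α⁻¹ hrel
      have h2 := Δ.inv_mem this
      rwa [inv_inv] at h2
    · -- maps whose source is not conjugate to `P`
      intro A φ hφ hnc P₁ P₂ hP₁A hc hP₂ σ' hσ' σ'' hσ'' α hα
      have hAS : A ≤ S := (F.le_of_mem hφ).1
      haveI : Finite A := finite_of_le_finite hAS
      have hP₁ne : P₁ ≠ A := by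
        rintro rfl
        exact hnc hc
      obtain ⟨g, hg, hgP⟩ := exists_mem_normalizerIn_not_mem (S := A) (h.hS.to_le hAS) hP₁A hP₁ne
      have hR₁A : normalizerIn A P₁ ≤ A := normalizerIn_le
      have hR₁N : normalizerIn A P₁ ≤ normalizerIn S P₁ := by
        intro x hx
        rw [mem_normalizerIn] at hx ⊢
        exact ⟨hAS hx.1, hx.2⟩
      have hP₁R : P₁ ≤ normalizerIn A P₁ := le_normalizerIn hP₁A
      have hne : P₁ ≠ normalizerIn A P₁ := by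
        intro heq
        apply hgP
        rw [heq]
        exact hg
      have hφ' : φ.comp (Subgroup.inclusion hR₁A) ∈ F.Hom (normalizerIn A P₁) :=
        restrict_mem F hR₁A hφ
      have hP₂' : (P₁.subgroupOf (normalizerIn A P₁)).map (φ.comp (Subgroup.inclusion hR₁A)) = P₂ := by
        rw [← hP₂]
        ext y
        rw [mem_map_subgroupOf, mem_map_subgroupOf]
        constructor
        · rintro ⟨x, hxN, hxP, rfl⟩
          exact ⟨x, hP₁A hxP, hxP, rfl⟩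
        · rintro ⟨x, hxA, hxP, rfl⟩
          exact ⟨x, hP₁R hxP, hxP, rfl⟩
      refine key Δ hΔ hP₁R hR₁N hne hφ' hP₂' hσ' hσ'' α ?_
      intro x hxR hx1 hx2 hxP hxP₁
      exact hα x (hP₁A hxP₁) hx1 hx2 hxP hxP₁
  -- conclusion
  intro α hα
  have hφ : P.subtype.comp α.toMonoidHom ∈ F.Hom P := (mem_autGroup_iff F h.hP α).mp hα
  have hPN : P ≤ normalizerIn S P := le_normalizerIn h.hP
  have hι : NMap F P P (normalizerIn S P).subtype := by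
    refine ⟨subtype_mem F normalizerIn_le, fun x => x.2, ?_⟩
    rw [Subgroup.subgroupOf_map_subtype]
    exact inf_eq_left.mpr hPN
  have hmap : (P.subgroupOf P).map (P.subtype.comp α.toMonoidHom) = P := by
    ext y
    constructor
    · rintro ⟨x, -, rfl⟩
      exact (α x).2
    · intro hy
      refine ⟨α⁻¹ ⟨y, hy⟩, ?_, ?_⟩
      · rw [SetLike.mem_coe, Subgroup.mem_subgroupOf]
        exact (α⁻¹ ⟨y, hy⟩).2
      · simp
  refine hPr hφ P P le_rfl (isConj_refl F h.hP) hmap _ hι _ hι α ?_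
  intro x hxA hx1 hx2 hxP hxP₁
  rfl

end Cfsg.Agent.Helper1.BcgloG2
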