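import Mathlib
import Cfsg.Prelude.Def_PLocal
import Cfsg.Agent.Lib.Helper22.PPrimeCore
import Cfsg.Agent.Lib.Helper7.Coprime
import Cfsg.Agent.Lib.Helper7.Frattini
import Cfsg.Agent.S1324

/-!
# Best offenders in groups `H` with `C_H(O_{p'}(H)) ≤ O_{p'}(H)` (helper1 library)

`H ≤ G` acts faithfully on the elementary abelian `p`-subgroup `V`.
-/

set_option autoImplicit false

namespace Cfsg.Agent.Helper1.BO

open Subgroup
open scoped commutatorElement

variable {G : Type*} [Group G]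

/-- `O_{p'}(H)` as a subgroup of the ambient group -/
def qOf (p : ℕ) (H : Subgroup G) : Subgroup G := (Cfsg.pPrimeCore p ↥H).map H.subtype

/-- `C_V(A)` -/
def cV (V A : Subgroup G) : Subgroup G := V ⊓ centralizer (A : Set G)

theorem cV_le (V A : Subgroup G) : cV V A ≤ V := inf_le_left

theorem cV_anti (V : Subgroup G) {A B : Subgroup G} (h : A ≤ B) : cV V B ≤ cV V A :=
  inf_le_inf_left _ (centralizer_le h)

theorem cV_bot (V : Subgroup G) : cV V ⊥ = V := by
  unfold cV
  rw [inf_eq_left]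
  intro v _
  rw [mem_centralizer_iff]
  intro x hx
  rw [coe_bot, Set.mem_singleton_iff] at hx
  rw [hx]; simp

theorem qOf_le (p : ℕ) (H : Subgroup G) : qOf p H ≤ H := map_subtype_le _

theorem le_normalizer_qOf (p : ℕ) (H : Subgroup G) : H ≤ normalizer (qOf p H : Set G) := by
  haveI := Cfsg.Agent.Helper22.pPrimeCore_normal (G := ↥H) p
  have h1 : ((qOf p H).subgroupOf H).Normal := by
    have : (qOf p H).subgroupOf H = Cfsg.pPrimeCore p ↥H := by
      unfold qOf
      rw [subgroupOf, comap_map_eq_self_of_injective H.subtype_injective]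
    rw [this]; infer_instance
  exact (normal_subgroupOf_iff_le_normalizer (qOf_le p H)).mp h1

theorem card_qOf_coprime [Finite G] (p : ℕ) (H : Subgroup G) : (Nat.card (qOf p H)).Coprime p := by
  unfold qOf
  rw [card_map_of_injective H.subtype_injective]
  exact Cfsg.Agent.Helper22.card_pPrimeCore_coprime p

/-- the standing hypotheses -/
structure Setup (p : ℕ) (V H : Subgroup G) : Prop where
  hV : Cfsg.IsElementaryAbelian p V
  hHV : H ≤ normalizer (V : Set G)
  hf : H ⊓ centralizer (V : Set G) = ⊥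
  hS1 : centralizer (Cfsg.pPrimeCore p ↥H : Set ↥H) ≤ Cfsg.pPrimeCore p ↥H

section

variable [Finite G] {p : ℕ} [Fact p.Prime] {V H : Subgroup G}

theorem Setup.centralizer_qOf_le (S : Setup p V H) :
    H ⊓ centralizer (qOf p H : Set G) ≤ qOf p H := by
  rintro x ⟨hxH, hxC⟩
  have : (⟨x, hxH⟩ : ↥H) ∈ centralizer (Cfsg.pPrimeCore p ↥H : Set ↥H) := by
    rw [mem_centralizer_iff]
    intro y hy
    apply Subtype.ext
    have h1 : (y : G) ∈ qOf p H := ⟨y, hy, rfl⟩
    exact (mem_centralizer_iff.mp hxC) (y : G) h1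
  exact ⟨⟨x, hxH⟩, S.hS1 this, rfl⟩

theorem Setup.isPGroup_V (S : Setup p V H) : IsPGroup p V := by
  intro v
  refine ⟨1, ?_⟩
  apply Subtype.ext
  rw [pow_one]
  simpa using S.hV.2 (v : G) v.2

theorem isPGroup_of_elemAb {A : Subgroup G} (hA : Cfsg.IsElementaryAbelian p A) : IsPGroup p A := by
  intro v
  refine ⟨1, ?_⟩
  apply Subtype.ext
  rw [pow_one]
  simpa using hA.2 (v : G) v.2

theorem elemAb_comm {A : Subgroup G} (hA : Cfsg.IsElementaryAbelian p A) {x y : G} (hx : x ∈ A)
    (hy : y ∈ A) : x * y = y * x := by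
  have h := (isMulCommutative_iff.mp hA.1) ⟨x, hx⟩ ⟨y, hy⟩
  have h2 := congrArg Subtype.val h
  simpa using h2

theorem elemAb_of_le {A B : Subgroup G} (hA : Cfsg.IsElementaryAbelian p A) (h : B ≤ A) :
    Cfsg.IsElementaryAbelian p B := by
  refine ⟨isMulCommutative_iff.mpr fun x y => ?_, fun b hb => hA.2 b (h hb)⟩
  exact Subtype.ext (elemAb_comm hA (h x.2) (h y.2))

theorem elemAb_bot : Cfsg.IsElementaryAbelian p (⊥ : Subgroup G) := by
  refine ⟨isMulCommutative_iff.mpr fun x y => ?_, fun b hb => ?_⟩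
  · have hx : x = 1 := Subtype.ext (by simpa using (Subgroup.mem_bot.mp x.2))
    rw [hx]; simp
  · rw [Subgroup.mem_bot.mp hb, one_pow]

/-- a `p`-subgroup of `H` acts faithfully on `O_{p'}(H)` -/
theorem Setup.inf_centralizer_qOf (S : Setup p V H) {A : Subgroup G} (hAH : A ≤ H)
    (hA : IsPGroup p A) : A ⊓ centralizer (qOf p H : Set G) = ⊥ := by
  have h1 : A ⊓ centralizer (qOf p H : Set G) ≤ A ⊓ qOf p H := by
    refine le_inf inf_le_left ?_
    exact (inf_le_inf_right _ hAH).trans S.centralizer_qOf_le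
  have h2 : A ⊓ qOf p H = ⊥ :=
    Cfsg.Agent.Helper7.inf_eq_bot_of_isPGroup_of_coprime hA (card_qOf_coprime p H)
  exact le_bot_iff.mp (h2 ▸ h1)


theorem card_mul_relIndex_le {K L : Subgroup G} (h : K ≤ L) :
    Nat.card K * K.relIndex L = Nat.card L := by
  have h1 := Subgroup.card_mul_index (K.subgroupOf L)
  have h2 : Nat.card (K.subgroupOf L) = Nat.card K :=
    Nat.card_congr (Subgroup.subgroupOfEquivOfLe h).toEquiv
  rw [h2] at h1
  exact h1

theorem relIndex_eq_pow {K L : Subgroup G} (hL : IsPGroup p L) : ∃ n : ℕ, K.relIndex L = p ^ n :=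
  hL.index (K.subgroupOf L)

theorem p_mul_card_le_of_lt {K L : Subgroup G} (hL : IsPGroup p L) (h : K < L) :
    p * Nat.card K ≤ Nat.card L := by
  have hpp : p.Prime := Fact.out
  obtain ⟨n, hn⟩ := relIndex_eq_pow (K := K) hL
  have h1 := card_mul_relIndex_le h.le
  have hn0 : n ≠ 0 := by
    rintro rfl
    rw [pow_zero, Subgroup.relIndex_eq_one] at hn
    exact (not_le_of_gt h) hn
  have hp : p ≤ K.relIndex L := by
    rw [hn]
    calc p = p ^ 1 := (pow_one p).symm
      _ ≤ p ^ n := Nat.pow_le_pow_right hpp.pos (Nat.one_le_iff_ne_zero.mpr hn0)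
  calc p * Nat.card K ≤ K.relIndex L * Nat.card K := Nat.mul_le_mul_right _ hp
    _ = Nat.card L := by rw [mul_comm]; exact h1

theorem le_centralizer_bot (K : Subgroup G) : K ≤ centralizer ((⊥ : Subgroup G) : Set G) := by
  intro v _
  rw [mem_centralizer_iff]
  intro x hx
  rw [coe_bot, Set.mem_singleton_iff] at hx
  rw [hx]; simp

/-- **Hyperplane lemma**: `A ≤ H` elementary abelian, `1 ≠ D ≤ A`.  There is a hyperplane `A₀` of `A`
not containing `D` with `[C_Q(A₀), A] ≠ 1`, `Q = O_{p'}(H)`. -/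
theorem Setup.exists_hyperplane (S : Setup p V H) {A D : Subgroup G} (hAH : A ≤ H)
    (hA : Cfsg.IsElementaryAbelian p A) (hDA : D ≤ A) (hD : D ≠ ⊥) :
    ∃ A₀ : Subgroup G, A₀ ≤ A ∧ A₀.relIndex A = p ∧ ¬ D ≤ A₀ ∧
      ¬ (qOf p H ⊓ centralizer (A₀ : Set G) ≤ centralizer (A : Set G)) := by
  by_contra hcon
  push_neg at hcon
  have hpp : p.Prime := Fact.out
  have hAp : IsPGroup p A := isPGroup_of_elemAb hA
  have hDp : IsPGroup p D := hAp.to_le hDA
  have key : qOf p H ≤ centralizer (D : Set G) := by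
    by_cases h2 : p ^ 2 ≤ Nat.card A
    · have hX : ¬ p ∣ Nat.card (qOf p H) := by
        have hc := card_qOf_coprime p H
        intro hdvd
        have := Nat.eq_one_of_dvd_coprimes hc hdvd (dvd_refl p)
        exact hpp.one_lt.ne' this
      have hAX : A ≤ normalizer (qOf p H : Set G) := hAH.trans (le_normalizer_qOf p H)
      have hgen := Cfsg.Agent.S1324.result p A (qOf p H) hA h2 hX hAX
      rw [hgen]
      apply iSup_le
      rintro ⟨B, hBA, hBp⟩
      show qOf p H ⊓ centralizer (B : Set G) ≤ centralizer (D : Set G)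
      by_cases hDB : D ≤ B
      · exact inf_le_right.trans (centralizer_le hDB)
      · have hrel : B.relIndex A = p := by
          obtain ⟨n, hn⟩ := relIndex_eq_pow (K := B) hAp
          have hn0 : n ≠ 0 := by
            rintro rfl
            rw [pow_zero, Subgroup.relIndex_eq_one] at hn
            exact hDB (hDA.trans hn)
          have hn1 : n ≤ 1 := by
            by_contra hlt
            push_neg at hlt
            have : p ^ 2 ≤ p ^ n := Nat.pow_le_pow_right hpp.pos hlt
            have h3 : p ^ 2 ≤ p := by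
              calc p ^ 2 ≤ p ^ n := this
                _ = B.relIndex A := hn.symm
                _ ≤ p := hBp
            have h4 : p < p ^ 2 := by
              calc p = p ^ 1 := (pow_one p).symm
                _ < p ^ 2 := Nat.pow_lt_pow_right hpp.one_lt (by norm_num)
            omega
          have : n = 1 := by omega
          rw [hn, this, pow_one]
        exact (hcon B hBA hrel hDB).trans (centralizer_le hDA)
    · have hcard : Nat.card A = p := by
        obtain ⟨n, hn⟩ := IsPGroup.iff_card.mp hAp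
        have hn0 : n ≠ 0 := by
          rintro rfl
          rw [pow_zero] at hn
          have : A = ⊥ := Subgroup.card_eq_one.mp hn
          rw [this] at hDA
          exact hD (le_bot_iff.mp hDA)
        have hn1 : n < 2 := by
          by_contra hge
          push_neg at hge
          apply h2
          rw [hn]
          exact Nat.pow_le_pow_right hpp.pos hge
        have : n = 1 := by omega
        rw [hn, this, pow_one]
      have hrel : (⊥ : Subgroup G).relIndex A = p := by rw [Subgroup.relIndex_bot_left, hcard]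
      have hDbot : ¬ D ≤ ⊥ := fun h => hD (le_bot_iff.mp h)
      have h3 := hcon ⊥ bot_le hrel hDbot
      have h4 : qOf p H ≤ centralizer (A : Set G) :=
        le_trans (le_inf le_rfl (le_centralizer_bot _)) h3
      exact h4.trans (centralizer_le hDA)
  have hDQ : D ≤ centralizer (qOf p H : Set G) := Subgroup.le_centralizer_iff.mp key
  have h5 := S.inf_centralizer_qOf (hDA.trans hAH) hDp
  exact hD (le_bot_iff.mp (h5 ▸ le_inf le_rfl hDQ))

/-- a subgroup `A` normalizes `C(A₀)` if it centralizes `A₀`. -/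
theorem conj_mem_centralizer {A₀ : Subgroup G} {a r : G}
    (ha : a ∈ centralizer (A₀ : Set G)) (hr : r ∈ centralizer (A₀ : Set G)) :
    a * r * a⁻¹ ∈ centralizer (A₀ : Set G) :=
  (centralizer (A₀ : Set G)).mul_mem ((centralizer (A₀ : Set G)).mul_mem ha hr)
    ((centralizer (A₀ : Set G)).inv_mem ha)

theorem conj_mem_of_le_normalizer {K : Subgroup G} {a r : G}
    (ha : a ∈ normalizer (K : Set G)) (hr : r ∈ K) : a * r * a⁻¹ ∈ K :=
  (Subgroup.mem_normalizer_iff.mp ha r).mp hr

theorem conj_inv_mem_of_le_normalizer {K : Subgroup G} {a r : G}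
    (ha : a ∈ normalizer (K : Set G)) (hr : r ∈ K) : a⁻¹ * r * a ∈ K := by
  have := conj_mem_of_le_normalizer ((normalizer (K : Set G)).inv_mem ha) hr
  simpa using this

/-- **Lemma N**: if `[C_Q(A₀), A] ≠ 1` then `C_V(A) < C_V(A₀)`. -/
theorem Setup.cV_lt (S : Setup p V H) {A A₀ : Subgroup G} (hAH : A ≤ H)
    (hA : Cfsg.IsElementaryAbelian p A) (hA₀ : A₀ ≤ A)
    (hne : ¬ (qOf p H ⊓ centralizer (A₀ : Set G) ≤ centralizer (A : Set G))) :
    cV V A < cV V A₀ := by
  refine lt_of_le_not_ge (cV_anti V hA₀) ?_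
  intro hle
  apply hne
  have hAcen : A ≤ centralizer (A₀ : Set G) := by
    intro a ha
    rw [mem_centralizer_iff]
    intro x hx
    exact elemAb_comm hA (hA₀ hx) ha
  have hRH : qOf p H ⊓ centralizer (A₀ : Set G) ≤ H := inf_le_left.trans (qOf_le p H)
  have hconj : ∀ a ∈ A, ∀ r ∈ qOf p H ⊓ centralizer (A₀ : Set G),
      a * r * a⁻¹ ∈ qOf p H ⊓ centralizer (A₀ : Set G) := by
    intro a ha r hr
    rw [Subgroup.mem_inf] at hr ⊢
    exact ⟨conj_mem_of_le_normalizer (le_normalizer_qOf p H (hAH ha)) hr.1,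
      conj_mem_centralizer (hAcen ha) hr.2⟩
  have hAR : A ≤ normalizer ((qOf p H ⊓ centralizer (A₀ : Set G) : Subgroup G) : Set G) := by
    intro a ha
    rw [Subgroup.mem_normalizer_iff]
    intro r
    refine ⟨hconj a ha r, fun h => ?_⟩
    have := hconj a⁻¹ (A.inv_mem ha) _ h
    simpa [mul_assoc] using this
  have hKR : ⁅qOf p H ⊓ centralizer (A₀ : Set G), A⁆ ≤ qOf p H ⊓ centralizer (A₀ : Set G) :=
    Cfsg.Agent.Helper7.commutator_le_of_le_normalizer hAR
  -- `K` centralizes `W = C_V(A₀)`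
  have hKW : ⁅qOf p H ⊓ centralizer (A₀ : Set G), A⁆ ≤ centralizer ((cV V A₀ : Subgroup G) : Set G) := by
    rw [Subgroup.commutator_le]
    intro r hr a ha
    rw [mem_centralizer_iff]
    intro w hw
    have hwA : w ∈ centralizer (A : Set G) := (hle hw).2
    have h1 : a⁻¹ * w = w * a⁻¹ := (mem_centralizer_iff.mp hwA a⁻¹ (A.inv_mem ha))
    have hw' : r⁻¹ * w * r ∈ cV V A₀ := by
      refine ⟨conj_inv_mem_of_le_normalizer (S.hHV (hRH hr)) hw.1, ?_⟩
      have := conj_mem_centralizer ((centralizer (A₀ : Set G)).inv_mem hr.2) hw.2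
      simpa using this
    have h2 : a * (r⁻¹ * w * r) = (r⁻¹ * w * r) * a :=
      (mem_centralizer_iff.mp (hle hw').2 a ha)
    rw [commutatorElement_def]
    calc w * (r * a * r⁻¹ * a⁻¹) = r * ((r⁻¹ * w * r) * a) * r⁻¹ * a⁻¹ := by group
      _ = r * (a * (r⁻¹ * w * r)) * r⁻¹ * a⁻¹ := by rw [h2]
      _ = r * a * r⁻¹ * (w * a⁻¹) := by group
      _ = r * a * r⁻¹ * (a⁻¹ * w) := by rw [h1]
      _ = r * a * r⁻¹ * a⁻¹ * w := by group
  -- Thompson's lemma
  have hKH : ⁅qOf p H ⊓ centralizer (A₀ : Set G), A⁆ ≤ H := hKR.trans hRH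
  have hcop : (Nat.card ↥(⁅qOf p H ⊓ centralizer (A₀ : Set G), A⁆)).Coprime (Nat.card V) := by
    obtain ⟨n, hn⟩ := IsPGroup.iff_card.mp S.isPGroup_V
    rw [hn]
    apply Nat.Coprime.pow_right
    exact Nat.Coprime.coprime_dvd_left (Subgroup.card_dvd_of_le (hKR.trans inf_le_left))
      (card_qOf_coprime p H)
  have hnil : Group.IsNilpotent ↥(V ⊔ A₀) := by
    have hp : IsPGroup p ↥(V ⊔ A₀) :=
      IsPGroup.to_sup_of_normal_left' S.isPGroup_V ((isPGroup_of_elemAb hA).to_le hA₀)
        ((hA₀.trans hAH).trans S.hHV)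
    exact hp.isNilpotent
  have hthm := Cfsg.Agent.Helper7.thompson_AxB V ⁅qOf p H ⊓ centralizer (A₀ : Set G), A⁆ A₀
    (hKH.trans S.hHV) ((hA₀.trans hAH).trans S.hHV)
    (Subgroup.commutator_eq_bot_iff_le_centralizer.mpr (hKR.trans inf_le_right))
    hcop hnil (Subgroup.le_centralizer_iff.mp hKW)
  have hKbot : ⁅qOf p H ⊓ centralizer (A₀ : Set G), A⁆ = ⊥ := by
    rw [eq_bot_iff, ← S.hf]
    exact le_inf hKH (Subgroup.le_centralizer_iff.mp hthm)
  exact Subgroup.commutator_eq_bot_iff_le_centralizer.mp hKbot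

/-- **Lemma U**: `|A| |C_V(A)| ≤ |V|` for elementary abelian `A ≤ H`. -/
theorem Setup.card_mul_le (S : Setup p V H) :
    ∀ (n : ℕ) (A : Subgroup G), Nat.card A = n → A ≤ H → Cfsg.IsElementaryAbelian p A →
      Nat.card A * Nat.card (cV V A) ≤ Nat.card V := by
  intro n
  induction n using Nat.strong_induction_on with
  | _ n ih =>
    intro A hn hAH hA
    by_cases hbot : A = ⊥
    · subst hbot
      rw [cV_bot]
      simp
    · obtain ⟨A₀, hA₀A, hrel, -, hne⟩ := S.exists_hyperplane hAH hA le_rfl hbot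
      have hpp : p.Prime := Fact.out
      have hc := card_mul_relIndex_le hA₀A
      rw [hrel] at hc
      have hlt : Nat.card A₀ < n := by
        rw [← hn, ← hc]
        have : 0 < Nat.card A₀ := Nat.card_pos
        have := hpp.one_lt
        nlinarith
      have h1 := ih _ hlt A₀ rfl (hA₀A.trans hAH) (elemAb_of_le hA hA₀A)
      have h2 := p_mul_card_le_of_lt (S.isPGroup_V.to_le (cV_le V A₀)) (S.cV_lt hAH hA hA₀A hne)
      calc Nat.card A * Nat.card (cV V A) = Nat.card A₀ * (p * Nat.card (cV V A)) := by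
            rw [← hc]; ring
        _ ≤ Nat.card A₀ * Nat.card (cV V A₀) := Nat.mul_le_mul_left _ h2
        _ ≤ Nat.card V := h1

theorem Setup.card_mul_le' (S : Setup p V H) {A : Subgroup G} (hAH : A ≤ H)
    (hA : Cfsg.IsElementaryAbelian p A) : Nat.card A * Nat.card (cV V A) ≤ Nat.card V :=
  S.card_mul_le _ A rfl hAH hA

/-- "exact offender": `|A| |C_V(A)| = |V|`. -/
def Exact (V A : Subgroup G) : Prop := Nat.card A * Nat.card (cV V A) = Nat.card V

/-- the good hyperplane of an exact offender is an exact offender -/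
theorem Setup.exact_hyperplane (S : Setup p V H) {A A₀ : Subgroup G} (hAH : A ≤ H)
    (hA : Cfsg.IsElementaryAbelian p A) (hA₀ : A₀ ≤ A) (hrel : A₀.relIndex A = p)
    (hne : ¬ (qOf p H ⊓ centralizer (A₀ : Set G) ≤ centralizer (A : Set G)))
    (hex : Exact V A) : Exact V A₀ := by
  have hc := card_mul_relIndex_le hA₀
  rw [hrel] at hc
  have h1 := S.card_mul_le' (hA₀.trans hAH) (elemAb_of_le hA hA₀)
  have h2 := p_mul_card_le_of_lt (S.isPGroup_V.to_le (cV_le V A₀)) (S.cV_lt hAH hA hA₀ hne)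
  unfold Exact at hex ⊢
  refine le_antisymm h1 ?_
  calc Nat.card V = Nat.card A₀ * (p * Nat.card (cV V A)) := by rw [← hex, ← hc]; ring
    _ ≤ Nat.card A₀ * Nat.card (cV V A₀) := Nat.mul_le_mul_left _ h2

/-- best offenders inside `H` are elementary abelian -/
theorem Setup.elemAb_of_best (S : Setup p V H) {A : Subgroup G} (hAH : A ≤ H)
    (hA : Cfsg.IsBestOffenderOn p V A) : Cfsg.IsElementaryAbelian p A := by
  refine ⟨isMulCommutative_iff.mpr fun x y => ?_, fun a ha => ?_⟩
  · have hc : ⁅(x : G), (y : G)⁆ ∈ H := by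
      rw [commutatorElement_def]
      exact H.mul_mem (H.mul_mem (H.mul_mem (hAH x.2) (hAH y.2)) (H.inv_mem (hAH x.2)))
        (H.inv_mem (hAH y.2))
    have h1 : ⁅(x : G), (y : G)⁆ ∈ H ⊓ centralizer (V : Set G) :=
      ⟨hc, hA.2.1 (Subgroup.commutator_mem_commutator x.2 y.2)⟩
    rw [S.hf, Subgroup.mem_bot, commutatorElement_eq_one_iff_mul_comm] at h1
    exact Subtype.ext h1
  · have h1 : a ^ p ∈ H ⊓ centralizer (V : Set G) := ⟨H.pow_mem (hAH ha) p, hA.2.2 a ha⟩
    rwa [S.hf, Subgroup.mem_bot] at h1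

theorem Setup.exact_of_best (S : Setup p V H) {A : Subgroup G} (hAH : A ≤ H)
    (hA : Cfsg.IsBestOffenderOn p V A) : Exact V A := by
  refine le_antisymm (S.card_mul_le' hAH (S.elemAb_of_best hAH hA)) ?_
  have := hA.1 ⊥ bot_le
  rw [show V ⊓ centralizer ((⊥ : Subgroup G) : Set G) = V from cV_bot V, Subgroup.card_bot,
    one_mul] at this
  exact this

theorem Setup.best_of_exact (S : Setup p V H) {A : Subgroup G} (hAH : A ≤ H)
    (hA : Cfsg.IsElementaryAbelian p A) (hex : Exact V A) : Cfsg.IsBestOffenderOn p V A := by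
  refine ⟨fun B hBA => ?_, ?_, fun a ha => ?_⟩
  · have h1 := S.card_mul_le' (hBA.trans hAH) (elemAb_of_le hA hBA)
    unfold Exact cV at hex
    unfold cV at h1
    rw [hex]; exact h1
  · have : ⁅A, A⁆ = ⊥ := by
      rw [Subgroup.commutator_eq_bot_iff_le_centralizer]
      intro a ha
      rw [mem_centralizer_iff]
      intro x hx
      exact elemAb_comm hA hx ha
    rw [this]; exact bot_le
  · rw [hA.2 a ha]; exact Subgroup.one_mem _


/-! ### The commutator map `v ↦ [v, a]` on an abelian normalized subgroup -/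

/-- the commutator homomorphism `v ↦ v a v⁻¹ a⁻¹` -/
noncomputable def commHom (V : Subgroup G) (hVc : ∀ x ∈ V, ∀ y ∈ V, x * y = y * x) (a : G)
    (ha : a ∈ normalizer (V : Set G)) : ↥V →* G :=
  MonoidHom.mk' (fun v => (v : G) * (a * (v : G)⁻¹ * a⁻¹)) (by
    intro v w
    have h1 : a * (v : G)⁻¹ * a⁻¹ ∈ V := conj_mem_of_le_normalizer ha (V.inv_mem v.2)
    have h2 : a * (w : G)⁻¹ * a⁻¹ ∈ V := conj_mem_of_le_normalizer ha (V.inv_mem w.2)
    have h3 := hVc _ h1 _ (V.mul_mem w.2 h2)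
    show ((v * w : ↥V) : G) * (a * ((v * w : ↥V) : G)⁻¹ * a⁻¹) = _
    rw [Subgroup.coe_mul]
    calc (v : G) * w * (a * ((v : G) * w)⁻¹ * a⁻¹)
        = (v : G) * ((w : G) * (a * (w : G)⁻¹ * a⁻¹) * (a * (v : G)⁻¹ * a⁻¹)) := by group
      _ = (v : G) * ((a * (v : G)⁻¹ * a⁻¹) * ((w : G) * (a * (w : G)⁻¹ * a⁻¹))) := by rw [h3]
      _ = (v : G) * (a * (v : G)⁻¹ * a⁻¹) * ((w : G) * (a * (w : G)⁻¹ * a⁻¹)) := by group)

theorem commHom_apply (V : Subgroup G) (hVc : ∀ x ∈ V, ∀ y ∈ V, x * y = y * x) (a : G)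
    (ha : a ∈ normalizer (V : Set G)) (v : ↥V) :
    commHom V hVc a ha v = ⁅(v : G), a⁆ := by
  rw [commutatorElement_def]
  show (v : G) * (a * (v : G)⁻¹ * a⁻¹) = _
  group

theorem commHom_range (V : Subgroup G) (hVc : ∀ x ∈ V, ∀ y ∈ V, x * y = y * x) (a : G)
    (ha : a ∈ normalizer (V : Set G)) :
    (commHom V hVc a ha).range = ⁅V, zpowers a⁆ := by
  apply le_antisymm
  · rintro _ ⟨v, rfl⟩
    rw [commHom_apply]
    exact Subgroup.commutator_mem_commutator v.2 (mem_zpowers a)
  · -- the range is normalized by `a`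
    have hnorm : ∀ g ∈ (commHom V hVc a ha).range, a * g * a⁻¹ ∈ (commHom V hVc a ha).range := by
      rintro _ ⟨v, rfl⟩
      refine ⟨⟨a * v * a⁻¹, conj_mem_of_le_normalizer ha v.2⟩, ?_⟩
      rw [commHom_apply, commHom_apply, commutatorElement_def, commutatorElement_def]
      show a * (v : G) * a⁻¹ * a * (a * (v : G) * a⁻¹)⁻¹ * a⁻¹ = a * ((v : G) * a * (v : G)⁻¹ * a⁻¹) * a⁻¹
      group
    have hnat : ∀ (n : ℕ) (v : G), v ∈ V → ⁅v, a ^ n⁆ ∈ (commHom V hVc a ha).range := by
      intro n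
      induction n with
      | zero =>
        intro v _
        rw [pow_zero, commutatorElement_def]
        simp
      | succ n ih =>
        intro v hv
        have h1 : ⁅v, a ^ (n + 1)⁆ = ⁅v, a⁆ * (a * ⁅v, a ^ n⁆ * a⁻¹) := by
          rw [pow_succ', commutatorElement_def, commutatorElement_def, commutatorElement_def]
          group
        rw [h1]
        refine Subgroup.mul_mem _ ⟨⟨v, hv⟩, commHom_apply V hVc a ha ⟨v, hv⟩⟩ (hnorm _ (ih v hv))
    rw [Subgroup.commutator_le]
    intro v hv b hb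
    obtain ⟨n, rfl⟩ := (mem_powers_iff_mem_zpowers.mpr hb)
    exact hnat n v hv

theorem commHom_ker (V : Subgroup G) (hVc : ∀ x ∈ V, ∀ y ∈ V, x * y = y * x) (a : G)
    (ha : a ∈ normalizer (V : Set G)) :
    (commHom V hVc a ha).ker = (cV V (zpowers a)).subgroupOf V := by
  ext v
  rw [MonoidHom.mem_ker, commHom_apply, commutatorElement_eq_one_iff_mul_comm, Subgroup.mem_subgroupOf]
  constructor
  · intro h
    refine ⟨v.2, ?_⟩
    show (v : G) ∈ centralizer ((zpowers a : Subgroup G) : Set G)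
    rw [mem_centralizer_iff]
    intro b hb
    obtain ⟨k, rfl⟩ := Subgroup.mem_zpowers_iff.mp hb
    have : Commute (v : G) a := h
    exact ((this.zpow_right k).eq).symm
  · intro h
    exact ((mem_centralizer_iff.mp h.2) a (mem_zpowers a)).symm

/-- `|[V, ⟨a⟩]| · |C_V(a)| = |V|` for `a` normalizing the abelian subgroup `V` -/
theorem card_commutator_zpowers_mul (V : Subgroup G) (hVc : ∀ x ∈ V, ∀ y ∈ V, x * y = y * x) (a : G)
    (ha : a ∈ normalizer (V : Set G)) :
    Nat.card ↥(⁅V, zpowers a⁆) * Nat.card (cV V (zpowers a)) = Nat.card V := by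
  have h1 := Subgroup.index_ker (commHom V hVc a ha)
  rw [commHom_range, commHom_ker] at h1
  have h2 := Subgroup.card_mul_index ((cV V (zpowers a)).subgroupOf V)
  have h3 : Nat.card ((cV V (zpowers a)).subgroupOf V) = Nat.card (cV V (zpowers a)) :=
    Nat.card_congr (Subgroup.subgroupOfEquivOfLe (cV_le V _)).toEquiv
  rw [h3, h1] at h2
  rw [mul_comm]; exact h2

theorem zpowers_eq_of_prime_card {A : Subgroup G} (hA : Nat.card A = p) {a : G} (ha : a ∈ A)
    (ha1 : a ≠ 1) : zpowers a = A := by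
  have hpp : p.Prime := Fact.out
  have hle : zpowers a ≤ A := (Subgroup.zpowers_le).mpr ha
  apply Subgroup.eq_of_le_of_card_ge hle
  rw [Nat.card_zpowers, hA]
  have hdvd : orderOf a ∣ p := by
    have : orderOf (⟨a, ha⟩ : ↥A) ∣ Nat.card A := orderOf_dvd_natCard _
    rw [hA] at this
    rwa [← Subgroup.orderOf_mk a ha]
  rcases (Nat.dvd_prime hpp).mp hdvd with h | h
  · exact absurd (orderOf_eq_one_iff.mp h) ha1
  · exact h.ge

/-- a minimal nontrivially acting best offender has order `p` etc. -/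
theorem Setup.minimal_best (S : Setup p V H) {A : Subgroup G} (hAH : A ≤ H)
    (hA : Cfsg.IsBestOffenderOn p V A) (hAV : ⁅V, A⁆ ≠ ⊥)
    (hmin : ∀ B : Subgroup G, B ≤ A → Cfsg.IsBestOffenderOn p V B → ⁅V, B⁆ ≠ ⊥ → B = A) :
    Nat.card A = p ∧ Nat.card ↥(⁅V, A⁆) = p ∧ (cV V A).relIndex V = p := by
  have hpp : p.Prime := Fact.out
  have hAe := S.elemAb_of_best hAH hA
  have hex := S.exact_of_best hAH hA
  have hbot : A ≠ ⊥ := by
    rintro rfl
    apply hAV
    rw [Subgroup.commutator_eq_bot_iff_le_centralizer]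
    exact le_centralizer_bot V
  obtain ⟨A₀, hA₀A, hrel, -, hne⟩ := S.exists_hyperplane hAH hAe le_rfl hbot
  have hex₀ := S.exact_hyperplane hAH hAe hA₀A hrel hne hex
  have hbest₀ := S.best_of_exact (hA₀A.trans hAH) (elemAb_of_le hAe hA₀A) hex₀
  have hA₀bot : A₀ = ⊥ := by
    by_contra hne0
    have hVA₀ : ⁅V, A₀⁆ ≠ ⊥ := by
      intro h
      apply hne0
      rw [Subgroup.commutator_eq_bot_iff_le_centralizer] at h
      rw [eq_bot_iff, ← S.hf]
      exact le_inf (hA₀A.trans hAH) (Subgroup.le_centralizer_iff.mp h)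
    have := hmin A₀ hA₀A hbest₀ hVA₀
    rw [this, Subgroup.relIndex_self] at hrel
    exact hpp.one_lt.ne hrel
  have hcard : Nat.card A = p := by
    rw [hA₀bot, Subgroup.relIndex_bot_left] at hrel
    exact hrel
  have hcV : 0 < Nat.card (cV V A) := Nat.card_pos
  have hrelV : (cV V A).relIndex V = p := by
    have h1 := card_mul_relIndex_le (cV_le V A)
    unfold Exact at hex
    rw [← hex, hcard, mul_comm] at h1
    exact Nat.eq_of_mul_eq_mul_right hcV h1
  refine ⟨hcard, ?_, hrelV⟩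
  -- `A = ⟨a⟩`
  obtain ⟨a, haA, ha1⟩ : ∃ a ∈ A, a ≠ 1 := by
    by_contra hcon
    push_neg at hcon
    exact hbot ((Subgroup.eq_bot_iff_forall A).mpr hcon)
  have hz := zpowers_eq_of_prime_card hcard haA ha1
  have h2 := card_commutator_zpowers_mul V (fun x hx y hy => elemAb_comm S.hV hx hy) a
    (S.hHV (hAH haA))
  rw [hz] at h2
  unfold Exact at hex
  rw [← hex, hcard] at h2
  exact Nat.eq_of_mul_eq_mul_right hcV h2


/-! ### Decomposition into offenders of order `p` -/

theorem inf_eq_bot_of_prime_card {C K : Subgroup G} (hC : Nat.card C = p) (h : ¬ C ≤ K) :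
    C ⊓ K = ⊥ := by
  have hpp : p.Prime := Fact.out
  have hdvd : Nat.card ↥(C ⊓ K) ∣ p := hC ▸ Subgroup.card_dvd_of_le inf_le_left
  rcases (Nat.dvd_prime hpp).mp hdvd with h1 | h1
  · exact Subgroup.card_eq_one.mp h1
  · exfalso
    apply h
    have : C ⊓ K = C := Subgroup.eq_of_le_of_card_ge inf_le_left (by rw [h1, hC])
    exact this ▸ inf_le_right

theorem sup_eq_of_relIndex_prime {A₀ A C : Subgroup G} (hA₀ : A₀ ≤ A) (hrel : A₀.relIndex A = p)
    (hC : C ≤ A) (hCA₀ : ¬ C ≤ A₀) : C ⊔ A₀ = A := by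
  have hpp : p.Prime := Fact.out
  have hc := card_mul_relIndex_le hA₀
  rw [hrel] at hc
  have hle : C ⊔ A₀ ≤ A := sup_le hC hA₀
  obtain ⟨m, hm⟩ : Nat.card A₀ ∣ Nat.card ↥(C ⊔ A₀) := Subgroup.card_dvd_of_le le_sup_right
  have h2 : Nat.card ↥(C ⊔ A₀) ∣ Nat.card A := Subgroup.card_dvd_of_le hle
  rw [hm, ← hc] at h2
  have hpos : 0 < Nat.card A₀ := Nat.card_pos
  have h3 : m ∣ p := (Nat.mul_dvd_mul_iff_left hpos).mp h2
  rcases (Nat.dvd_prime hpp).mp h3 with h4 | h4
  · exfalso
    apply hCA₀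
    rw [h4, mul_one] at hm
    have : A₀ = C ⊔ A₀ := Subgroup.eq_of_le_of_card_ge le_sup_right hm.le
    rw [this]; exact le_sup_left
  · apply Subgroup.eq_of_le_of_card_ge hle
    rw [hm, h4, hc]

theorem disjoint_sup_aux {A A₀ X C T : Subgroup G} (hA : Cfsg.IsElementaryAbelian p A)
    (hA₀ : A₀ ≤ A) (hX : X ≤ A₀) (hT : T ≤ A₀) (hC : C ≤ A) (hXT : Disjoint X T)
    (hCA₀ : C ⊓ A₀ = ⊥) : Disjoint X (C ⊔ T) := by
  rw [Subgroup.disjoint_def]
  intro x hxX hxCT
  have hTC : T ≤ normalizer (C : Set G) :=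
    (hT.trans hA₀).trans ((le_centralizer_iff_isMulCommutative.mpr hA.1).trans
      ((centralizer_le hC).trans (centralizer_le_normalizer _)))
  have hx' : x ∈ ((C ⊔ T : Subgroup G) : Set G) := hxCT
  rw [Subgroup.coe_mul_of_right_le_normalizer_left C T hTC] at hx'
  obtain ⟨c, hc, t, ht, rfl⟩ := Set.mem_mul.mp hx'
  have hc' : c ∈ C ⊓ A₀ := by
    refine ⟨hc, ?_⟩
    have : c = (c * t) * t⁻¹ := by group
    rw [this]
    exact A₀.mul_mem (hX hxX) (A₀.inv_mem (hT ht))
  rw [hCA₀, Subgroup.mem_bot] at hc'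
  subst hc'
  rw [one_mul] at hxX ⊢
  exact Subgroup.disjoint_def.mp hXT hxX ht

/-- `A` is a direct product of best offenders of order `p` -/
def Dec (p : ℕ) (V A : Subgroup G) : Prop :=
  ∃ (k : ℕ) (B : Fin k → Subgroup G),
    (∀ i, B i ≤ A ∧ Cfsg.IsBestOffenderOn p V (B i) ∧ Nat.card (B i) = p) ∧ iSupIndep B ∧
      ⨆ i, B i = A

theorem Setup.dec (S : Setup p V H) : ∀ (n : ℕ) (A : Subgroup G), Nat.card A = n → A ≤ H →
    Cfsg.IsElementaryAbelian p A → Exact V A → Dec p V A := by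
  intro n
  induction n using Nat.strong_induction_on with
  | _ n ih =>
    intro A hn hAH hA hex
    have hpp : p.Prime := Fact.out
    by_cases hbot : A = ⊥
    · refine ⟨0, fun i => i.elim0, fun i => i.elim0, iSupIndep_subsingleton _, ?_⟩
      rw [hbot]; exact iSup_of_empty _
    · obtain ⟨A₀, hA₀A, hrel, -, hne⟩ := S.exists_hyperplane hAH hA le_rfl hbot
      have hex₀ := S.exact_hyperplane hAH hA hA₀A hrel hne hex
      have hc := card_mul_relIndex_le hA₀A
      rw [hrel] at hc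
      have hlt₀ : Nat.card A₀ < n := by
        rw [← hn, ← hc]
        have : 0 < Nat.card A₀ := Nat.card_pos
        have := hpp.one_lt
        nlinarith
      have hA₀e := elemAb_of_le hA hA₀A
      obtain ⟨k, B, hB, hind, hsup⟩ := ih _ hlt₀ A₀ rfl (hA₀A.trans hAH) hA₀e hex₀
      obtain ⟨C, hCA, hCcard, hCbest, hCA₀, hCsup⟩ : ∃ C : Subgroup G, C ≤ A ∧ Nat.card C = p ∧
          Cfsg.IsBestOffenderOn p V C ∧ C ⊓ A₀ = ⊥ ∧ C ⊔ A₀ = A := by
        by_cases hA₀bot : A₀ = ⊥
        · refine ⟨A, le_rfl, ?_, S.best_of_exact hAH hA hex, ?_, ?_⟩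
          · rw [← hc, hA₀bot, Subgroup.card_bot, one_mul]
          · rw [hA₀bot, inf_bot_eq]
          · rw [hA₀bot, sup_bot_eq]
        · obtain ⟨A₁, hA₁A, hrel₁, hnle, hne₁⟩ := S.exists_hyperplane hAH hA hA₀A hA₀bot
          have hex₁ := S.exact_hyperplane hAH hA hA₁A hrel₁ hne₁ hex
          have hc₁ := card_mul_relIndex_le hA₁A
          rw [hrel₁] at hc₁
          have hlt₁ : Nat.card A₁ < n := by
            rw [← hn, ← hc₁]
            have : 0 < Nat.card A₁ := Nat.card_pos
            have := hpp.one_lt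
            nlinarith
          obtain ⟨k', B', hB', -, hsup'⟩ :=
            ih _ hlt₁ A₁ rfl (hA₁A.trans hAH) (elemAb_of_le hA hA₁A) hex₁
          have hex : ∃ j, ¬ B' j ≤ A₀ := by
            by_contra hcon
            push_neg at hcon
            have h1 : A₁ ≤ A₀ := hsup' ▸ iSup_le hcon
            have hcard : Nat.card A₀ = Nat.card A₁ :=
              Nat.eq_of_mul_eq_mul_right hpp.pos (hc.trans hc₁.symm)
            have := Subgroup.eq_of_le_of_card_ge h1 hcard.le
            exact hnle (this ▸ le_rfl)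
          obtain ⟨j, hj⟩ := hex
          exact ⟨B' j, (hB' j).1.trans hA₁A, (hB' j).2.2, (hB' j).2.1,
            inf_eq_bot_of_prime_card (hB' j).2.2 hj,
            sup_eq_of_relIndex_prime hA₀A hrel ((hB' j).1.trans hA₁A) hj⟩
      refine ⟨k + 1, (Fin.cons C B : Fin (k + 1) → Subgroup G), ?_, ?_, ?_⟩
      · intro i
        refine Fin.cases ?_ (fun i => ?_) i
        · simp only [Fin.cons_zero]; exact ⟨hCA, hCbest, hCcard⟩
        · simp only [Fin.cons_succ]; exact ⟨(hB i).1.trans hA₀A, (hB i).2⟩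
      · rw [iSupIndep_def]
        intro i
        refine Fin.cases ?_ (fun i => ?_) i
        · have hle : (⨆ j, ⨆ (_ : j ≠ 0), (Fin.cons C B : Fin (k + 1) → Subgroup G) j) ≤ A₀ := by
            apply iSup_le; intro j; apply iSup_le; intro hj
            obtain ⟨j', rfl⟩ := Fin.exists_succ_eq.mpr hj
            rw [Fin.cons_succ]; exact hsup ▸ le_iSup B j'
          rw [Fin.cons_zero]
          exact (disjoint_iff.mpr hCA₀).mono_right hle
        · have hle : (⨆ j, ⨆ (_ : j ≠ i.succ), (Fin.cons C B : Fin (k + 1) → Subgroup G) j) ≤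
              C ⊔ ⨆ j', ⨆ (_ : j' ≠ i), B j' := by
            apply iSup_le; intro j; apply iSup_le; intro hj
            rcases Fin.eq_zero_or_eq_succ j with rfl | ⟨j', rfl⟩
            · rw [Fin.cons_zero]; exact le_sup_left
            · rw [Fin.cons_succ]
              have hj' : j' ≠ i := fun h => hj (by rw [h])
              exact le_sup_of_le_right (le_iSup_of_le j' (le_iSup_of_le hj' le_rfl))
          rw [Fin.cons_succ]
          have hT : (⨆ j', ⨆ (_ : j' ≠ i), B j') ≤ A₀ := by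
            apply iSup_le; intro j; apply iSup_le; intro _
            exact hsup ▸ le_iSup B j
          exact (disjoint_sup_aux hA hA₀A (hsup ▸ le_iSup B i) hT hCA ((iSupIndep_def.mp hind) i)
            hCA₀).mono_right hle
      · apply le_antisymm
        · apply iSup_le
          intro i
          refine Fin.cases ?_ (fun i => ?_) i
          · rw [Fin.cons_zero]; exact hCA
          · rw [Fin.cons_succ]; exact (hB i).1.trans hA₀A
        · rw [← hCsup, ← hsup]
          apply sup_le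
          · exact le_iSup_of_le (0 : Fin (k + 1)) (by rw [Fin.cons_zero])
          · apply iSup_le
            intro i
            exact le_iSup_of_le i.succ (by rw [Fin.cons_succ])

/-- final form of the decomposition theorem -/
theorem Setup.decomposition (S : Setup p V H) {A : Subgroup G} (hAH : A ≤ H)
    (hA : Cfsg.IsBestOffenderOn p V A) :
    ∃ (k : ℕ) (B : Fin k → Subgroup G), (∀ i, B i ≤ A ∧ Cfsg.IsBestOffenderOn p V (B i) ∧
      ⁅V, B i⁆ ≠ ⊥ ∧ ∀ C : Subgroup G, C ≤ B i → Cfsg.IsBestOffenderOn p V C → ⁅V, C⁆ ≠ ⊥ →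
        C = B i) ∧ iSupIndep B ∧ ⨆ i, B i = A := by
  have hpp : p.Prime := Fact.out
  obtain ⟨k, B, hB, hind, hsup⟩ :=
    S.dec _ A rfl hAH (S.elemAb_of_best hAH hA) (S.exact_of_best hAH hA)
  refine ⟨k, B, fun i => ⟨(hB i).1, (hB i).2.1, ?_, ?_⟩, hind, hsup⟩
  · intro h
    rw [Subgroup.commutator_eq_bot_iff_le_centralizer] at h
    have h1 : B i ≤ H ⊓ centralizer (V : Set G) :=
      le_inf ((hB i).1.trans hAH) (Subgroup.le_centralizer_iff.mp h)
    rw [S.hf, le_bot_iff] at h1
    have h2 := (hB i).2.2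
    rw [h1, Subgroup.card_bot] at h2
    exact hpp.one_lt.ne h2
  · intro C hC _ hVC
    have hCbot : C ≠ ⊥ := by
      rintro rfl
      apply hVC
      rw [Subgroup.commutator_eq_bot_iff_le_centralizer]
      exact le_centralizer_bot V
    have hdvd : Nat.card C ∣ p := (hB i).2.2 ▸ Subgroup.card_dvd_of_le hC
    rcases (Nat.dvd_prime hpp).mp hdvd with h1 | h1
    · exact absurd (Subgroup.card_eq_one.mp h1) hCbot
    · exact Subgroup.eq_of_le_of_card_ge hC (by rw [h1, (hB i).2.2])

end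

end Cfsg.Agent.Helper1.BO
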