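import Mathlib
import Cfsg.Agent.Lib.Helper2.SL2Sylow

/-!
# Recognition of `SL₂(p)` acting on an elementary abelian group of order `p²` (helper1 library)

A group generated by two non-commuting elements of order `p` acting faithfully on an elementary
abelian group of order `p ^ 2` is isomorphic to `SL(2, ZMod p)`.
-/

set_option autoImplicit false
set_option linter.style.haveILetI false

namespace Cfsg.Agent.Helper1.SL2Gen

open Matrix Module
open scoped MatrixGroups

variable {Γ W : Type*} [Group Γ] [CommGroup W] {p : ℕ} [hp : Fact p.Prime]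

/-- the linear action -/
noncomputable def linAct [Module (ZMod p) (Additive W)] (act : Γ →* MulAut W) :
    Γ →* Module.End (ZMod p) (Additive W) where
  toFun γ := (MonoidHom.toAdditive (act γ).toMonoidHom).toZModLinearMap p
  map_one' := by
    ext s
    simp
  map_mul' γ₁ γ₂ := by
    ext s
    simp [map_mul]

theorem linAct_apply [Module (ZMod p) (Additive W)] (act : Γ →* MulAut W) (γ : Γ) (w : W) :
    linAct (p := p) act γ (Additive.ofMul w) = Additive.ofMul (act γ w) := rfl

/-- the matrix action with respect to a basis -/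
noncomputable def matAct [Module (ZMod p) (Additive W)]
    (𝔟 : Basis (Fin 2) (ZMod p) (Additive W)) (act : Γ →* MulAut W) :
    Γ →* Matrix (Fin 2) (Fin 2) (ZMod p) :=
  ((LinearMap.toMatrixAlgEquiv 𝔟 : Module.End (ZMod p) (Additive W) ≃ₐ[ZMod p] _) :
    Module.End (ZMod p) (Additive W) →* Matrix (Fin 2) (Fin 2) (ZMod p)).comp (linAct act)

theorem matAct_eq_one_iff [Module (ZMod p) (Additive W)]
    (𝔟 : Basis (Fin 2) (ZMod p) (Additive W)) (act : Γ →* MulAut W) (γ : Γ) :
    matAct 𝔟 act γ = 1 ↔ act γ = 1 := by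
  have h1 : matAct 𝔟 act γ = 1 ↔ linAct (p := p) act γ = 1 := by
    constructor
    · intro h
      apply (LinearMap.toMatrixAlgEquiv 𝔟).injective
      rw [map_one]
      exact h
    · intro h
      show (LinearMap.toMatrixAlgEquiv 𝔟) (linAct (p := p) act γ) = 1
      rw [h, map_one]
  rw [h1]
  constructor
  · intro h
    ext w
    have := LinearMap.congr_fun h (Additive.ofMul w)
    rw [linAct_apply] at this
    exact Additive.ofMul.injective this
  · intro h
    ext s
    obtain ⟨w, rfl⟩ := Additive.ofMul.surjective s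
    rw [linAct_apply, h]
    rfl

theorem det_matAct [Module (ZMod p) (Additive W)]
    (𝔟 : Basis (Fin 2) (ZMod p) (Additive W)) (act : Γ →* MulAut W) (x y : Γ)
    (hgen : ∀ K : Subgroup Γ, x ∈ K → y ∈ K → K = ⊤) (hx : x ^ p = 1) (hy : y ^ p = 1) (γ : Γ) :
    (matAct 𝔟 act γ).det = 1 := by
  set δ : Γ →* ZMod p := (Matrix.detMonoidHom).comp (matAct 𝔟 act) with hδ
  have key : ∀ z : Γ, z ^ p = 1 → z ∈ (δ.toHomUnits).ker := by
    intro z hz
    rw [MonoidHom.mem_ker]
    apply Units.ext
    rw [MonoidHom.coe_toHomUnits, Units.val_one]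
    have h1 : δ z ^ p = 1 := by rw [← map_pow, hz, map_one]
    rwa [ZMod.pow_card] at h1
  have htop := hgen _ (key x hx) (key y hy)
  have hγ : γ ∈ (δ.toHomUnits).ker := by rw [htop]; exact Subgroup.mem_top γ
  rw [MonoidHom.mem_ker] at hγ
  have := congrArg Units.val hγ
  rw [MonoidHom.coe_toHomUnits, Units.val_one] at this
  exact this

/-- the representation into `SL₂(p)` -/
noncomputable def rho [Module (ZMod p) (Additive W)]
    (𝔟 : Basis (Fin 2) (ZMod p) (Additive W)) (act : Γ →* MulAut W)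
    (hdet : ∀ γ, (matAct 𝔟 act γ).det = 1) : Γ →* SL(2, ZMod p) where
  toFun γ := ⟨matAct 𝔟 act γ, hdet γ⟩
  map_one' := Subtype.ext (map_one _)
  map_mul' a b := Subtype.ext (map_mul _ a b)

theorem rho_injective [Module (ZMod p) (Additive W)]
    (𝔟 : Basis (Fin 2) (ZMod p) (Additive W)) (act : Γ →* MulAut W)
    (hdet : ∀ γ, (matAct 𝔟 act γ).det = 1) (hact : Function.Injective act) :
    Function.Injective (rho 𝔟 act hdet) := by
  rw [injective_iff_map_eq_one]
  intro γ h
  have h1 : matAct 𝔟 act γ = 1 := congrArg Subtype.val h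
  rw [matAct_eq_one_iff] at h1
  apply hact
  rw [h1, map_one]

/-- a subgroup of `SL₂(p)` containing two non-commuting elements of order `p` is everything -/
theorem eq_top_of_mem (K : Subgroup SL(2, ZMod p)) (X Y : SL(2, ZMod p)) (hX : X ∈ K) (hY : Y ∈ K)
    (hXp : X ^ p = 1) (hYp : Y ^ p = 1) (hXY : X * Y ≠ Y * X) : K = ⊤ := by
  have hpp : p.Prime := hp.out
  have hX1 : X ≠ 1 := by rintro rfl; exact hXY (by simp)
  have hY1 : Y ≠ 1 := by rintro rfl; exact hXY (by simp)
  have hcX : Nat.card (Subgroup.zpowers X) = p := by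
    rw [Nat.card_zpowers]; exact orderOf_eq_prime hXp hX1
  have hcY : Nat.card (Subgroup.zpowers Y) = p := by
    rw [Nat.card_zpowers]; exact orderOf_eq_prime hYp hY1
  have hzX : IsPGroup p (Subgroup.zpowers X) := IsPGroup.of_card (n := 1) (by rw [hcX, pow_one])
  have hzY : IsPGroup p (Subgroup.zpowers Y) := IsPGroup.of_card (n := 1) (by rw [hcY, pow_one])
  obtain ⟨P, hP⟩ := hzX.exists_le_sylow
  obtain ⟨Q, hQ⟩ := hzY.exists_le_sylow
  have hcP : Nat.card P = p := by
    rw [Cfsg.Agent.Helper2.SL2S.card_sylow_SL2 p P, ZMod.card]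
  have hcQ : Nat.card Q = p := by
    rw [Cfsg.Agent.Helper2.SL2S.card_sylow_SL2 p Q, ZMod.card]
  have hPe : Subgroup.zpowers X = (P : Subgroup SL(2, ZMod p)) :=
    Subgroup.eq_of_le_of_card_ge hP (by rw [hcP, hcX])
  have hQe : Subgroup.zpowers Y = (Q : Subgroup SL(2, ZMod p)) :=
    Subgroup.eq_of_le_of_card_ge hQ (by rw [hcQ, hcY])
  have hne : P ≠ Q := by
    intro h
    apply hXY
    have hY' : Y ∈ Subgroup.zpowers X := by
      rw [hPe, h, ← hQe]; exact Subgroup.mem_zpowers Y
    obtain ⟨k, rfl⟩ := Subgroup.mem_zpowers_iff.mp hY'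
    exact ((Commute.refl X).zpow_right k).eq
  have htop := Cfsg.Agent.Helper2.SL2S.sylow_sup_eq_top p P Q hne
  rw [eq_top_iff, ← htop, ← hPe, ← hQe]
  exact sup_le ((Subgroup.zpowers_le).mpr hX) ((Subgroup.zpowers_le).mpr hY)

/-- **Recognition theorem** -/
theorem nonempty_equiv_SL2 [Finite W] (act : Γ →* MulAut W) (hact : Function.Injective act)
    (hW : ∀ w : W, w ^ p = 1) (hcard : Nat.card W = p ^ 2) (x y : Γ)
    (hgen : ∀ K : Subgroup Γ, x ∈ K → y ∈ K → K = ⊤) (hx : x ^ p = 1) (hy : y ^ p = 1)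
    (hxy : x * y ≠ y * x) : Nonempty (Γ ≃* SL(2, ZMod p)) := by
  have hM : ∀ m : Additive W, p • m = 0 := by
    intro m
    obtain ⟨w, rfl⟩ := Additive.ofMul.surjective m
    rw [← ofMul_pow, hW, ofMul_one]
  letI inst1 : Module (ZMod p) (Additive W) := AddCommGroup.zmodModule hM
  haveI inst2 : Finite (Additive W) := inferInstanceAs (Finite W)
  haveI inst3 : Module.Finite (ZMod p) (Additive W) := Module.Finite.of_finite
  haveI inst4 : Module.Free (ZMod p) (Additive W) := Module.Free.of_divisionRing _ _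
  have hfr : Module.finrank (ZMod p) (Additive W) = 2 := by
    have h1 := @Module.natCard_eq_pow_finrank (ZMod p) (Additive W) _ _ inst1 inst3
    have h2 : Nat.card (Additive W) = p ^ 2 := hcard
    rw [h2, Nat.card_zmod] at h1
    exact (Nat.pow_right_injective hp.out.two_le h1).symm
  obtain ⟨𝔟⟩ : Nonempty (Basis (Fin 2) (ZMod p) (Additive W)) :=
    ⟨@Module.finBasisOfFinrankEq (ZMod p) (Additive W) _ _ inst1 inst4 _ inst3 2 hfr⟩
  have hdet := det_matAct 𝔟 act x y hgen hx hy
  have hinj := rho_injective 𝔟 act hdet hact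
  have hsurj : Function.Surjective (rho 𝔟 act hdet) := by
    have htop : (rho 𝔟 act hdet).range = ⊤ := by
      refine eq_top_of_mem (rho 𝔟 act hdet).range (rho 𝔟 act hdet x) (rho 𝔟 act hdet y)
        (MonoidHom.mem_range.mpr ⟨x, rfl⟩) (MonoidHom.mem_range.mpr ⟨y, rfl⟩) ?_ ?_ ?_
      · rw [← map_pow, hx, map_one]
      · rw [← map_pow, hy, map_one]
      · intro h
        apply hxy
        apply hinj
        rw [map_mul, map_mul, h]
    exact MonoidHom.range_eq_top.mp htop
  exact ⟨MulEquiv.ofBijective (rho 𝔟 act hdet) ⟨hinj, hsurj⟩⟩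

end Cfsg.Agent.Helper1.SL2Gen
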