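import Mathlib
import Cfsg.Agent.Lib.Helper1.BestOffender
import Cfsg.Agent.Lib.Helper1.SL2Gen
import Cfsg.Agent.Lib.Helper16.Conj
import Cfsg.Agent.Lib.Helper16.Commutator
import Cfsg.Agent.Lib.Helper27.NilAction
import Cfsg.Agent.S0055

/-!
# A minimal offender and a conjugate generate `SL₂(p)` (helper1 library)
-/

set_option autoImplicit false
set_option linter.style.haveILetI false

namespace Cfsg.Agent.Helper1.BO

open Subgroup
open scoped commutatorElement MatrixGroups IsMulCommutative Pointwise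

variable {G : Type*} [Group G] [Finite G]

/-- `[V, A ⊔ B] = [V, A] ⊔ [V, B]` when `A`, `B` normalize `V` -/
theorem commutator_sup_eq {V A B : Subgroup G} (hA : A ≤ normalizer (V : Set G))
    (hB : B ≤ normalizer (V : Set G)) : ⁅V, A ⊔ B⁆ = ⁅V, A⁆ ⊔ ⁅V, B⁆ := by
  apply le_antisymm
  · have hJV : ⁅V, A⁆ ⊔ ⁅V, B⁆ ≤ V :=
      sup_le (Cfsg.Agent.Helper7.commutator_le_of_le_normalizer hA)
        (Cfsg.Agent.Helper7.commutator_le_of_le_normalizer hB)
    let S : Subgroup G :=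
      { carrier := {l | l ∈ normalizer (V : Set G) ∧ ∀ v ∈ V, ⁅v, l⁆ ∈ ⁅V, A⁆ ⊔ ⁅V, B⁆}
        one_mem' := by
          refine ⟨Subgroup.one_mem _, fun v _ => ?_⟩
          rw [commutatorElement_def]
          have : v * 1 * v⁻¹ * (1 : G)⁻¹ = 1 := by group
          rw [this]; exact Subgroup.one_mem _
        mul_mem' := by
          rintro l₁ l₂ ⟨h1, h1'⟩ ⟨h2, h2'⟩
          refine ⟨Subgroup.mul_mem _ h1 h2, fun v hv => ?_⟩
          have e : ⁅v, l₁ * l₂⁆ = ⁅v, l₁⁆ * (⁅⁅v, l₂⁆, l₁⁆⁻¹ * ⁅v, l₂⁆) := by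
            simp only [commutatorElement_def]; group
          rw [e]
          have hj := h2' v hv
          exact Subgroup.mul_mem _ (h1' v hv)
            (Subgroup.mul_mem _ (Subgroup.inv_mem _ (h1' _ (hJV hj))) hj)
        inv_mem' := by
          rintro l ⟨h1, h1'⟩
          refine ⟨Subgroup.inv_mem _ h1, fun v hv => ?_⟩
          have e : ⁅v, l⁻¹⁆ = ⁅l⁻¹ * v * l, l⁆⁻¹ := by
            simp only [commutatorElement_def]; group
          rw [e]
          exact Subgroup.inv_mem _ (h1' _ (conj_inv_mem_of_le_normalizer h1 hv)) }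
    have hAS : A ≤ S := fun a ha =>
      ⟨hA ha, fun v hv => Subgroup.mem_sup_left (Subgroup.commutator_mem_commutator hv ha)⟩
    have hBS : B ≤ S := fun b hb =>
      ⟨hB hb, fun v hv => Subgroup.mem_sup_right (Subgroup.commutator_mem_commutator hv hb)⟩
    have hLS : A ⊔ B ≤ S := sup_le hAS hBS
    rw [Subgroup.commutator_le]
    intro v hv l hl
    exact (hLS hl).2 v hv
  · exact sup_le (Subgroup.commutator_mono le_rfl le_sup_left)
      (Subgroup.commutator_mono le_rfl le_sup_right)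

/-- `|W₁ ⊔ W₂| ≤ |W₁| |W₂|` if `W₂` normalizes `W₁` -/
theorem card_sup_le_mul {W₁ W₂ : Subgroup G} (h : W₂ ≤ normalizer (W₁ : Set G)) :
    Nat.card ↥(W₁ ⊔ W₂) ≤ Nat.card W₁ * Nat.card W₂ := by
  have h1 := Subgroup.coe_mul_of_right_le_normalizer_left W₁ W₂ h
  have h2 : Nat.card ↥(W₁ ⊔ W₂) = Nat.card ↥((W₁ : Set G) * (W₂ : Set G)) := by
    rw [← h1]; rfl
  rw [h2]
  exact Set.natCard_mul_le

/-- commutators in `Q ⊔ A` lie in `Q`, for abelian `A` normalizing `Q` -/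
theorem commutator_mem_of_sup {Q A : Subgroup G} (hAQ : A ≤ normalizer (Q : Set G))
    (hAc : ∀ a ∈ A, ∀ b ∈ A, a * b = b * a) {g h : G} (hg : g ∈ Q ⊔ A) (hh : h ∈ Q ⊔ A) :
    ⁅g, h⁆ ∈ Q := by
  obtain ⟨q₁, hq₁, a₁, ha₁, rfl⟩ := (Cfsg.Agent.Helper16.mem_sup_iff_of_le_normalizer hAQ).mp hg
  obtain ⟨q₂, hq₂, a₂, ha₂, rfl⟩ := (Cfsg.Agent.Helper16.mem_sup_iff_of_le_normalizer hAQ).mp hh
  have hc : a₂ * a₁⁻¹ = a₁⁻¹ * a₂ := hAc a₂ ha₂ a₁⁻¹ (A.inv_mem ha₁)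
  have e : ⁅q₁ * a₁, q₂ * a₂⁆ = q₁ * (a₁ * q₂ * a₁⁻¹) * (a₂ * q₁⁻¹ * a₂⁻¹) * q₂⁻¹ := by
    rw [commutatorElement_def]
    calc q₁ * a₁ * (q₂ * a₂) * (q₁ * a₁)⁻¹ * (q₂ * a₂)⁻¹
        = q₁ * a₁ * q₂ * (a₂ * a₁⁻¹) * q₁⁻¹ * a₂⁻¹ * q₂⁻¹ := by group
      _ = q₁ * a₁ * q₂ * (a₁⁻¹ * a₂) * q₁⁻¹ * a₂⁻¹ * q₂⁻¹ := by rw [hc]
      _ = q₁ * (a₁ * q₂ * a₁⁻¹) * (a₂ * q₁⁻¹ * a₂⁻¹) * q₂⁻¹ := by group
  rw [e]
  exact Q.mul_mem (Q.mul_mem (Q.mul_mem hq₁ (conj_mem_of_le_normalizer (hAQ ha₁) hq₂))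
    (conj_mem_of_le_normalizer (hAQ ha₂) (Q.inv_mem hq₁))) (Q.inv_mem hq₂)

section SL2

open Cfsg.Agent.Helper2.SL2S

variable {p : ℕ} [hp : Fact p.Prime]

/-- for `p ≥ 5` the group `SL₂(p)` contains a commutator of order `p` -/
theorem exists_commutator_order_p (hp2 : p ≠ 2) (hp3 : p ≠ 3) :
    ∃ g h : SL(2, ZMod p), ⁅g, h⁆ ≠ 1 ∧ ⁅g, h⁆ ^ p = 1 := by
  have hpp : p.Prime := hp.out
  have h2 : (2 : ZMod p) ≠ 0 := by
    intro h
    have : ((2 : ℕ) : ZMod p) = 0 := by exact_mod_cast h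
    rw [ZMod.natCast_eq_zero_iff] at this
    exact hp2 ((Nat.prime_dvd_prime_iff_eq hpp Nat.prime_two).mp this)
  have h3 : (3 : ZMod p) ≠ 0 := by
    intro h
    have : ((3 : ℕ) : ZMod p) = 0 := by exact_mod_cast h
    rw [ZMod.natCast_eq_zero_iff] at this
    exact hp3 ((Nat.prime_dvd_prime_iff_eq hpp Nat.prime_three).mp this)
  let d : SL(2, ZMod p) := ⟨!![2, 0; 0, 2⁻¹], by
    rw [Matrix.det_fin_two_of]; simp [h2]⟩
  have h1 : d * u (1 : ZMod p) = u 4 * d := by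
    apply Subtype.ext
    rw [Matrix.SpecialLinearGroup.coe_mul, Matrix.SpecialLinearGroup.coe_mul, u_coe, u_coe]
    show !![2, 0; 0, 2⁻¹] * !![1, 1; 0, 1] = !![1, 4; 0, 1] * !![(2 : ZMod p), 0; 0, 2⁻¹]
    rw [Matrix.mul_fin_two, Matrix.mul_fin_two]
    have : (4 : ZMod p) * 2⁻¹ = 2 := by
      field_simp
      norm_num
    ext i j
    fin_cases i <;> fin_cases j <;> simp [this]
  have hcomm : ⁅d, u (1 : ZMod p)⁆ = u 3 := by
    rw [commutatorElement_def, h1, mul_inv_cancel_right, u_inv, ← u_add]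
    congr 1
    norm_num
  refine ⟨d, u 1, ?_, ?_⟩
  · rw [hcomm]
    intro h
    have := u_injective (h.trans (u_zero (F := ZMod p)).symm)
    exact h3 this
  · rw [hcomm]
    have : (u (3 : ZMod p)) ^ p = u ((p : ZMod p) * 3) := by
      have key : ∀ n : ℕ, (u (3 : ZMod p)) ^ n = u ((n : ZMod p) * 3) := by
        intro n
        induction n with
        | zero => simp
        | succ n ih => rw [pow_succ, ih, ← u_add]; congr 1; push_cast; ring
      exact key p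
    rw [this, ZMod.natCast_self, zero_mul, u_zero]

end SL2


section main

variable {p : ℕ} [hp : Fact p.Prime] {V H : Subgroup G}

/-- conjugation by an element normalizing `Y` preserves `C(Y)` -/
theorem conj_mem_centralizer_of_normalizer {Y : Subgroup G} {n c : G}
    (hn : n ∈ normalizer (Y : Set G)) (hc : c ∈ centralizer (Y : Set G)) :
    n * c * n⁻¹ ∈ centralizer (Y : Set G) := by
  rw [mem_centralizer_iff]
  intro y hy
  have h1 : n⁻¹ * y * n ∈ Y := conj_inv_mem_of_le_normalizer hn hy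
  have h2 := mem_centralizer_iff.mp hc _ h1
  calc y * (n * c * n⁻¹) = n * ((n⁻¹ * y * n) * c) * n⁻¹ := by group
    _ = n * (c * (n⁻¹ * y * n)) * n⁻¹ := by rw [h2]
    _ = n * c * n⁻¹ * y := by group

/-- a `p`-subgroup `B ≤ H` normalizing a subgroup `U ≤ V` of order `p` centralizes it -/
theorem Setup.centralizes_of_card_prime (S : Setup p V H) {B U : Subgroup G} (hBH : B ≤ H)
    (hB : Cfsg.IsElementaryAbelian p B) (hUV : U ≤ V) (hU : Nat.card U = p)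
    (hBU : B ≤ normalizer (U : Set G)) : B ≤ centralizer (U : Set G) := by
  have hpp : p.Prime := hp.out
  have h1 : ⁅U, B⁆ ≤ U := Cfsg.Agent.Helper7.commutator_le_of_le_normalizer hBU
  have hdvd : Nat.card ↥(⁅U, B⁆) ∣ p := hU ▸ Subgroup.card_dvd_of_le h1
  rcases (Nat.dvd_prime hpp).mp hdvd with h2 | h2
  · have h3 : ⁅U, B⁆ = ⊥ := Subgroup.card_eq_one.mp h2
    rw [Subgroup.commutator_eq_bot_iff_le_centralizer] at h3
    exact Subgroup.le_centralizer_iff.mp h3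
  · exfalso
    have h3 : ⁅U, B⁆ = U := Subgroup.eq_of_le_of_card_ge h1 (by rw [h2, hU])
    have h4 := Cfsg.Agent.Helper27.eq_bot_of_le_commutator V B S.isPGroup_V (hBH.trans S.hHV)
      (fun b hb => by rw [hB.2 b hb]; exact Subgroup.one_mem _) U hUV h3.ge
    rw [h4, Subgroup.card_bot] at hU
    exact hpp.one_lt.ne hU

theorem Setup.sl2_pair_aux (S : Setup p V H) {A : Subgroup G} (hAH : A ≤ H)
    (hA : Cfsg.IsBestOffenderOn p V A) (hAV : ⁅V, A⁆ ≠ ⊥)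
    (hmin : ∀ B : Subgroup G, B ≤ A → Cfsg.IsBestOffenderOn p V B → ⁅V, B⁆ ≠ ⊥ → B = A)
    (x : G) (hx : x ∈ qOf p H) (hxA : x ∉ centralizer (A : Set G))
    (Ax L : Subgroup G) (hAx : Ax = A.map (MulAut.conj x).toMonoidHom) (hL : L = A ⊔ Ax) :
    Nat.card ↥(⁅V, L⁆) = p ^ 2 ∧ L ⊓ centralizer ((⁅V, L⁆ : Subgroup G) : Set G) = ⊥ ∧
    ∃ a b : G, a ∈ A ∧ b ∈ Ax ∧ Subgroup.zpowers a = A ∧ Subgroup.zpowers b = Ax ∧
      a * b ≠ b * a ∧ L ≤ H ∧ L ≤ qOf p H ⊔ A ∧ a ^ p = 1 ∧ b ^ p = 1 := by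
  have hpp : p.Prime := hp.out
  obtain ⟨hcard, hcardW₁, -⟩ := S.minimal_best hAH hA hAV hmin
  have hAe := S.elemAb_of_best hAH hA
  have hAp : IsPGroup p A := isPGroup_of_elemAb hAe
  have hxH : x ∈ H := qOf_le p H hx
  have hxV : x ∈ normalizer (V : Set G) := S.hHV hxH
  have hVc : ∀ v ∈ V, ∀ w ∈ V, v * w = w * v := fun v hv w hw => elemAb_comm S.hV hv hw
  -- `Ax`
  have hAxH : Ax ≤ H := by
    rw [hAx]
    rintro _ ⟨a', ha', rfl⟩
    simp only [MulEquiv.coe_toMonoidHom, MulAut.conj_apply]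
    exact H.mul_mem (H.mul_mem hxH (hAH ha')) (H.inv_mem hxH)
  have hLH : L ≤ H := hL ▸ sup_le hAH hAxH
  have hcardAx : Nat.card Ax = p := by rw [hAx, Cfsg.Agent.Helper16.card_map_conj, hcard]
  have hAxe : Cfsg.IsElementaryAbelian p Ax := by
    refine ⟨isMulCommutative_iff.mpr fun u v => ?_, fun b hb => ?_⟩
    · obtain ⟨u, hu⟩ := u
      obtain ⟨v, hv⟩ := v
      rw [hAx] at hu hv
      obtain ⟨u', hu', rfl⟩ := hu
      obtain ⟨v', hv', rfl⟩ := hv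
      apply Subtype.ext
      show (MulAut.conj x).toMonoidHom u' * (MulAut.conj x).toMonoidHom v' =
        (MulAut.conj x).toMonoidHom v' * (MulAut.conj x).toMonoidHom u'
      rw [← map_mul, ← map_mul, elemAb_comm hAe hu' hv']
    · rw [hAx] at hb
      obtain ⟨b', hb', rfl⟩ := hb
      rw [← map_pow, hAe.2 b' hb', map_one]
  -- generators
  obtain ⟨a, haA, ha1⟩ : ∃ a ∈ A, a ≠ 1 := by
    by_contra hcon
    push_neg at hcon
    have : A = ⊥ := (Subgroup.eq_bot_iff_forall A).mpr hcon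
    rw [this, Subgroup.card_bot] at hcard
    exact hpp.one_lt.ne hcard
  have hz := zpowers_eq_of_prime_card hcard haA ha1
  have hbAx : x * a * x⁻¹ ∈ Ax := hAx ▸ Cfsg.Agent.Helper16.conj_mem_map_conj haA
  have hb1 : x * a * x⁻¹ ≠ 1 := by
    intro h
    apply ha1
    have : a = x⁻¹ * (x * a * x⁻¹) * x := by group
    rw [this, h]; group
  have hzb := zpowers_eq_of_prime_card hcardAx hbAx hb1
  -- the `p'`-element `y`
  have hyL : a⁻¹ * (x * a * x⁻¹) ∈ L := by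
    rw [hL]
    exact Subgroup.mul_mem _ (Subgroup.mem_sup_left (A.inv_mem haA)) (Subgroup.mem_sup_right hbAx)
  have hyQ : a⁻¹ * (x * a * x⁻¹) ∈ qOf p H := by
    have h1 : a⁻¹ * x * a ∈ qOf p H :=
      conj_inv_mem_of_le_normalizer (le_normalizer_qOf p H (hAH haA)) hx
    have : a⁻¹ * (x * a * x⁻¹) = (a⁻¹ * x * a) * x⁻¹ := by group
    rw [this]
    exact Subgroup.mul_mem _ h1 (Subgroup.inv_mem _ hx)
  have hy1 : a⁻¹ * (x * a * x⁻¹) ≠ 1 := by
    intro h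
    apply hxA
    have hxa : x * a = a * x := by
      have h2 : x * a * x⁻¹ = a := by
        have : x * a * x⁻¹ = a * (a⁻¹ * (x * a * x⁻¹)) := by group
        rw [this, h, mul_one]
      calc x * a = (x * a * x⁻¹) * x := by group
        _ = a * x := by rw [h2]
    rw [← hz, mem_centralizer_iff]
    intro c hc
    obtain ⟨k, rfl⟩ := Subgroup.mem_zpowers_iff.mp hc
    have : Commute x a := hxa
    exact ((this.zpow_right k).eq).symm
  -- `a` and `b` do not commute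
  have hab : a * (x * a * x⁻¹) ≠ (x * a * x⁻¹) * a := by
    intro hcomm
    have hAxA : Ax ≤ normalizer (A : Set G) := by
      refine le_trans ?_ (centralizer_le_normalizer _)
      rw [← hzb, ← hz, Subgroup.zpowers_le, mem_centralizer_iff]
      intro c hc
      obtain ⟨k, rfl⟩ := Subgroup.mem_zpowers_iff.mp hc
      have : Commute (x * a * x⁻¹) a := hcomm.symm
      exact ((this.zpow_right k).eq).symm
    have hLp : IsPGroup p L := by
      rw [hL, sup_comm]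
      exact IsPGroup.to_sup_of_normal_right' (isPGroup_of_elemAb hAxe) hAp hAxA
    have h2 := Cfsg.Agent.Helper7.inf_eq_bot_of_isPGroup_of_coprime hLp (card_qOf_coprime p H)
    have h3 : a⁻¹ * (x * a * x⁻¹) ∈ L ⊓ qOf p H := ⟨hyL, hyQ⟩
    rw [h2, Subgroup.mem_bot] at h3
    exact hy1 h3
  -- `L ≤ Q ⊔ A`
  have hLQA : L ≤ qOf p H ⊔ A := by
    rw [hL]
    apply sup_le le_sup_right
    rw [hAx]
    rintro _ ⟨a', ha', rfl⟩
    simp only [MulEquiv.coe_toMonoidHom, MulAut.conj_apply]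
    exact Subgroup.mul_mem _ (Subgroup.mul_mem _ (Subgroup.mem_sup_left hx)
      (Subgroup.mem_sup_right ha')) (Subgroup.inv_mem _ (Subgroup.mem_sup_left hx))
  -- `Y`
  have hYH : L ⊓ qOf p H ≤ H := inf_le_left.trans hLH
  have hYV : L ⊓ qOf p H ≤ normalizer (V : Set G) := hYH.trans S.hHV
  have hYcop : (Nat.card ↥(L ⊓ qOf p H)).Coprime (Nat.card V) := by
    obtain ⟨n, hn⟩ := IsPGroup.iff_card.mp S.isPGroup_V
    rw [hn]
    apply Nat.Coprime.pow_right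
    exact Nat.Coprime.coprime_dvd_left (Subgroup.card_dvd_of_le inf_le_right)
      (card_qOf_coprime p H)
  have hLY : L ≤ normalizer ((L ⊓ qOf p H : Subgroup G) : Set G) := by
    intro l hl
    have hlQ := le_normalizer_qOf p H (hLH hl)
    rw [Subgroup.mem_normalizer_iff]
    intro r
    rw [Subgroup.mem_inf, Subgroup.mem_inf]
    constructor
    · rintro ⟨h1, h2⟩
      exact ⟨L.mul_mem (L.mul_mem hl h1) (L.inv_mem hl), conj_mem_of_le_normalizer hlQ h2⟩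
    · rintro ⟨h1, h2⟩
      refine ⟨?_, ?_⟩
      · have : r = l⁻¹ * (l * r * l⁻¹) * l := by group
        rw [this]
        exact L.mul_mem (L.mul_mem (L.inv_mem hl) h1) hl
      · have := conj_inv_mem_of_le_normalizer hlQ h2
        have e : l⁻¹ * (l * r * l⁻¹) * l = r := by group
        rwa [e] at this
  haveI : IsMulCommutative V := S.hV.1
  obtain ⟨hdec1, hdec2⟩ := Cfsg.Agent.S0055.result (L ⊓ qOf p H) V hYV hYcop
  have hUV : ⁅V, L ⊓ qOf p H⁆ ≤ V := Cfsg.Agent.Helper7.commutator_le_of_le_normalizer hYV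
  have hUW : ⁅V, L ⊓ qOf p H⁆ ≤ ⁅V, L⁆ := Subgroup.commutator_mono le_rfl inf_le_left
  have hUbot : ⁅V, L ⊓ qOf p H⁆ ≠ ⊥ := by
    intro h
    rw [Subgroup.commutator_eq_bot_iff_le_centralizer] at h
    have h2 : L ⊓ qOf p H ≤ H ⊓ centralizer (V : Set G) :=
      le_inf hYH (Subgroup.le_centralizer_iff.mp h)
    rw [S.hf] at h2
    have h3 : a⁻¹ * (x * a * x⁻¹) ∈ L ⊓ qOf p H := ⟨hyL, hyQ⟩
    exact hy1 (Subgroup.mem_bot.mp (h2 h3))
  have hLU : L ≤ normalizer ((⁅V, L ⊓ qOf p H⁆ : Subgroup G) : Set G) :=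
    (le_inf (hLH.trans S.hHV) hLY).trans
      (Cfsg.Agent.Helper7.normalizer_inf_normalizer_le_normalizer_commutator _ _)
  -- `|U| ≠ p`
  have hUp : Nat.card ↥(⁅V, L ⊓ qOf p H⁆) ≠ p := by
    intro hU
    have h1 : A ≤ centralizer ((⁅V, L ⊓ qOf p H⁆ : Subgroup G) : Set G) :=
      S.centralizes_of_card_prime hAH hAe hUV hU ((hL ▸ le_sup_left : A ≤ L).trans hLU)
    have h2 : Ax ≤ centralizer ((⁅V, L ⊓ qOf p H⁆ : Subgroup G) : Set G) :=
      S.centralizes_of_card_prime hAxH hAxe hUV hU ((hL ▸ le_sup_right : Ax ≤ L).trans hLU)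
    have h3 : L ≤ centralizer ((⁅V, L ⊓ qOf p H⁆ : Subgroup G) : Set G) :=
      hL.le.trans (sup_le h1 h2)
    have h4 : ⁅V, L ⊓ qOf p H⁆ ≤ centralizer ((L ⊓ qOf p H : Subgroup G) : Set G) :=
      Subgroup.le_centralizer_iff.mp (inf_le_left.trans h3)
    have h5 : ⁅V, L ⊓ qOf p H⁆ ≤ (V ⊓ centralizer ((L ⊓ qOf p H : Subgroup G) : Set G)) ⊓
        ⁅V, L ⊓ qOf p H⁆ := le_inf (le_inf hUV h4) le_rfl
    rw [hdec1] at h5
    exact hUbot (le_bot_iff.mp h5)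
  -- `W = W₁ ⊔ W₂`
  have hAxV : Ax ≤ normalizer (V : Set G) := hAxH.trans S.hHV
  have hWsup : ⁅V, L⁆ = ⁅V, A⁆ ⊔ ⁅V, Ax⁆ := by
    rw [hL]; exact commutator_sup_eq (hAH.trans S.hHV) hAxV
  have hcardW₂ : Nat.card ↥(⁅V, Ax⁆) = p := by
    have h1 : ⁅V, Ax⁆ = (⁅V, A⁆).map (MulAut.conj x).toMonoidHom := by
      rw [Subgroup.map_commutator, Cfsg.Agent.Helper16.map_conj_eq_of_mem_normalizer hxV, hAx]
    rw [h1, Cfsg.Agent.Helper16.card_map_conj, hcardW₁]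
  have hW₁V : ⁅V, A⁆ ≤ V := Cfsg.Agent.Helper7.commutator_le_of_le_normalizer (hAH.trans S.hHV)
  have hW₂V : ⁅V, Ax⁆ ≤ V := Cfsg.Agent.Helper7.commutator_le_of_le_normalizer hAxV
  have hcardW : Nat.card ↥(⁅V, L⁆) ≤ p ^ 2 := by
    have hnorm : ⁅V, Ax⁆ ≤ normalizer ((⁅V, A⁆ : Subgroup G) : Set G) :=
      hW₂V.trans ((le_centralizer_iff_isMulCommutative.mpr S.hV.1).trans
        ((centralizer_le hW₁V).trans (centralizer_le_normalizer _)))
    have := card_sup_le_mul hnorm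
    rw [hcardW₁, hcardW₂, ← hWsup] at this
    rw [pow_two]; exact this
  -- `|U| = p²`
  have hcardU : Nat.card ↥(⁅V, L ⊓ qOf p H⁆) = p ^ 2 := by
    obtain ⟨k, hk⟩ := IsPGroup.iff_card.mp (S.isPGroup_V.to_le hUV)
    have hk0 : k ≠ 0 := by
      rintro rfl
      rw [pow_zero] at hk
      exact hUbot (Subgroup.card_eq_one.mp hk)
    have hk1 : k ≠ 1 := by
      rintro rfl
      rw [pow_one] at hk
      exact hUp hk
    have hk2 : k ≤ 2 := by
      have h1 : p ^ k ≤ p ^ 2 := by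
        rw [← hk]
        exact (Subgroup.card_le_of_le hUW).trans hcardW
      exact (Nat.pow_le_pow_iff_right hpp.one_lt).mp h1
    have : k = 2 := by omega
    rw [hk, this]
  have hUeqW : ⁅V, L ⊓ qOf p H⁆ = ⁅V, L⁆ :=
    Subgroup.eq_of_le_of_card_ge hUW (by rw [hcardU]; exact hcardW)
  have hcardW' : Nat.card ↥(⁅V, L⁆) = p ^ 2 := by rw [← hUeqW, hcardU]
  refine ⟨hcardW', ?_, a, x * a * x⁻¹, haA, hbAx, hz, hzb, hab, hLH, hLQA, hAe.2 a haA,
    hAxe.2 _ hbAx⟩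
  -- faithfulness
  rw [eq_bot_iff]
  rintro n ⟨hnL, hnW⟩
  have hnV : n ∈ normalizer (V : Set G) := S.hHV (hLH hnL)
  have hnY := hLY hnL
  have h1 : V ⊓ centralizer ((L ⊓ qOf p H : Subgroup G) : Set G) ≤ centralizer ({n} : Set G) := by
    intro v hv
    have hv' : n * v⁻¹ * n⁻¹ ∈ V ⊓ centralizer ((L ⊓ qOf p H : Subgroup G) : Set G) :=
      ⟨conj_mem_of_le_normalizer hnV (V.inv_mem hv.1),
        conj_mem_centralizer_of_normalizer hnY (Subgroup.inv_mem _ hv.2)⟩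
    have h2 : ⁅v, n⁆ ∈ (V ⊓ centralizer ((L ⊓ qOf p H : Subgroup G) : Set G)) ⊓
        ⁅V, L ⊓ qOf p H⁆ := by
      refine ⟨?_, hUeqW ▸ Subgroup.commutator_mem_commutator hv.1 hnL⟩
      have : ⁅v, n⁆ = v * (n * v⁻¹ * n⁻¹) := by rw [commutatorElement_def]; group
      rw [this]
      exact Subgroup.mul_mem _ hv hv'
    rw [hdec1, Subgroup.mem_bot, commutatorElement_eq_one_iff_mul_comm] at h2
    rw [mem_centralizer_iff]
    intro m hm
    rw [Set.mem_singleton_iff] at hm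
    rw [hm]; exact h2.symm
  have h2 : ⁅V, L ⊓ qOf p H⁆ ≤ centralizer ({n} : Set G) := by
    rw [hUeqW]
    intro w hw
    rw [mem_centralizer_iff]
    intro m hm
    rw [Set.mem_singleton_iff] at hm
    rw [hm]
    exact (mem_centralizer_iff.mp hnW w hw).symm
  have h3 : V ≤ centralizer ({n} : Set G) := by
    rw [← hdec2]; exact sup_le h1 h2
  have h4 : n ∈ H ⊓ centralizer (V : Set G) := by
    refine ⟨hLH hnL, ?_⟩
    show n ∈ centralizer (V : Set G)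
    rw [mem_centralizer_iff]
    intro v hv
    exact (mem_centralizer_iff.mp (h3 hv) n rfl).symm
  rw [S.hf] at h4
  exact h4


/-- **S0613**, with names for `A^x` and `L = ⟨A, A^x⟩` -/
theorem Setup.sl2_pair_core (S : Setup p V H) {A : Subgroup G} (hAH : A ≤ H)
    (hA : Cfsg.IsBestOffenderOn p V A) (hAV : ⁅V, A⁆ ≠ ⊥)
    (hmin : ∀ B : Subgroup G, B ≤ A → Cfsg.IsBestOffenderOn p V B → ⁅V, B⁆ ≠ ⊥ → B = A)
    (x : G) (hx : x ∈ qOf p H) (hxA : x ∉ centralizer (A : Set G))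
    (Ax L : Subgroup G) (hAx : Ax = A.map (MulAut.conj x).toMonoidHom) (hL : L = A ⊔ Ax) :
    (p = 2 ∨ p = 3) ∧ Nat.card ↥(⁅V, L⁆) = p ^ 2 ∧
    L ⊓ centralizer ((⁅V, L⁆ : Subgroup G) : Set G) = ⊥ ∧
    Nonempty (↥L ≃* SL(2, ZMod p)) := by
  have hpp : p.Prime := hp.out
  obtain ⟨hcardW, hfaith, a, b, haA, hbAx, hz, hzb, hab, hLH, hLQA, hap, hbp⟩ :=
    S.sl2_pair_aux hAH hA hAV hmin x hx hxA Ax L hAx hL
  have hAL : A ≤ L := le_sup_left.trans hL.ge
  have hAxL : Ax ≤ L := le_sup_right.trans hL.ge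
  have hAe := S.elemAb_of_best hAH hA
  have hW_V : ⁅V, L⁆ ≤ V := Cfsg.Agent.Helper7.commutator_le_of_le_normalizer (hLH.trans S.hHV)
  have hLW : L ≤ normalizer ((⁅V, L⁆ : Subgroup G) : Set G) :=
    (le_inf (hLH.trans S.hHV) Subgroup.le_normalizer).trans
      (Cfsg.Agent.Helper7.normalizer_inf_normalizer_le_normalizer_commutator _ _)
  haveI : IsMulCommutative ↥(⁅V, L⁆) :=
    isMulCommutative_iff.mpr fun u v => Subtype.ext (elemAb_comm S.hV (hW_V u.2) (hW_V v.2))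
  have hiso : Nonempty (↥L ≃* SL(2, ZMod p)) := by
    refine Cfsg.Agent.Helper1.SL2Gen.nonempty_equiv_SL2 (W := ↥(⁅V, L⁆))
      (Cfsg.Agent.Helper27.conjAut ⁅V, L⁆ L hLW) ?_ ?_ hcardW ⟨a, hAL haA⟩ ⟨b, hAxL hbAx⟩
      ?_ ?_ ?_ ?_
    · rw [injective_iff_map_eq_one]
      intro l hl
      have h1 : (l : G) ∈ L ⊓ centralizer ((⁅V, L⁆ : Subgroup G) : Set G) := by
        refine ⟨l.2, ?_⟩
        show (l : G) ∈ centralizer ((⁅V, L⁆ : Subgroup G) : Set G)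
        rw [mem_centralizer_iff]
        intro w hw
        have h2 : (Cfsg.Agent.Helper27.conjAut ⁅V, L⁆ L hLW l) ⟨w, hw⟩ = ⟨w, hw⟩ := by
          rw [hl]; rfl
        have h3 := congrArg Subtype.val h2
        rw [Cfsg.Agent.Helper27.conjAut_apply] at h3
        have h4 : (l : G) * w * (l : G)⁻¹ = w := h3
        calc w * (l : G) = ((l : G) * w * (l : G)⁻¹) * (l : G) := by rw [h4]
          _ = (l : G) * w := by group
      rw [hfaith, Subgroup.mem_bot] at h1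
      exact Subtype.ext h1
    · intro w
      apply Subtype.ext
      have := S.hV.2 (w : G) (hW_V w.2)
      simpa using this
    · intro K hxK hyK
      rw [eq_top_iff]
      intro l _
      have hA' : A ≤ K.map L.subtype := by
        rw [← hz, Subgroup.zpowers_le]
        exact ⟨⟨a, hAL haA⟩, hxK, rfl⟩
      have hAx' : Ax ≤ K.map L.subtype := by
        rw [← hzb, Subgroup.zpowers_le]
        exact ⟨⟨b, hAxL hbAx⟩, hyK, rfl⟩
      have h1 : L ≤ K.map L.subtype := hL.le.trans (sup_le hA' hAx')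
      obtain ⟨k, hk, hkl⟩ := h1 l.2
      have : k = l := Subtype.ext hkl
      rw [← this]; exact hk
    · exact Subtype.ext (by simpa using hap)
    · exact Subtype.ext (by simpa using hbp)
    · intro h
      exact hab (congrArg Subtype.val h)
  refine ⟨?_, hcardW, hfaith, hiso⟩
  by_contra hcon
  push_neg at hcon
  obtain ⟨e⟩ := hiso
  obtain ⟨g, h, hne, hpow⟩ := exists_commutator_order_p hcon.1 hcon.2
  have ht : ((e.symm ⁅g, h⁆ : ↥L) : G) ∈ qOf p H := by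
    rw [map_commutatorElement]
    show ⁅((e.symm g : ↥L) : G), ((e.symm h : ↥L) : G)⁆ ∈ qOf p H
    exact commutator_mem_of_sup (hAH.trans (le_normalizer_qOf p H))
      (fun a ha b hb => elemAb_comm hAe ha hb) (hLQA (e.symm g).2) (hLQA (e.symm h).2)
  have ht1 : ((e.symm ⁅g, h⁆ : ↥L) : G) ≠ 1 := by
    intro h1
    apply hne
    have h2 : e.symm ⁅g, h⁆ = 1 := Subtype.ext h1
    exact e.symm.injective (h2.trans (map_one e.symm).symm)
  have htp : ((e.symm ⁅g, h⁆ : ↥L) : G) ^ p = 1 := by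
    have h2 : (e.symm ⁅g, h⁆) ^ p = 1 := by rw [← map_pow, hpow, map_one]
    have := congrArg Subtype.val h2
    simpa using this
  have hord : orderOf ((e.symm ⁅g, h⁆ : ↥L) : G) = p := orderOf_eq_prime htp ht1
  have hdvd : p ∣ Nat.card (qOf p H) := by
    have := orderOf_dvd_natCard (⟨_, ht⟩ : ↥(qOf p H))
    rwa [Subgroup.orderOf_mk, hord] at this
  exact (Nat.Prime.coprime_iff_not_dvd hpp).mp (card_qOf_coprime p H).symm hdvd


/-- **S0613** -/
theorem Setup.sl2_pair (S : Setup p V H) {A : Subgroup G} (hAH : A ≤ H)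
    (hA : Cfsg.IsBestOffenderOn p V A) (hAV : ⁅V, A⁆ ≠ ⊥)
    (hmin : ∀ B : Subgroup G, B ≤ A → Cfsg.IsBestOffenderOn p V B → ⁅V, B⁆ ≠ ⊥ → B = A)
    (x : G) (hx : x ∈ qOf p H) (hxA : x ∉ centralizer (A : Set G)) :
    (p = 2 ∨ p = 3) ∧ Nat.card ↥(⁅V, A ⊔ A.map (MulAut.conj x).toMonoidHom⁆) = p ^ 2 ∧
    (A ⊔ A.map (MulAut.conj x).toMonoidHom) ⊓
      centralizer ((⁅V, A ⊔ A.map (MulAut.conj x).toMonoidHom⁆ : Subgroup G) : Set G) = ⊥ ∧
    Nonempty (↥(A ⊔ A.map (MulAut.conj x).toMonoidHom) ≃* SL(2, ZMod p)) :=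
  S.sl2_pair_core hAH hA hAV hmin x hx hxA _ _ rfl rfl

end main

end Cfsg.Agent.Helper1.BO
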