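import Mathlib
import Cfsg.Prelude.Def_CaseTheorems
import Cfsg.Agent.Lib.Helper15.PCore
import Cfsg.Agent.Lib.Helper21.BaerSuzuki

/-!
# S3412 piece G6CORE (helper1, for helper26): the core, with the statement of G6-PAIR as a hypothesis.
-/

set_option autoImplicit false

namespace Cfsg.Agent.Helper26.CG3

universe u

/-- G6-CORE, core: from the pair statement and Baer-Suzuki (any finite group). -/
theorem g6core_exists_normal_two {G : Type u} [Group G] [Finite G]
    (hpair : ∀ a b : G, orderOf a = 2 → orderOf b = 2 →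
      (∀ r : G, orderOf r = 3 → a * r * a⁻¹ ≠ r⁻¹) →
      IsPGroup 2 ↥(Subgroup.closure ({a, b} : Set G)))
    (hno : ∀ b : G, orderOf b = 2 → ∀ r : G, orderOf r = 3 → b * r * b⁻¹ ≠ r⁻¹) :
    ∃ M : Subgroup G, M.Normal ∧ IsPGroup 2 M ∧ ∀ b : G, orderOf b = 2 → b ∈ M := by
  haveI : Fact (Nat.Prime 2) := ⟨Nat.prime_two⟩
  refine ⟨Cfsg.pCore 2 G, Cfsg.pCore_normal 2 G, Cfsg.Agent.Helper15.isPGroup_pCore 2 G, ?_⟩
  intro b hb
  have hX : ∀ g : G, IsPGroup 2 ↥(Subgroup.zpowers b ⊔
      (Subgroup.zpowers b).map (MulAut.conj g).toMonoidHom) := by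
    intro g
    have hbg : orderOf (g * b * g⁻¹) = 2 := by
      have h := orderOf_injective (MulAut.conj g).toMonoidHom (MulAut.conj g).injective b
      have h2 : (MulAut.conj g).toMonoidHom b = g * b * g⁻¹ := by simp [MulAut.conj_apply]
      rw [h2] at h
      rw [h]
      exact hb
    have h1 := hpair b (g * b * g⁻¹) hb hbg (hno b hb)
    have heq : Subgroup.zpowers b ⊔ (Subgroup.zpowers b).map (MulAut.conj g).toMonoidHom =
        Subgroup.closure ({b, g * b * g⁻¹} : Set G) := by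
      rw [MonoidHom.map_zpowers, Subgroup.zpowers_eq_closure, Subgroup.zpowers_eq_closure,
        ← Subgroup.closure_union]
      congr 1
    rw [heq]
    exact h1
  obtain ⟨N, hNn, hNp, hXN⟩ := Cfsg.Agent.Helper21.baer_suzuki (Subgroup.zpowers b) hX
  exact Cfsg.Agent.Helper15.le_pCore hNn hNp (hXN (Subgroup.mem_zpowers b))

end Cfsg.Agent.Helper26.CG3
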