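import Mathlib
import Cfsg.Agent.Lib.Helper1.CG3G6COREcore
import Cfsg.Agent.Lib.Helper9.CG3G6PAIR

/-!
# S3412 piece G6CORE (helper1, for helper26): `exists_normal_two` (exact skeleton signature).
-/

set_option autoImplicit false

namespace Cfsg.Agent.Helper26.CG3

universe u

/-- G6-CORE (generic; from PAIR and `Cfsg.Agent.Helper21.baer_suzuki`) -/
theorem exists_normal_two {G : Type u} [Group G] [Finite G] (hG : Nat.card G = 48)
    (hno : ∀ b : G, orderOf b = 2 → ∀ r : G, orderOf r = 3 → b * r * b⁻¹ ≠ r⁻¹) :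
    ∃ M : Subgroup G, M.Normal ∧ IsPGroup 2 M ∧ ∀ b : G, orderOf b = 2 → b ∈ M :=
  g6core_exists_normal_two (fun a b ha hb h => pair_pgroup hG a b ha hb h) hno

end Cfsg.Agent.Helper26.CG3
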