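import Mathlib
import Cfsg.Agent.Lib.Helper11.CGDefs

/-!
# S2405 piece CLOS (helper1): running a closure certificate

`full_of_closChk`: all the roots known after running a (checked) certificate have their root
subgroups in `K`; `group_le_of_cover`: if they are all the roots then `D.group F ≤ K`.
-/

set_option autoImplicit false
set_option linter.unusedVariables false
set_option linter.unusedSectionVars false

namespace Cfsg.Agent.Helper11.CG

open Cfsg Cfsg.Lie Cfsg.Agent.Lead.Chev
open scoped commutatorElement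

variable {F : Type*} [Field F]

/-- a product of root elements, none of them of the root `s`, all of them in `K` -/
theorem clos_word_mem (D : ChevalleyDatum) (hX : XAdd D F) (K : Subgroup (GL D.Idx F)) (s : ℕ)
    (f : ℕ × ℤ × ℕ × ℕ → F)
    (T : List (ℕ × ℤ × ℕ × ℕ)) (hfil : T.filter (fun c => c.1 == s) = [])
    (hgood : ∀ c ∈ T, c.1 ≠ s → xGL D hX c.1 (f c) ∈ K) :
    wordGL D hX (T.map fun c => (c.1, f c)) ∈ K := by
  induction T with
  | nil => rw [List.map_nil, wordGL_nil]; exact one_mem _
  | cons c' T ih =>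
    rw [List.map_cons, wordGL_cons]
    by_cases hc : c'.1 = s
    · rw [List.filter_cons_of_pos (by simpa using hc)] at hfil
      exact absurd hfil (List.cons_ne_nil _ _)
    · rw [List.filter_cons_of_neg (by simpa using hc)] at hfil
      exact mul_mem (hgood c' List.mem_cons_self hc)
        (ih hfil fun c hcT => hgood c (List.mem_cons_of_mem _ hcT))

/-- extracting the only factor of the root `s` from a product of root elements in `K` -/
theorem clos_word_extract (D : ChevalleyDatum) (hX : XAdd D F) (K : Subgroup (GL D.Idx F)) (s : ℕ)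
    (f : ℕ × ℤ × ℕ × ℕ → F) (c : ℕ × ℤ × ℕ × ℕ)
    (T : List (ℕ × ℤ × ℕ × ℕ)) (hfil : T.filter (fun c => c.1 == s) = [c])
    (hgood : ∀ c ∈ T, c.1 ≠ s → xGL D hX c.1 (f c) ∈ K)
    (hmem : wordGL D hX (T.map fun c => (c.1, f c)) ∈ K) :
    xGL D hX c.1 (f c) ∈ K := by
  induction T with
  | nil => rw [List.filter_nil] at hfil; exact absurd hfil.symm (List.cons_ne_nil _ _)
  | cons c' T ih =>
    rw [List.map_cons, wordGL_cons] at hmem
    by_cases hc : c'.1 = s
    · rw [List.filter_cons_of_pos (by simpa using hc)] at hfil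
      have h1 : c' = c := (List.cons.inj hfil).1
      have h2 : T.filter (fun c => c.1 == s) = [] := (List.cons.inj hfil).2
      have h3 := clos_word_mem D hX K s f T h2 fun c hcT => hgood c (List.mem_cons_of_mem _ hcT)
      rw [← h1]
      exact (Subgroup.mul_mem_cancel_right K h3).1 hmem
    · rw [List.filter_cons_of_neg (by simpa using hc)] at hfil
      have h3 := hgood c' List.mem_cons_self hc
      exact ih hfil (fun c hcT => hgood c (List.mem_cons_of_mem _ hcT))
        ((Subgroup.mul_mem_cancel_left K h3).1 hmem)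

/-- one step of a closure certificate -/
theorem full_of_stepChk (D : ChevalleyDatum) (hFc : ChevFacts D F) (K : Subgroup (GL D.Idx F))
    (zs cs : List ℤ) (hzs : ∀ c ∈ zs, ((c : ℤ) : F) = 0) (hcs : ∀ c ∈ cs, ((c : ℤ) : F) ≠ 0)
    (known : List ℕ) (st : ℕ × ℕ × ℕ) (hchk : stepChk D zs cs known st = true)
    (hk : ∀ s ∈ known, Full D hFc.xadd K s) : Full D hFc.xadd K st.1 := by
  obtain ⟨s, a, b⟩ := st
  unfold stepChk at hchk
  simp only [Bool.and_eq_true, decide_eq_true_eq] at hchk
  obtain ⟨⟨⟨⟨⟨⟨⟨ha, hb⟩, hne⟩, hneg⟩, hak⟩, hbk⟩, hfil⟩, hall⟩ := hchk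
  have hFa : Full D hFc.xadd K a := hk a (by simpa using hak)
  have hFb : Full D hFc.xadd K b := hk b (by simpa using hbk)
  have hok : CommOK D F a b := hFc.comm a ha b hb hne hneg
  -- the filter is a singleton
  generalize hT : (D.commTerms a b).filter (fun c => c.1 == s) = L at hfil
  match L, hfil with
  | [c], hfil =>
    simp only [Bool.and_eq_true, Bool.or_eq_true, beq_iff_eq] at hfil
    obtain ⟨hccs, hij⟩ := hfil
    have hc0 : ((c.2.1 : ℤ) : F) ≠ 0 := hcs _ (by simpa using hccs)
    have hcs' : c.1 = s := by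
      have : c ∈ (D.commTerms a b).filter (fun c => c.1 == s) := by rw [hT]; exact List.mem_singleton_self c
      simpa using (List.mem_filter.1 this).2
    -- the word lies in `K`
    have hword : ∀ t u : F, wordGL D hFc.xadd (D.commWord F a b t u) ∈ K := by
      intro t u
      rw [← comm_GL D hFc.xadd a b hok t u, commutatorElement_def]
      exact mul_mem (mul_mem (mul_mem (inv_mem (hFb u)) (inv_mem (hFa t))) (inv_mem (inv_mem (hFb u))))
        (inv_mem (inv_mem (hFa t)))
    have hfac : ∀ t u : F, xGL D hFc.xadd c.1 ((c.2.1 : F) * (-t) ^ c.2.2.1 * u ^ c.2.2.2) ∈ K := by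
      intro t u
      apply clos_word_extract D hFc.xadd K s
        (fun c => (c.2.1 : F) * (-t) ^ c.2.2.1 * u ^ c.2.2.2) c (D.commTerms a b) hT
      · intro c' hc' hne'
        have h1 := List.all_eq_true.1 hall c' hc'
        simp only [Bool.or_eq_true, beq_iff_eq] at h1
        rcases h1 with (h1 | h1) | h1
        · exact absurd h1 hne'
        · have : ((c'.2.1 : ℤ) : F) = 0 := hzs _ (by simpa using h1)
          show xGL D hFc.xadd c'.1 ((c'.2.1 : F) * (-t) ^ c'.2.2.1 * u ^ c'.2.2.2) ∈ K
          rw [this, zero_mul, zero_mul, xGL_zero]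
          exact one_mem _
        · exact hk c'.1 (by simpa using h1) _
      · exact hword t u
    intro v
    show xGL D hFc.xadd s v ∈ K
    rw [← hcs']
    rcases hij with hi | hj
    · have := hfac (-(v / (c.2.1 : F))) 1
      rw [hi, neg_neg, pow_one, one_pow, mul_one, mul_div_cancel₀ _ hc0] at this
      exact this
    · have := hfac (-1) (v / (c.2.1 : F))
      rw [hj, neg_neg, pow_one, one_pow, mul_one, mul_div_cancel₀ _ hc0] at this
      exact this

theorem full_of_closChk (D : ChevalleyDatum) (hFc : ChevFacts D F) (K : Subgroup (GL D.Idx F))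
    (zs cs : List ℤ) (hzs : ∀ c ∈ zs, ((c : ℤ) : F) = 0) (hcs : ∀ c ∈ cs, ((c : ℤ) : F) ≠ 0)
    (known : List ℕ) (cert : List (ℕ × ℕ × ℕ)) (hchk : closChk D zs cs known cert = true)
    (hk : ∀ s ∈ known, Full D hFc.xadd K s) : ∀ s ∈ finalKnown known cert, Full D hFc.xadd K s := by
  induction cert generalizing known with
  | nil => exact hk
  | cons st rest ih =>
    unfold closChk at hchk
    rw [Bool.and_eq_true] at hchk
    have h1 := full_of_stepChk D hFc K zs cs hzs hcs known st hchk.1 hk
    have : finalKnown known (st :: rest) = finalKnown (st.1 :: known) rest := rfl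
    rw [this]
    apply ih (st.1 :: known) hchk.2
    intro s hs
    rcases List.mem_cons.1 hs with h | h
    · rw [h]; exact h1
    · exact hk s h

theorem group_le_of_cover (D : ChevalleyDatum) (hFc : ChevFacts D F) (K : Subgroup (GL D.Idx F))
    (zs cs : List ℤ) (hzs : ∀ c ∈ zs, ((c : ℤ) : F) = 0) (hcs : ∀ c ∈ cs, ((c : ℤ) : F) ≠ 0)
    (known : List ℕ) (cert : List (ℕ × ℕ × ℕ)) (hchk : closChk D zs cs known cert = true)
    (hcov : coverChk D known cert = true)
    (hk : ∀ s ∈ known, Full D hFc.xadd K s) : D.group F ≤ K := by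
  apply group_le_of D hFc.xadd K
  intro r hr t
  unfold coverChk at hcov
  have h1 := List.all_eq_true.1 hcov r (List.mem_range.2 hr)
  have h2 : r ∈ finalKnown known cert := by simpa using h1
  exact full_of_closChk D hFc K zs cs hzs hcs known cert hchk hk r h2 t

end Cfsg.Agent.Helper11.CG
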