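import Mathlib
import Cfsg.Agent.Lib.Helper20.CSDefs

/-!
# S4016 piece HQUOT (helper1): the hypothesis `Hyp p G` passes to quotients.
-/

set_option autoImplicit false
set_option linter.unusedSectionVars false

universe u

namespace Cfsg.Agent.Helper20.CS

open Subgroup
open scoped Pointwise

variable {p : ℕ} [Fact p.Prime] {G : Type u} [Group G] [Finite G]

/-- Frattini + Schur–Zassenhaus: a subgroup `H ≥ N` with `|H : N|` prime to `p` is `K N` for a
`p'`-subgroup `K`. -/
theorem hquot_key (N : Subgroup G) [N.Normal] (H : Subgroup G) (hNH : N ≤ H)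
    (hidx : ¬ p ∣ N.relIndex H) :
    ∃ K : Subgroup G, ¬ p ∣ Nat.card ↥K ∧
      ∀ x ∈ H, ∃ k ∈ K, (x : G ⧸ N) = (k : G ⧸ N) := by
  have hp : p.Prime := Fact.out
  let Q₀ : Sylow p N := default
  set Q : Subgroup G := (Q₀ : Subgroup N).map N.subtype with hQ
  have hfr : normalizer (Q : Set G) ⊔ N = ⊤ := Sylow.normalizer_sup_eq_top Q₀
  have hQN : Q ≤ N := Subgroup.map_subtype_le _
  set X : Subgroup G := H ⊓ normalizer (Q : Set G) with hX
  have hQX : Q ≤ X := le_inf (hQN.trans hNH) Subgroup.le_normalizer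
  have hXH : X ≤ H := inf_le_left
  have hnorm : (Q.subgroupOf X).Normal :=
    (Subgroup.normal_subgroupOf_iff_le_normalizer hQX).mpr inf_le_right
  -- `p ∤ |X : Q|`
  have hQidx : ¬ p ∣ Q.relIndex N := by
    have h1 : Q.relIndex N = (Q₀ : Subgroup N).index := by
      rw [Subgroup.relIndex, hQ, Subgroup.subgroupOf,
        Subgroup.comap_map_eq_self_of_injective N.subtype_injective]
    rw [h1]
    exact Q₀.not_dvd_index
  have hQH : ¬ p ∣ Q.relIndex H := by
    rw [← Subgroup.relIndex_mul_relIndex Q N H hQN hNH]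
    exact hp.not_dvd_mul hQidx hidx
  have hQXidx : ¬ p ∣ Q.relIndex X := by
    intro hdvd
    apply hQH
    rw [← Subgroup.relIndex_mul_relIndex Q X H hQX hXH]
    exact Dvd.dvd.mul_right hdvd _
  have hQp : IsPGroup p (Q.subgroupOf X) := by
    have : IsPGroup p Q := Q₀.2.map N.subtype
    exact this.comap_subtype
  have hcop : Nat.Coprime (Nat.card (Q.subgroupOf X)) (Q.subgroupOf X).index := by
    obtain ⟨k, hk⟩ := (IsPGroup.iff_card.mp hQp)
    rw [hk]
    apply Nat.Coprime.pow_left
    exact (Nat.Prime.coprime_iff_not_dvd hp).mpr hQXidx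
  obtain ⟨K', hK'⟩ := Subgroup.exists_right_complement'_of_coprime hcop
  refine ⟨K'.map X.subtype, ?_, ?_⟩
  · have h1 : Nat.card (K'.map X.subtype) = Nat.card K' :=
      Subgroup.card_map_of_injective X.subtype_injective
    rw [h1, ← hK'.symm.index_eq_card]
    exact hQXidx
  · intro x hx
    have hxtop : x ∈ normalizer (Q : Set G) ⊔ N := by rw [hfr]; trivial
    have hxmul : x ∈ ((normalizer (Q : Set G) : Subgroup G) : Set G) * (N : Set G) := by
      rw [← Subgroup.mul_normal]
      exact hxtop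
    obtain ⟨y, hy, n, hn, rfl⟩ := Set.mem_mul.mp hxmul
    have hyH : y ∈ H := by
      have : y = y * n * n⁻¹ := by group
      rw [this]
      exact H.mul_mem hx (H.inv_mem (hNH hn))
    have hyX : y ∈ X := ⟨hyH, hy⟩
    obtain ⟨⟨⟨q, hq⟩, ⟨k, hk⟩⟩, hqk⟩ := hK'.2 ⟨y, hyX⟩
    have hqk' : (q : G) * (k : G) = y := by
      have := congrArg Subtype.val hqk
      simpa using this
    refine ⟨(k : G), ⟨k, hk, rfl⟩, ?_⟩
    have hqN : (q : G) ∈ N := by
      have : (q : G) ∈ Q := Subgroup.mem_subgroupOf.mp hq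
      exact hQN this
    rw [← hqk']
    rw [QuotientGroup.mk_mul, QuotientGroup.mk_mul, (QuotientGroup.eq_one_iff _).mpr hqN,
      (QuotientGroup.eq_one_iff _).mpr hn, one_mul, mul_one]

theorem Hyp.quotient (h : Hyp p G) (N : Subgroup G) [N.Normal] : Hyp p (G ⧸ N) := by
  constructor
  · intro Pbar
    obtain ⟨P, rfl⟩ := Sylow.mapSurjective_surjective (QuotientGroup.mk'_surjective N) p Pbar
    have hc : IsCyclic ↥(P : Subgroup G) := h.1 P
    show IsCyclic ↥((P : Subgroup G).map (QuotientGroup.mk' N))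
    exact isCyclic_of_surjective ((QuotientGroup.mk' N).subgroupMap (P : Subgroup G))
      (MonoidHom.subgroupMap_surjective _ _)
  · intro Hbar hHbar a ha b hb
    set H : Subgroup G := Hbar.comap (QuotientGroup.mk' N) with hH
    have hNH : N ≤ H := by
      intro n hn
      rw [hH, Subgroup.mem_comap, QuotientGroup.mk'_apply, (QuotientGroup.eq_one_iff n).mpr hn]
      exact Hbar.one_mem
    have hidx : ¬ p ∣ N.relIndex H := by
      have h1 : N = (⊥ : Subgroup (G ⧸ N)).comap (QuotientGroup.mk' N) :=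
        (QuotientGroup.ker_mk' N).symm
      have h2 : N.relIndex H = Nat.card Hbar := by
        conv_lhs => rw [h1]
        rw [Subgroup.relIndex_comap, Subgroup.relIndex_bot_left, hH,
          Subgroup.map_comap_eq_self_of_surjective (QuotientGroup.mk'_surjective N)]
      rw [h2]
      exact hHbar
    obtain ⟨K, hKp, hK⟩ := hquot_key (p := p) N H hNH hidx
    obtain ⟨a', rfl⟩ := QuotientGroup.mk_surjective a
    obtain ⟨b', rfl⟩ := QuotientGroup.mk_surjective b
    obtain ⟨ka, hka, ea⟩ := hK a' ha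
    obtain ⟨kb, hkb, eb⟩ := hK b' hb
    rw [ea, eb, ← QuotientGroup.mk_mul, ← QuotientGroup.mk_mul, h.2 K hKp ka hka kb hkb]

end Cfsg.Agent.Helper20.CS
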