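import Mathlib
import Cfsg.Agent.Lib.Helper20.CSDefs

/-!
# S4016 piece HSUB (helper1): the hypothesis `Hyp p G` passes to subgroups.
-/

set_option autoImplicit false
set_option linter.unusedSectionVars false

universe u

namespace Cfsg.Agent.Helper20.CS

open Subgroup

variable {p : ℕ} [Fact p.Prime] {G : Type u} [Group G] [Finite G]

theorem Hyp.subgroup (h : Hyp p G) (H : Subgroup G) : Hyp p ↥H := by
  constructor
  · intro Q
    have hQp : IsPGroup p ((Q : Subgroup H).map H.subtype) := Q.2.map H.subtype
    obtain ⟨P, hP⟩ := hQp.exists_le_sylow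
    have hc : IsCyclic ↥(P : Subgroup G) := h.1 P
    let f : ↥(Q : Subgroup H) →* ↥(P : Subgroup G) :=
      { toFun := fun x => ⟨(x : H), hP ⟨(x : H), x.2, rfl⟩⟩
        map_one' := rfl
        map_mul' := fun _ _ => rfl }
    have hf : Function.Injective f := by
      intro x y hxy
      have := congrArg Subtype.val hxy
      exact Subtype.ext (Subtype.ext this)
    exact isCyclic_of_injective f hf
  · intro K hK a ha b hb
    have hcard : Nat.card (K.map H.subtype) = Nat.card K :=
      Subgroup.card_map_of_injective H.subtype_injective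
    have := h.2 (K.map H.subtype) (by rw [hcard]; exact hK) (a : G) ⟨a, ha, rfl⟩ (b : G) ⟨b, hb, rfl⟩
    exact Subtype.ext this

end Cfsg.Agent.Helper20.CS
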