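import Mathlib
import Cfsg.Agent.Lib.Helper20.CSDefs
import Cfsg.Agent.Lib.Helper22.Burnside
import Cfsg.Agent.Lib.Helper22.CyclicChain

/-!
# S4016 piece LOC (helper1): `p ≠ 2`, a complement of `P` in `N_G(P)`, normalisers of subgroups of a
cyclic group.
-/

set_option autoImplicit false
set_option linter.unusedSectionVars false

universe u

namespace Cfsg.Agent.Helper20.CS

open Subgroup

variable {p : ℕ} [Fact p.Prime] {G : Type u} [Group G] [Finite G]

theorem p_ne_two (h : Hyp p G) (hnot : ¬ Concl p G) : p ≠ 2 := by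
  intro hp2
  subst hp2
  apply hnot
  left
  let P : Sylow 2 G := default
  apply Cfsg.Agent.Helper22.hasNormalPComplement_of_normalizer_le_centralizer P
  by_cases h2 : 2 ∣ Nat.card G
  · have hmf : (Nat.card G).minFac = 2 := (Nat.minFac_eq_two_iff _).mpr h2
    exact IsCyclic.normalizer_le_centralizer hmf (h.1 P)
  · -- the Sylow 2-subgroup is trivial
    have hP1 : Nat.card (P : Subgroup G) = 1 := by
      obtain ⟨k, hk⟩ := P.2.exists_card_eq
      rcases Nat.eq_zero_or_pos k with h0 | h0
      · rw [hk, h0, pow_zero]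
      · exfalso
        apply h2
        have h3 : Nat.card (P : Subgroup G) ∣ Nat.card G := Subgroup.card_subgroup_dvd_card _
        have h4 : 2 ∣ Nat.card (P : Subgroup G) := by
          rw [hk]
          exact dvd_pow_self 2 (Nat.pos_iff_ne_zero.mp h0)
        exact h4.trans h3
    have hbot : (P : Subgroup G) = ⊥ := Subgroup.card_eq_one.mp hP1
    intro x _
    rw [Subgroup.mem_centralizer_iff]
    intro y hy
    have hy' : y ∈ (P : Subgroup G) := hy
    rw [hbot, Subgroup.mem_bot] at hy'
    rw [hy']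
    simp

theorem exists_complement (P : Sylow p G) :
    ∃ L : Subgroup G, ¬ p ∣ Nat.card ↥L ∧
      (P : Subgroup G) ⊔ L = normalizer ((P : Subgroup G) : Set G) := by
  have hp : p.Prime := Fact.out
  set M : Subgroup G := normalizer ((P : Subgroup G) : Set G) with hM
  have hPM : (P : Subgroup G) ≤ M := Subgroup.le_normalizer
  have hnorm : ((P : Subgroup G).subgroupOf M).Normal :=
    (Subgroup.normal_subgroupOf_iff_le_normalizer hPM).mpr le_rfl
  have hidx : ¬ p ∣ ((P : Subgroup G).subgroupOf M).index := by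
    intro hdvd
    apply P.not_dvd_index
    exact hdvd.trans (Subgroup.relIndex_dvd_index_of_le hPM)
  have hPp : IsPGroup p ((P : Subgroup G).subgroupOf M) := P.2.comap_subtype
  have hcop : Nat.Coprime (Nat.card ((P : Subgroup G).subgroupOf M))
      ((P : Subgroup G).subgroupOf M).index := by
    obtain ⟨k, hk⟩ := (IsPGroup.iff_card.mp hPp)
    rw [hk]
    apply Nat.Coprime.pow_left
    exact (Nat.Prime.coprime_iff_not_dvd hp).mpr hidx
  obtain ⟨L', hL'⟩ := Subgroup.exists_right_complement'_of_coprime hcop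
  refine ⟨L'.map M.subtype, ?_, ?_⟩
  · have h1 : Nat.card (L'.map M.subtype) = Nat.card L' :=
      Subgroup.card_map_of_injective M.subtype_injective
    rw [h1, ← hL'.symm.index_eq_card]
    exact hidx
  · apply le_antisymm
    · exact sup_le hPM (Subgroup.map_subtype_le _)
    · intro x hx
      obtain ⟨⟨⟨q, hq⟩, ⟨l, hl⟩⟩, hql⟩ := hL'.2 ⟨x, hx⟩
      have hql' : (q : G) * (l : G) = x := by
        have := congrArg Subtype.val hql
        simpa using this
      rw [← hql']
      exact Subgroup.mul_mem_sup (Subgroup.mem_subgroupOf.mp hq) ⟨l, hl, rfl⟩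

theorem normalizer_le_of_le_cyclic (P : Subgroup G) (hP : IsCyclic ↥P) (P₁ : Subgroup G)
    (h1 : P₁ ≤ P) : normalizer (P : Set G) ≤ normalizer (P₁ : Set G) := by
  -- one-sided conjugation
  have key : ∀ g ∈ normalizer (P : Set G), ∀ x ∈ P₁, g * x * g⁻¹ ∈ P₁ := by
    intro g hg x hx
    set B : Subgroup G := P₁.map (MulAut.conj g).toMonoidHom with hB
    have hBP : B ≤ P := by
      rintro _ ⟨y, hy, rfl⟩
      have := (Subgroup.mem_normalizer_iff.mp hg y).mp (h1 hy)
      simpa using this
    have hcard : Nat.card B = Nat.card P₁ :=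
      Subgroup.card_map_of_injective (MulAut.conj g).injective
    have hle : B.subgroupOf P ≤ P₁.subgroupOf P := by
      apply Cfsg.Agent.Helper22.le_of_card_dvd_of_isCyclic
      rw [Nat.card_congr (Subgroup.subgroupOfEquivOfLe hBP).toEquiv,
        Nat.card_congr (Subgroup.subgroupOfEquivOfLe h1).toEquiv, hcard]
    have hmem : g * x * g⁻¹ ∈ B := ⟨x, hx, by simp⟩
    have h2 : (⟨g * x * g⁻¹, hBP hmem⟩ : P) ∈ B.subgroupOf P := by
      rw [Subgroup.mem_subgroupOf]; exact hmem
    have h3 := hle h2
    rw [Subgroup.mem_subgroupOf] at h3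
    exact h3
  intro g hg
  rw [Subgroup.mem_normalizer_iff]
  intro x
  constructor
  · exact key g hg x
  · intro hx
    have := key g⁻¹ (Subgroup.inv_mem _ hg) _ hx
    simpa [mul_assoc] using this

end Cfsg.Agent.Helper20.CS
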