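import Mathlib
import Cfsg.Agent.Lib.Helper20.CSDefs

/-!
# S4016 piece NHALL (helper1): a normal Hall subgroup of a normal subgroup is normal.
-/

set_option autoImplicit false

universe u

namespace Cfsg.Agent.Helper20.CS

open Subgroup

variable {p : ℕ} [Fact p.Prime] {G : Type u} [Group G] [Finite G]

omit [Fact p.Prime] in
theorem normal_of_normal_hall {N K : Subgroup G} (hN : N.Normal) (hKN : K ≤ N)
    (hK : (K.subgroupOf N).Normal) (hcop : (Nat.card ↥K).Coprime (K.relIndex N)) : K.Normal := by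
  constructor
  intro k hk g
  have hkN : k ∈ N := hKN hk
  have hyN : g * k * g⁻¹ ∈ N := hN.conj_mem k hkN g
  set y : N := ⟨g * k * g⁻¹, hyN⟩ with hy
  have ho : orderOf y = orderOf k := by
    rw [← Subgroup.orderOf_coe]
    exact (MulAut.conj g).orderOf_eq k
  have h1 : orderOf y ∣ Nat.card K := by
    rw [ho, ← Subgroup.orderOf_mk k hk]
    exact orderOf_dvd_natCard _
  have h2 : orderOf (QuotientGroup.mk' (K.subgroupOf N) y) ∣ K.relIndex N := by
    have : K.relIndex N = Nat.card (↥N ⧸ K.subgroupOf N) := Subgroup.index_eq_card _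
    rw [this]
    exact orderOf_dvd_natCard _
  have h3 : orderOf (QuotientGroup.mk' (K.subgroupOf N) y) ∣ Nat.card K :=
    (orderOf_map_dvd _ y).trans h1
  have h4 : orderOf (QuotientGroup.mk' (K.subgroupOf N) y) = 1 :=
    Nat.eq_one_of_dvd_coprimes hcop h3 h2
  rw [orderOf_eq_one_iff, QuotientGroup.mk'_apply, QuotientGroup.eq_one_iff,
    Subgroup.mem_subgroupOf] at h4
  exact h4

end Cfsg.Agent.Helper20.CS
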