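import Mathlib
import Cfsg.Agent.Lib.Helper1.Complement
import Cfsg.Agent.Lib.Helper1.SolvableBasic
import Cfsg.Agent.Lib.Helper1.Hall
import Cfsg.Agent.Lib.Helper1.Coprime
import Cfsg.Agent.Lib.Helper3.NilpotentHall
import Cfsg.Agent.Lib.Helper7.Fitting2
import Cfsg.Agent.S0001
import Cfsg.Agent.S0087

/-!
# Carter subgroups of finite solvable groups (helper1)

Existence and conjugacy of nilpotent self-normalising subgroups.
-/

set_option autoImplicit false

namespace Cfsg.Agent.Helper1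

open Subgroup
open scoped Pointwise

universe u

/-- A Carter subgroup: nilpotent and self-normalising. -/
def IsCarter {G : Type*} [Group G] (C : Subgroup G) : Prop :=
  Group.IsNilpotent C ∧ normalizer (C : Set G) = C

section Basic

variable {G : Type*} [Group G]

theorem IsCarter.subgroupOf [Finite G] {C H : Subgroup G} (hC : IsCarter C) (hCH : C ≤ H) :
    IsCarter (C.subgroupOf H) := by
  refine ⟨Cfsg.Agent.Helper7.isNilpotent_subgroupOf hCH hC.1, ?_⟩
  apply le_antisymm
  · intro x hx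
    rw [mem_subgroupOf, ← hC.2]
    apply Cfsg.Agent.S0087.mem_normalizer_of_forall
    intro c hc
    have h1 : (⟨c, hCH hc⟩ : H) ∈ C.subgroupOf H := mem_subgroupOf.mpr hc
    have h2 := (mem_normalizer_iff.mp hx _).mp h1
    exact mem_subgroupOf.mp h2
  · exact le_normalizer

theorem mem_normalizer_conj_smul_iff {C : Subgroup G} {g x : G} :
    x ∈ normalizer ((MulAut.conj g • C : Subgroup G) : Set G) ↔
      g⁻¹ * x * g ∈ normalizer (C : Set G) := by
  rw [mem_normalizer_iff, mem_normalizer_iff]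
  constructor
  · intro h c
    have := h (g * c * g⁻¹)
    rw [mem_conj_smul_iff, mem_conj_smul_iff] at this
    have e1 : g⁻¹ * (g * c * g⁻¹) * g = c := by group
    have e2 : g⁻¹ * (x * (g * c * g⁻¹) * x⁻¹) * g = g⁻¹ * x * g * c * (g⁻¹ * x * g)⁻¹ := by group
    rw [e1, e2] at this
    exact this
  · intro h c
    rw [mem_conj_smul_iff, mem_conj_smul_iff]
    have := h (g⁻¹ * c * g)
    have e2 : g⁻¹ * (x * c * x⁻¹) * g = g⁻¹ * x * g * (g⁻¹ * c * g) * (g⁻¹ * x * g)⁻¹ := by group
    rw [e2]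
    exact this

theorem mem_normalizer_of_conj_smul_eq {C : Subgroup G} {k : G} (h : MulAut.conj k • C = C) :
    k ∈ normalizer (C : Set G) := by
  rw [mem_normalizer_iff]
  intro c
  constructor
  · intro hc
    rw [← h, mem_conj_smul_iff]
    have e : k⁻¹ * (k * c * k⁻¹) * k = c := by group
    rw [e]; exact hc
  · intro hc
    rw [← h, mem_conj_smul_iff] at hc
    have e : k⁻¹ * (k * c * k⁻¹) * k = c := by group
    rw [e] at hc; exact hc

theorem conj_smul_eq_of_mem_normalizer {C : Subgroup G} {k : G}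
    (h : k ∈ normalizer (C : Set G)) : MulAut.conj k • C = C := by
  ext x
  rw [mem_conj_smul_iff]
  have h1 := (mem_normalizer_iff.mp (inv_mem h)) x
  rw [inv_inv] at h1
  exact h1.symm

theorem IsCarter.conj {C : Subgroup G} (hC : IsCarter C) (g : G) :
    IsCarter (MulAut.conj g • C) := by
  refine ⟨?_, ?_⟩
  · haveI := hC.1
    exact Group.nilpotent_of_mulEquiv (Subgroup.equivSMul (MulAut.conj g) C)
  · ext x
    rw [mem_normalizer_conj_smul_iff, hC.2, mem_conj_smul_iff]

theorem IsCarter.eq_top_of_isNilpotent {C : Subgroup G} (hC : IsCarter C)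
    (hG : Group.IsNilpotent G) : C = ⊤ :=
  (normalizerCondition_iff_only_full_group_self_normalizing.mp
    (Group.normalizerCondition_of_isNilpotent)) C hC.2

theorem isCarter_top (hG : Group.IsNilpotent G) : IsCarter (⊤ : Subgroup G) := by
  refine ⟨?_, ?_⟩
  · exact Group.nilpotent_of_mulEquiv (Subgroup.topEquiv (G := G)).symm
  · rw [eq_top_iff]; exact le_normalizer

/-- If `mk g` normalises the image of `C` in `G ⧸ N` then `g` normalises `C ⊔ N`. -/
theorem conj_mem_sup_of_mk_mem_normalizer {C N : Subgroup G} [N.Normal] {g : G}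
    (hg : (QuotientGroup.mk' N g) ∈ normalizer ((C.map (QuotientGroup.mk' N) : Subgroup (G ⧸ N)) : Set (G ⧸ N)))
    {x : G} (hx : x ∈ C ⊔ N) : g * x * g⁻¹ ∈ C ⊔ N := by
  have h1 : (C ⊔ N) = (C.map (QuotientGroup.mk' N)).comap (QuotientGroup.mk' N) := by
    rw [QuotientGroup.comap_map_mk', sup_comm]
  rw [h1, mem_comap] at hx ⊢
  rw [map_mul, map_mul, map_inv]
  exact (mem_normalizer_iff.mp hg _).mp hx

/-- Images of Carter subgroups in quotients are Carter subgroups, provided Carter subgroups of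
proper subgroups are conjugate. -/
theorem IsCarter.map_mk' [Finite G] {C : Subgroup G} (hC : IsCarter C) (N : Subgroup G) [N.Normal]
    (hconj : ∀ H : Subgroup G, H ≠ ⊤ → ∀ C₁ C₂ : Subgroup H, IsCarter C₁ → IsCarter C₂ →
      ∃ h : H, MulAut.conj h • C₁ = C₂) :
    IsCarter (C.map (QuotientGroup.mk' N)) := by
  refine ⟨?_, ?_⟩
  · haveI := hC.1
    exact Group.nilpotent_of_surjective ((QuotientGroup.mk' N).subgroupMap C)
      ((QuotientGroup.mk' N).subgroupMap_surjective C)
  · apply le_antisymm _ le_normalizer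
    intro gb hgb
    obtain ⟨g, rfl⟩ := QuotientGroup.mk'_surjective N gb
    set H : Subgroup G := C ⊔ N with hH
    have hgH : ∀ x ∈ H, g * x * g⁻¹ ∈ H := fun x hx => conj_mem_sup_of_mk_mem_normalizer hgb hx
    have hmapH : H.map (QuotientGroup.mk' N) = C.map (QuotientGroup.mk' N) := by
      rw [hH, Subgroup.map_sup]
      have : N.map (QuotientGroup.mk' N) = ⊥ := QuotientGroup.map_mk'_self N
      rw [this, sup_bot_eq]
    by_cases hHtop : H = ⊤
    · rw [← hmapH, hHtop]
      exact ⟨g, mem_top g, rfl⟩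
    · -- C and its conjugate are Carter subgroups of H
      have hCH : C ≤ H := le_sup_left
      have hCgH : MulAut.conj g • C ≤ H := by
        intro y hy
        rw [mem_conj_smul_iff] at hy
        have := hgH _ (hCH hy)
        have e : g * (g⁻¹ * y * g) * g⁻¹ = y := by group
        rw [e] at this; exact this
      obtain ⟨h, hh⟩ := hconj H hHtop _ _ (hC.subgroupOf hCH) ((hC.conj g).subgroupOf hCgH)
      have h2 := conj_of_conj_subgroupOf hCH hCgH h hh
      -- h⁻¹ g normalises C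
      have h3 : (h : G)⁻¹ * g ∈ normalizer (C : Set G) := by
        have : MulAut.conj ((h : G)⁻¹ * g) • C = C := by
          rw [← conj_smul_conj_smul, ← h2, conj_smul_conj_smul, inv_mul_cancel, map_one, one_smul]
        exact mem_normalizer_of_conj_smul_eq this
      rw [hC.2] at h3
      have h4 : g ∈ H := by
        have : g = (h : G) * ((h : G)⁻¹ * g) := by group
        rw [this]
        exact mul_mem h.2 (hCH h3)
      rw [← hmapH]
      exact ⟨g, h4, rfl⟩

/-- The normal `p`-complement of a nilpotent subgroup `C` of `G`, as a subgroup of `G`. -/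
theorem exists_pPrime_of_nilpotent [Finite G] {C : Subgroup G} (hC : Group.IsNilpotent C)
    (p : ℕ) [Fact p.Prime] :
    ∃ Q : Subgroup G, Q ≤ C ∧ C ≤ normalizer (Q : Set G) ∧ (Nat.card Q).Coprime p ∧
      (∃ k, Q.relIndex C = p ^ k) ∧ ∀ x ∈ C, (orderOf x).Coprime p → x ∈ Q := by
  obtain ⟨L, hLn, hLc, k, hLk⟩ := Cfsg.Agent.Helper3.exists_normal_compl_of_isNilpotent hC p
  have hsub : (L.map C.subtype).subgroupOf C = L :=
    comap_map_eq_self_of_injective C.subtype_injective L
  have hle : L.map C.subtype ≤ C := map_subtype_le L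
  refine ⟨L.map C.subtype, hle, ?_, ?_, ⟨k, ?_⟩, ?_⟩
  · rw [← Subgroup.normal_subgroupOf_iff_le_normalizer hle, hsub]
    exact hLn
  · rw [Subgroup.card_map_of_injective C.subtype_injective]
    exact hLc
  · rw [Subgroup.relIndex, hsub, hLk]
  · intro x hx hxo
    haveI := hLn
    have h1 : (⟨x, hx⟩ : C) ∈ L := by
      apply Cfsg.Agent.Helper3.mem_of_coprime_orderOf_of_index_pow L hLk
      rw [Subgroup.orderOf_mk]
      exact hxo
    exact ⟨⟨x, hx⟩, h1, rfl⟩

end Basic

section Existence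

variable {G : Type*} [Group G] [Finite G]

/-- Existence step: a Carter subgroup of `G ⧸ N`, `N` a normal `p`-subgroup, yields a Carter
subgroup of `G`. -/
theorem carter_exists_step (N : Subgroup G) [N.Normal] {p : ℕ} [Fact p.Prime] (hN : IsPGroup p N)
    (Kb : Subgroup (G ⧸ N)) (hKb : IsCarter Kb) : ∃ C : Subgroup G, IsCarter C := by
  have hp : p.Prime := Fact.out
  set π : G →* G ⧸ N := QuotientGroup.mk' N with hπ
  have hπs : Function.Surjective π := QuotientGroup.mk'_surjective N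
  have hkerπ : π.ker = N := QuotientGroup.ker_mk' N
  set H : Subgroup G := Kb.comap π with hH
  have hmapH : H.map π = Kb := map_comap_eq_self_of_surjective hπs Kb
  obtain ⟨Qb, hQbK, hKbQb, hQbc, ⟨k, hQbk⟩, hQbel⟩ := exists_pPrime_of_nilpotent hKb.1 p
  set L : Subgroup G := Qb.comap π with hL
  have hNL : N ≤ L := by
    intro n hn
    rw [hL, mem_comap, hπ, QuotientGroup.mk'_apply, (QuotientGroup.eq_one_iff n).mpr hn]
    exact one_mem _
  have hLH : L ≤ H := comap_mono hQbK
  have hHL : H ≤ normalizer (L : Set G) := (comap_mono hKbQb).trans (le_normalizer_comap π)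
  have hmapL : L.map π = Qb := map_comap_eq_self_of_surjective hπs Qb
  have hNLidx : N.relIndex L = Nat.card Qb := by
    have h1 := relIndex_comap (H := (⊥ : Subgroup (G ⧸ N))) π L
    rw [MonoidHom.comap_bot, hkerπ, hmapL, relIndex_bot_left] at h1
    exact h1
  -- a complement `Q` of `N` in `L`
  obtain ⟨a, ha⟩ := IsPGroup.iff_card.mp hN
  have hcopL : (Nat.card (N.subgroupOf L)).Coprime (N.subgroupOf L).index := by
    rw [Nat.card_congr (subgroupOfEquivOfLe hNL).toEquiv, ha]
    change (p ^ a).Coprime (N.relIndex L)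
    rw [hNLidx]
    exact Nat.Coprime.pow_left a hQbc.symm
  haveI : (N.subgroupOf L).Normal := inferInstance
  obtain ⟨Q', hQ'⟩ := Subgroup.exists_right_complement'_of_coprime hcopL
  set Q : Subgroup G := Q'.map L.subtype with hQ
  have hQL : Q ≤ L := map_subtype_le Q'
  have hQsub : Q.subgroupOf L = Q' := comap_map_eq_self_of_injective L.subtype_injective Q'
  have hQN : N ⊓ Q = ⊥ := by
    rw [eq_bot_iff]
    intro x hx
    obtain ⟨hxN, hxQ⟩ := mem_inf.mp hx
    have hxL : x ∈ L := hQL hxQ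
    have h1 : (⟨x, hxL⟩ : L) ∈ N.subgroupOf L ⊓ Q' := by
      refine mem_inf.mpr ⟨mem_subgroupOf.mpr hxN, ?_⟩
      rw [← hQsub]; exact mem_subgroupOf.mpr hxQ
    rw [hQ'.disjoint.eq_bot, mem_bot] at h1
    rw [mem_bot]
    exact congrArg Subtype.val h1
  have hLmul : ∀ l ∈ L, ∃ n ∈ N, ∃ q ∈ Q, l = n * q := by
    intro l hl
    obtain ⟨n, hn, q, hq, hlq⟩ := IsComplement'.exists_mul hQ' ⟨l, hl⟩
    refine ⟨n, mem_subgroupOf.mp hn, q, ⟨q, hq, rfl⟩, ?_⟩
    have := congrArg Subtype.val hlq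
    simpa using this
  have hQcard : Nat.card Q = Nat.card Qb := by
    rw [hQ, Subgroup.card_map_of_injective L.subtype_injective, ← hNLidx]
    exact (hQ'.symm.index_eq_card).symm
  -- Frattini argument
  have hfrat : ∀ h ∈ H, ∃ n ∈ N, n⁻¹ * h ∈ normalizer (Q : Set G) := by
    intro h hh
    have hhL : ∀ l ∈ L, h * l * h⁻¹ ∈ L := fun l hl => (mem_normalizer_iff.mp (hHL hh) l).mp hl
    have hhL' : ∀ l ∈ L, h⁻¹ * l * h ∈ L := by
      intro l hl
      have := (mem_normalizer_iff.mp (inv_mem (hHL hh)) l).mp hl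
      rwa [inv_inv] at this
    have hQhL : MulAut.conj h • Q ≤ L := by
      intro y hy
      rw [mem_conj_smul_iff] at hy
      have := hhL _ (hQL hy)
      have e : h * (h⁻¹ * y * h) * h⁻¹ = y := by group
      rwa [e] at this
    have hcompl : IsComplement' (N.subgroupOf L) ((MulAut.conj h • Q).subgroupOf L) := by
      apply isComplement'_subgroupOf _ hQhL
      · intro l hl
        obtain ⟨n, hn, q, hq, hlq⟩ := hLmul _ (hhL' l hl)
        refine ⟨h * n * h⁻¹, (inferInstance : N.Normal).conj_mem n hn h, h * q * h⁻¹, ?_, ?_⟩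
        · rw [mem_conj_smul_iff]
          have e : h⁻¹ * (h * q * h⁻¹) * h = q := by group
          rw [e]; exact hq
        · have e : l = h * (h⁻¹ * l * h) * h⁻¹ := by group
          rw [e, hlq]; group
      · rw [eq_bot_iff]
        intro x hx
        obtain ⟨hxN, hxQ⟩ := mem_inf.mp hx
        rw [mem_conj_smul_iff] at hxQ
        have h1 : h⁻¹ * x * h ∈ N ⊓ Q :=
          mem_inf.mpr ⟨(inferInstance : N.Normal).conj_mem' x hxN h, hxQ⟩
        rw [hQN, mem_bot] at h1
        rw [mem_bot]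
        have e : x = h * (h⁻¹ * x * h) * h⁻¹ := by group
        rw [e, h1]; group
    have hsolvN : Group.IsSolvable (N.subgroupOf L) := by
      haveI : Group.IsNilpotent (N.subgroupOf L) :=
        (hN.to_le (le_refl N) |>.comap_subtype (K := L) |> fun h => h).isNilpotent
      infer_instance
    obtain ⟨l, hl⟩ := Cfsg.Agent.S0001.result (N.subgroupOf L) hcopL (Or.inl hsolvN) Q'
      ((MulAut.conj h • Q).subgroupOf L) hQ' hcompl
    rw [← hQsub] at hl
    have h2 := conj_of_conj_subgroupOf hQL hQhL l hl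
    obtain ⟨n, hn, q, hq, hlq⟩ := hLmul l l.2
    refine ⟨n, hn, ?_⟩
    apply mem_normalizer_of_conj_smul_eq
    have hq' : MulAut.conj q • Q = Q :=
      conj_smul_eq_of_mem_normalizer (le_normalizer hq)
    rw [← conj_smul_conj_smul, ← h2, hlq, ← conj_smul_conj_smul n q, hq', conj_smul_conj_smul,
      inv_mul_cancel, map_one, one_smul]
  set C₀ : Subgroup G := H ⊓ normalizer (Q : Set G) with hC₀
  have hNH : N ≤ H := hNL.trans hLH
  have hQC : Q ≤ C₀ := le_inf (hQL.trans hLH) le_normalizer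
  have hCQ : C₀ ≤ normalizer (Q : Set G) := inf_le_right
  have hCH : C₀ ≤ H := inf_le_left
  have hHmul : ∀ h ∈ H, ∃ n ∈ N, ∃ c ∈ C₀, h = n * c := by
    intro h hh
    obtain ⟨n, hn, hnh⟩ := hfrat h hh
    refine ⟨n, hn, n⁻¹ * h, mem_inf.mpr ⟨mul_mem (inv_mem (hNH hn)) hh, hnh⟩, by group⟩
  haveI hQCn : (Q.subgroupOf C₀).Normal :=
    (Subgroup.normal_subgroupOf_iff_le_normalizer hQC).mpr hCQ
  -- the index of `Q` in `C₀` is a power of `p`
  obtain ⟨j, hj⟩ : ∃ j, Q.relIndex C₀ = p ^ j := by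
    have h1 : Q.relIndex C₀ * C₀.relIndex H = Q.relIndex H := relIndex_mul_relIndex Q C₀ H hQC hCH
    have h2 : Q.relIndex L * L.relIndex H = Q.relIndex H := relIndex_mul_relIndex Q L H hQL hLH
    have h3 : Q.relIndex L = p ^ a := by
      rw [Subgroup.relIndex, hQsub, hQ'.index_eq_card,
        Nat.card_congr (subgroupOfEquivOfLe hNL).toEquiv, ha]
    have h4 : L.relIndex H = p ^ k := by
      rw [hL, relIndex_comap, hmapH, hQbk]
    have h5 : Q.relIndex C₀ ∣ p ^ (a + k) := by
      rw [pow_add, ← h3, ← h4, h2, ← h1]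
      exact dvd_mul_right _ _
    obtain ⟨j, _, hj⟩ := (Nat.dvd_prime_pow hp).mp h5
    exact ⟨j, hj⟩
  have hidx : (Q.subgroupOf C₀).index = p ^ j := hj
  -- `C₀` is nilpotent
  have hnil : Group.IsNilpotent C₀ := by
    have hpq : IsPGroup p (C₀ ⧸ Q.subgroupOf C₀) := by
      apply IsPGroup.of_card (n := j)
      rw [← hidx, Subgroup.index_eq_card]
    haveI : Group.IsNilpotent (C₀ ⧸ Q.subgroupOf C₀) := hpq.isNilpotent
    haveI : Group.IsNilpotent Kb := hKb.1
    let ψ : C₀ →* Kb := (π.comp C₀.subtype).codRestrict Kb (fun c => hCH c.2)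
    let φ : C₀ →* (C₀ ⧸ Q.subgroupOf C₀) × Kb := (QuotientGroup.mk' (Q.subgroupOf C₀)).prod ψ
    have hinj : Function.Injective φ := by
      rw [injective_iff_map_eq_one]
      intro c hc
      have h1 : (QuotientGroup.mk' (Q.subgroupOf C₀)) c = 1 := congrArg Prod.fst hc
      have h2 : ψ c = 1 := congrArg Prod.snd hc
      rw [QuotientGroup.mk'_apply, QuotientGroup.eq_one_iff, mem_subgroupOf] at h1
      have h3 : π (c : G) = 1 := congrArg Subtype.val h2
      rw [hπ, QuotientGroup.mk'_apply, QuotientGroup.eq_one_iff] at h3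
      have h4 : (c : G) ∈ N ⊓ Q := mem_inf.mpr ⟨h3, h1⟩
      rw [hQN, mem_bot] at h4
      exact Subtype.ext h4
    exact Group.nilpotent_of_mulEquiv (MonoidHom.ofInjective hinj).symm
  refine ⟨C₀, hnil, le_antisymm ?_ le_normalizer⟩
  intro x hx
  have hxC : ∀ c ∈ C₀, x * c * x⁻¹ ∈ C₀ := fun c hc => (mem_normalizer_iff.mp hx c).mp hc
  -- `x ∈ H`
  have hxH : x ∈ H := by
    have h1 : π x ∈ normalizer (Kb : Set (G ⧸ N)) := by
      apply Cfsg.Agent.S0087.mem_normalizer_of_forall
      intro kb hkb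
      rw [← hmapH] at hkb
      obtain ⟨h, hh, rfl⟩ := hkb
      obtain ⟨n, hn, c, hc, rfl⟩ := hHmul h hh
      have h2 : x * (n * c) * x⁻¹ ∈ H := by
        have e : x * (n * c) * x⁻¹ = (x * n * x⁻¹) * (x * c * x⁻¹) := by group
        rw [e]
        exact mul_mem (hNH ((inferInstance : N.Normal).conj_mem n hn x)) (hCH (hxC c hc))
      have h3 : π x * π (n * c) * (π x)⁻¹ = π (x * (n * c) * x⁻¹) := by
        simp only [map_mul, map_inv]
      rw [h3]
      exact h2
    rw [hKb.2] at h1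
    exact h1
  refine mem_inf.mpr ⟨hxH, ?_⟩
  apply Cfsg.Agent.S0087.mem_normalizer_of_forall
  intro q hq
  have h1 : x * q * x⁻¹ ∈ C₀ := hxC q (hQC hq)
  have h2 : (orderOf (x * q * x⁻¹)).Coprime p := by
    have e : orderOf (x * q * x⁻¹) = orderOf q := by
      have := orderOf_injective (MulAut.conj x).toMonoidHom (MulAut.conj x).injective q
      simpa using this
    rw [e]
    have h3 : orderOf q ∣ Nat.card Q := by
      have := orderOf_dvd_natCard (⟨q, hq⟩ : Q)
      rwa [Subgroup.orderOf_mk] at this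
    rw [hQcard] at h3
    exact Nat.Coprime.coprime_dvd_left h3 hQbc
  have h3 : (⟨x * q * x⁻¹, h1⟩ : C₀) ∈ Q.subgroupOf C₀ := by
    apply Cfsg.Agent.Helper3.mem_of_coprime_orderOf_of_index_pow (Q.subgroupOf C₀) hidx
    rw [Subgroup.orderOf_mk]
    exact h2
  exact mem_subgroupOf.mp h3

end Existence

section Conjugacy

variable {G : Type*} [Group G] [Finite G]

/-- If `G = C N` and `Q` is a normal subgroup of `C` of `p`-power index, then the image of `Q` in
`G ⧸ N` contains the image of every subgroup of order prime to `p`. -/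
theorem map_le_map_pPrime (N : Subgroup G) [N.Normal] {p : ℕ} [Fact p.Prime] {C Q X : Subgroup G}
    (hCN : C ⊔ N = ⊤) (hQC : Q ≤ C) (hCQ : C ≤ normalizer (Q : Set G)) {k : ℕ}
    (hQk : Q.relIndex C = p ^ k) (hX : (Nat.card X).Coprime p) :
    X.map (QuotientGroup.mk' N) ≤ Q.map (QuotientGroup.mk' N) := by
  have hp : p.Prime := Fact.out
  set π : G →* G ⧸ N := QuotientGroup.mk' N with hπ
  have hπs : Function.Surjective π := QuotientGroup.mk'_surjective N
  haveI hQbn : (Q.map π).Normal := by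
    constructor
    rintro _ ⟨q, hq, rfl⟩ gb
    obtain ⟨g, rfl⟩ := hπs gb
    have hg : g ∈ N ⊔ C := by rw [sup_comm, hCN]; exact mem_top g
    obtain ⟨n, hn, c, hc, rfl⟩ :=
      exists_mul_of_mem_sup (le_trans le_top (normalizer_eq_top (H := N)).ge) hg
    have h1 : π (n * c) = π c := by
      rw [map_mul, hπ, QuotientGroup.mk'_apply, (QuotientGroup.eq_one_iff n).mpr hn, one_mul]
    rw [h1]
    refine ⟨c * q * c⁻¹, (mem_normalizer_iff.mp (hCQ hc) q).mp hq, ?_⟩
    simp only [map_mul, map_inv]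
  obtain ⟨j, hj⟩ : ∃ j, (Q.map π).index = p ^ j := by
    have h1 : ((Q.map π).comap π).index = (Q.map π).index := index_comap_of_surjective _ hπs
    have h2 : (Q.map π).comap π = N ⊔ Q := QuotientGroup.comap_map_mk' N Q
    haveI : (N ⊔ Q : Subgroup G).Normal := by rw [← h2]; infer_instance
    have h3 : (N ⊔ Q : Subgroup G).relIndex ((N ⊔ Q) ⊔ C) = (N ⊔ Q : Subgroup G).relIndex C :=
      relIndex_sup_left C (N ⊔ Q)
    have h4 : (N ⊔ Q) ⊔ C = ⊤ := by
      rw [eq_top_iff, ← hCN]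
      exact sup_le le_sup_right (le_sup_left.trans le_sup_left)
    rw [h4, relIndex_top_right] at h3
    have h5 : (N ⊔ Q : Subgroup G).relIndex C ∣ Q.relIndex C :=
      relIndex_dvd_of_le_left C le_sup_right
    rw [← h3, hQk, ← h2, h1] at h5
    obtain ⟨j, _, hj⟩ := (Nat.dvd_prime_pow hp).mp h5
    exact ⟨j, hj⟩
  rintro _ ⟨x, hx, rfl⟩
  apply Cfsg.Agent.Helper3.mem_of_coprime_orderOf_of_index_pow (Q.map π) hj
  have h1 : orderOf (π x) ∣ orderOf x := orderOf_map_dvd π x
  have h2 : orderOf x ∣ Nat.card X := by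
    have := orderOf_dvd_natCard (⟨x, hx⟩ : X)
    rwa [Subgroup.orderOf_mk] at this
  exact Nat.Coprime.coprime_dvd_left (h1.trans h2) hX

/-- The case `G = C N = D N` of the conjugacy of Carter subgroups. -/
theorem carter_conj_of_sup_eq_top (N : Subgroup G) [N.Normal] {p : ℕ} [Fact p.Prime]
    (hN : IsPGroup p N)
    (hconjsub : ∀ H : Subgroup G, H ≠ ⊤ → ∀ C₁ C₂ : Subgroup H, IsCarter C₁ → IsCarter C₂ →
      ∃ h : H, MulAut.conj h • C₁ = C₂)
    (hconjquot : ∀ M : Subgroup G, ∀ _ : M.Normal, M ≠ ⊥ → ∀ C₁ C₂ : Subgroup (G ⧸ M),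
      IsCarter C₁ → IsCarter C₂ → ∃ g : G ⧸ M, MulAut.conj g • C₁ = C₂)
    (C D : Subgroup G) (hC : IsCarter C) (hD : IsCarter D) (hCN : C ⊔ N = ⊤) (hDN : D ⊔ N = ⊤) :
    ∃ g : G, MulAut.conj g • C = D := by
  have hp : p.Prime := Fact.out
  obtain ⟨Q, hQC, hCQ, hQc, ⟨k, hQk⟩, -⟩ := exists_pPrime_of_nilpotent hC.1 p
  obtain ⟨Q', hQD, hDQ, hQ'c, ⟨k', hQ'k⟩, -⟩ := exists_pPrime_of_nilpotent hD.1 p
  set π : G →* G ⧸ N := QuotientGroup.mk' N with hπ
  -- `Q N = Q' N`
  have hmap : Q.map π = Q'.map π :=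
    le_antisymm (map_le_map_pPrime N hDN hQD hDQ hQ'k hQc) (map_le_map_pPrime N hCN hQC hCQ hQk hQ'c)
  have hT : N ⊔ Q = N ⊔ Q' := by
    rw [← QuotientGroup.comap_map_mk' N Q, ← QuotientGroup.comap_map_mk' N Q', ← hπ, hmap]
  set T : Subgroup G := N ⊔ Q with hTdef
  have hNT : N ≤ T := le_sup_left
  have hQT : Q ≤ T := le_sup_right
  have hQ'T : Q' ≤ T := by rw [hT]; exact le_sup_right
  obtain ⟨a, ha⟩ := IsPGroup.iff_card.mp hN
  have hdisj : ∀ X : Subgroup G, (Nat.card X).Coprime p → N ⊓ X = ⊥ := by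
    intro X hX
    apply (Subgroup.disjoint_of_coprime_natCard _).eq_bot
    rw [ha]
    exact Nat.Coprime.pow_left a hX.symm
  have hNn : ∀ X : Subgroup G, X ≤ normalizer (N : Set G) := fun X =>
    le_trans le_top (normalizer_eq_top (H := N)).ge
  have hcQ : IsComplement' (N.subgroupOf T) (Q.subgroupOf T) :=
    isComplement'_subgroupOf (hdisj Q hQc) hQT (fun t ht => exists_mul_of_mem_sup (hNn Q) ht)
  have hcQ' : IsComplement' (N.subgroupOf T) (Q'.subgroupOf T) :=
    isComplement'_subgroupOf (hdisj Q' hQ'c) hQ'T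
      (fun t ht => exists_mul_of_mem_sup (hNn Q') (by rw [← hT]; exact ht))
  have hcop : (Nat.card (N.subgroupOf T)).Coprime (N.subgroupOf T).index := by
    rw [hcQ.symm.index_eq_card, Nat.card_congr (subgroupOfEquivOfLe hNT).toEquiv,
      Nat.card_congr (subgroupOfEquivOfLe hQT).toEquiv, ha]
    exact Nat.Coprime.pow_left a hQc.symm
  have hsolvN : Group.IsSolvable (N.subgroupOf T) := by
    haveI : Group.IsNilpotent (N.subgroupOf T) := (hN.comap_subtype (K := T)).isNilpotent
    infer_instance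
  obtain ⟨t, ht⟩ := Cfsg.Agent.S0001.result (N.subgroupOf T) hcop (Or.inl hsolvN) _ _ hcQ hcQ'
  have htQ : MulAut.conj (t : G) • Q = Q' := conj_of_conj_subgroupOf hQT hQ'T t ht
  -- replace `C` by its conjugate
  set C₁ : Subgroup G := MulAut.conj (t : G) • C with hC₁
  have hC₁c : IsCarter C₁ := hC.conj t
  have hQ'C₁ : Q' ≤ C₁ := by
    rw [← htQ, hC₁]
    intro y hy
    rw [mem_conj_smul_iff] at hy ⊢
    exact hQC hy
  have hC₁Q' : C₁ ≤ normalizer (Q' : Set G) := by
    intro y hy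
    rw [hC₁, mem_conj_smul_iff] at hy
    rw [← htQ, mem_normalizer_conj_smul_iff]
    exact hCQ hy
  suffices h : ∃ g : G, MulAut.conj g • C₁ = D by
    obtain ⟨g, hg⟩ := h
    refine ⟨g * t, ?_⟩
    rw [← conj_smul_conj_smul]; exact hg
  set M : Subgroup G := normalizer (Q' : Set G) with hM
  by_cases hMtop : M = ⊤
  · -- `Q'` is normal in `G`
    haveI hQ'n : Q'.Normal := normalizer_eq_top_iff.mp hMtop
    by_cases hQ'bot : Q' = ⊥
    · -- `G` is a `p`-group
      have hDp : Nat.card D = p ^ k' := by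
        rw [hQ'bot, relIndex_bot_left] at hQ'k
        exact hQ'k
      have hGp : IsPGroup p G := by
        have h1 : N.relIndex (N ⊔ D) = N.relIndex D := relIndex_sup_left D N
        rw [sup_comm, hDN, relIndex_top_right] at h1
        have h2 : N.index ∣ p ^ k' := by
          rw [h1, ← hDp]; exact relIndex_dvd_card N D
        have h3 : Nat.card G ∣ p ^ (a + k') := by
          rw [← N.card_mul_index, ha, pow_add]
          exact Nat.mul_dvd_mul_left _ h2
        obtain ⟨j, _, hj⟩ := (Nat.dvd_prime_pow hp).mp h3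
        exact IsPGroup.of_card hj
      have hGn : Group.IsNilpotent G := hGp.isNilpotent
      refine ⟨1, ?_⟩
      rw [map_one, one_smul, hC₁c.eq_top_of_isNilpotent hGn, hD.eq_top_of_isNilpotent hGn]
    · obtain ⟨gb, hgb⟩ := hconjquot Q' hQ'n hQ'bot _ _ (hC₁c.map_mk' Q' hconjsub)
        (hD.map_mk' Q' hconjsub)
      obtain ⟨g, rfl⟩ := QuotientGroup.mk'_surjective Q' gb
      have h1 := sup_eq_of_conj_map_mk' g hgb
      have h2 : Q' ≤ MulAut.conj g • C₁ := by
        intro y hy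
        rw [mem_conj_smul_iff]
        exact hQ'C₁ (hQ'n.conj_mem' y hy g)
      rw [sup_of_le_left h2, sup_of_le_left hQD] at h1
      exact ⟨g, h1⟩
  · obtain ⟨m, hm⟩ := hconjsub M hMtop _ _ (hC₁c.subgroupOf hC₁Q') (hD.subgroupOf hDQ)
    exact ⟨m, conj_of_conj_subgroupOf hC₁Q' hDQ m hm⟩

end Conjugacy

section Main

/-- Conjugacy step. -/
theorem carter_conj_step {G : Type*} [Group G] [Finite G] (N : Subgroup G) [N.Normal] {p : ℕ}
    [Fact p.Prime] (hN : IsPGroup p N) (hNbot : N ≠ ⊥)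
    (hconjsub : ∀ H : Subgroup G, H ≠ ⊤ → ∀ C₁ C₂ : Subgroup H, IsCarter C₁ → IsCarter C₂ →
      ∃ h : H, MulAut.conj h • C₁ = C₂)
    (hconjquot : ∀ M : Subgroup G, ∀ _ : M.Normal, M ≠ ⊥ → ∀ C₁ C₂ : Subgroup (G ⧸ M),
      IsCarter C₁ → IsCarter C₂ → ∃ g : G ⧸ M, MulAut.conj g • C₁ = C₂)
    (C D : Subgroup G) (hC : IsCarter C) (hD : IsCarter D) :
    ∃ g : G, MulAut.conj g • C = D := by
  obtain ⟨gb, hgb⟩ := hconjquot N inferInstance hNbot _ _ (hC.map_mk' N hconjsub)
    (hD.map_mk' N hconjsub)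
  obtain ⟨g, rfl⟩ := QuotientGroup.mk'_surjective N gb
  have h1 := sup_eq_of_conj_map_mk' g hgb
  set C₁ : Subgroup G := MulAut.conj g • C with hC₁
  have hC₁c : IsCarter C₁ := hC.conj g
  suffices h : ∃ x : G, MulAut.conj x • C₁ = D by
    obtain ⟨x, hx⟩ := h
    refine ⟨x * g, ?_⟩
    rw [← conj_smul_conj_smul]; exact hx
  by_cases htop : D ⊔ N = ⊤
  · exact carter_conj_of_sup_eq_top N hN hconjsub hconjquot C₁ D hC₁c hD (h1.trans htop) htop
  · have hC₁H : C₁ ≤ D ⊔ N := by rw [← h1]; exact le_sup_left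
    have hDH : D ≤ D ⊔ N := le_sup_left
    obtain ⟨m, hm⟩ := hconjsub (D ⊔ N) htop _ _ (hC₁c.subgroupOf hC₁H) (hD.subgroupOf hDH)
    exact ⟨m, conj_of_conj_subgroupOf hC₁H hDH m hm⟩

theorem carter_aux : ∀ (n : ℕ) (G : Type u) [Group G] [Finite G] [Group.IsSolvable G],
    Nat.card G = n →
    (∃ C : Subgroup G, IsCarter C) ∧
      ∀ C D : Subgroup G, IsCarter C → IsCarter D → ∃ g : G, MulAut.conj g • C = D := by
  intro n
  induction n using Nat.strong_induction_on with
  | _ n ih =>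
  intro G _ _ _ hn
  rcases subsingleton_or_nontrivial G with hsub | hnt
  · have hnil : Group.IsNilpotent G := inferInstance
    refine ⟨⟨⊤, isCarter_top hnil⟩, ?_⟩
    intro C D _ _
    exact ⟨1, Subsingleton.elim _ _⟩
  · obtain ⟨p, hp, N, hNn, hNbot, hNp⟩ := exists_normal_pSubgroup_of_solvable G
    haveI := hNn
    haveI : Fact p.Prime := ⟨hp⟩
    have hquotlt : ∀ M : Subgroup G, ∀ _ : M.Normal, M ≠ ⊥ → Nat.card (G ⧸ M) < Nat.card G := by
      intro M _ hM
      rw [← Subgroup.index_eq_card, ← M.card_mul_index]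
      have h1 : 1 < Nat.card M := by
        rw [Subgroup.one_lt_card_iff_ne_bot]; exact hM
      have h2 : 0 < M.index := Nat.pos_of_ne_zero M.index_ne_zero_of_finite
      nlinarith
    have hconjsub : ∀ H : Subgroup G, H ≠ ⊤ → ∀ C₁ C₂ : Subgroup H, IsCarter C₁ → IsCarter C₂ →
        ∃ h : H, MulAut.conj h • C₁ = C₂ := by
      intro H hH C₁ C₂ h1 h2
      have hlt : Nat.card H < n := by rw [← hn]; exact card_lt_of_ne_top' hH
      exact (ih _ hlt H rfl).2 C₁ C₂ h1 h2
    have hconjquot : ∀ M : Subgroup G, ∀ _ : M.Normal, M ≠ ⊥ → ∀ C₁ C₂ : Subgroup (G ⧸ M),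
        IsCarter C₁ → IsCarter C₂ → ∃ g : G ⧸ M, MulAut.conj g • C₁ = C₂ := by
      intro M hMn hM C₁ C₂ h1 h2
      have hlt : Nat.card (G ⧸ M) < n := by rw [← hn]; exact hquotlt M hMn hM
      exact (ih _ hlt (G ⧸ M) rfl).2 C₁ C₂ h1 h2
    constructor
    · have hlt : Nat.card (G ⧸ N) < n := by rw [← hn]; exact hquotlt N hNn hNbot
      obtain ⟨Kb, hKb⟩ := (ih _ hlt (G ⧸ N) rfl).1
      exact carter_exists_step N hNp Kb hKb
    · intro C D hC hD
      exact carter_conj_step N hNp hNbot hconjsub hconjquot C D hC hD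

/-- **Carter's theorem**: existence. -/
theorem carter_exists {G : Type*} [Group G] [Finite G] [Group.IsSolvable G] :
    ∃ C : Subgroup G, IsCarter C :=
  (carter_aux _ G rfl).1

/-- **Carter's theorem**: conjugacy. -/
theorem carter_conj {G : Type*} [Group G] [Finite G] [Group.IsSolvable G] (C D : Subgroup G)
    (hC : IsCarter C) (hD : IsCarter D) : ∃ g : G, MulAut.conj g • C = D :=
  (carter_aux _ G rfl).2 C D hC hD

end Main

end Cfsg.Agent.Helper1
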