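import Mathlib

/-!
# Subgroups of coprime index (helper1's shared library)
-/

set_option autoImplicit false

namespace Cfsg.Agent.Helper1

open Subgroup

variable {G : Type*} [Group G]

/-- If the index of `K` in `G` equals its relative index in `H`, then `G = H K`. -/
theorem exists_mul_of_relIndex_eq_index [Finite G] {H K : Subgroup G}
    (h : K.relIndex H = K.index) (g : G) : ∃ x ∈ H, ∃ y ∈ K, g = x * y := by
  let e := Subgroup.quotientSubgroupOfEmbeddingOfLE K (le_top : H ≤ ⊤)
  have hcard : Nat.card ((⊤ : Subgroup G) ⧸ K.subgroupOf ⊤) ≤ Nat.card (H ⧸ K.subgroupOf H) := by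
    have h1 : Nat.card (H ⧸ K.subgroupOf H) = K.relIndex H := rfl
    have h2 : Nat.card ((⊤ : Subgroup G) ⧸ K.subgroupOf ⊤) = K.relIndex ⊤ := rfl
    rw [h1, h2, Subgroup.relIndex_top_right, h]
  have hbij := Function.Injective.bijective_of_nat_card_le e.injective hcard
  obtain ⟨q, hq⟩ := hbij.2 (QuotientGroup.mk (⟨g, Subgroup.mem_top g⟩ : (⊤ : Subgroup G)))
  induction q using QuotientGroup.induction_on with
  | H x =>
    rw [Subgroup.quotientSubgroupOfEmbeddingOfLE_apply_mk, QuotientGroup.eq,
      Subgroup.mem_subgroupOf] at hq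
    refine ⟨x, x.2, _, hq, ?_⟩
    simp

theorem index_inf_of_coprime [Finite G] {H K : Subgroup G} (h : H.index.Coprime K.index) :
    (H ⊓ K).index = H.index * K.index := by
  apply le_antisymm Subgroup.index_inf_le
  apply Nat.le_of_dvd (Nat.pos_of_ne_zero Subgroup.index_ne_zero_of_finite)
  exact h.mul_dvd_of_dvd_of_dvd (Subgroup.index_dvd_of_le inf_le_left)
    (Subgroup.index_dvd_of_le inf_le_right)

theorem relIndex_eq_index_of_coprime [Finite G] {H K : Subgroup G} (h : H.index.Coprime K.index) :
    K.relIndex H = K.index := by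
  have h1 := Subgroup.relIndex_mul_index (inf_le_left : H ⊓ K ≤ H)
  rw [Subgroup.inf_relIndex_left, index_inf_of_coprime h, mul_comm] at h1
  exact Nat.eq_of_mul_eq_mul_left (Nat.pos_of_ne_zero Subgroup.index_ne_zero_of_finite) h1

/-- Subgroups of coprime index factorise the group. -/
theorem exists_mul_of_coprime_index [Finite G] {H K : Subgroup G} (h : H.index.Coprime K.index)
    (g : G) : ∃ x ∈ H, ∃ y ∈ K, g = x * y :=
  exists_mul_of_relIndex_eq_index (relIndex_eq_index_of_coprime h) g

end Cfsg.Agent.Helper1
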