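import Mathlib
import Cfsg.Agent.Lib.Helper1.CommutatorBasic
import Cfsg.Agent.Lib.Helper19.PGroupBasic
import Cfsg.Agent.S0026
import Cfsg.Agent.S0027
import Cfsg.Agent.S0055
import Cfsg.Agent.S0023
import Cfsg.Agent.Lib.Helper1.Coprime

/-!
# Coprime action with a centraliser of prime index (helper1's shared library)
-/

set_option autoImplicit false

namespace Cfsg.Agent.Helper1

open Subgroup
open scoped commutatorElement

variable {G : Type*} [Group G]

/-- Relative version of `exists_mul_of_relIndex_eq_index`. -/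
theorem exists_mul_of_relIndex_eq_relIndex [Finite G] {H K L : Subgroup G} (hHL : H ≤ L)
    (h : K.relIndex H = K.relIndex L) (g : G) (hg : g ∈ L) : ∃ x ∈ H, x⁻¹ * g ∈ K := by
  let e := Subgroup.quotientSubgroupOfEmbeddingOfLE K hHL
  have hcard : Nat.card (L ⧸ K.subgroupOf L) ≤ Nat.card (H ⧸ K.subgroupOf H) := by
    have h1 : Nat.card (H ⧸ K.subgroupOf H) = K.relIndex H := rfl
    have h2 : Nat.card (L ⧸ K.subgroupOf L) = K.relIndex L := rfl
    rw [h1, h2, h]
  have hbij := Function.Injective.bijective_of_nat_card_le e.injective hcard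
  obtain ⟨q, hq⟩ := hbij.2 (QuotientGroup.mk (⟨g, hg⟩ : L))
  induction q using QuotientGroup.induction_on with
  | H x =>
    rw [Subgroup.quotientSubgroupOfEmbeddingOfLE_apply_mk, QuotientGroup.eq,
      Subgroup.mem_subgroupOf] at hq
    refine ⟨x, x.2, ?_⟩
    simpa using hq

/-- A subgroup `D ≤ P₁` normalised by `P₁` and centralised by `A` is central in `P₁ = ⁅P₁, A⁆`. -/
theorem le_centralizer_of_fixed_of_commutator_eq {P₁ A D : Subgroup G}
    (hP₁ : ⁅P₁, A⁆ = P₁) (hDn : P₁ ≤ normalizer (D : Set G))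
    (hDA : D ≤ centralizer (A : Set G)) : P₁ ≤ centralizer (D : Set G) := by
  rw [← hP₁, Subgroup.commutator_le]
  intro g hg a ha
  rw [mem_centralizer_iff]
  intro d hd
  -- g⁻¹ d g ∈ D is fixed by a
  have h1 : g⁻¹ * d * g ∈ D := by
    have := (mem_normalizer_iff.mp (hDn (P₁.inv_mem hg)) d).mp hd
    simpa using this
  have h2 : (g⁻¹ * d * g) * a = a * (g⁻¹ * d * g) := (mem_centralizer_iff.mp (hDA h1) a ha).symm
  have h3 : d * a = a * d := (mem_centralizer_iff.mp (hDA hd) a ha).symm
  have h3' : a⁻¹ * d = d * a⁻¹ := by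
    calc a⁻¹ * d = a⁻¹ * (d * a) * a⁻¹ := by group
      _ = a⁻¹ * (a * d) * a⁻¹ := by rw [h3]
      _ = d * a⁻¹ := by group
  rw [commutatorElement_def]
  calc d * (g * a * g⁻¹ * a⁻¹) = g * ((g⁻¹ * d * g) * a) * g⁻¹ * a⁻¹ := by group
    _ = g * (a * (g⁻¹ * d * g)) * g⁻¹ * a⁻¹ := by rw [h2]
    _ = g * a * g⁻¹ * (d * a⁻¹) := by group
    _ = g * a * g⁻¹ * (a⁻¹ * d) := by rw [h3']
    _ = g * a * g⁻¹ * a⁻¹ * d := by group


/-- Second isomorphism theorem for indices: if `L = N C` with `C` normalising `N`, then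
`|N : N ∩ C| = |L : C|`. -/
theorem relIndex_eq_of_sup_eq [Finite G] {N C L : Subgroup G} (hCN : C ≤ normalizer (N : Set G))
    (hL : N ⊔ C = L) : C.relIndex N = C.relIndex L := by
  have hNL : N ≤ L := hL ▸ le_sup_left
  let e := Subgroup.quotientSubgroupOfEmbeddingOfLE C hNL
  have hsurj : Function.Surjective e := by
    intro q
    induction q using QuotientGroup.induction_on with
    | H l =>
      have hl : (l : G) ∈ N ⊔ C := by rw [hL]; exact l.2
      obtain ⟨n, hn, c, hc, hlnc⟩ := exists_mul_of_mem_sup hCN hl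
      refine ⟨QuotientGroup.mk (⟨n, hn⟩ : N), ?_⟩
      rw [Subgroup.quotientSubgroupOfEmbeddingOfLE_apply_mk, QuotientGroup.eq,
        Subgroup.mem_subgroupOf]
      have : ((inclusion hNL ⟨n, hn⟩)⁻¹ * l : L) = ⟨c, by rw [← hL]; exact mem_sup_right hc⟩ := by
        apply Subtype.ext
        simp [hlnc]
      rw [this]
      exact hc
  exact Nat.card_congr (Equiv.ofBijective e ⟨e.injective, hsurj⟩)

/-- **`p`-group case**: a `p`-group `P` acted on coprimely by `A` with `|P : C_P(A)| = p` has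
`|[P, A]| = p`. -/
theorem card_commutator_of_relIndex_prime_pgroup [Finite G] {p : ℕ} [Fact p.Prime]
    (A P : Subgroup G) (hP : IsPGroup p P) (hAP : A ≤ normalizer (P : Set G))
    (hcop : (Nat.card A).Coprime (Nat.card P))
    (hidx : (P ⊓ centralizer (A : Set G)).relIndex P = p) : Nat.card (⁅P, A⁆ : Subgroup G) = p := by
  have hp : p.Prime := Fact.out
  have hsolv : Group.IsSolvable A ∨ Group.IsSolvable P := by
    right
    haveI : Group.IsNilpotent P := hP.isNilpotent
    infer_instance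
  set P₁ : Subgroup G := ⁅P, A⁆ with hP₁
  have hP₁P : P₁ ≤ P := commutator_le_of_le_normalizer hAP
  have h26 : P₁ ⊔ (P ⊓ centralizer (A : Set G)) = P := Cfsg.Agent.S0026.result A P hAP hcop hsolv
  have h27 : ⁅P₁, A⁆ = P₁ := Cfsg.Agent.S0027.result A P hAP hcop hsolv
  set D : Subgroup G := P₁ ⊓ centralizer (A : Set G) with hD
  have hDP₁ : D ≤ P₁ := inf_le_left
  have hPn : P ≤ normalizer (P₁ : Set G) := le_normalizer_commutator_left P A
  -- the index of D in P₁ is p
  have hidx₁ : D.relIndex P₁ = p := by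
    have h1 : (P ⊓ centralizer (A : Set G)).relIndex P₁ = (P ⊓ centralizer (A : Set G)).relIndex P :=
      relIndex_eq_of_sup_eq (le_trans inf_le_left hPn) h26
    rw [hidx] at h1
    have h2 : D = (P ⊓ centralizer (A : Set G)) ⊓ P₁ := by
      rw [hD]
      apply le_antisymm
      · exact le_inf (le_inf (le_trans inf_le_left hP₁P) inf_le_right) inf_le_left
      · exact le_inf inf_le_right (inf_le_left.trans inf_le_right)
    have h3 : D.relIndex P₁ = ((P ⊓ centralizer (A : Set G)) ⊓ P₁).relIndex P₁ := by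
      rw [← h2]
    rw [h3, Subgroup.inf_relIndex_right, h1]
  have hP₁p : IsPGroup p P₁ := hP.to_le hP₁P
  -- D is normal in P₁
  have hDn : P₁ ≤ normalizer (D : Set G) := by
    have h1 : (D.subgroupOf P₁).index = p := hidx₁
    have h2 := Cfsg.Agent.Helper19.normal_of_index_eq_prime (G := ↥P₁) hP₁p (D.subgroupOf P₁) h1
    exact (Subgroup.normal_subgroupOf_iff_le_normalizer hDP₁).mp h2
  have hcent : P₁ ≤ centralizer (D : Set G) :=
    le_centralizer_of_fixed_of_commutator_eq h27 hDn inf_le_right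
  -- P₁ is commutative
  haveI hDn' : (D.subgroupOf P₁).Normal := (Subgroup.normal_subgroupOf_iff_le_normalizer hDP₁).mpr hDn
  have hcyc : IsCyclic (P₁ ⧸ D.subgroupOf P₁) := by
    apply isCyclic_of_prime_card (p := p)
    exact hidx₁
  have hker : (QuotientGroup.mk' (D.subgroupOf P₁)).ker ≤ center P₁ := by
    rw [QuotientGroup.ker_mk']
    intro d hd
    rw [mem_center_iff]
    intro x
    apply Subtype.ext
    rw [Subgroup.coe_mul, Subgroup.coe_mul]
    exact (mem_centralizer_iff.mp (hcent x.2) d (mem_subgroupOf.mp hd)).symm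
  have hcomm : ∀ a b : P₁, a * b = b * a :=
    commutative_of_cyclic_center_quotient (QuotientGroup.mk' (D.subgroupOf P₁)) hker
  haveI : IsMulCommutative P₁ := ⟨⟨hcomm⟩⟩
  have hAP₁ : A ≤ normalizer (P₁ : Set G) := le_normalizer_commutator_right P A
  have hcop₁ : (Nat.card A).Coprime (Nat.card P₁) :=
    Nat.Coprime.coprime_dvd_right (Subgroup.card_dvd_of_le hP₁P) hcop
  have h55 := (Cfsg.Agent.S0055.result A P₁ hAP₁ hcop₁).1
  rw [h27] at h55
  have hDbot : D = ⊥ := by
    rw [← h55, hD]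
    exact (inf_of_le_left inf_le_left).symm
  rw [hDbot, Subgroup.relIndex_bot_left] at hidx₁
  exact hidx₁

end Cfsg.Agent.Helper1
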