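import Mathlib
import Cfsg.Agent.Lib.Helper7.BW6

/-!
# A product inequality for fixed points of a `p`-group acting on a `p'`-group (helper1)

* `fixSub γ` : the fixed-point subgroup of an automorphism;
* `gbw` : the Brauer–Wielandt formula for commuting automorphisms `α, β` with `β ^ p = 1` (no
  condition on the order of `α`), obtained from helper7's `bw_general` in the holomorph of
  `Fix(α ^ p)`;
* `prod_fix_le` : `(∏_{x ∈ P} #C_N(x)) ^ p ≤ #N ^ #P * #C_N(P) ^ (#P (p - 1))`.
-/

set_option autoImplicit false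

namespace Cfsg.Agent.Helper1.CoprimeProd

open Subgroup

universe u v

section Fix

variable {N : Type u} [Group N]

/-- fixed points of an automorphism -/
def fixSub (γ : MulAut N) : Subgroup N where
  carrier := {n | γ n = n}
  one_mem' := map_one γ
  mul_mem' := by
    intro a b ha hb
    simp only [Set.mem_setOf_eq] at ha hb ⊢
    rw [map_mul, ha, hb]
  inv_mem' := by
    intro a ha
    simp only [Set.mem_setOf_eq] at ha ⊢
    rw [map_inv, ha]

theorem mem_fixSub {γ : MulAut N} {n : N} : n ∈ fixSub γ ↔ γ n = n := Iff.rfl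

theorem fixSub_one : fixSub (1 : MulAut N) = ⊤ := by
  ext n; simp [mem_fixSub]

/-- restriction of an automorphism to an invariant subgroup -/
def res (γ : MulAut N) (W : Subgroup N) (h : ∀ n, γ n ∈ W ↔ n ∈ W) : MulAut W where
  toFun w := ⟨γ w, (h w).mpr w.2⟩
  invFun w := ⟨γ⁻¹ w, (h _).mp (by rw [MulAut.apply_inv_self]; exact w.2)⟩
  left_inv w := by apply Subtype.ext; simp
  right_inv w := by apply Subtype.ext; simp
  map_mul' a b := by apply Subtype.ext; simp

@[simp] theorem coe_res_apply (γ : MulAut N) (W : Subgroup N) (h : ∀ n, γ n ∈ W ↔ n ∈ W) (w : W) :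
    ((res γ W h w : W) : N) = γ w := rfl

theorem inv_mem_iff_of (γ : MulAut N) (W : Subgroup N) (h : ∀ n, γ n ∈ W ↔ n ∈ W) (n : N) :
    γ⁻¹ n ∈ W ↔ n ∈ W := by
  rw [← h (γ⁻¹ n), MulAut.apply_inv_self]

/-- restriction of a group of automorphisms to an invariant subgroup -/
def resHom {P : Type v} [Group P] (φ : P →* MulAut N) (W : Subgroup N)
    (h : ∀ x n, φ x n ∈ W ↔ n ∈ W) : P →* MulAut W where
  toFun x := res (φ x) W (h x)
  map_one' := by
    ext w
    simp
  map_mul' x y := by
    ext w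
    simp

@[simp] theorem coe_resHom_apply {P : Type v} [Group P] (φ : P →* MulAut N) (W : Subgroup N)
    (h : ∀ x n, φ x n ∈ W ↔ n ∈ W) (x : P) (w : W) :
    ((resHom φ W h x w : W) : N) = φ x w := rfl

/-- fixed points on an invariant subgroup -/
theorem card_fixSub_res [Finite N] (γ : MulAut N) (W : Subgroup N) (h : ∀ n, γ n ∈ W ↔ n ∈ W) :
    Nat.card (fixSub (res γ W h)) = Nat.card (fixSub γ ⊓ W : Subgroup N) := by
  apply Nat.card_congr
  refine ⟨fun w => ⟨w.1.1, ?_⟩, fun n => ⟨⟨n.1, (Subgroup.mem_inf.mp n.2).2⟩, ?_⟩, ?_, ?_⟩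
  · refine Subgroup.mem_inf.mpr ⟨?_, w.1.2⟩
    have := w.2
    rw [mem_fixSub] at this ⊢
    have h2 := congrArg (Subtype.val) this
    simpa using h2
  · rw [mem_fixSub]
    apply Subtype.ext
    exact (Subgroup.mem_inf.mp n.2).1
  · intro w; rfl
  · intro n; rfl

end Fix

section GBW

open Cfsg.Agent.Helper7 SemidirectProduct

variable {W : Type u} [Group W]

/-- the holomorph of `W` -/
abbrev Hol (W : Type u) [Group W] := W ⋊[MonoidHom.id (MulAut W)] MulAut W

theorem inr_mul_inl_comm_iff (γ : MulAut W) (w : W) :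
    (inr γ : Hol W) * inl w = inl w * inr γ ↔ γ w = w := by
  have h1 := inl_aut (φ := MonoidHom.id (MulAut W)) γ w
  simp only [MonoidHom.id_apply] at h1
  constructor
  · intro h
    have h2 : (inl (γ w) : Hol W) = inl w := by
      rw [h1, h, mul_assoc, ← map_mul, mul_inv_cancel, map_one, mul_one]
    exact inl_injective h2
  · intro h
    rw [h] at h1
    have : (inr γ : Hol W) * inl w = (inr γ * inl w * inr γ⁻¹) * inr γ := by
      rw [mul_assoc, ← map_mul, inv_mul_cancel, map_one, mul_one]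
    rw [this, ← h1]

theorem card_cent1_inr [Finite W] (γ : MulAut W) :
    Nat.card (cent1 ((inl : W →* Hol W).range) (inr γ)) = Nat.card (fixSub γ) := by
  symm
  apply Nat.card_congr
  refine Equiv.ofBijective (fun w => ⟨inl w.1, ?_⟩) ⟨?_, ?_⟩
  · rw [mem_cent1]
    exact ⟨⟨w.1, rfl⟩, (inr_mul_inl_comm_iff γ w.1).mpr w.2⟩
  · intro w w' h
    apply Subtype.ext
    exact inl_injective (congrArg Subtype.val h)
  · rintro ⟨x, hx⟩
    rw [mem_cent1] at hx
    obtain ⟨⟨w, rfl⟩, hc⟩ := hx
    exact ⟨⟨w, (inr_mul_inl_comm_iff γ w).mp hc⟩, rfl⟩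

theorem card_cent2_inr [Finite W] (γ δ : MulAut W) :
    Nat.card (cent2 ((inl : W →* Hol W).range) (inr γ) (inr δ)) =
      Nat.card (fixSub γ ⊓ fixSub δ : Subgroup W) := by
  symm
  apply Nat.card_congr
  refine Equiv.ofBijective (fun w => ⟨inl w.1, ?_⟩) ⟨?_, ?_⟩
  · rw [mem_cent2]
    obtain ⟨h1, h2⟩ := Subgroup.mem_inf.mp w.2
    exact ⟨⟨w.1, rfl⟩, (inr_mul_inl_comm_iff γ w.1).mpr h1, (inr_mul_inl_comm_iff δ w.1).mpr h2⟩
  · intro w w' h
    apply Subtype.ext
    exact inl_injective (congrArg Subtype.val h)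
  · rintro ⟨x, hx⟩
    rw [mem_cent2] at hx
    obtain ⟨⟨w, rfl⟩, hc1, hc2⟩ := hx
    exact ⟨⟨w, Subgroup.mem_inf.mpr ⟨(inr_mul_inl_comm_iff γ w).mp hc1,
      (inr_mul_inl_comm_iff δ w).mp hc2⟩⟩, rfl⟩

/-- Brauer–Wielandt for commuting automorphisms of order dividing `p` of a `p'`-group -/
theorem bw_aut [Finite W] (p : ℕ) [hp : Fact p.Prime] (hW : ¬ p ∣ Nat.card W) (γ δ : MulAut W)
    (hc : γ * δ = δ * γ) (hγ : γ ^ p = 1) (hδ : δ ^ p = 1) :
    Nat.card W * Nat.card (fixSub γ ⊓ fixSub δ : Subgroup W) ^ p =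
      (∏ j ∈ Finset.range p, Nat.card (fixSub (γ * δ ^ j))) * Nat.card (fixSub δ) := by
  haveI : Finite (MulAut W) := Finite.of_injective (fun e : MulAut W => (e : W → W))
    (fun e e' h => MulEquiv.ext (fun x => congrFun h x))
  haveI : Finite (Hol W) := Finite.of_equiv (W × MulAut W) SemidirectProduct.equivProd.symm
  set K : Subgroup (Hol W) := (inl : W →* Hol W).range with hK
  have hKn : K.Normal := by
    rw [hK, range_inl_eq_ker_rightHom]; infer_instance
  have hcardK : Nat.card K = Nat.card W :=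
    (Nat.card_congr (MonoidHom.ofInjective (inl_injective (φ := MonoidHom.id (MulAut W)))).toEquiv).symm
  have h := bw_general (H := Hol W) p (a := inr γ) (b := inr δ)
    (by rw [← map_mul, ← map_mul, hc]) (by rw [← map_pow, hγ, map_one])
    (by rw [← map_pow, hδ, map_one]) K (by rw [hcardK]; exact hW)
    (by rw [Subgroup.normalizer_eq_top]; exact mem_top _)
    (by rw [Subgroup.normalizer_eq_top]; exact mem_top _)
  unfold bwL bwR at h
  rw [hcardK, card_cent2_inr, Finset.prod_range_succ] at h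
  rw [h]
  congr 1
  · apply Finset.prod_congr rfl
    intro j hj
    rw [gfam_of_lt _ _ (Finset.mem_range.mp hj), ← map_pow, ← map_mul, card_cent1_inr]
  · rw [gfam_self, card_cent1_inr]

end GBW

section GBW2

variable {N : Type u} [Group N]

/-- fixed points of an automorphism of `W` induced by an automorphism of `N` -/
theorem card_fixSub_of_coe [Finite N] (W : Subgroup N) (θ : MulAut W) (θ' : MulAut N)
    (h : ∀ w : W, ((θ w : W) : N) = θ' w) :
    Nat.card (fixSub θ) = Nat.card (fixSub θ' ⊓ W : Subgroup N) := by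
  apply Nat.card_congr
  refine ⟨fun w => ⟨w.1.1, ?_⟩, fun n => ⟨⟨n.1, (Subgroup.mem_inf.mp n.2).2⟩, ?_⟩, ?_, ?_⟩
  · refine Subgroup.mem_inf.mpr ⟨?_, w.1.2⟩
    have := w.2
    rw [mem_fixSub] at this ⊢
    rw [← h, this]
  · rw [mem_fixSub]
    apply Subtype.ext
    rw [h]
    exact (Subgroup.mem_inf.mp n.2).1
  · intro w; rfl
  · intro n; rfl

theorem coe_res_pow_apply (γ : MulAut N) (W : Subgroup N) (h : ∀ n, γ n ∈ W ↔ n ∈ W) (k : ℕ)
    (w : W) : (((res γ W h) ^ k) w : N) = (γ ^ k) w := by
  induction k generalizing w with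
  | zero => simp
  | succ k ih =>
    rw [pow_succ, pow_succ, MulAut.mul_apply, MulAut.mul_apply, ih, coe_res_apply]

theorem fixSub_le_fixSub_pow (γ : MulAut N) (k : ℕ) : fixSub γ ≤ fixSub (γ ^ k) := by
  intro n hn
  rw [mem_fixSub] at hn ⊢
  induction k with
  | zero => simp
  | succ k ih => rw [pow_succ, MulAut.mul_apply, hn, ih]

/-- **Generalized Brauer–Wielandt**: `α, β` commuting automorphisms of a `p'`-group, `β ^ p = 1`. -/
theorem gbw [Finite N] (p : ℕ) [hp : Fact p.Prime] (hN : ¬ p ∣ Nat.card N) (α β : MulAut N)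
    (hc : α * β = β * α) (hβ : β ^ p = 1) :
    Nat.card (fixSub (α ^ p)) * Nat.card (fixSub α ⊓ fixSub β : Subgroup N) ^ p =
      (∏ j ∈ Finset.range p, Nat.card (fixSub (α * β ^ j))) *
        Nat.card (fixSub β ⊓ fixSub (α ^ p) : Subgroup N) := by
  set W := fixSub (α ^ p) with hWdef
  have hcomm : Commute α β := hc
  have hαW : ∀ n, α n ∈ W ↔ n ∈ W := by
    intro n
    rw [hWdef, mem_fixSub, mem_fixSub]
    have : (α ^ p) (α n) = α ((α ^ p) n) := by
      rw [← MulAut.mul_apply, ← MulAut.mul_apply, ← pow_succ, ← pow_succ']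
    rw [this]
    exact α.injective.eq_iff
  have hβW : ∀ n, β n ∈ W ↔ n ∈ W := by
    intro n
    rw [hWdef, mem_fixSub, mem_fixSub]
    have : (α ^ p) (β n) = β ((α ^ p) n) := by
      rw [← MulAut.mul_apply, ← MulAut.mul_apply, (hcomm.pow_left p).eq]
    rw [this]
    exact β.injective.eq_iff
  set γ := res α W hαW with hγdef
  set δ := res β W hβW with hδdef
  have hWcard : ¬ p ∣ Nat.card W := fun h => hN (h.trans (Subgroup.card_subgroup_dvd_card W))
  have hcγδ : γ * δ = δ * γ := by
    ext w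
    simp only [MulAut.mul_apply, hγdef, hδdef, coe_res_apply]
    rw [← MulAut.mul_apply, ← MulAut.mul_apply, hc]
  have hγp : γ ^ p = 1 := by
    ext w
    rw [hγdef, coe_res_pow_apply]
    simp only [MulAut.one_apply]
    exact w.2
  have hδp : δ ^ p = 1 := by
    ext w
    rw [hδdef, coe_res_pow_apply, hβ]
    simp
  have h := bw_aut p hWcard γ δ hcγδ hγp hδp
  have e1 : Nat.card (fixSub γ ⊓ fixSub δ : Subgroup W) =
      Nat.card (fixSub α ⊓ fixSub β : Subgroup N) := by
    apply Nat.card_congr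
    refine ⟨fun w => ⟨w.1.1, ?_⟩, fun n => ⟨⟨n.1, ?_⟩, ?_⟩, ?_, ?_⟩
    · obtain ⟨h1, h2⟩ := Subgroup.mem_inf.mp w.2
      rw [mem_fixSub] at h1 h2
      refine Subgroup.mem_inf.mpr ⟨?_, ?_⟩
      · rw [mem_fixSub]
        have := congrArg Subtype.val h1
        simpa [hγdef] using this
      · rw [mem_fixSub]
        have := congrArg Subtype.val h2
        simpa [hδdef] using this
    · exact fixSub_le_fixSub_pow α p (Subgroup.mem_inf.mp n.2).1
    · obtain ⟨h1, h2⟩ := Subgroup.mem_inf.mp n.2
      rw [mem_fixSub] at h1 h2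
      refine Subgroup.mem_inf.mpr ⟨?_, ?_⟩
      · rw [mem_fixSub]; apply Subtype.ext; simpa [hγdef] using h1
      · rw [mem_fixSub]; apply Subtype.ext; simpa [hδdef] using h2
    · intro w; rfl
    · intro n; rfl
  have e2 : ∀ j : ℕ, Nat.card (fixSub (γ * δ ^ j)) = Nat.card (fixSub (α * β ^ j)) := by
    intro j
    rw [card_fixSub_of_coe W (γ * δ ^ j) (α * β ^ j) (by
      intro w
      rw [MulAut.mul_apply, MulAut.mul_apply, hγdef, coe_res_apply, hδdef, coe_res_pow_apply])]
    have hle : fixSub (α * β ^ j) ⊓ W = fixSub (α * β ^ j) := by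
      apply inf_of_le_left
      intro n hn
      have h1 := fixSub_le_fixSub_pow (α * β ^ j) p hn
      have h2 : (α * β ^ j) ^ p = α ^ p := by
        rw [(hcomm.pow_right j).mul_pow, ← pow_mul, mul_comm j p, pow_mul, hβ, one_pow, mul_one]
      rw [h2] at h1
      exact h1
    rw [hle]
  have e3 : Nat.card (fixSub δ) = Nat.card (fixSub β ⊓ W : Subgroup N) :=
    card_fixSub_res β W hβW
  rw [e1, e3, Finset.prod_congr rfl (fun j _ => e2 j)] at h
  exact h

end GBW2

section Prod

/-- common fixed points of an action by automorphisms -/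
def fixAll {N : Type u} [Group N] {P : Type v} [Group P] (φ : P →* MulAut N) : Subgroup N :=
  ⨅ x : P, fixSub (φ x)

theorem mem_fixAll {N : Type u} [Group N] {P : Type v} [Group P] {φ : P →* MulAut N} {n : N} :
    n ∈ fixAll φ ↔ ∀ x, φ x n = n := by
  simp [fixAll, Subgroup.mem_iInf, mem_fixSub]

theorem card_mul_card_le {N : Type u} [Group N] [Finite N] (A B : Subgroup N) :
    Nat.card A * Nat.card B ≤ Nat.card N * Nat.card (A ⊓ B : Subgroup N) := by
  have h1 := Subgroup.card_mul_index A
  have h2 := Subgroup.card_mul_index B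
  have h3 := Subgroup.card_mul_index (A ⊓ B)
  have h4 := Subgroup.index_inf_le (H := A) (K := B)
  have hN : 0 < Nat.card N := Nat.card_pos
  have hA : 0 < Nat.card A := Nat.card_pos
  have hB : 0 < Nat.card B := Nat.card_pos
  have hI : 0 < Nat.card (A ⊓ B : Subgroup N) := Nat.card_pos
  -- |N| * (|A| |B|) = |A⊓B| * idx(A⊓B) * |A| |B| ≤ |A⊓B| * (idxA idxB) |A| |B| = |A⊓B| |N| |N|
  apply Nat.le_of_mul_le_mul_left _ hN
  calc Nat.card N * (Nat.card A * Nat.card B)
      = Nat.card (A ⊓ B : Subgroup N) * (A ⊓ B).index * (Nat.card A * Nat.card B) := by rw [h3]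
    _ ≤ Nat.card (A ⊓ B : Subgroup N) * (A.index * B.index) * (Nat.card A * Nat.card B) := by
        apply Nat.mul_le_mul_right
        exact Nat.mul_le_mul_left _ h4
    _ = Nat.card (A ⊓ B : Subgroup N) * ((Nat.card A * A.index) * (Nat.card B * B.index)) := by ring
    _ = Nat.card N * (Nat.card N * Nat.card (A ⊓ B : Subgroup N)) := by rw [h1, h2]; ring

theorem prod_fix_le (p : ℕ) [hp : Fact p.Prime] {P : Type v} [Group P] [Fintype P]
    (hP : IsPGroup p P) :
    ∀ (k : ℕ) (N : Type u) [Group N] [Finite N] (φ : P →* MulAut N), ¬ p ∣ Nat.card N →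
      Nat.card N = k →
      (∏ x : P, Nat.card (fixSub (φ x))) ^ p ≤
        Nat.card N ^ Fintype.card P * Nat.card (fixAll φ) ^ (Fintype.card P * (p - 1)) := by
  intro k
  induction k using Nat.strong_induction_on with
  | _ k ih =>
  intro N _ _ φ hN hk
  classical
  have hp1 : 1 ≤ p := hp.out.one_lt.le
  by_cases htriv : ∀ x, φ x = 1
  · have h1 : fixAll φ = ⊤ := by
      ext n
      rw [mem_fixAll]
      simp [htriv]
    rw [h1]
    simp only [htriv, fixSub_one, Subgroup.card_top, Finset.prod_const, Finset.card_univ]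
    rw [← pow_mul, ← pow_add]
    apply Nat.pow_le_pow_right Nat.card_pos
    have : Fintype.card P * p = Fintype.card P + Fintype.card P * (p - 1) := by
      obtain ⟨q, rfl⟩ : ∃ q, p = q + 1 := ⟨p - 1, by omega⟩
      simp only [Nat.add_sub_cancel]
      ring
    omega
  · push Not at htriv
    obtain ⟨x₀, hx₀⟩ := htriv
    -- the image group
    have hE : IsPGroup p φ.range := hP.of_surjective φ.rangeRestrict φ.rangeRestrict_surjective
    haveI : Finite φ.range := Finite.of_surjective φ.rangeRestrict φ.rangeRestrict_surjective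
    haveI : Nontrivial φ.range := by
      refine ⟨⟨⟨φ x₀, x₀, rfl⟩, 1, ?_⟩⟩
      intro h
      exact hx₀ (congrArg Subtype.val h)
    haveI := hE.center_nontrivial
    have hZ : IsPGroup p (Subgroup.center φ.range) := hE.to_subgroup _
    have hdvd : p ∣ Nat.card (Subgroup.center φ.range) := by
      rcases hZ.card_eq_or_dvd with h | h
      · exfalso
        have := Finite.one_lt_card (α := Subgroup.center φ.range)
        omega
      · exact h
    obtain ⟨c, hc⟩ := exists_prime_orderOf_dvd_card' p hdvd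
    set e : MulAut N := ((c : φ.range) : MulAut N) with he
    have hep : e ^ p = 1 := by
      have h1 : c ^ p = 1 := by rw [← hc]; exact pow_orderOf_eq_one c
      have h2 := congrArg (fun t : Subgroup.center φ.range => ((t : φ.range) : MulAut N)) h1
      simpa using h2
    have hene : e ≠ 1 := by
      intro h
      have h1 : c = 1 := by
        apply Subtype.ext; apply Subtype.ext; exact h
      rw [h1, orderOf_one] at hc
      exact hp.out.one_lt.ne hc
    have hecomm : ∀ x : P, φ x * e = e * φ x := by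
      intro x
      have h1 := (Subgroup.mem_center_iff.mp c.2) ⟨φ x, x, rfl⟩
      have h2 := congrArg (Subtype.val) h1
      simpa using h2
    obtain ⟨z, hz⟩ : ∃ z : P, φ z = e := (c : φ.range).2
    -- the fixed points of e
    set N₁ := fixSub e with hN₁
    have hinv : ∀ x n, φ x n ∈ N₁ ↔ n ∈ N₁ := by
      intro x n
      rw [hN₁, mem_fixSub, mem_fixSub]
      have : e (φ x n) = φ x (e n) := by
        rw [← MulAut.mul_apply, ← MulAut.mul_apply, hecomm x]
      rw [this]
      exact (φ x).injective.eq_iff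
    have hlt : Nat.card N₁ < Nat.card N := by
      by_contra hge
      push Not at hge
      have htop : N₁ = ⊤ := Subgroup.eq_top_of_le_card _ hge
      apply hene
      ext n
      have : n ∈ N₁ := by rw [htop]; exact Subgroup.mem_top n
      rw [hN₁, mem_fixSub] at this
      rw [this]; rfl
    have hN₁p : ¬ p ∣ Nat.card N₁ := fun h => hN (h.trans (Subgroup.card_subgroup_dvd_card N₁))
    have hIH := ih (Nat.card N₁) (by rw [← hk]; exact hlt) N₁ (resHom φ N₁ hinv) hN₁p rfl
    have hc₁ : ∀ x : P, Nat.card (fixSub (resHom φ N₁ hinv x)) =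
        Nat.card (fixSub (φ x) ⊓ N₁ : Subgroup N) := fun x => card_fixSub_res (φ x) N₁ (hinv x)
    have hall : Nat.card (fixAll (resHom φ N₁ hinv)) = Nat.card (fixAll φ) := by
      apply Nat.card_congr
      refine ⟨fun w => ⟨w.1.1, ?_⟩, fun n => ⟨⟨n.1, ?_⟩, ?_⟩, ?_, ?_⟩
      · rw [mem_fixAll]
        intro x
        have := (mem_fixAll.mp w.2) x
        have h2 := congrArg Subtype.val this
        simpa using h2
      · have := (mem_fixAll.mp n.2) z
        rw [hz] at this
        exact this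
      · rw [mem_fixAll]
        intro x
        apply Subtype.ext
        exact (mem_fixAll.mp n.2) x
      · intro w; rfl
      · intro n; rfl
    rw [Finset.prod_congr rfl (fun x _ => hc₁ x), hall] at hIH
    -- Brauer–Wielandt for each x
    have hG1 : ∀ x : P, Nat.card (fixSub ((φ x) ^ p)) *
        Nat.card (fixSub (φ x) ⊓ N₁ : Subgroup N) ^ p =
        (∏ j ∈ Finset.range p, Nat.card (fixSub (φ (x * z ^ j)))) *
          Nat.card (N₁ ⊓ fixSub ((φ x) ^ p) : Subgroup N) := by
      intro x
      have := gbw p hN (φ x) e (hecomm x) hep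
      rw [this]
      congr 1
      apply Finset.prod_congr rfl
      intro j _
      rw [map_mul, map_pow, hz]
    have hG2 : ∏ x : P, ∏ j ∈ Finset.range p, Nat.card (fixSub (φ (x * z ^ j))) =
        (∏ x : P, Nat.card (fixSub (φ x))) ^ p := by
      rw [Finset.prod_comm]
      have : ∀ j ∈ Finset.range p, ∏ x : P, Nat.card (fixSub (φ (x * z ^ j))) =
          ∏ x : P, Nat.card (fixSub (φ x)) := by
        intro j _
        exact Fintype.prod_equiv (Equiv.mulRight (z ^ j)) _ _ (fun x => rfl)
      rw [Finset.prod_congr rfl this, Finset.prod_const, Finset.card_range]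
    have hG3 : ∀ x : P, Nat.card (fixSub ((φ x) ^ p)) * Nat.card N₁ ≤
        Nat.card N * Nat.card (N₁ ⊓ fixSub ((φ x) ^ p) : Subgroup N) := by
      intro x
      have := card_mul_card_le (fixSub ((φ x) ^ p)) N₁
      rwa [inf_comm] at this
    set A := ∏ x : P, Nat.card (fixSub (φ x)) with hA
    set A₁ := ∏ x : P, Nat.card (fixSub (φ x) ⊓ N₁ : Subgroup N) with hA₁
    set D := ∏ x : P, Nat.card (fixSub ((φ x) ^ p)) with hD
    set D₁ := ∏ x : P, Nat.card (N₁ ⊓ fixSub ((φ x) ^ p) : Subgroup N) with hD₁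
    have hD₁pos : 0 < D₁ := Finset.prod_pos (fun x _ => Nat.card_pos)
    have hprod1 : D * A₁ ^ p = A ^ p * D₁ := by
      rw [hD, hA₁, ← Finset.prod_pow, ← Finset.prod_mul_distrib, Finset.prod_congr rfl
        (fun x _ => hG1 x), Finset.prod_mul_distrib, hG2]
    have hprod3 : D * Nat.card N₁ ^ Fintype.card P ≤ Nat.card N ^ Fintype.card P * D₁ := by
      have := Finset.prod_le_prod' (s := (Finset.univ : Finset P)) (fun x _ => hG3 x)
      rw [Finset.prod_mul_distrib, Finset.prod_mul_distrib, Finset.prod_const, Finset.prod_const,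
        Finset.card_univ] at this
      exact this
    apply Nat.le_of_mul_le_mul_right _ hD₁pos
    calc A ^ p * D₁ = D * A₁ ^ p := hprod1.symm
      _ ≤ D * (Nat.card N₁ ^ Fintype.card P * Nat.card (fixAll φ) ^ (Fintype.card P * (p - 1))) :=
          Nat.mul_le_mul_left _ hIH
      _ = (D * Nat.card N₁ ^ Fintype.card P) * Nat.card (fixAll φ) ^ (Fintype.card P * (p - 1)) := by
          ring
      _ ≤ (Nat.card N ^ Fintype.card P * D₁) * Nat.card (fixAll φ) ^ (Fintype.card P * (p - 1)) :=
          Nat.mul_le_mul_right _ hprod3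
      _ = Nat.card N ^ Fintype.card P * Nat.card (fixAll φ) ^ (Fintype.card P * (p - 1)) * D₁ := by
          ring

end Prod

end Cfsg.Agent.Helper1.CoprimeProd
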