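import Mathlib
import Cfsg.Agent.Lib.Helper16.UniqueOrderP

/-!
# A cyclicity criterion for finite abelian groups (helper1's shared library)
-/

set_option autoImplicit false

namespace Cfsg.Agent.Helper1

/-- A finite commutative group in which, for every prime `r`, all elements of order `r` lie in one
cyclic subgroup, is cyclic. -/
theorem isCyclic_of_comm_of_unique {T : Type*} [Group T] [Finite T]
    (hc : ∀ a b : T, a * b = b * a)
    (h : ∀ r : ℕ, r.Prime → ∀ x y : T, orderOf x = r → orderOf y = r →
      y ∈ Subgroup.zpowers x) : IsCyclic T := by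
  letI : CommGroup T := { (inferInstance : Group T) with mul_comm := hc }
  apply IsCyclic.of_exponent_eq_card
  apply Nat.dvd_antisymm Group.exponent_dvd_nat_card
  have hexp0 : Monoid.exponent T ≠ 0 := Monoid.exponent_ne_zero_of_finite
  rw [← Nat.factorization_le_iff_dvd Nat.card_pos.ne' hexp0]
  intro r
  by_cases hr : r.Prime
  · haveI : Fact r.Prime := ⟨hr⟩
    let S : Sylow r T := default
    have hU : Cfsg.Agent.Helper16.UniqueOrderP r S := by
      intro x y hx hy
      have h1 := h r hr (x : T) (y : T) (by rw [Subgroup.orderOf_coe, hx])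
        (by rw [Subgroup.orderOf_coe, hy])
      obtain ⟨k, hk⟩ := Subgroup.mem_zpowers_iff.mp h1
      rw [Subgroup.mem_zpowers_iff]
      exact ⟨k, Subtype.ext (by simpa using hk)⟩
    have hScyc : IsCyclic S :=
      Cfsg.Agent.Helper16.isCyclic_of_comm_of_uniqueOrderP S.2 (fun a b => mul_comm a b) hU
    obtain ⟨g, hg⟩ := hScyc.exists_generator
    have h1 : orderOf g = Nat.card S := orderOf_eq_card_of_forall_mem_zpowers hg
    have h2 : orderOf (g : T) = r ^ (Nat.card T).factorization r := by
      rw [Subgroup.orderOf_coe, h1, S.card_eq_multiplicity]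
    have hdvd : r ^ (Nat.card T).factorization r ∣ Monoid.exponent T := by
      rw [← h2]; exact Monoid.order_dvd_exponent (g : T)
    exact (hr.pow_dvd_iff_le_factorization hexp0).mp hdvd
  · simp [Nat.factorization_eq_zero_of_not_prime _ hr]

end Cfsg.Agent.Helper1
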