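import Mathlib
import Cfsg.Agent.Lib.Helper11.D4IDefs

/-!
# S2183, piece FIELDC (helper1): additive Hilbert 90 for the cubic extension, explicit formula

`Tr θ = 1`, `w = y / (a a'')`, `z = w θ'' + (w + w'') θ'`, `s = a z`:  `s a'' + s'' a = a a'' (z + z'') = a a'' w = y`,
using `N(a) Tr w = Tr (a y'') = 0`.
-/

set_option autoImplicit false
set_option linter.unusedSectionVars false
set_option linter.unusedSimpArgs false
set_option linter.unusedVariables false

namespace Cfsg.Agent.Helper11.D4I

open Cfsg Cfsg.Lie Cfsg.Agent.Lead.Chev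

variable {K : Type*} [Field K] [Fintype K] [CharP K 2] {q : ℕ} (hK : Fintype.card K = q ^ 3)
  (f : K ≃+* K) (hf : ∀ t, f t = t ^ q)
include hK hf

/-- PIECE FIELDC (additive Hilbert 90, explicit: with `Tr θ = 1`, `w = y / (a * f (f a))`,
`z = w * f (f θ) + (w + f (f w)) * f θ`, take `s = a * z`) -/
theorem hilbert90 (hθ : ∃ θ : K, Tr f θ = 1) (a y : K) (ha : a ≠ 0) (hy : Tr f (a * f (f y)) = 0) :
    ∃ s : K, s * f (f a) + f (f s) * a = y := by
  have h3 : ∀ t : K, f (f (f t)) = t := by
    intro t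
    rw [hf (f (f t)), hf (f t), hf t, ← pow_mul, ← pow_mul]
    have : q * (q * q) = Fintype.card K := by rw [hK]; ring
    rw [this, FiniteField.pow_card]
  obtain ⟨θ, hθ1⟩ := hθ
  have hfa : f a ≠ 0 := fun h => ha (by simpa using h)
  have hffa : f (f a) ≠ 0 := fun h => hfa (by simpa using h)
  have hb : a * f (f a) ≠ 0 := mul_ne_zero ha hffa
  obtain ⟨w, rfl⟩ : ∃ w, y = w * (a * f (f a)) :=
    ⟨y / (a * f (f a)), (div_mul_cancel₀ y hb).symm⟩
  -- `Tr w = 0`
  have hN : a * f a * f (f a) ≠ 0 := mul_ne_zero (mul_ne_zero ha hfa) hffa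
  have htr : w + f w + f (f w) = 0 := by
    have h1 : (a * f a * f (f a)) * (w + f w + f (f w)) = 0 := by
      have hy' := hy
      simp only [Tr, map_add, map_mul, h3] at hy'
      linear_combination hy'
    rcases mul_eq_zero.1 h1 with h | h
    · exact absurd h hN
    · exact h
  have h2 : (2 : K) = 0 := CharP.ofNat_eq_zero K 2
  have hθ1' : θ + f θ + f (f θ) = 1 := hθ1
  have hfw : f w = w + f (f w) := by
    linear_combination htr - (w + f (f w)) * h2
  have key : w * f (f θ) + (w + f (f w)) * f θ + (f (f w) * f θ + (f (f w) + f w) * θ) = w := by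
    linear_combination θ * hfw + w * hθ1' + (f (f w) * f θ + f (f w) * θ) * h2
  refine ⟨a * (w * f (f θ) + (w + f (f w)) * f θ), ?_⟩
  simp only [map_add, map_mul, h3]
  linear_combination (a * f (f a)) * key

end Cfsg.Agent.Helper11.D4I
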