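import Mathlib
import Cfsg.Agent.Lib.Helper11.D4IMem

/-!
# S2183, piece REDI1 (helper1): involutions `NFtw(0,0,0,t4,u5,u6)` of `³D₄(q)`, `q` even

`t4 ≠ 0`: `x_a(s)` with `Tr(s t4'') = u5` kills `u5`, `x_{a+b}(s)` with `Tr(s t4'') = u6` kills `u6`: `x2ab f t4`.
`t4 = 0`, `u5 ≠ 0`: `x_b(u6 / u5)` kills `u6`: `x3ab u5`.  `t4 = u5 = 0`: `x3a2b u6`.
-/

set_option autoImplicit false
set_option linter.unusedSectionVars false
set_option linter.unusedSimpArgs false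
set_option linter.unusedVariables false

namespace Cfsg.Agent.Helper11.D4I

open Cfsg Cfsg.Lie Cfsg.Agent.Lead.Chev Cfsg.Agent.Lead.Tw

variable {K : Type*} [Field K] [Fintype K] [CharP K 2] {q : ℕ} (hK : Fintype.card K = q ^ 3)
  (f : K ≃+* K) (hf : ∀ t, f t = t ^ q)
include hK hf

/-- PIECE REDI1 -/
theorem red_I1 (hFF : FieldFacts f) (t4 u5 u6 : K) (h5 : f u5 = u5) (h6 : f u6 = u6)
    (hne : NFtw f 0 0 0 t4 u5 u6 ≠ 1) :
    (∃ t : K, t ≠ 0 ∧ CJ q (NFtw f 0 0 0 t4 u5 u6) (x2ab f t)) ∨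
    (∃ u : K, u ≠ 0 ∧ f u = u ∧
      (CJ q (NFtw f 0 0 0 t4 u5 u6) (x3ab u) ∨ CJ q (NFtw f 0 0 0 t4 u5 u6) (x3a2b u))) := by
  have h3 := hf3 hK f hf
  have h0 : f (0 : K) = 0 := map_zero f
  have hTr0 : Tr f (0 : K) = 0 := by simp [Tr]
  have hNm0 : Nm f (0 : K) = 0 := by simp [Nm]
  by_cases ht4 : t4 = 0
  · subst ht4
    by_cases hu5 : u5 = 0
    · subst hu5
      right
      refine ⟨u6, ?_, h6, Or.inr (CJ.of_eq ?_)⟩
      · rintro rfl
        exact hne (NFtw_zero f)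
      · simp only [NFtw, xa, xb, xab, x2ab, x3ab, x3a2b, map_zero, X_zero, one_mul, mul_one]
    · right
      refine ⟨u5, hu5, h5, Or.inl ?_⟩
      have hc : f (u6 / u5) = u6 / u5 := by rw [map_div₀, h6, h5]
      have hdiv : u6 / u5 * u5 = u6 := div_mul_cancel₀ u6 hu5
      have k := CJ_xb hK f hf (u6 / u5) hc (NFtw f 0 0 0 0 u5 u6)
      have e : xb (u6 / u5) * NFtw f 0 0 0 0 u5 u6 * xb (u6 / u5) = NFtw f 0 0 0 0 u5 0 := by
        rw [conj_b f h3 (u6 / u5) 0 0 0 0 u5 u6 hc h0 h5 h6]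
        refine NFtw_congr f rfl rfl ?_ ?_ ?_ ?_
        · simp
        · simp
        · simp [hNm0]
        · simp only [hNm0, map_zero, mul_zero, zero_mul, hTr0, add_zero, hdiv]
          exact CharTwo.add_self_eq_zero u6
      rw [e] at k
      have e3 : NFtw f 0 0 0 0 u5 0 = x3ab u5 := by
        simp only [NFtw, xa, xb, xab, x2ab, x3ab, x3a2b, map_zero, X_zero, one_mul, mul_one]
      rw [e3] at k
      exact k
  · left
    refine ⟨t4, ht4, ?_⟩
    have hfft4 : f (f t4) ≠ 0 := by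
      intro h
      apply ht4
      have h' := congrArg f h
      rw [h3, map_zero] at h'
      exact h'
    obtain ⟨s, hs⟩ := hFF.tr_surj (f (f t4)) u5 hfft4 h5
    have k1 := CJ_xa hK f hf s (NFtw f 0 0 0 t4 u5 u6)
    have e1 : xa f s * NFtw f 0 0 0 t4 u5 u6 * xa f s = NFtw f 0 0 0 t4 0 u6 := by
      rw [conj_a f h3 s 0 0 0 t4 u5 u6 trivial h0 h5 h6]
      refine NFtw_congr f rfl rfl ?_ ?_ ?_ ?_
      · simp
      · simp
      · rw [hs]
        simp only [map_zero, mul_zero, zero_mul, hTr0, add_zero]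
        exact CharTwo.add_self_eq_zero u5
      · simp only [map_zero, mul_zero, zero_mul, hTr0, add_zero, ne_eq, OfNat.ofNat_ne_zero,
          not_false_eq_true, zero_pow]
    rw [e1] at k1
    obtain ⟨s2, hs2⟩ := hFF.tr_surj (f (f t4)) u6 hfft4 h6
    have k2 := CJ_xab hK f hf s2 (NFtw f 0 0 0 t4 0 u6)
    have e2 : xab f s2 * NFtw f 0 0 0 t4 0 u6 * xab f s2 = NFtw f 0 0 0 t4 0 0 := by
      rw [conj_ab f h3 s2 0 0 0 t4 0 u6 trivial h0 h0 h6]
      refine NFtw_congr f rfl rfl rfl ?_ ?_ ?_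
      · simp
      · simp only [map_zero, mul_zero, zero_mul, hTr0, add_zero]
      · rw [hs2]
        simp only [map_zero, mul_zero, zero_mul, hTr0, add_zero]
        exact CharTwo.add_self_eq_zero u6
    rw [e2] at k2
    have e3 : NFtw f 0 0 0 t4 0 0 = x2ab f t4 := by
      simp only [NFtw, xa, xb, xab, x2ab, x3ab, x3a2b, map_zero, X_zero, one_mul, mul_one]
    rw [e3] at k2
    exact k1.trans k2

end Cfsg.Agent.Helper11.D4I
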