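import Mathlib
import Cfsg.Agent.Lib.Helper11.D4TDefs

/-!
# S2376 piece CHIB4 (helper1): the characters of `T(L)` (type `D₄`) are determined by the values at the
fundamental roots `18, 14, 13, 12` (clone of my F4TCHIB)
-/

set_option autoImplicit false
set_option linter.unusedSectionVars false
set_option linter.unusedVariables false

namespace Cfsg.Agent.Helper11.D4T

open Cfsg Cfsg.Lie Cfsg.Agent.Lead.Chev Cfsg.Agent.Lead.Tw

section L

variable {L : Type*} [Field L]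

/-- the character of `D₄` in terms of the four coordinates -/
theorem d4tchib_chi (c : ℕ → L) (v : ℕ) :
    chi chevD4 c v = c 0 ^ chevD4.cartan 0 v * c 1 ^ chevD4.cartan 1 v * c 2 ^ chevD4.cartan 2 v *
      c 3 ^ chevD4.cartan 3 v := by
  unfold chi
  have : chevD4.rank = 4 := rfl
  rw [this]
  simp [List.range_succ, mul_assoc]

theorem d4tchib_cartan (i : ℕ) (hi : i < 4) (v : ℕ) (hv : v < 24) :
    chevD4.cartan i v = chevD4.cartan i 18 * rcv v 0 + chevD4.cartan i 14 * rcv v 1 +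
      chevD4.cartan i 13 * rcv v 2 + chevD4.cartan i 12 * rcv v 3 := by
  interval_cases i <;> interval_cases v <;> decide

theorem d4tchib_ev_Tmat (h : GL chevD4.Idx L) (c : ℕ → L)
    (e : (h : Matrix chevD4.Idx chevD4.Idx L) = Tmat chevD4 c) (v : ℕ) (hv : v < 24) :
    ev h v = chi chevD4 c v := by
  unfold ev
  have hv' : v < chevD4.nroots := hv
  rw [dif_pos hv', e]
  unfold Tmat
  rw [Matrix.diagonal_apply_eq]
  rfl

theorem d4tchib_chi_rc (c : ℕ → L) (hc : ∀ i < 4, c i ≠ 0) (v : ℕ) (hv : v < 24) :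
    chi chevD4 c v = chi chevD4 c 18 ^ rcv v 0 * chi chevD4 c 14 ^ rcv v 1 *
      chi chevD4 c 13 ^ rcv v 2 * chi chevD4 c 12 ^ rcv v 3 := by
  have h0 : c 0 ≠ 0 := hc 0 (by norm_num)
  have h1 : c 1 ≠ 0 := hc 1 (by norm_num)
  have h2 : c 2 ≠ 0 := hc 2 (by norm_num)
  have h3 : c 3 ≠ 0 := hc 3 (by norm_num)
  rw [d4tchib_chi c v, d4tchib_chi c 18, d4tchib_chi c 14, d4tchib_chi c 13, d4tchib_chi c 12,
    d4tchib_cartan 0 (by norm_num) v hv, d4tchib_cartan 1 (by norm_num) v hv,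
    d4tchib_cartan 2 (by norm_num) v hv, d4tchib_cartan 3 (by norm_num) v hv]
  simp only [zpow_add₀ h0, zpow_add₀ h1, zpow_add₀ h2, zpow_add₀ h3, zpow_mul, mul_zpow]
  ring

theorem ev_rc (h : GL chevD4.Idx L) (hh : h ∈ chevD4.diagonalSubgroup L) (v : ℕ) (hv : v < 24) :
    ev h v = ev h 18 ^ rcv v 0 * ev h 14 ^ rcv v 1 * ev h 13 ^ rcv v 2 * ev h 12 ^ rcv v 3 := by
  obtain ⟨c, hc, e⟩ := exists_Tmat_of_mem chevD4 (d4F L).hall h hh
  rw [d4tchib_ev_Tmat h c e v hv, d4tchib_ev_Tmat h c e 18 (by norm_num),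
    d4tchib_ev_Tmat h c e 14 (by norm_num), d4tchib_ev_Tmat h c e 13 (by norm_num),
    d4tchib_ev_Tmat h c e 12 (by norm_num)]
  exact d4tchib_chi_rc c hc v hv

theorem eq_one_of_ev (h : GL chevD4.Idx L) (hh : h ∈ chevD4.diagonalSubgroup L) (h18 : ev h 18 = 1)
    (h14 : ev h 14 = 1) (h13 : ev h 13 = 1) (h12 : ev h 12 = 1) : h = 1 := by
  obtain ⟨c, hc, e⟩ := exists_Tmat_of_mem chevD4 (d4F L).hall h hh
  apply Units.ext
  rw [e, Units.val_one, ← Matrix.diagonal_one]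
  unfold Tmat
  congr 1
  funext idx
  rcases idx with i | v
  · rfl
  · have hv : v.val < 24 := v.2
    have h4 := ev_rc h hh v.val hv
    rw [h18, h14, h13, h12, one_zpow, one_zpow, one_zpow, one_zpow, one_mul, one_mul, one_mul,
      d4tchib_ev_Tmat h c e v.val hv] at h4
    simpa using h4

end L

end Cfsg.Agent.Helper11.D4T
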