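import Mathlib
import Cfsg.Agent.Lib.Helper11.D4TDefs
import Cfsg.Agent.Lib.Helper6.RootCent

/-!
# S2376 piece CHIC (helper1): conjugation of the torus of `D₄(L)` by `n_w` (clone of helper28's G2TCHIC /
helper13's F4TCHIC).  Self-contained: carries its own copy `d4tchic_ev_conj` of the CHIA fact
`h x_v(s) h⁻¹ = x_v(χ_h(v) s)`.

`ev (n_w h n_w⁻¹) (w v) = ev h v`.
-/

set_option autoImplicit false
set_option linter.unusedSectionVars false
set_option linter.unusedVariables false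

namespace Cfsg.Agent.Helper11.D4T

open Cfsg Cfsg.Lie Cfsg.Agent.Lead.Chev Cfsg.Agent.Lead.Tw

variable {L : Type*} [Field L]

theorem d4tchic_ev_eq (h : GL chevD4.Idx L) (c : ℕ → L)
    (hh : (h : Matrix chevD4.Idx chevD4.Idx L) = Tmat chevD4 c) (v : ℕ) (hv : v < chevD4.nroots) :
    ev h v = chi chevD4 c v := by
  unfold ev
  rw [dif_pos hv, hh]
  unfold Tmat
  rw [Matrix.diagonal_apply_eq]
  rfl

/-- `h x_v(s) h⁻¹ = x_v(χ_h(v) s)` (own copy of the CHIA fact) -/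
theorem d4tchic_ev_conj (h : GL chevD4.Idx L) (hh : h ∈ chevD4.diagonalSubgroup L) (v : ℕ) (hv : v < 24)
    (s : L) :
    h * xGL chevD4 (d4F L).xadd v s * h⁻¹ = xGL chevD4 (d4F L).xadd v (ev h v * s) := by
  obtain ⟨c, hc, hhc⟩ := exists_Tmat_of_mem chevD4 (d4F L).hall h hh
  have hv' : v < chevD4.nroots := hv
  rw [d4tchic_ev_eq _ _ hhc v hv']
  rw [mul_inv_eq_iff_eq_mul]
  apply Units.ext
  rw [Units.val_mul, Units.val_mul, hhc, xGL_val, xGL_val]
  exact Tmat_conj chevD4 (d4F L).hconj v hv' c hc s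

/-- `s ↦ x_r(s)` is injective for every root `r` of `D₄` -/
theorem d4tchic_xGL_inj (r : ℕ) (hr : r < chevD4.nroots) (a b : L)
    (e : xGL chevD4 (d4F L).xadd r a = xGL chevD4 (d4F L).xadd r b) : a = b := by
  rcases (d4F L).sign.pos_or_neg r hr with hp | hn
  · exact Cfsg.Agent.Helper6.RootCent.xGL_pos_inj (d4F L) r hp a b e
  · have hp := (d4F L).sign.pos_of_neg r hn
    have hnn := (d4F L).sign.neg_neg r hn.1
    have h1 : xGL chevD4 (d4F L).xadd (chevD4.neg (chevD4.neg r)) (a - b) ∈ chevD4.borelSubgroup L := by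
      rw [hnn, sub_eq_add_neg, ← xGL_mul, ← xGL_inv, e, mul_inv_cancel]
      exact one_mem _
    exact sub_eq_zero.1 ((d4F L).eq_zero_of_xGL_neg_mem_borel _ hp _ h1)

theorem nconj_mem (h : GL chevD4.Idx L) (hh : h ∈ chevD4.diagonalSubgroup L) (w : List ℕ)
    (hw : ∀ i ∈ w, i < 4) :
    nWordGL chevD4 (d4F L).xadd w * h * (nWordGL chevD4 (d4F L).xadd w)⁻¹ ∈ chevD4.diagonalSubgroup L := by
  have hw' : ∀ i ∈ w, i < chevD4.rank := hw
  exact nWordGL_conj_mem_diagonal chevD4 (d4F L).xadd (etaOf chevD4) (d4F L).nsimple w hw' h hh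

theorem ev_nconj (h : GL chevD4.Idx L) (hh : h ∈ chevD4.diagonalSubgroup L) (w : List ℕ)
    (hw : ∀ i ∈ w, i < 4) (v : ℕ) (hv : v < 24) :
    ev (nWordGL chevD4 (d4F L).xadd w * h * (nWordGL chevD4 (d4F L).xadd w)⁻¹) (reflWord chevD4 w v) =
      ev h v := by
  set n := nWordGL chevD4 (d4F L).xadd w with hn
  have hw' : ∀ i ∈ w, i < chevD4.rank := hw
  have hv' : v < chevD4.nroots := hv
  have hmem : n * h * n⁻¹ ∈ chevD4.diagonalSubgroup L :=
    nWordGL_conj_mem_diagonal chevD4 (d4F L).xadd (etaOf chevD4) (d4F L).nsimple w hw' h hh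
  have hlt : reflWord chevD4 w v < chevD4.nroots :=
    reflWord_lt chevD4 (etaOf chevD4) (fun i hi => ((d4F L).nsimple i hi).facts) w hw' v hv'
  set σ : L := ((signWord chevD4 (etaOf chevD4) w v : ℤ) : L) with hσ
  have hσ2 : σ * σ = 1 := by
    rcases signWord_sq chevD4 (etaOf chevD4) w
      (fun j hj s => ((d4F L).nsimple j (hw' j hj)).sign s) v with h1 | h1 <;>
      rw [hσ, h1] <;> simp
  have hc : ∀ s : L, n * xGL chevD4 (d4F L).xadd v s * n⁻¹ =
      xGL chevD4 (d4F L).xadd (reflWord chevD4 w v) (σ * s) := fun s =>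
    nWordGL_conj chevD4 (d4F L).xadd (etaOf chevD4) (d4F L).nsimple w hw' v hv' s
  -- compute `(n h n⁻¹) x_{wv}(σ) (n h n⁻¹)⁻¹` in two ways
  have e1 : (n * h * n⁻¹) * xGL chevD4 (d4F L).xadd (reflWord chevD4 w v) (σ * 1) * (n * h * n⁻¹)⁻¹ =
      xGL chevD4 (d4F L).xadd (reflWord chevD4 w v) (σ * (ev h v * 1)) := by
    rw [← hc 1, ← hc (ev h v * 1), ← d4tchic_ev_conj h hh v hv 1]
    group
  have e2 := d4tchic_ev_conj (n * h * n⁻¹) hmem (reflWord chevD4 w v) hlt (σ * 1)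
  rw [e1] at e2
  have e3 := d4tchic_xGL_inj _ hlt _ _ e2
  have e4 : σ * (σ * (ev h v * 1)) = σ * (ev (n * h * n⁻¹) (reflWord chevD4 w v) * (σ * 1)) := by
    rw [e3]
  have e5 : σ * (σ * (ev h v * 1)) = ev h v := by
    rw [← mul_assoc, hσ2, one_mul, mul_one]
  have e6 : σ * (ev (n * h * n⁻¹) (reflWord chevD4 w v) * (σ * 1)) =
      ev (n * h * n⁻¹) (reflWord chevD4 w v) := by
    rw [mul_one, mul_comm (ev _ _) σ, ← mul_assoc, hσ2, one_mul]
  rw [e5, e6] at e4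
  exact e4.symm

end Cfsg.Agent.Helper11.D4T
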