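import Mathlib
import Cfsg.Prelude.Def_TwoFusion
import Cfsg.Prelude.Def_ConjugacyFunctors
import Cfsg.Agent.Lib.Helper10.WPGeneric
import Cfsg.Agent.Lib.Helper10.SecFusion
import Cfsg.Agent.Lib.Helper10.GTSec
import Cfsg.Agent.Lib.Helper19.PGroupBasic

/-!
# Conjugacy functors attached to a strongly closed subgroup

For `D` strongly closed in a Sylow `p`-subgroup `S` of `G` and a characteristic functor `cf`
(helper10's `GTS.CharFun0`), the assignment `R ↦ cf.W G (R ∩ D^G)` is a conjugacy functor on `G`.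
This file sets up this functor, transfer lemmas for strongly closed subgroups, a tower lemma and a
lifting lemma modulo normal `p'`-subgroups for "`N_G(V)` controls strong fusion in `S`".
-/

set_option autoImplicit false

namespace Cfsg.Agent.Helper1.DF

open Cfsg Subgroup
open Cfsg.Agent.Helper10 (rcs rcg rcs_congr isWellPlaced_next lt_inf_normalizer_of_lt
  cf_normalizer_le card_lt_card_of_lt mem_rcs mem_rcg coe_rcg)
open Cfsg.Agent.Helper10.GTS (CharFun0)

universe u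

section basic

variable {G : Type*} [Group G]

/-- the union of the conjugates of `D` -/
def conjSet (D : Subgroup G) : Set G := {x | ∃ g : G, ∃ d ∈ D, x = g * d * g⁻¹}

theorem mem_conjSet_of_mem {D : Subgroup G} {d : G} (hd : d ∈ D) : d ∈ conjSet D :=
  ⟨1, d, hd, by simp⟩

theorem conj_mem_conjSet {D : Subgroup G} {x : G} (hx : x ∈ conjSet D) (h : G) :
    h * x * h⁻¹ ∈ conjSet D := by
  obtain ⟨g, d, hd, rfl⟩ := hx
  exact ⟨h * g, d, hd, by group⟩

/-- the part of `R` in the conjugates of `D` -/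
def dpart (D R : Subgroup G) : Subgroup G := closure ((R : Set G) ∩ conjSet D)

theorem dpart_le (D R : Subgroup G) : dpart D R ≤ R :=
  (closure_le R).2 Set.inter_subset_left

theorem dpart_eq_inf {D S R : Subgroup G} (hD : IsStronglyClosed D S) (hR : R ≤ S) :
    dpart D R = D ⊓ R := by
  unfold dpart
  have : (R : Set G) ∩ conjSet D = ((D ⊓ R : Subgroup G) : Set G) := by
    ext x
    constructor
    · rintro ⟨hxR, g, d, hd, rfl⟩
      exact ⟨hD.2 d hd g (hR hxR), hxR⟩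
    · rintro ⟨hxD, hxR⟩
      exact ⟨hxR, mem_conjSet_of_mem hxD⟩
  rw [this, closure_eq]

theorem dpart_map_conj (D R : Subgroup G) (g : G) :
    dpart D (R.map (MulAut.conj g).toMonoidHom) =
      (dpart D R).map (MulAut.conj g).toMonoidHom := by
  unfold dpart
  rw [MonoidHom.map_closure]
  congr 1
  ext x
  constructor
  · rintro ⟨⟨r, hr, rfl⟩, hx⟩
    refine ⟨r, ⟨hr, ?_⟩, rfl⟩
    have h1 := conj_mem_conjSet hx g⁻¹
    have e : g⁻¹ * ((MulAut.conj g).toMonoidHom r) * g⁻¹⁻¹ = r := by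
      show g⁻¹ * (g * r * g⁻¹) * g⁻¹⁻¹ = r
      group
    rwa [e] at h1
  · rintro ⟨r, ⟨hr, hrD⟩, rfl⟩
    refine ⟨⟨r, hr, rfl⟩, ?_⟩
    have := conj_mem_conjSet hrD g
    simpa [MulAut.conj_apply] using this

theorem le_normalizer_of_sc {D S : Subgroup G} (hD : IsStronglyClosed D S) :
    S ≤ normalizer (D : Set G) := by
  intro s hs
  rw [mem_normalizer_iff]
  intro h
  constructor
  · intro hh
    exact hD.2 h hh s (S.mul_mem (S.mul_mem hs (hD.1 hh)) (S.inv_mem hs))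
  · intro hh
    have h1 := hD.2 _ hh s⁻¹ (S.mul_mem (S.mul_mem (S.inv_mem hs) (hD.1 hh))
      (S.inv_mem (S.inv_mem hs)))
    have e : s⁻¹ * (s * h * s⁻¹) * s⁻¹⁻¹ = h := by group
    rwa [e] at h1

/-- a nontrivial strongly closed subgroup of a finite `p`-group `S` meets `Z(S)` -/
theorem sc_inf_center_ne_bot [Finite G] {p : ℕ} [Fact p.Prime] {D S : Subgroup G}
    (hS : IsPGroup p S) (hD : IsStronglyClosed D S) (hD1 : D ≠ ⊥) :
    D ⊓ (S ⊓ centralizer (S : Set G)) ≠ ⊥ := by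
  have hDn : (D.subgroupOf S).Normal :=
    (Subgroup.normal_subgroupOf_iff_le_normalizer hD.1).2 (le_normalizer_of_sc hD)
  have hne : D.subgroupOf S ≠ ⊥ := by
    intro h
    apply hD1
    rw [eq_bot_iff]
    intro d hd
    have : (⟨d, hD.1 hd⟩ : S) ∈ D.subgroupOf S := Subgroup.mem_subgroupOf.2 hd
    rw [h, Subgroup.mem_bot] at this
    rw [Subgroup.mem_bot]
    exact congrArg Subtype.val this
  have h1 := Cfsg.Agent.Helper19.normal_inf_center_ne_bot hS (D.subgroupOf S) hne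
  intro h0
  apply h1
  rw [eq_bot_iff]
  rintro ⟨z, hzS⟩ ⟨hzD, hzZ⟩
  have hz : z ∈ D ⊓ (S ⊓ centralizer (S : Set G)) := by
    refine ⟨Subgroup.mem_subgroupOf.1 hzD, hzS, ?_⟩
    show z ∈ centralizer (S : Set G)
    rw [mem_centralizer_iff]
    intro s hs
    have := Subgroup.mem_center_iff.1 hzZ ⟨s, hs⟩
    exact congrArg Subtype.val this
  rw [h0, Subgroup.mem_bot] at hz
  rw [Subgroup.mem_bot]
  exact Subtype.ext hz

end basic

section functor

variable {G : Type u} [Group G] {p : ℕ}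

open Classical in
/-- the conjugacy functor `R ↦ cf.W (R ∩ D^G)` -/
noncomputable def WD (cf : CharFun0.{u} p) (D : Subgroup G) (R : Subgroup G) : Subgroup G :=
  if dpart D R = ⊥ then R else cf.W G (dpart D R)

theorem isConjugacyFunctor_WD [Finite G] (cf : CharFun0.{u} p) (D : Subgroup G) :
    IsConjugacyFunctor p (WD cf D) := by
  intro R hR
  refine ⟨?_, ?_, ?_⟩
  · unfold WD
    split_ifs with h
    · exact le_rfl
    · exact (cf.le_self G _).trans (dpart_le D R)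
  · intro hne
    unfold WD
    split_ifs with h
    · exact hne
    · exact cf.ne_bot G _ (hR.to_le (dpart_le D R)) h
  · intro g
    unfold WD
    rw [dpart_map_conj]
    by_cases h : dpart D R = ⊥
    · rw [if_pos h, if_pos (by rw [h, Subgroup.map_bot])]
    · have h' : (dpart D R).map (MulAut.conj g).toMonoidHom ≠ ⊥ := by
        rw [Ne, Subgroup.map_eq_bot_iff_of_injective _ (MulAut.conj g).injective]
        exact h
      rw [if_neg h, if_neg h']
      exact cf.map G G (MulAut.conj g).toMonoidHom _ (hR.to_le (dpart_le D R))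
        (MulAut.conj g).injective.injOn

theorem WD_eq (cf : CharFun0.{u} p) {D S R : Subgroup G} (hD : IsStronglyClosed D S)
    (hR : R ≤ S) (hne : D ⊓ R ≠ ⊥) : WD cf D R = cf.W G (D ⊓ R) := by
  unfold WD
  rw [dpart_eq_inf hD hR, if_neg hne]

end functor

section tower

variable {G : Type*} [Group G] [Finite G] {p : ℕ} [Fact p.Prime] {S : Subgroup G}
  (hS : IsPGroup p S) {W : Subgroup G → Subgroup G} (hW : IsConjugacyFunctor p W)
  (hloc : ∀ T : Subgroup G, IsWellPlaced p W S T → T ≠ ⊥ →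
    ∀ (B : Set G) (x : G), x ∈ normalizer (T : Set G) →
      B ⊆ ((S ⊓ normalizer (T : Set G) : Subgroup G) : Set G) →
      rcs x B ⊆ ((S ⊓ normalizer (T : Set G) : Subgroup G) : Set G) →
      ∃ y ∈ normalizer (T : Set G) ⊓ normalizer ((W (S ⊓ normalizer (T : Set G)) : Subgroup G) : Set G),
        ∀ b ∈ B, y⁻¹ * b * y = x⁻¹ * b * x)

include hS hW hloc in
/-- the tower argument, with local control at all nontrivial well placed subgroups -/
theorem tower' (n : ℕ) : ∀ T : Subgroup G, IsWellPlaced p W S T → T ≠ ⊥ →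
    Nat.card S - Nat.card ↥(S ⊓ normalizer (T : Set G)) ≤ n →
    ∀ (B : Set G) (x : G), x ∈ normalizer (T : Set G) →
      B ⊆ ((S ⊓ normalizer (T : Set G) : Subgroup G) : Set G) →
      rcs x B ⊆ ((S ⊓ normalizer (T : Set G) : Subgroup G) : Set G) →
      ∃ y ∈ normalizer ((W S : Subgroup G) : Set G), ∀ b ∈ B, y⁻¹ * b * y = x⁻¹ * b * x := by
  induction n with
  | zero =>
    intro T hT hT1 hcard B x hx hB hxB
    set R := S ⊓ normalizer (T : Set G) with hR
    have hRS : R = S := by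
      apply Subgroup.eq_of_le_of_card_ge inf_le_left
      have h0 : Nat.card S - Nat.card R ≤ 0 := hcard
      show Nat.card S ≤ Nat.card R
      omega
    obtain ⟨y, hy, hyB⟩ := hloc T hT hT1 B x hx hB hxB
    rw [← hR, hRS] at hy
    exact ⟨y, hy.2, hyB⟩
  | succ n ih =>
    intro T hT hT1 hcard B x hx hB hxB
    set R := S ⊓ normalizer (T : Set G) with hR
    have hRp : IsPGroup p R := hS.to_le inf_le_left
    obtain ⟨y₁, hy₁, hy₁B⟩ := hloc T hT hT1 B x hx hB hxB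
    rw [← hR] at hy₁
    by_cases hRS : R = S
    · rw [hRS] at hy₁
      exact ⟨y₁, hy₁.2, hy₁B⟩
    have hlt : R < S := lt_of_le_of_ne inf_le_left hRS
    haveI hnil : Group.IsNilpotent S := hS.isNilpotent
    have h1 := lt_inf_normalizer_of_lt S R hlt
    set T₁ := W R with hT₁
    have hT₁wp : IsWellPlaced p W S T₁ := isWellPlaced_next hW hS hT
    have hTR : T ≤ R := le_inf hT.1 Subgroup.le_normalizer
    have hR1 : R ≠ ⊥ := fun h => hT1 (eq_bot_iff.mpr (h ▸ hTR))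
    have hT₁1 : T₁ ≠ ⊥ := (hW R hRp).2.1 hR1
    set R₁ := S ⊓ normalizer (T₁ : Set G) with hR₁
    have h2 : S ⊓ normalizer (R : Set G) ≤ R₁ := inf_le_inf_left S (cf_normalizer_le hW hRp)
    have hRR₁ : R < R₁ := lt_of_lt_of_le h1 h2
    have hcard1 : Nat.card S - Nat.card R₁ ≤ n := by
      have := card_lt_card_of_lt hRR₁
      have h3 : Nat.card R₁ ≤ Nat.card S := Subgroup.card_le_of_le inf_le_left
      have h0 : Nat.card S - Nat.card R ≤ n + 1 := hcard
      omega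
    have hrc : rcs y₁ B = rcs x B := rcs_congr hy₁B
    obtain ⟨y, hy, hyB⟩ := ih T₁ hT₁wp hT₁1 hcard1 B y₁ hy₁.2
      (fun b hb => hRR₁.le (hB hb))
      (by rw [hrc]; exact fun b hb => hRR₁.le (hxB hb))
    exact ⟨y, hy, fun b hb => (hyB b hb).trans (hy₁B b hb)⟩

end tower

section control

variable {G : Type*} [Group G]

/-- `M ∩ N_G(V)` controls strong `M`-fusion in `S` (right conjugation `a ↦ g⁻¹ a g`) -/
def CtlIn (M V S : Subgroup G) : Prop :=
  ∀ (A : Set G) (g : G), g ∈ M → A ⊆ (S : Set G) → rcs g A ⊆ (S : Set G) →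
    ∃ n ∈ M ⊓ normalizer (V : Set G), ∀ a ∈ A, n⁻¹ * a * n = g⁻¹ * a * g

theorem ctlIn_of_normal (M V S : Subgroup G) (hV : normalizer (V : Set G) = ⊤) : CtlIn M V S := by
  intro A g hg _ _
  exact ⟨g, ⟨hg, by rw [hV]; exact mem_top g⟩, fun _ _ => rfl⟩

variable [Finite G] {p : ℕ} [Fact p.Prime]

/-- lifting control of strong fusion modulo a normal `p'`-subgroup -/
theorem ctl_of_quotient_pprime (K : Subgroup G) [K.Normal] (hK : (Nat.card K).Coprime p)
    (S V : Subgroup G) (hS : IsPGroup p S) (hVS : V ≤ S) (hSV : S ≤ normalizer (V : Set G))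
    (h : CtlIn ⊤ (V.map (QuotientGroup.mk' K)) (S.map (QuotientGroup.mk' K))) : CtlIn ⊤ V S := by
  intro A g _ hA hgA
  set π := QuotientGroup.mk' K with hπ
  have hπs : Function.Surjective π := QuotientGroup.mk'_surjective K
  set B := closure A with hB
  have hBS : B ≤ S := (closure_le S).mpr hA
  have hBg : rcg g B ≤ S := Cfsg.Agent.Helper10.closure_rcg_le hgA
  have hB' : π '' (B : Set G) ⊆ ((S.map π : Subgroup (G ⧸ K)) : Set (G ⧸ K)) := by
    rintro _ ⟨b, hb, rfl⟩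
    exact ⟨b, hBS hb, rfl⟩
  have hgB' : rcs (π g) (π '' (B : Set G)) ⊆ ((S.map π : Subgroup (G ⧸ K)) : Set (G ⧸ K)) := by
    rw [← Cfsg.Agent.Helper10.image_rcs, ← coe_rcg]
    rintro _ ⟨b, hb, rfl⟩
    exact ⟨b, hBg hb, rfl⟩
  obtain ⟨nb, ⟨-, hnb⟩, hnbB⟩ := h (π '' (B : Set G)) (π g) (mem_top _) hB' hgB'
  obtain ⟨n₀, rfl⟩ := hπs nb
  have hcomapV : (V.map π).comap π = V ⊔ K := by
    rw [hπ, QuotientGroup.comap_map_mk', sup_comm]
  have hcomapS : (S.map π).comap π = S ⊔ K := by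
    rw [hπ, QuotientGroup.comap_map_mk', sup_comm]
  have hVp : IsPGroup p V := hS.to_le hVS
  have h1 : rcg n₀ V ≤ V ⊔ K := by
    intro z hz
    rw [mem_rcg] at hz
    rw [← hcomapV, mem_comap]
    have h2 : π (n₀ * z * n₀⁻¹) ∈ V.map π := mem_map_of_mem π hz
    have h3 := (mem_normalizer_iff.mp (inv_mem hnb) (π (n₀ * z * n₀⁻¹))).1 h2
    have e : (π n₀)⁻¹ * π (n₀ * z * n₀⁻¹) * (π n₀)⁻¹⁻¹ = π z := by
      simp only [map_mul, map_inv]; group
    rwa [e] at h3
  obtain ⟨y, hy, hn₁⟩ := Cfsg.Agent.Helper10.exists_mul_mem_normalizer V K hVp hK n₀ h1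
  set n₁ := n₀ * y with hn₁def
  have hπy : π y = 1 := (QuotientGroup.eq_one_iff y).mpr hy
  have hπn₁ : π n₁ = π n₀ := by rw [hn₁def, map_mul, hπy, mul_one]
  set M := normalizer (V : Set G) with hM
  set B₁ := rcg n₁ B with hB₁
  have hB₁M : B₁ ≤ M := by
    intro z hz
    rw [hB₁, mem_rcg] at hz
    have e : z = n₁⁻¹ * (n₁ * z * n₁⁻¹) * n₁ := by group
    rw [e]
    exact M.mul_mem (M.mul_mem (M.inv_mem hn₁) (hSV (hBS hz))) hn₁
  have hact : ∀ b ∈ B, π (n₁⁻¹ * b * n₁) = π (g⁻¹ * b * g) := by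
    intro b hb
    have := hnbB (π b) ⟨b, hb, rfl⟩
    simp only [map_mul, map_inv, hπn₁]
    exact this
  have hB₁SK : B₁ ≤ S ⊔ K := by
    intro z hz
    rw [hB₁, mem_rcg] at hz
    rw [← hcomapS, mem_comap]
    have h2 := hact _ hz
    have e : n₁⁻¹ * (n₁ * z * n₁⁻¹) * n₁ = z := by group
    rw [e] at h2
    rw [h2]
    refine mem_map_of_mem π (hBg ?_)
    rw [mem_rcg]
    have e2 : g * (g⁻¹ * (n₁ * z * n₁⁻¹) * g) * g⁻¹ = n₁ * z * n₁⁻¹ := by group
    rw [e2]; exact hz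
  have hB₁p : IsPGroup p B₁ := Cfsg.Agent.Helper10.isPGroup_rcg n₁ (hS.to_le hBS)
  obtain ⟨y', hy'K, hy'M, hy'B⟩ :=
    Cfsg.Agent.Helper10.exists_adjust_into S K M B₁ hS hK hSV hB₁p hB₁M hB₁SK
  have hπy' : π y' = 1 := (QuotientGroup.eq_one_iff y').mpr hy'K
  refine ⟨n₁ * y', ⟨mem_top _, M.mul_mem hn₁ hy'M⟩, ?_⟩
  intro a ha
  have haB : a ∈ B := subset_closure ha
  have h3 : (n₁ * y')⁻¹ * a * (n₁ * y') ∈ S := by
    apply hy'B
    rw [mem_rcg, hB₁, mem_rcg]
    have e : n₁ * (y' * ((n₁ * y')⁻¹ * a * (n₁ * y')) * y'⁻¹) * n₁⁻¹ = a := by group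
    rw [e]; exact haB
  have h4 : g⁻¹ * a * g ∈ S := hgA ⟨a, ha, rfl⟩
  have hinj := Cfsg.Agent.Helper10.injOn_mk_of_coprime S K hS hK
  apply hinj h3 h4
  have h5 := hact a haB
  show π ((n₁ * y')⁻¹ * a * (n₁ * y')) = π (g⁻¹ * a * g)
  rw [← h5]
  simp only [map_mul, map_inv, hπy', mul_one, inv_one]

end control

section transfer

variable {G : Type u} [Group G]

theorem sc_subgroupOf {D S : Subgroup G} (hD : IsStronglyClosed D S) (N : Subgroup G) :
    IsStronglyClosed (D.subgroupOf N) (S.subgroupOf N) := by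
  refine ⟨fun x hx => ?_, fun x hx g hg => ?_⟩
  · exact Subgroup.mem_subgroupOf.2 (hD.1 (Subgroup.mem_subgroupOf.1 hx))
  · rw [Subgroup.mem_subgroupOf] at hx hg ⊢
    exact hD.2 _ hx g hg

/-- strongly closed subgroups map to strongly closed subgroups of quotients, when conjugates
of elements of `D` in `SK` can be pushed into `S` by `K` -/
theorem sc_map_mk' {D S : Subgroup G} (hD : IsStronglyClosed D S) (K : Subgroup G) [K.Normal]
    (hadj : ∀ y : G, y ∈ conjSet D → y ∈ S ⊔ K → ∃ k ∈ K, k * y * k⁻¹ ∈ S) :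
    IsStronglyClosed (D.map (QuotientGroup.mk' K)) (S.map (QuotientGroup.mk' K)) := by
  set π := QuotientGroup.mk' K with hπ
  refine ⟨Subgroup.map_mono hD.1, ?_⟩
  rintro _ ⟨d, hd, rfl⟩ gb hgb
  obtain ⟨g, rfl⟩ := QuotientGroup.mk'_surjective K gb
  have h1 : g * d * g⁻¹ ∈ (S.map π).comap π := by
    rw [mem_comap]
    simpa only [map_mul, map_inv] using hgb
  rw [hπ, QuotientGroup.comap_map_mk', sup_comm] at h1
  obtain ⟨k, hk, hkS⟩ := hadj _ ⟨g, d, hd, rfl⟩ h1
  have h2 : (k * g) * d * (k * g)⁻¹ ∈ D := by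
    apply hD.2 d hd
    have e : (k * g) * d * (k * g)⁻¹ = k * (g * d * g⁻¹) * k⁻¹ := by group
    rw [e]; exact hkS
  refine ⟨(k * g) * d * (k * g)⁻¹, h2, ?_⟩
  have hπk : π k = 1 := (QuotientGroup.eq_one_iff k).mpr hk
  simp only [map_mul, map_inv, hπk, one_mul]
  rfl

theorem sc_map_of_le {D S : Subgroup G} (hD : IsStronglyClosed D S) (K : Subgroup G) [K.Normal]
    (hKS : K ≤ S) :
    IsStronglyClosed (D.map (QuotientGroup.mk' K)) (S.map (QuotientGroup.mk' K)) := by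
  apply sc_map_mk' hD K
  intro y _ hy
  rw [sup_eq_left.mpr hKS] at hy
  exact ⟨1, K.one_mem, by simpa using hy⟩

theorem sc_map_of_coprime [Finite G] {p : ℕ} [Fact p.Prime] {D S : Subgroup G}
    (hD : IsStronglyClosed D S) (hS : IsPGroup p S) (K : Subgroup G) [K.Normal]
    (hK : (Nat.card K).Coprime p) :
    IsStronglyClosed (D.map (QuotientGroup.mk' K)) (S.map (QuotientGroup.mk' K)) := by
  apply sc_map_mk' hD K
  rintro y ⟨g, d, hd, rfl⟩ hy
  have hzp : IsPGroup p (zpowers (g * d * g⁻¹)) := by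
    have h1 : IsPGroup p (zpowers d) := hS.to_le (zpowers_le.2 (hD.1 hd))
    have h2 : zpowers (g * d * g⁻¹) = (zpowers d).map (MulAut.conj g).toMonoidHom := by
      rw [MonoidHom.map_zpowers]; rfl
    rw [h2]
    exact h1.map _
  obtain ⟨k, hk, -, hkS⟩ := Cfsg.Agent.Helper10.exists_adjust_into S K ⊤ (zpowers (g * d * g⁻¹))
    hS hK le_top hzp le_top (zpowers_le.2 hy)
  refine ⟨k⁻¹, K.inv_mem hk, ?_⟩
  apply hkS
  rw [mem_rcg]
  have e : k * (k⁻¹ * (g * d * g⁻¹) * k⁻¹⁻¹) * k⁻¹ = g * d * g⁻¹ := by group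
  rw [e]
  exact mem_zpowers _

variable [Finite G] {p : ℕ} [Fact p.Prime]

/-- control in a subgroup `N`, viewed as a group, gives control relative to `N` -/
theorem ctlIn_of_subtype (cf : CharFun0.{u} p) (N S D : Subgroup G) (hS : IsPGroup p S)
    (hDS : D ≤ S)
    (h : CtlIn (G := ↥N) ⊤ (cf.W ↥N (D.subgroupOf N)) (S.subgroupOf N)) :
    CtlIn N (cf.W G (D ⊓ N)) (S ⊓ N) := by
  intro A g hg hA hgA
  set A' : Set ↥N := {a | (a : G) ∈ A} with hA'
  have h1 : A' ⊆ ((S.subgroupOf N : Subgroup ↥N) : Set ↥N) := by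
    intro a ha
    exact Subgroup.mem_subgroupOf.2 (hA ha).1
  have h2 : rcs (⟨g, hg⟩ : ↥N) A' ⊆ ((S.subgroupOf N : Subgroup ↥N) : Set ↥N) := by
    rintro _ ⟨a, ha, rfl⟩
    apply Subgroup.mem_subgroupOf.2
    have : g⁻¹ * (a : G) * g ∈ S ⊓ N := hgA ⟨a, ha, rfl⟩
    exact this.1
  obtain ⟨n', ⟨-, hn'⟩, hn'A⟩ := h A' ⟨g, hg⟩ (mem_top _) h1 h2
  have hDp : IsPGroup p (D.subgroupOf N) := (hS.to_le hDS).comap_subtype
  have hmap : cf.W G (D ⊓ N) = (cf.W ↥N (D.subgroupOf N)).map N.subtype := by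
    rw [← cf.map ↥N G N.subtype (D.subgroupOf N) hDp (Subgroup.subtype_injective N).injOn,
      Subgroup.subgroupOf_map_subtype]
  refine ⟨(n' : G), ⟨n'.2, ?_⟩, ?_⟩
  · rw [hmap]
    exact Subgroup.le_normalizer_map N.subtype ⟨n', hn', rfl⟩
  · intro a ha
    have haN : a ∈ N := (hA ha).2
    have := hn'A ⟨a, haN⟩ ha
    exact congrArg Subtype.val this

end transfer

end Cfsg.Agent.Helper1.DF
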