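import Mathlib
import Cfsg.Agent.Lib.Helper1.DClosed
import Cfsg.Agent.Lib.Helper9.ZJInst
import Cfsg.Agent.Lib.Helper4.ZJMap
import Cfsg.Agent.Lib.Helper4.ZJElementary
import Cfsg.Agent.S0658

/-!
# The functors `Z(J_a(·))` and `Ω₁(Z(J_e(·)))` as characteristic functors with the `ZJ`-property
for strongly closed subgroups
-/

set_option autoImplicit false

namespace Cfsg.Agent.Helper1.DF

open Cfsg Subgroup
open Cfsg.Agent.Helper10.GTS (CharFun0)
open Cfsg.Agent.Helper9.ZJ (FamOf FamA FamE famA_eq famE_eq)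

universe u

section famof

variable {X Y : Type*} [Group X] [Group Y] [Finite X] [Finite Y]

/-- largest members of a class of subgroups correspond under maps injective on `R` -/
theorem famOf_map (f : X →* Y) (R : Subgroup X) (hf : Set.InjOn f R)
    (goodX : Subgroup X → Prop) (goodY : Subgroup Y → Prop)
    (h1 : ∀ A : Subgroup X, A ≤ R → (goodX A ↔ goodY (A.map f))) :
    FamOf goodY (R.map f) = (fun A : Subgroup X => A.map f) '' FamOf goodX R := by
  ext B
  constructor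
  · rintro ⟨hBR, hBg, hmax⟩
    have hB : (B.comap f ⊓ R).map f = B := Cfsg.Agent.Helper4.ZJ.map_comap_inf f R B hBR
    refine ⟨B.comap f ⊓ R, ⟨inf_le_right, ?_, ?_⟩, hB⟩
    · rw [h1 _ inf_le_right, hB]; exact hBg
    · intro A' hA'R hA'g
      have h2 := hmax (A'.map f) (Subgroup.map_mono hA'R) ((h1 A' hA'R).1 hA'g)
      rw [Cfsg.Agent.Helper4.ZJ.card_map_of_injOn f A' (hf.mono hA'R), ← hB,
        Cfsg.Agent.Helper4.ZJ.card_map_of_injOn f _ (hf.mono inf_le_right)] at h2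
      exact h2
  · rintro ⟨A, ⟨hAR, hAg, hmax⟩, rfl⟩
    refine ⟨Subgroup.map_mono hAR, (h1 A hAR).1 hAg, ?_⟩
    intro B' hB'R hB'g
    have hB : (B'.comap f ⊓ R).map f = B' := Cfsg.Agent.Helper4.ZJ.map_comap_inf f R B' hB'R
    have h2 : goodX (B'.comap f ⊓ R) := by
      rw [h1 _ inf_le_right, hB]; exact hB'g
    have h3 := hmax _ inf_le_right h2
    rw [Cfsg.Agent.Helper4.ZJ.card_map_of_injOn f A (hf.mono hAR), ← hB,
      Cfsg.Agent.Helper4.ZJ.card_map_of_injOn f _ (hf.mono inf_le_right)]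
    exact h3

omit [Finite X] [Finite Y] in
theorem sInf_image_map (f : X →* Y) (R : Subgroup X) (hf : Set.InjOn f R)
    (𝒜 : Set (Subgroup X)) (hne : 𝒜.Nonempty) (hle : ∀ A ∈ 𝒜, A ≤ R) :
    sInf ((fun A : Subgroup X => A.map f) '' 𝒜) = (sInf 𝒜).map f := by
  apply le_antisymm
  · intro y hy
    rw [Subgroup.mem_sInf] at hy
    obtain ⟨A₀, hA₀⟩ := hne
    obtain ⟨a₀, ha₀, rfl⟩ := hy _ ⟨A₀, hA₀, rfl⟩
    refine ⟨a₀, ?_, rfl⟩
    show a₀ ∈ sInf 𝒜
    rw [Subgroup.mem_sInf]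
    intro A hA
    obtain ⟨a, ha, hfa⟩ := hy _ ⟨A, hA, rfl⟩
    have : a = a₀ := hf (hle A hA ha) (hle A₀ hA₀ ha₀) hfa
    rw [← this]; exact ha
  · apply le_sInf
    rintro _ ⟨A, hA, rfl⟩
    exact Subgroup.map_mono (sInf_le hA)

omit [Finite X] [Finite Y] in
theorem isElementaryAbelian_map_iff (p : ℕ) (f : X →* Y) (R : Subgroup X) (hf : Set.InjOn f R)
    (A : Subgroup X) (hAR : A ≤ R) :
    Cfsg.IsElementaryAbelian p A ↔ Cfsg.IsElementaryAbelian p (A.map f) := by
  constructor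
  · rintro ⟨hc, hexp⟩
    refine ⟨Subgroup.map_isMulCommutative A f, ?_⟩
    rintro _ ⟨a, ha, rfl⟩
    rw [← map_pow, hexp a ha, map_one]
  · rintro ⟨hc, hexp⟩
    refine ⟨Cfsg.Agent.Helper4.ZJ.comm_of_map_comm f R A hf hAR hc, ?_⟩
    intro a ha
    apply hf (R.pow_mem (hAR ha) p) R.one_mem
    rw [map_pow, map_one]
    exact hexp _ (Subgroup.mem_map_of_mem f ha)

end famof

section E

variable {X : Type*} [Group X] [Finite X] {p : ℕ} [Fact p.Prime]

theorem omegaZJE_eq (R : Subgroup X) :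
    Cfsg.omegaOne p (Cfsg.centerThompsonOf p R) =
      sInf (FamOf (fun A : Subgroup X => Cfsg.IsElementaryAbelian p A) R) := by
  rw [Cfsg.Agent.Helper9.ZJ.omegaOne_centerThompsonOf_eq, famE_eq]

theorem famOfE_nonempty (R : Subgroup X) :
    (FamOf (fun A : Subgroup X => Cfsg.IsElementaryAbelian p A) R).Nonempty := by
  rw [← famE_eq]
  exact Cfsg.Agent.Helper4.ZJ.famE_nonempty (p := p) R

theorem omegaZJE_le_self (R : Subgroup X) : Cfsg.omegaOne p (Cfsg.centerThompsonOf p R) ≤ R := by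
  rw [omegaZJE_eq]
  obtain ⟨A, hA⟩ := famOfE_nonempty (p := p) R
  exact (sInf_le hA).trans hA.1

theorem omegaZJE_ne_bot (R : Subgroup X) (hR : IsPGroup p R) (hR1 : R ≠ ⊥) :
    Cfsg.omegaOne p (Cfsg.centerThompsonOf p R) ≠ ⊥ := by
  haveI : Nontrivial ↥R := (Subgroup.nontrivial_iff_ne_bot R).mpr hR1
  haveI := hR.center_nontrivial
  -- an element of order `p` in the centre of `R`
  have hZp : IsPGroup p (Subgroup.center ↥R) := hR.to_subgroup _
  obtain ⟨k, hk⟩ := hZp.exists_card_eq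
  have hk0 : k ≠ 0 := by
    rintro rfl
    rw [pow_zero] at hk
    have := (Subgroup.center ↥R).one_lt_card_iff_ne_bot.mpr
      ((Subgroup.nontrivial_iff_ne_bot _).mp inferInstance)
    omega
  have hdvd : p ∣ Nat.card (Subgroup.center ↥R) := by rw [hk]; exact dvd_pow_self p hk0
  obtain ⟨z, hz⟩ := exists_prime_orderOf_dvd_card' p hdvd
  set z' : X := ((z : ↥R) : X) with hz'
  have hz'ord : orderOf z' = p := by
    rw [hz', Subgroup.orderOf_coe, Subgroup.orderOf_coe]; exact hz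
  have hz'R : z' ∈ R := (z : ↥R).2
  have hz'c : ∀ r ∈ R, r * z' = z' * r := by
    intro r hr
    have := Subgroup.mem_center_iff.1 z.2 ⟨r, hr⟩
    exact congrArg Subtype.val this
  have hz'p : z' ^ p = 1 := by rw [← hz'ord]; exact pow_orderOf_eq_one z'
  have hz'1 : z' ≠ 1 := by
    intro h
    rw [h, orderOf_one] at hz'ord
    exact (Fact.out : p.Prime).one_lt.ne hz'ord
  rw [omegaZJE_eq]
  intro hbot
  apply hz'1
  have hmem : z' ∈ sInf (FamOf (fun A : Subgroup X => Cfsg.IsElementaryAbelian p A) R) := by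
    rw [Subgroup.mem_sInf]
    rintro A ⟨hAR, ⟨hAc, hAexp⟩, hmax⟩
    have hAcomm : ∀ x ∈ A, ∀ y ∈ A, x * y = y * x := fun x hx y hy =>
      congrArg Subtype.val (hAc.is_comm.comm ⟨x, hx⟩ ⟨y, hy⟩)
    have hcomm : IsMulCommutative (A ⊔ Subgroup.zpowers z' : Subgroup X) := by
      apply Cfsg.Agent.Helper4.ZJ.sup_comm_of A (Subgroup.zpowers z') hAcomm
      · intro u hu v hv
        rw [Subgroup.mem_zpowers_iff] at hu hv
        obtain ⟨i, rfl⟩ := hu
        obtain ⟨j, rfl⟩ := hv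
        exact (((Commute.refl z').zpow_left i).zpow_right j).eq
      · intro a ha v hv
        rw [Subgroup.mem_zpowers_iff] at hv
        obtain ⟨j, rfl⟩ := hv
        have : Commute a z' := hz'c a (hAR ha)
        exact (this.zpow_right j).eq
    have hexp : ∀ y ∈ A ⊔ Subgroup.zpowers z', y ^ p = 1 := by
      apply Cfsg.Agent.Helper4.ZJ.pow_eq_one_of_sup A (Subgroup.zpowers z') hcomm p hAexp
      intro w hw
      rw [Subgroup.mem_zpowers_iff] at hw
      obtain ⟨j, rfl⟩ := hw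
      rw [← zpow_natCast, ← zpow_mul, mul_comm, zpow_mul, zpow_natCast, hz'p, one_zpow]
    have hle : (A ⊔ Subgroup.zpowers z' : Subgroup X) ≤ R :=
      sup_le hAR (Subgroup.zpowers_le.2 hz'R)
    have hcard := hmax _ hle ⟨hcomm, hexp⟩
    have heq : A = A ⊔ Subgroup.zpowers z' := Subgroup.eq_of_le_of_card_ge le_sup_left hcard
    rw [heq]
    exact Subgroup.mem_sup_right (Subgroup.mem_zpowers z')
  rw [hbot, Subgroup.mem_bot] at hmem
  exact hmem

theorem omegaZJE_map {Y : Type*} [Group Y] [Finite Y] (f : X →* Y) (R : Subgroup X)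
    (hf : Set.InjOn f R) :
    Cfsg.omegaOne p (Cfsg.centerThompsonOf p (R.map f)) =
      (Cfsg.omegaOne p (Cfsg.centerThompsonOf p R)).map f := by
  rw [omegaZJE_eq, omegaZJE_eq,
    famOf_map f R hf (fun A : Subgroup X => Cfsg.IsElementaryAbelian p A)
      (fun A : Subgroup Y => Cfsg.IsElementaryAbelian p A)
      (fun A hA => isElementaryAbelian_map_iff p f R hf A hA),
    sInf_image_map f R hf _ (famOfE_nonempty R) (fun A hA => hA.1)]

end E

section instances

variable (p : ℕ) [Fact p.Prime]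

/-- `Z(J_a(·))` -/
noncomputable def cfA0 : CharFun0.{u} p where
  W := fun _ _ R => Cfsg.centerThompsonAOf R
  le_self := fun _ _ R => (inf_le_left : Cfsg.centerThompsonAOf R ≤ Cfsg.thompsonSubgroupAOf R).trans
    (Subgroup.map_subtype_le _)
  ne_bot := fun _ _ _ R hR hR1 => Cfsg.Agent.S0658.centerThompsonAOf_ne_bot R hR hR1
  map := fun _ _ _ _ _ _ f R _ hf => Cfsg.Agent.Helper4.ZJ.centerThompsonAOf_map_of_injOn f R hf

/-- `Ω₁(Z(J_e(·)))` -/
noncomputable def cfE0 : CharFun0.{u} p where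
  W := fun _ _ R => Cfsg.omegaOne p (Cfsg.centerThompsonOf p R)
  le_self := fun _ _ R => by
    refine (Subgroup.closure_le _).2 ?_
    rintro x ⟨hx, -⟩
    have h1 : x ∈ Cfsg.thompsonSubgroupOf p R := hx.1
    obtain ⟨y, -, rfl⟩ := h1
    exact y.2
  ne_bot := fun _ _ _ R hR hR1 => omegaZJE_ne_bot R hR hR1
  map := fun _ _ _ _ _ _ f R _ hf => omegaZJE_map f R hf

variable {p}

/-- the `ZJ`-property of a characteristic functor relative to strongly closed subgroups -/
def HasZJ (cf : CharFun0.{u} p) : Prop :=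
  ∀ (X : Type u) [Group X] [Finite X] (P : Sylow p X) (D : Subgroup X),
    IsStronglyClosed D (P : Subgroup X) → Cfsg.Agent.Helper9.ZJ.Stab p X →
    centralizer ((Cfsg.pCore p X : Subgroup X) : Set X) ≤ Cfsg.pCore p X → (cf.W X D).Normal

theorem hasZJ_cfA0 (hp : p ≠ 2) : HasZJ (cfA0.{u} p) := by
  intro X _ _ P D hD hst hc
  show (Cfsg.centerThompsonAOf D).Normal
  rw [Cfsg.Agent.Helper9.ZJ.centerThompsonAOf_eq]
  exact Cfsg.Agent.Helper9.ZJ.zj_normal P hD (Cfsg.Agent.Helper9.ZJ.famAxA hp) hst hc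

theorem hasZJ_cfE0 (hp : p ≠ 2) : HasZJ (cfE0.{u} p) := by
  intro X _ _ P D hD hst hc
  show (Cfsg.omegaOne p (Cfsg.centerThompsonOf p D)).Normal
  rw [Cfsg.Agent.Helper9.ZJ.omegaOne_centerThompsonOf_eq]
  exact Cfsg.Agent.Helper9.ZJ.zj_normal P hD (Cfsg.Agent.Helper9.ZJ.famAxE hp) hst hc

end instances

end Cfsg.Agent.Helper1.DF
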