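import Mathlib
import Cfsg.Prelude.Def_LocalEven
import Cfsg.Agent.Lib.Helper9.ZJ
import Cfsg.Agent.Lib.Helper9.CentricRadical
import Cfsg.Agent.S0667

/-!
# Stability on normal `p`-subgroups passes to quotients by normal `p'`-subgroups
-/

set_option autoImplicit false

namespace Cfsg.Agent.Helper1.DF

open Cfsg Subgroup Cfsg.Agent.Helper9
open scoped commutatorElement

/-- If `N` is `p`-stable in the normalizer form and `K` is a normal `p'`-subgroup, then `N / K` is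
stable on its normal `p`-subgroups (helper9's `Stab`). -/
theorem stab_quotient_pprime {N : Type*} [Group N] [Finite N] {p : ℕ} [Fact p.Prime]
    (K : Subgroup N) [K.Normal] (hK : (Nat.card K).Coprime p)
    (hst : Cfsg.IsNormalizerPStable p N) : Cfsg.Agent.Helper9.ZJ.Stab p (N ⧸ K) := by
  intro Bb hBbn hBbp ab hq
  set π := QuotientGroup.mk' K with hπ
  have hπs : Function.Surjective π := QuotientGroup.mk'_surjective K
  set Bt : Subgroup N := Bb.comap π with hBt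
  haveI hBtn : Bt.Normal := hBbn.comap π
  obtain P₀ : Sylow p ↥Bt := default
  set B₀ : Subgroup N := (P₀ : Subgroup ↥Bt).map Bt.subtype with hB₀
  have hB₀p : IsPGroup p B₀ := P₀.isPGroup'.map _
  have hB₀le : B₀ ≤ Bt := Subgroup.map_subtype_le _
  -- Claim 1
  have hmap : B₀.map π = Bb := by
    apply le_antisymm
    · rintro _ ⟨b, hb, rfl⟩
      exact hB₀le hb
    · intro bb hbb
      set f : ↥Bt →* ↥Bb := π.subgroupComap Bb with hf
      have hfs : Function.Surjective f := π.subgroupComap_surjective_of_surjective Bb hπs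
      have hQ : ((P₀.mapSurjective hfs : Sylow p ↥Bb) : Subgroup ↥Bb) = ⊤ :=
        ((P₀.mapSurjective hfs).is_maximal' (Q := ⊤) (hBbp.to_subgroup ⊤) le_top).symm
      have h1 : (⟨bb, hbb⟩ : ↥Bb) ∈ ((P₀.mapSurjective hfs : Sylow p ↥Bb) : Subgroup ↥Bb) := by
        rw [hQ]; exact mem_top _
      rw [Sylow.coe_mapSurjective] at h1
      obtain ⟨x, hx, hfx⟩ := h1
      refine ⟨(x : N), ⟨x, hx, rfl⟩, ?_⟩
      exact congrArg Subtype.val hfx
  -- Claim 2
  have hBtle : Bt ≤ K ⊔ normalizer (B₀ : Set N) := by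
    intro b hb
    have h1 : π b ∈ B₀.map π := by rw [hmap]; exact hb
    obtain ⟨b₀, hb₀, hbb⟩ := h1
    have h2 : b * b₀⁻¹ ∈ K := by
      rw [← QuotientGroup.eq_one_iff, ← QuotientGroup.mk'_apply, ← hπ, map_mul, map_inv, hbb]
      simp
    have e : b = (b * b₀⁻¹) * b₀ := by group
    rw [e]
    exact mul_mem (mem_sup_left h2) (mem_sup_right (le_normalizer hb₀))
  have htop : K ⊔ normalizer (B₀ : Set N) = ⊤ := by
    rw [eq_top_iff, ← Sylow.normalizer_sup_eq_top P₀]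
    exact sup_le le_sup_right hBtle
  have hsplit : ∀ x : N, ∃ k ∈ K, ∃ n ∈ normalizer (B₀ : Set N), x = k * n := by
    intro x
    have hx : x ∈ ((K ⊔ normalizer (B₀ : Set N) : Subgroup N) : Set N) := by
      rw [htop]; exact mem_top x
    rw [Subgroup.normal_mul] at hx
    obtain ⟨k, hk, n, hn, rfl⟩ := Set.mem_mul.mp hx
    exact ⟨k, hk, n, hn, rfl⟩
  obtain ⟨a₀, rfl⟩ := hπs ab
  obtain ⟨k, hk, a, ha, rfl⟩ := hsplit a₀
  have hπk : π k = 1 := (QuotientGroup.eq_one_iff k).mpr hk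
  have hπa : π (k * a) = π a := by rw [map_mul, hπk, one_mul]
  rw [hπa] at hq ⊢
  -- Claim 3
  have hza : zpowers a ≤ normalizer (B₀ : Set N) := zpowers_le.2 ha
  have hc1 : ⁅B₀, zpowers a⁆ ≤ B₀ := by
    rw [commutator_le]
    intro b hb y hy
    have h1 : y * b⁻¹ * y⁻¹ ∈ B₀ := (mem_normalizer_iff.1 (hza hy) b⁻¹).1 (inv_mem hb)
    have e : ⁅b, y⁆ = b * (y * b⁻¹ * y⁻¹) := by
      simp only [commutatorElement_def]; group
    rw [e]; exact mul_mem hb h1
  have hc2 : ⁅⁅B₀, zpowers a⁆, zpowers a⁆ ≤ B₀ := by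
    rw [commutator_le]
    intro b hb y hy
    have hb' : b ∈ B₀ := hc1 hb
    have h1 : y * b⁻¹ * y⁻¹ ∈ B₀ := (mem_normalizer_iff.1 (hza hy) b⁻¹).1 (inv_mem hb')
    have e : ⁅b, y⁆ = b * (y * b⁻¹ * y⁻¹) := by
      simp only [commutatorElement_def]; group
    rw [e]; exact mul_mem hb' h1
  have hc3 : ⁅⁅B₀, zpowers a⁆, zpowers a⁆ ≤ K := by
    intro x hx
    have h1 : π x ∈ (⁅⁅B₀, zpowers a⁆, zpowers a⁆).map π := mem_map_of_mem π hx
    rw [Subgroup.map_commutator, Subgroup.map_commutator, hmap, MonoidHom.map_zpowers, hq,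
      Subgroup.mem_bot] at h1
    exact (QuotientGroup.eq_one_iff x).mp h1
  have hquad : ⁅⁅B₀, zpowers a⁆, zpowers a⁆ = ⊥ := by
    rw [eq_bot_iff, ← Cfsg.Agent.Helper7.inf_eq_bot_of_isPGroup_of_coprime hB₀p hK]
    exact le_inf hc2 hc3
  have hmem := hst B₀ hB₀p a ha hquad
  set C := (centralizer (B₀ : Set N)).subgroupOf (normalizer (B₀ : Set N)) with hC
  set T₁ : Subgroup ↥(normalizer (B₀ : Set N)) :=
    (Cfsg.pCore p (↥(normalizer (B₀ : Set N)) ⧸ C)).comap (QuotientGroup.mk' C) with hT₁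
  have hT₁n : T₁.Normal := comap_pCore_normal p C
  have haT₁ : (⟨a, ha⟩ : ↥(normalizer (B₀ : Set N))) ∈ T₁ := hmem
  set Tb : Subgroup (N ⧸ K) := (T₁.map (normalizer (B₀ : Set N)).subtype).map π with hTb
  refine ⟨Tb, ?_, ?_, ?_⟩
  · constructor
    rintro _ ⟨_, ⟨t, ht, rfl⟩, rfl⟩ xb
    obtain ⟨x, rfl⟩ := hπs xb
    obtain ⟨k', hk', n, hn, rfl⟩ := hsplit x
    have hπk' : π k' = 1 := (QuotientGroup.eq_one_iff k').mpr hk'
    refine ⟨_, ⟨⟨n, hn⟩ * t * ⟨n, hn⟩⁻¹, hT₁n.conj_mem t ht ⟨n, hn⟩, rfl⟩, ?_⟩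
    simp only [map_mul, map_inv, hπk', one_mul, Subgroup.coe_subtype, Subgroup.coe_mul,
      Subgroup.coe_inv]
  · exact ⟨a, ⟨⟨a, ha⟩, haT₁, rfl⟩, rfl⟩
  · rintro _ ⟨_, ⟨t, ht, rfl⟩, rfl⟩
    obtain ⟨j, hj⟩ := powCond_comap_pCore p C t ht
    refine ⟨j, ?_⟩
    have hj' : ((t : N)) ^ p ^ j ∈ centralizer (B₀ : Set N) := by
      have := Subgroup.mem_subgroupOf.1 hj
      simpa using this
    rw [Subgroup.coe_subtype, ← map_pow, mem_centralizer_iff]
    intro bb hbb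
    rw [SetLike.mem_coe, ← hmap] at hbb
    obtain ⟨b₀, hb₀, rfl⟩ := hbb
    rw [← map_mul, ← map_mul, mem_centralizer_iff.1 hj' b₀ hb₀]

end Cfsg.Agent.Helper1.DF
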