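import Mathlib
import Cfsg.Agent.Lib.Helper1.DFunctors
import Cfsg.Agent.Lib.Helper1.StabQuot
import Cfsg.Agent.Lib.Helper7.PConstrained
import Cfsg.Agent.S3836

/-!
# Control of strong fusion by `N(W(D))`, `D` strongly closed: the case of `p`-constrained
`p`-stable local subgroups
-/

set_option autoImplicit false

namespace Cfsg.Agent.Helper1.DF

open Cfsg Subgroup
open Cfsg.Agent.Helper10 (rcs rcg)
open Cfsg.Agent.Helper10.GTS (CharFun0)

universe u

variable {p : ℕ} [Fact p.Prime]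

/-- the normalizer of a characteristic functor value contains the normalizer of the argument -/
theorem normalizer_le_cf {X : Type u} [Group X] [Finite X] (cf : CharFun0.{u} p) (R : Subgroup X)
    (hR : IsPGroup p R) : normalizer (R : Set X) ≤ normalizer (cf.W X R : Set X) :=
  Cfsg.Agent.Helper10.GTS.normalizer_le0 cf R hR

/-- a `p`-constrained group that is `p`-stable in the normalizer form: `N(W(D))` controls strong
fusion, for `D` strongly closed in a Sylow `p`-subgroup -/
theorem ctlIn_of_constrained (cf : CharFun0.{u} p) (hZJ : HasZJ cf) {X : Type u} [Group X]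
    [Finite X] (S D : Subgroup X) (hS : IsPGroup p S) (hidx : ¬ p ∣ S.index)
    (hD : IsStronglyClosed D S) (hst : IsNormalizerPStable p X) (hc : IsPConstrained p X) :
    CtlIn ⊤ (cf.W X D) S := by
  set K := pPrimeCore p X with hKdef
  have hK : (Nat.card K).Coprime p := Cfsg.Agent.Helper22.card_pPrimeCore_coprime p
  have hDp : IsPGroup p D := hS.to_le hD.1
  have hVS : cf.W X D ≤ S := (cf.le_self X D).trans hD.1
  have hSV : S ≤ normalizer (cf.W X D : Set X) :=
    (le_normalizer_of_sc hD).trans (normalizer_le_cf cf D hDp)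
  apply ctl_of_quotient_pprime K hK S (cf.W X D) hS hVS hSV
  apply ctlIn_of_normal
  set π := QuotientGroup.mk' K with hπ
  have hπs : Function.Surjective π := QuotientGroup.mk'_surjective K
  have hmap : cf.W (X ⧸ K) (D.map π) = (cf.W X D).map π :=
    cf.map X (X ⧸ K) π D hDp ((Cfsg.Agent.Helper10.injOn_mk_of_coprime S K hS hK).mono
      (SetLike.coe_subset_coe.mpr hD.1))
  let P' : Sylow p X := hS.toSylow hidx
  have hP'coe : ((P'.mapSurjective hπs : Sylow p (X ⧸ K)) : Subgroup (X ⧸ K)) = S.map π := by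
    rw [Sylow.coe_mapSurjective]
    rfl
  have hDb : IsStronglyClosed (D.map π)
      ((P'.mapSurjective hπs : Sylow p (X ⧸ K)) : Subgroup (X ⧸ K)) := by
    rw [hP'coe]
    exact sc_map_of_coprime hD hS K hK
  have hStab := stab_quotient_pprime K hK hst
  have hc' := (Cfsg.Agent.Helper7.isPConstrained_iff_centralizer_le (p := p) (X := X)).mp hc
  have hn := hZJ (X ⧸ K) (P'.mapSurjective hπs) (D.map π) hDb hStab hc'
  rw [hmap] at hn
  exact normalizer_eq_top_iff.mpr hn

/-- conversion to the left-conjugation form of the statements -/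
theorem controlsStrongFusionOf_of_ctlIn {X : Type*} [Group X] {V S : Subgroup X}
    (h : CtlIn ⊤ V S) (A : Set X) (hA : A ⊆ (S : Set X)) :
    Cfsg.ControlsStrongFusionOf (normalizer (V : Set X)) S A := by
  refine ⟨hA, fun g hg => ?_⟩
  have h1 : rcs g⁻¹ A ⊆ (S : Set X) := by
    rintro _ ⟨a, ha, rfl⟩
    have := hg ⟨a, ha, rfl⟩
    simpa using this
  obtain ⟨n, ⟨-, hn⟩, hnA⟩ := h A g⁻¹ (mem_top _) hA h1
  refine ⟨n⁻¹, inv_mem hn, fun a ha => ?_⟩
  have := hnA a ha
  rw [inv_inv] at this ⊢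
  exact this.symm

variable {G : Type u} [Group G] [Finite G]

/-- local-to-global: control of strong fusion in the normalizers of the nontrivial fully
normalized subgroups of `S` (with respect to the traces of `D`) gives control in `G` -/
theorem ctl_of_locals (cf : CharFun0.{u} p) (S D : Subgroup G) (hS : IsPGroup p S)
    (hidx : ¬ p ∣ S.index) (hD : IsStronglyClosed D S) (hD1 : D ≠ ⊥)
    (hlocal : ∀ T : Subgroup G, T ≤ S → T ≠ ⊥ →
      ¬ p ∣ (S ⊓ normalizer (T : Set G)).relIndex (normalizer (T : Set G)) →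
      CtlIn (G := ↥(normalizer (T : Set G))) ⊤
        (cf.W ↥(normalizer (T : Set G)) (D.subgroupOf (normalizer (T : Set G))))
        (S.subgroupOf (normalizer (T : Set G)))) :
    CtlIn ⊤ (cf.W G D) S := by
  set W := WD cf D with hWdef
  have hW : IsConjugacyFunctor p W := isConjugacyFunctor_WD cf D
  have hZD : D ⊓ (S ⊓ centralizer (S : Set G)) ≠ ⊥ := sc_inf_center_ne_bot hS hD hD1
  have hWS : W S = cf.W G D := by
    rw [hWdef, WD_eq cf hD le_rfl (by rw [inf_eq_left.mpr hD.1]; exact hD1),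
      inf_eq_left.mpr hD.1]
  -- local control
  have hloc : ∀ T : Subgroup G, IsWellPlaced p W S T → T ≠ ⊥ →
      ∀ (B : Set G) (x : G), x ∈ normalizer (T : Set G) →
        B ⊆ ((S ⊓ normalizer (T : Set G) : Subgroup G) : Set G) →
        rcs x B ⊆ ((S ⊓ normalizer (T : Set G) : Subgroup G) : Set G) →
        ∃ y ∈ normalizer (T : Set G) ⊓
            normalizer ((W (S ⊓ normalizer (T : Set G)) : Subgroup G) : Set G),
          ∀ b ∈ B, y⁻¹ * b * y = x⁻¹ * b * x := by
    intro T hT hT1 B x hx hB hxB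
    set Nn := normalizer (T : Set G) with hNn
    have hZR : S ⊓ centralizer (S : Set G) ≤ S ⊓ Nn := by
      refine le_inf inf_le_left (inf_le_right.trans ?_)
      exact (centralizer_le (SetLike.coe_subset_coe.mpr hT.1)).trans
        (centralizer_le_normalizer _)
    have hDR : D ⊓ (S ⊓ Nn) ≠ ⊥ := by
      intro h
      apply hZD
      rw [eq_bot_iff, ← h]
      exact inf_le_inf_left D hZR
    have hDN : D ⊓ (S ⊓ Nn) = D ⊓ Nn := by
      rw [← inf_assoc, inf_eq_left.mpr hD.1]
    have hWR : W (S ⊓ Nn) = cf.W G (D ⊓ Nn) := by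
      rw [hWdef, WD_eq cf hD inf_le_left hDR, hDN]
    have h2 := ctlIn_of_subtype cf Nn S D hS hD.1 (hlocal T hT.1 hT1 (hT.2 0))
    obtain ⟨n, hn, hnB⟩ := h2 B x hx hB hxB
    rw [hWR]
    exact ⟨n, hn, hnB⟩
  have hZ1 : S ⊓ centralizer (S : Set G) ≠ ⊥ := by
    intro h
    apply hZD
    rw [h, inf_bot_eq]
  intro A g _ hA hgA
  have key : ∃ n ∈ normalizer ((W S : Subgroup G) : Set G),
      ∀ a ∈ A, n⁻¹ * a * n = g⁻¹ * a * g := by
    refine Cfsg.Agent.Helper10.wp_final S hS hidx W hW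
      (fun A g => ∃ n ∈ normalizer ((W S : Subgroup G) : Set G),
        ∀ a ∈ A, n⁻¹ * a * n = g⁻¹ * a * g) ?_ ?_ ?_ ?_ ?_ A g hA hgA
    · intro A _
      exact ⟨1, one_mem _, fun a _ => rfl⟩
    · rintro A B g ⟨n, hn, hnB⟩ hAB
      exact ⟨n, hn, fun a ha => hnB a (hAB ha)⟩
    · rintro A g h ⟨n₁, hn₁, h1⟩ ⟨n₂, hn₂, h2⟩
      refine ⟨n₁ * n₂, mul_mem hn₁ hn₂, fun a ha => ?_⟩
      have e1 : (n₁ * n₂)⁻¹ * a * (n₁ * n₂) = n₂⁻¹ * (n₁⁻¹ * a * n₁) * n₂ := by group
      rw [e1, h1 a ha, h2 _ ⟨a, ha, rfl⟩]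
      group
    · rintro A g g₂ ⟨n, hn, h1⟩ h2
      exact ⟨n, hn, fun a ha => (h1 a ha).trans (h2 a ha).symm⟩
    · intro T hT hZT x hx B hB hxB
      have hT1 : T ≠ ⊥ := fun h => hZ1 (eq_bot_iff.mpr (h ▸ hZT))
      exact tower' hS hW hloc (Nat.card S) T hT hT1 (Nat.sub_le _ _) B x hx hB hxB
  obtain ⟨n, hn, hnA⟩ := key
  rw [hWS] at hn
  exact ⟨n, ⟨mem_top _, hn⟩, hnA⟩

theorem ctlIn_of_eq_bot (cf : CharFun0.{u} p) (S D : Subgroup G) (hD1 : D = ⊥) :
    CtlIn ⊤ (cf.W G D) S := by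
  apply ctlIn_of_normal
  have : cf.W G D = ⊥ := by
    rw [eq_bot_iff, ← hD1]; exact cf.le_self G D
  rw [this]
  exact normalizer_eq_top_iff.mpr inferInstance

/-- **control of strong fusion** by `N(W(D))` when `G` is `p`-stable in the normalizer form
with `p`-constrained local subgroups -/
theorem ctl_of_constrained_locals (cf : CharFun0.{u} p) (hZJ : HasZJ cf) (P : Sylow p G)
    (D : Subgroup G) (hD : IsStronglyClosed D (P : Subgroup G))
    (hst : IsNormalizerPStable p G)
    (hc : ∀ U : Subgroup G, U ≤ (P : Subgroup G) → U ≠ ⊥ →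
      IsPConstrained p ↥(normalizer (U : Set G))) :
    CtlIn ⊤ (cf.W G D) (P : Subgroup G) := by
  by_cases hD1 : D = ⊥
  · exact ctlIn_of_eq_bot cf _ D hD1
  have hS : IsPGroup p (P : Subgroup G) := P.isPGroup'
  apply ctl_of_locals cf (P : Subgroup G) D hS P.not_dvd_index hD hD1
  intro T hT hT1 hfn
  set Nn := normalizer (T : Set G) with hNn
  have hS' : IsPGroup p ((P : Subgroup G).subgroupOf Nn) := hS.comap_subtype
  have hidx' : ¬ p ∣ ((P : Subgroup G).subgroupOf Nn).index := by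
    show ¬ p ∣ (P : Subgroup G).relIndex Nn
    rw [← Subgroup.inf_relIndex_right]
    exact hfn
  exact ctlIn_of_constrained cf hZJ ((P : Subgroup G).subgroupOf Nn) (D.subgroupOf Nn) hS' hidx'
    (sc_subgroupOf hD Nn) (Cfsg.Agent.S3836.result hst Nn) (hc T hT hT1)

end Cfsg.Agent.Helper1.DF
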