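import Mathlib
import Cfsg.Prelude.Def_LocalEven
import Cfsg.Agent.Lib.Helper14.QdSylow
import Cfsg.Agent.Lib.Helper4.QdFree
import Cfsg.Agent.Lib.Helper4.PPrimeQuot
import Cfsg.Agent.Lib.Helper10.Cores

/-!
# `Qd(p)`-freeness and `p`-stability in the normalizer form
-/

set_option autoImplicit false

namespace Cfsg.Agent.Helper1.ZJF

open Cfsg Subgroup
open scoped Matrix
open scoped commutatorElement
open Cfsg.Agent.S2761 Cfsg.Agent.Helper14.SL2Vec Cfsg.Agent.Helper14.Qd
open Cfsg.Agent.Helper4.SLF Cfsg.Agent.Helper4.QDF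

/-- normalizer form of `p`-stability at one `p`-subgroup whose normalizer does not involve
`Qd(p)` -/
theorem normalizer_stable_qd {p : ℕ} [hpp : Fact p.Prime] (hp : p ≠ 2) {X : Type*} [Group X]
    [Finite X] (P : Subgroup X) (hP : IsPGroup p P)
    (hfree : QdFree p ↥(Subgroup.normalizer (P : Set X))) (g : X)
    (hg : g ∈ Subgroup.normalizer (P : Set X))
    (hq : ⁅⁅P, Subgroup.zpowers g⁆, Subgroup.zpowers g⁆ = ⊥) :
    (QuotientGroup.mk (s := (Subgroup.centralizer (P : Set X)).subgroupOf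
        (Subgroup.normalizer (P : Set X))) (⟨g, hg⟩ : ↥(Subgroup.normalizer (P : Set X)))) ∈
      pCore p (↥(Subgroup.normalizer (P : Set X)) ⧸
        (Subgroup.centralizer (P : Set X)).subgroupOf (Subgroup.normalizer (P : Set X))) := by
  set N := Subgroup.normalizer (P : Set X) with hN
  have hPN : P ≤ N := Subgroup.le_normalizer
  set V : Subgroup ↥N := P.subgroupOf N with hV
  haveI hVn : V.Normal := Subgroup.normal_in_normalizer
  have hVp : IsPGroup p V := hP.comap_subtype
  have hVmap : V.map N.subtype = P := by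
    rw [hV, Subgroup.map_subgroupOf_eq_of_le hPN]
  have hcent : Subgroup.centralizer (V : Set ↥N) =
      (Subgroup.centralizer (P : Set X)).subgroupOf N := by
    ext n
    rw [Subgroup.mem_subgroupOf, Subgroup.mem_centralizer_iff, Subgroup.mem_centralizer_iff]
    constructor
    · intro h x hx
      have := h ⟨x, hPN hx⟩ (by rw [SetLike.mem_coe, hV, Subgroup.mem_subgroupOf]; exact hx)
      exact congrArg Subtype.val this
    · intro h v hv
      apply Subtype.ext
      rw [SetLike.mem_coe, hV, Subgroup.mem_subgroupOf] at hv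
      exact h v hv
  have hq' : ⁅⁅V, Subgroup.zpowers (⟨g, hg⟩ : ↥N)⁆, Subgroup.zpowers (⟨g, hg⟩ : ↥N)⁆ = ⊥ := by
    have hinj : Function.Injective N.subtype := N.subtype_injective
    apply (Subgroup.map_injective hinj)
    rw [Subgroup.map_bot, Subgroup.map_commutator, Subgroup.map_commutator, hVmap,
      MonoidHom.map_zpowers]
    exact hq
  have h1 := mem_pCore_of_qdfree hp hfree V hVp (⟨g, hg⟩ : ↥N) hq'
  have h2 := (Cfsg.Agent.Helper4.PQ.mem_pCore_equiv_iff p
    (QuotientGroup.quotientMulEquivOfEq hcent) (QuotientGroup.mk (⟨g, hg⟩ : ↥N))).2 h1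
  exact h2

section notstable

variable {F : Type*} [Field F] [Fintype F] {p : ℕ} [Fact p.Prime] [CharP F p]

omit [Fintype F] in
theorem commute_trans_smul {v₀ : Fin 2 → F} {x : ↥(affSubgroup F)} (hx : x ∈ stab v₀) (c : F) :
    x * Cfsg.Agent.Helper14.Qd.trans (c • v₀) = Cfsg.Agent.Helper14.Qd.trans (c • v₀) * x := by
  have h1 := conj_trans_gen x (c • v₀)
  rw [Matrix.mulVec_smul, (mem_stab_iff v₀ x).mp hx] at h1
  calc x * Cfsg.Agent.Helper14.Qd.trans (c • v₀)
      = (x * Cfsg.Agent.Helper14.Qd.trans (c • v₀) * x⁻¹) * x := by group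
    _ = Cfsg.Agent.Helper14.Qd.trans (c • v₀) * x := by rw [h1]

omit [Fintype F] in
theorem commutator_trans {v₀ : Fin 2 → F} (hv₀ : v₀ ≠ 0) (u : Fin 2 → F) {z : ↥(affSubgroup F)}
    (hz : z ∈ stab v₀) :
    ∃ c : F, ⁅Cfsg.Agent.Helper14.Qd.trans u, z⁆ = Cfsg.Agent.Helper14.Qd.trans (c • v₀) := by
  obtain ⟨c, hc⟩ := exists_smul_of_fix hv₀ ((mem_stab_iff v₀ z).mp hz) u
  refine ⟨-c, ?_⟩
  have h1 := conj_trans_gen z (-u)
  rw [commutatorElement_def]
  calc Cfsg.Agent.Helper14.Qd.trans u * z * (Cfsg.Agent.Helper14.Qd.trans u)⁻¹ * z⁻¹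
      = Cfsg.Agent.Helper14.Qd.trans u * (z * Cfsg.Agent.Helper14.Qd.trans (-u) * z⁻¹) := by
        rw [trans_inv]; group
    _ = Cfsg.Agent.Helper14.Qd.trans (-c • v₀) := by
        rw [h1, trans_mul]
        congr 1
        rw [Matrix.mulVec_neg, neg_smul, ← hc]
        abel

/-- a group isomorphic to the affine group `F² ⋊ SL₂(F)` is not `p`-stable in the normalizer
form -/
theorem not_normalizerPStable_of_equiv {X : Type*} [Group X] [Finite X]
    (e : X ≃* ↥(affSubgroup F)) : ¬ Cfsg.IsNormalizerPStable p X := by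
  intro hst
  obtain ⟨v₀, hv₀⟩ : ∃ v₀ : Fin 2 → F, v₀ ≠ 0 :=
    ⟨![1, 0], fun h => one_ne_zero (congrFun h 0)⟩
  obtain ⟨w₀, hd⟩ := exists_dt_eq_one hv₀
  set g : ↥(affSubgroup F) := hmk v₀ w₀ 1 0 0 with hg
  have hgS : g ∈ stab v₀ := hmk_mem_stab _ _ _
  have hgV : g ∉ transSubgroup F := fun h => one_ne_zero ((hmk_mem_transSubgroup_iff hd 1 0 0).mp h)
  have hZS : Subgroup.zpowers g ≤ stab v₀ := by
    rw [Subgroup.zpowers_le]; exact hgS
  -- quadratic action in the affine group
  have hquad : ⁅⁅transSubgroup F, Subgroup.zpowers g⁆, Subgroup.zpowers g⁆ = ⊥ := by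
    rw [Subgroup.commutator_eq_bot_iff_le_centralizer, Subgroup.commutator_le]
    intro t ht z hz
    obtain ⟨u, rfl⟩ := (mem_transSubgroup_iff_exists t).mp ht
    obtain ⟨c, hc⟩ := commutator_trans hv₀ u (hZS hz)
    rw [hc, mem_centralizer_iff]
    intro z' hz'
    exact commute_trans_smul (hZS hz') c
  -- transport to `X`
  set PX : Subgroup X := (transSubgroup F).map e.symm.toMonoidHom with hPX
  set gX : X := e.symm g with hgX
  have hPXp : IsPGroup p PX := (isPGroup_transSubgroup (F := F)).map _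
  haveI hVn : (transSubgroup F).Normal := transSubgroup_normal
  haveI hPXn : PX.Normal := Subgroup.Normal.map hVn _ e.symm.surjective
  have hNtop : Subgroup.normalizer (PX : Set X) = ⊤ := Subgroup.normalizer_eq_top PX
  have hgXN : gX ∈ Subgroup.normalizer (PX : Set X) := by rw [hNtop]; exact Subgroup.mem_top _
  have hquadX : ⁅⁅PX, Subgroup.zpowers gX⁆, Subgroup.zpowers gX⁆ = ⊥ := by
    have h1 : Subgroup.zpowers gX = (Subgroup.zpowers g).map e.symm.toMonoidHom := by
      rw [MonoidHom.map_zpowers]; rfl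
    rw [h1, hPX, ← Subgroup.map_commutator, ← Subgroup.map_commutator, hquad, Subgroup.map_bot]
  have hmem := hst PX hPXp gX hgXN hquadX
  -- the map to `SL₂(F)`
  set N := Subgroup.normalizer (PX : Set X) with hN
  set ψ : ↥N →* Matrix.SpecialLinearGroup (Fin 2) F :=
    (proj F).comp (e.toMonoidHom.comp N.subtype) with hψ
  have hker : (Subgroup.centralizer (PX : Set X)).subgroupOf N ≤ ψ.ker := by
    intro c hc
    rw [Subgroup.mem_subgroupOf, mem_centralizer_iff] at hc
    rw [MonoidHom.mem_ker]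
    have h1 : e (c : X) ∈ Subgroup.centralizer (transSubgroup F : Set ↥(affSubgroup F)) := by
      rw [mem_centralizer_iff]
      intro t ht
      have h2 := hc (e.symm t) ⟨t, ht, rfl⟩
      have h3 := congrArg e h2
      simpa using h3
    have h4 := centralizer_transSubgroup_le h1
    unfold transSubgroup at h4
    rw [MonoidHom.mem_ker] at h4
    exact h4
  set ψ' := QuotientGroup.lift ((Subgroup.centralizer (PX : Set X)).subgroupOf N) ψ hker with hψ'
  have hsurj : Function.Surjective ψ' := by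
    intro B
    refine ⟨QuotientGroup.mk ⟨e.symm (linHom F B), by rw [hNtop]; exact Subgroup.mem_top _⟩, ?_⟩
    rw [hψ', QuotientGroup.lift_mk, hψ]
    simp [proj_linHom]
  have hcore : (pCore p (↥N ⧸ (Subgroup.centralizer (PX : Set X)).subgroupOf N)).map ψ' = ⊥ := by
    apply eq_bot_of_normal_of_isPGroup (p := p)
    · haveI := Cfsg.Agent.Helper10.pCore_normal p
        (G := ↥N ⧸ (Subgroup.centralizer (PX : Set X)).subgroupOf N)
      exact Subgroup.Normal.map inferInstance _ hsurj
    · exact (Cfsg.Agent.Helper10.pCore_isPGroup p).map _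
  have h5 : ψ' (QuotientGroup.mk (⟨gX, hgXN⟩ : ↥N)) ∈
      (pCore p (↥N ⧸ (Subgroup.centralizer (PX : Set X)).subgroupOf N)).map ψ' :=
    Subgroup.mem_map_of_mem _ hmem
  rw [hcore, Subgroup.mem_bot, hψ', QuotientGroup.lift_mk, hψ] at h5
  apply hgV
  unfold transSubgroup
  rw [MonoidHom.mem_ker]
  simpa [hgX] using h5

end notstable

end Cfsg.Agent.Helper1.ZJF
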