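import Mathlib
import Cfsg.Prelude.Def_PLocal
import Cfsg.Prelude.Def_ConjugacyFunctors
import Cfsg.Agent.Lib.Helper10.SecFusion
import Cfsg.Agent.Lib.Helper10.SecInduced
import Cfsg.Agent.Lib.Helper4.ZJAbelian
import Cfsg.Agent.Lib.Helper4.ZJMap
import Cfsg.Agent.Lib.Helper4.SL2FreeApps
import Cfsg.Agent.Lib.Helper4.QdFree
import Cfsg.Agent.S0653
import Cfsg.Agent.S0664

/-!
# `Z(J(S))` controls strong fusion in section-closed classes where the `ZJ`-theorem holds

The functor `zjA Q = Z(J(Q))` (abelian version) is an isomorphism-invariant `p`-group functor.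
Feeding it into helper10's `sec_fusion` gives Glauberman's theorem: in a section-closed class of
groups whose constrained members have `Z(J(S))` normal, `N(Z(J(S)))` controls strong fusion.
-/

set_option autoImplicit false

namespace Cfsg.Agent.Helper1.ZJF

open Cfsg Subgroup
open Cfsg.Agent.Helper10 (rcs rcg NChain NComp stepFamily indFam SecClosed Constrained)

universe u

/-- `Z(J(Q))`, abelian version, as a functor on groups -/
def zjA : ∀ (Q : Type u) [Group Q], Subgroup Q := fun Q _ => Cfsg.centerThompsonAOf (⊤ : Subgroup Q)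

theorem inducedFunctor_zjA {H : Type u} [Group H] [Finite H] (P : Subgroup H) :
    inducedFunctor zjA P = Cfsg.centerThompsonAOf P := by
  unfold inducedFunctor zjA
  rw [← Cfsg.Agent.Helper4.ZJ.centerThompsonAOf_map_of_injOn P.subtype ⊤
    (fun x _ y _ h => P.subtype_injective h)]
  congr 1
  rw [← MonoidHom.range_eq_map, Subgroup.range_subtype]

/-- `Z(Q) ≤ Z(J(Q))` -/
theorem center_le_centerThompsonAOf {H : Type*} [Group H] [Finite H] (Q : Subgroup H) :
    Q ⊓ centralizer (Q : Set H) ≤ Cfsg.centerThompsonAOf Q := by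
  apply Cfsg.Agent.Helper4.ZJ.le_centerThompsonAOf inf_le_left
  intro A hA
  obtain ⟨hAQ, hAc, hmax⟩ := Cfsg.Agent.Helper4.ZJ.mem_famA.1 hA
  set Z := Q ⊓ centralizer (Q : Set H) with hZ
  have hcomm : IsMulCommutative (A ⊔ Z : Subgroup H) := by
    apply Cfsg.Agent.Helper4.ZJ.sup_comm_of A Z (Cfsg.Agent.Helper4.ZJ.comm_of_mem_famA hA)
    · intro x hx y hy
      exact (mem_centralizer_iff.mp hy.2 x hx.1)
    · intro x hx y hy
      exact (mem_centralizer_iff.mp hy.2 x (hAQ hx))
  have hle : (A ⊔ Z : Subgroup H) ≤ Q := sup_le hAQ inf_le_left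
  have hcard := hmax _ hle hcomm
  have heq : A = A ⊔ Z := Subgroup.eq_of_le_of_card_ge le_sup_left hcard
  rw [heq]; exact le_sup_right

theorem isCharPFunctor_zjA (p : ℕ) [Fact p.Prime] : IsCharPFunctor.{u} p zjA := by
  refine ⟨?_, ?_⟩
  · intro Q _ _ hQ hnt h
    have h1 := center_le_centerThompsonAOf (⊤ : Subgroup Q)
    unfold zjA at h
    rw [h, le_bot_iff] at h1
    have h2 : Subgroup.center Q = ⊥ := by
      rw [eq_bot_iff]
      intro z hz
      rw [← h1]
      refine ⟨Subgroup.mem_top z, ?_⟩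
      show z ∈ centralizer ((⊤ : Subgroup Q) : Set Q)
      rw [mem_centralizer_iff]
      intro x _
      exact (Subgroup.mem_center_iff.mp hz x)
    have h3 := hQ.center_nontrivial
    rw [h2] at h3
    exact not_nontrivial _ h3
  · intro Q R _ _ _ hQ φ
    haveI : Finite R := Finite.of_equiv Q φ.toEquiv
    unfold zjA
    rw [← Cfsg.Agent.Helper4.ZJ.centerThompsonAOf_map_of_injOn φ.toMonoidHom ⊤
      (fun x _ y _ h => φ.injective h)]
    congr 1
    rw [← MonoidHom.range_eq_map]
    exact MonoidHom.range_eq_top.mpr φ.surjective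

section control

variable {p : ℕ} [Fact p.Prime]

theorem h𝓦_zjA : ∀ W ∈ ({zjA} : Set (∀ (Q : Type u) [Group Q], Subgroup Q)),
    IsCharPFunctor.{u} p W := by
  intro W hW
  rw [Set.mem_singleton_iff] at hW
  subst hW
  exact isCharPFunctor_zjA p

theorem mem_of_nchain {H : Type*} [Group H] {𝓝 : Set (Subgroup H)} {R K : Subgroup H}
    (h𝓝 : ∀ N ∈ 𝓝, N ≤ K) {A : Set H} {g : H} (h : NChain 𝓝 R A g) : g ∈ K := by
  induction h with
  | nil A _ => exact K.one_mem
  | cons A N x g hN hx _ _ ih => exact K.mul_mem (h𝓝 N hN hx) ih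

/-- if `Z(J(S))` is normal for the Sylow subgroups `S`, it controls strong fusion -/
theorem fcs_of_zj_normal {H : Type u} [Group H] [Finite H]
    (hZJ : ∀ S : Sylow p H, (Cfsg.centerThompsonAOf (S : Subgroup H)).Normal) :
    FamilyControlsStrongFusionIn p (indFam {zjA} H) ⊤ := by
  have S₀ : Sylow p H := default
  have hrelS : ¬ p ∣ (S₀ : Subgroup H).relIndex ⊤ := by
    rw [Subgroup.relIndex_top_right]; exact S₀.not_dvd_index
  apply Cfsg.Agent.Helper10.ncomp_to_fcs (S₀ : Subgroup H) le_top S₀.isPGroup' hrelS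
  intro A g _ hA hgA
  refine NComp.single
    (N := ⊤ ⊓ Subgroup.normalizer ((inducedFunctor (G := H) zjA (S₀ : Subgroup H) : Subgroup H) : Set H))
    ⟨_, ⟨zjA, rfl, rfl⟩, rfl⟩ ⟨Subgroup.mem_top _, ?_⟩ hA hgA
  rw [inducedFunctor_zjA]
  haveI := hZJ S₀
  rw [Subgroup.normalizer_eq_top]
  exact Subgroup.mem_top _

/-- **Glauberman**: in a section-closed class whose constrained members have `Z(J(S))` normal,
`Z(J)` controls strong fusion -/
theorem zj_fcs (𝒞 : ∀ (H : Type u) [Group H], Prop) (h𝒞 : SecClosed 𝒞)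
    (hZJ : ∀ (H : Type u) [Group H] [Finite H], 𝒞 H → Constrained p H →
      ∀ S : Sylow p H, (Cfsg.centerThompsonAOf (S : Subgroup H)).Normal)
    (H : Type u) [Group H] [Finite H] (hH : 𝒞 H) :
    FamilyControlsStrongFusionIn p (indFam {zjA} H) ⊤ :=
  Cfsg.Agent.Helper10.sec_fusion 𝒞 h𝒞 h𝓦_zjA ⟨zjA, rfl⟩
    (fun H _ _ hH hc => fcs_of_zj_normal (hZJ H hH hc)) (Nat.card H) H le_rfl hH

/-- from family control by `{Z(J)}` in `M` to an element of `N_M(Z(J(R)))` -/
theorem exists_mem_normalizer_of_fcs {H : Type u} [Group H] [Finite H] {M : Subgroup H}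
    (h : FamilyControlsStrongFusionIn p (indFam {zjA} H) M) (R : Subgroup H) (hRM : R ≤ M)
    (hRp : IsPGroup p R) (hRidx : ¬ p ∣ R.relIndex M) (A : Set H) (g : H) (hg : g ∈ M)
    (hA : A ⊆ (R : Set H)) (hgA : rcs g A ⊆ (R : Set H)) :
    ∃ n ∈ M ⊓ Subgroup.normalizer ((Cfsg.centerThompsonAOf R : Subgroup H) : Set H),
      ∀ a ∈ A, n⁻¹ * a * n = g⁻¹ * a * g := by
  have h1 := Cfsg.Agent.Helper10.fcs_transfer
    (Cfsg.Agent.Helper10.indFam_conj (H := H) (p := p) h𝓦_zjA) h R hRM hRp hRidx A g hg hA hgA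
  obtain ⟨g', hg1, hg2⟩ := h1
  refine ⟨g', ?_, hg2⟩
  apply mem_of_nchain _ hg1
  rintro N ⟨W, ⟨W₀, hW₀, rfl⟩, rfl⟩
  rw [Set.mem_singleton_iff] at hW₀
  subst hW₀
  show M ⊓ Subgroup.normalizer ((inducedFunctor (G := H) zjA R : Subgroup H) : Set H) ≤ _
  rw [inducedFunctor_zjA]

end control

section instances

open Cfsg.Agent.Helper4.SLF Cfsg.Agent.Helper4.QDF

variable {p : ℕ} [Fact p.Prime]

theorem secClosed_sl2free (p : ℕ) :
    SecClosed (fun (H : Type u) [Group H] => SL2Free p H) where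
  iso := fun e h h' => h (Inv.of_injective e.symm.toMonoidHom e.symm.injective h')
  sub := fun h L => h.subgroup L
  quot := fun h N _ => h.quotient N

theorem secClosed_qdfree (p : ℕ) :
    SecClosed (fun (H : Type u) [Group H] => QdFree p H) where
  iso := fun e h h' => h (Inv.of_injective e.symm.toMonoidHom e.symm.injective h')
  sub := fun h L => h.subgroup L
  quot := fun h N _ => h.quotient N

/-- `SL₂(p)`-free groups, `p` odd: `Z(J)` controls strong fusion -/
theorem fcs_of_sl2free (hp : p ≠ 2) (H : Type u) [Group H] [Finite H] (hH : SL2Free p H) :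
    FamilyControlsStrongFusionIn p (indFam {zjA} H) ⊤ := by
  refine zj_fcs (fun (H : Type u) [Group H] => SL2Free p H) (secClosed_sl2free p) ?_ H hH
  intro H _ _ hH hc S
  have := Cfsg.Agent.S0653.result hp hc
    (fun P _ hP => Cfsg.Agent.Helper4.SLF.isPStableOn_of_sl2free hp hH P hP) S
  infer_instance

/-- `Qd(p)`-free groups, `p` odd: `Z(J)` controls strong fusion -/
theorem fcs_of_qdfree (hp : p ≠ 2) (H : Type u) [Group H] [Finite H] (hH : QdFree p H) :
    FamilyControlsStrongFusionIn p (indFam {zjA} H) ⊤ := by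
  refine zj_fcs (fun (H : Type u) [Group H] => QdFree p H) (secClosed_qdfree p) ?_ H hH
  intro H _ _ hH hc S
  exact Cfsg.Agent.S0664.result hp (qdfree_iff.mp hH) hc S

end instances

end Cfsg.Agent.Helper1.ZJF
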