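import Mathlib
import Cfsg.Agent.Lib.Helper1.DLocal
import Cfsg.Agent.Lib.Helper1.QdNotStable
import Cfsg.Agent.Lib.Helper1.ZJFusion
import Cfsg.Agent.S3079

/-!
# Glauberman's local-to-global induction for the functor of a strongly closed subgroup

For a section-closed class of groups in whose constrained members `W(D)` is normal (`D` strongly
closed in a Sylow `p`-subgroup), `N(W(D))` controls strong fusion in all members.  This follows
helper10's `sec_fusion`, for triples `(G, S, D)`.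
-/

set_option autoImplicit false

namespace Cfsg.Agent.Helper1.DF

open Cfsg Subgroup
open Cfsg.Agent.Helper10 (rcs rcg Constrained SecClosed mem_rcs mem_rcg coe_rcg
  mem_normalizer_iff_rcg)
open Cfsg.Agent.Helper10.GTS (CharFun0)

universe u

variable {p : ℕ} [Fact p.Prime]

section step

variable {G : Type u} [Group G] [Finite G]

/-- a strongly closed subgroup all of whose conjugates lie in `S` is normal -/
theorem normalizer_eq_top_of_sc {D S : Subgroup G} (hD : IsStronglyClosed D S)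
    (h : ∀ g : G, ∀ d ∈ D, g * d * g⁻¹ ∈ S) : normalizer (D : Set G) = ⊤ := by
  rw [eq_top_iff]
  intro g _
  apply Cfsg.Agent.Helper10.mem_normalizer_of_conj_mem
  · intro d hd
    exact hD.2 d hd g (h g d hd)
  · intro d hd
    have := hD.2 d hd g⁻¹ (h g⁻¹ d hd)
    simpa using this

theorem ctlIn_of_normalizer_D_top (cf : CharFun0.{u} p) {D S : Subgroup G} (hDp : IsPGroup p D)
    (h : normalizer (D : Set G) = ⊤) : CtlIn ⊤ (cf.W G D) S := by
  apply ctlIn_of_normal
  rw [eq_top_iff, ← h]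
  exact normalizer_le_cf cf D hDp

/-- the inductive step -/
theorem dsec_step (cf : CharFun0.{u} p)
    (hsub : ∀ L : Subgroup G, L ≠ ⊤ → ∀ S D : Subgroup ↥L, IsPGroup p S → ¬ p ∣ S.index →
      IsStronglyClosed D S → CtlIn ⊤ (cf.W ↥L D) S)
    (hquot : ∀ (N : Subgroup G) [N.Normal], N ≠ ⊥ → ∀ S D : Subgroup (G ⧸ N), IsPGroup p S →
      ¬ p ∣ S.index → IsStronglyClosed D S → CtlIn ⊤ (cf.W (G ⧸ N) D) S)
    (hcon : Constrained p G → ∀ S D : Subgroup G, IsPGroup p S → ¬ p ∣ S.index →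
      IsStronglyClosed D S → (cf.W G D).Normal)
    (S D : Subgroup G) (hS : IsPGroup p S) (hidx : ¬ p ∣ S.index) (hD : IsStronglyClosed D S) :
    CtlIn ⊤ (cf.W G D) S := by
  by_cases hD1 : D = ⊥
  · exact ctlIn_of_eq_bot cf S D hD1
  set V := cf.W G D with hV
  have hDp : IsPGroup p D := hS.to_le hD.1
  have hVS : V ≤ S := (cf.le_self G D).trans hD.1
  have hSV : S ≤ normalizer (V : Set G) :=
    (le_normalizer_of_sc hD).trans (normalizer_le_cf cf D hDp)
  -- the property of conjugation maps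
  set Good : Set G → G → Prop := fun A g =>
    ∃ n ∈ normalizer (V : Set G), ∀ a ∈ A, n⁻¹ * a * n = g⁻¹ * a * g with hGood
  have hmono : ∀ (A B : Set G) (g : G), Good B g → A ⊆ B → Good A g := by
    rintro A B g ⟨n, hn, hnB⟩ hAB
    exact ⟨n, hn, fun a ha => hnB a (hAB ha)⟩
  have htrans : ∀ (A : Set G) (g h : G), Good A g → Good (rcs g A) h → Good A (g * h) := by
    rintro A g h ⟨n₁, hn₁, h1⟩ ⟨n₂, hn₂, h2⟩
    refine ⟨n₁ * n₂, mul_mem hn₁ hn₂, fun a ha => ?_⟩
    have e1 : (n₁ * n₂)⁻¹ * a * (n₁ * n₂) = n₂⁻¹ * (n₁⁻¹ * a * n₁) * n₂ := by group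
    rw [e1, h1 a ha, h2 _ ⟨a, ha, rfl⟩]
    group
  have hinv : ∀ (A : Set G) (g : G), Good A g → Good (rcs g A) g⁻¹ := by
    rintro A g ⟨n, hn, h1⟩
    refine ⟨n⁻¹, inv_mem hn, ?_⟩
    rintro _ ⟨a, ha, rfl⟩
    show n⁻¹⁻¹ * (g⁻¹ * a * g) * n⁻¹ = g⁻¹⁻¹ * (g⁻¹ * a * g) * g⁻¹
    calc n⁻¹⁻¹ * (g⁻¹ * a * g) * n⁻¹ = n⁻¹⁻¹ * (n⁻¹ * a * n) * n⁻¹ := by rw [h1 a ha]
      _ = a := by group
      _ = g⁻¹⁻¹ * (g⁻¹ * a * g) * g⁻¹ := by group
  have hcongr : ∀ (A : Set G) (g g₂ : G), Good A g →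
      (∀ a ∈ A, g₂⁻¹ * a * g₂ = g⁻¹ * a * g) → Good A g₂ := by
    rintro A g g₂ ⟨n, hn, h1⟩ h2
    exact ⟨n, hn, fun a ha => (h1 a ha).trans (h2 a ha).symm⟩
  have hSgood : ∀ (A : Set G), ∀ r ∈ S, Good A r := fun A r hr => ⟨r, hSV hr, fun _ _ => rfl⟩
  suffices hmain : ∀ (A : Set G) (g : G), A ⊆ (S : Set G) → rcs g A ⊆ (S : Set G) → Good A g by
    intro A g _ hA hgA
    obtain ⟨n, hn, hnA⟩ := hmain A g hA hgA
    exact ⟨n, ⟨mem_top _, hn⟩, hnA⟩
  -- proper subgroups containing `S`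
  have hsubG : ∀ L : Subgroup G, L ≠ ⊤ → S ≤ L → ∀ (A : Set G) (g : G), g ∈ L →
      A ⊆ (S : Set G) → rcs g A ⊆ (S : Set G) → Good A g := by
    intro L hL hSL A g hg hA hgA
    have hS' : IsPGroup p (S.subgroupOf L) := hS.comap_subtype
    have hidx' : ¬ p ∣ (S.subgroupOf L).index := by
      show ¬ p ∣ S.relIndex L
      exact fun hd => hidx (hd.trans (Subgroup.relIndex_dvd_index_of_le hSL))
    have h1 := ctlIn_of_subtype cf L S D hS hD.1
      (hsub L hL (S.subgroupOf L) (D.subgroupOf L) hS' hidx' (sc_subgroupOf hD L))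
    rw [inf_eq_left.mpr (hD.1.trans hSL), inf_eq_left.mpr hSL] at h1
    obtain ⟨n, hn, hnA⟩ := h1 A g hg hA hgA
    exact ⟨n, hn.2, hnA⟩
  -- `O_{p'}(G) ≠ 1`
  by_cases hY : pPrimeCore p G = ⊥
  swap
  · have hK : (Nat.card (pPrimeCore p G)).Coprime p :=
      Cfsg.Agent.Helper22.card_pPrimeCore_coprime p
    set π := QuotientGroup.mk' (pPrimeCore p G) with hπ
    have hπs : Function.Surjective π := QuotientGroup.mk'_surjective _
    have hmap : cf.W (G ⧸ pPrimeCore p G) (D.map π) = V.map π :=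
      cf.map G (G ⧸ pPrimeCore p G) π D hDp
        ((Cfsg.Agent.Helper10.injOn_mk_of_coprime S (pPrimeCore p G) hS hK).mono
          (SetLike.coe_subset_coe.mpr hD.1))
    have hidxb : ¬ p ∣ (S.map π).index :=
      fun hd => hidx (hd.trans (Subgroup.index_map_dvd S hπs))
    have h1 := hquot (pPrimeCore p G) hY (S.map π) (D.map π) (hS.map π) hidxb
      (sc_map_of_coprime hD hS (pPrimeCore p G) hK)
    rw [hmap] at h1
    have h2 := ctl_of_quotient_pprime (pPrimeCore p G) hK S V hS hVS hSV h1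
    intro A g hA hgA
    obtain ⟨n, hn, hnA⟩ := h2 A g (mem_top _) hA hgA
    exact ⟨n, hn.2, hnA⟩
  -- the constrained case
  by_cases hc : Constrained p G
  · haveI := hcon hc S D hS hidx hD
    intro A g _ _
    exact ⟨g, by rw [normalizer_eq_top]; exact mem_top g, fun _ _ => rfl⟩
  haveI hQn : (pCore p G).Normal := Cfsg.Agent.Helper10.pCore_normal p
  have hQp : IsPGroup p (pCore p G) := Cfsg.Agent.Helper10.pCore_isPGroup p
  have hQS : pCore p G ≤ S := Cfsg.Agent.Helper10.pCore_le_sylow S hS hidx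
  -- `S` normal
  by_cases hSP : S ≤ pCore p G
  · have hSeq : S = pCore p G := le_antisymm hSP hQS
    have hSn : S.Normal := by rw [hSeq]; exact hQn
    have hDn : normalizer (D : Set G) = ⊤ :=
      normalizer_eq_top_of_sc hD (fun g d hd => hSn.conj_mem d (hD.1 hd) g)
    have h1 := ctlIn_of_normalizer_D_top cf (S := S) hDp hDn
    intro A g hA hgA
    obtain ⟨n, hn, hnA⟩ := h1 A g (mem_top _) hA hgA
    exact ⟨n, hn.2, hnA⟩
  -- `O_p(G) = 1`
  by_cases hP : pCore p G = ⊥
  · have h1 : CtlIn ⊤ (cf.W G D) S := by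
      apply ctl_of_locals cf S D hS hidx hD hD1
      intro T hTS hT1 hfn
      have hNne : normalizer (T : Set G) ≠ ⊤ := by
        intro hN
        apply hT1
        have hTn : T.Normal := normalizer_eq_top_iff.mp hN
        have := Cfsg.Agent.Helper10.le_pCore' hTn (hS.to_le hTS)
        rw [hP] at this
        exact le_bot_iff.mp this
      have hS' : IsPGroup p (S.subgroupOf (normalizer (T : Set G))) := hS.comap_subtype
      have hidx' : ¬ p ∣ (S.subgroupOf (normalizer (T : Set G))).index := by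
        show ¬ p ∣ S.relIndex (normalizer (T : Set G))
        rw [← Subgroup.inf_relIndex_right]
        exact hfn
      exact hsub _ hNne _ _ hS' hidx' (sc_subgroupOf hD _)
    intro A g hA hgA
    obtain ⟨n, hn, hnA⟩ := h1 A g (mem_top _) hA hgA
    exact ⟨n, hn.2, hnA⟩
  set Q := pCore p G with hQdef
  set C := centralizer (Q : Set G) with hC
  haveI hCn : C.Normal := Subgroup.normal_centralizer
  by_cases h1 : C ⊔ S = ⊤
  · -- the quotient step
    by_cases hDQ : D ≤ Q
    · have hDn : normalizer (D : Set G) = ⊤ := by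
        rw [eq_top_iff, ← h1]
        apply sup_le _ (le_normalizer_of_sc hD)
        exact (centralizer_le (SetLike.coe_subset_coe.mpr hDQ)).trans
          (centralizer_le_normalizer _)
      have h2 := ctlIn_of_normalizer_D_top cf (S := S) hDp hDn
      intro A g hA hgA
      obtain ⟨n, hn, hnA⟩ := h2 A g (mem_top _) hA hgA
      exact ⟨n, hn.2, hnA⟩
    apply Cfsg.Agent.Helper10.fn_final S hS hidx Good hmono htrans hinv
    intro U hUS hfn x hx hbig
    by_cases hQU : Q ≤ U
    swap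
    · have hlt : U < U ⊔ Q := lt_of_le_of_ne le_sup_left (fun h => hQU (h ▸ le_sup_right))
      have hU'S : U ⊔ Q ≤ S := sup_le hUS hQS
      have hxU' : rcg x (U ⊔ Q) = U ⊔ Q := by
        have e : rcg x (U ⊔ Q) = rcg x U ⊔ rcg x Q := Subgroup.map_sup _ _ _
        rw [e, mem_normalizer_iff_rcg.mp hx, Cfsg.Agent.Helper10.rcg_eq_self_of_normal]
      have := hbig (U ⊔ Q) hU'S (Cfsg.Agent.Helper10.card_lt_card_of_lt hlt) x
        (by rw [hxU']; exact hU'S)
      exact hmono _ _ _ this (SetLike.coe_subset_coe.mpr le_sup_left)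
    set π := QuotientGroup.mk' Q with hπ
    have hπs : Function.Surjective π := QuotientGroup.mk'_surjective Q
    have hSbp : IsPGroup p (S.map π) := hS.map π
    have hidxb : ¬ p ∣ (S.map π).index :=
      fun hd => hidx (hd.trans (Subgroup.index_map_dvd S hπs))
    have hDb : IsStronglyClosed (D.map π) (S.map π) := sc_map_of_le hD Q hQS
    have hq := hquot Q hP (S.map π) (D.map π) hSbp hidxb hDb
    set Vb := cf.W (G ⧸ Q) (D.map π) with hVb
    have hcomap : (S.map π).comap π = S := by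
      rw [Subgroup.comap_map_eq, hπ, QuotientGroup.ker_mk', sup_eq_left.mpr hQS]
    have hxU : rcs x (U : Set G) = (U : Set G) := by
      rw [← coe_rcg, mem_normalizer_iff_rcg.mp hx]
    have hUS' : (U : Set G) ⊆ (S : Set G) := SetLike.coe_subset_coe.mpr hUS
    have hA' : π '' (U : Set G) ⊆ ((S.map π : Subgroup (G ⧸ Q)) : Set (G ⧸ Q)) := by
      rintro _ ⟨a, ha, rfl⟩
      exact ⟨a, hUS ha, rfl⟩
    have hgA' : rcs (π x) (π '' (U : Set G)) ⊆ ((S.map π : Subgroup (G ⧸ Q)) : Set (G ⧸ Q)) := by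
      rw [← Cfsg.Agent.Helper10.image_rcs, hxU]; exact hA'
    obtain ⟨nb, ⟨-, hnb⟩, hnbU⟩ := hq (π '' (U : Set G)) (π x) (mem_top _) hA' hgA'
    obtain ⟨n, rfl⟩ := hπs nb
    set N₂ : Subgroup G := (normalizer (Vb : Set (G ⧸ Q))).comap π with hN₂
    have hDbp : IsPGroup p (D.map π) := hDp.map π
    have hSN₂ : S ≤ N₂ := by
      intro s hs
      rw [hN₂, mem_comap]
      exact normalizer_le_cf cf (D.map π) hDbp
        (le_normalizer_of_sc hDb (mem_map_of_mem π hs))
    have hN₂ne : N₂ ≠ ⊤ := by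
      intro hN
      apply hDQ
      have h3 : normalizer (Vb : Set (G ⧸ Q)) = ⊤ := by
        rw [eq_top_iff]
        intro y _
        obtain ⟨y₀, rfl⟩ := hπs y
        have h0 : y₀ ∈ N₂ := by rw [hN]; exact mem_top _
        exact h0
      have hVbn : Vb.Normal := normalizer_eq_top_iff.mp h3
      have hVbp : IsPGroup p Vb := hDbp.to_le (cf.le_self _ _)
      have h4 : Vb ≤ pCore p (G ⧸ Q) := Cfsg.Agent.Helper10.le_pCore' hVbn hVbp
      rw [Cfsg.Agent.Helper10.pCore_quotient_pCore] at h4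
      have h5 : Vb = ⊥ := le_bot_iff.mp h4
      have h6 : D.map π = ⊥ := by
        by_contra hne
        exact cf.ne_bot (G ⧸ Q) (D.map π) hDbp hne h5
      intro d hd
      have h7 : π d ∈ D.map π := mem_map_of_mem π hd
      rw [h6, mem_bot] at h7
      exact (QuotientGroup.eq_one_iff d).mp h7
    have hnN₂ : n ∈ N₂ := hnb
    have hact : ∀ a ∈ U, π (n⁻¹ * a * n) = π (x⁻¹ * a * x) := by
      intro a ha
      have := hnbU (π a) ⟨a, ha, rfl⟩
      simpa only [map_mul, map_inv] using this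
    have hnU : rcs n (U : Set G) ⊆ (S : Set G) := by
      rintro _ ⟨a, ha, rfl⟩
      have h3 : π (n⁻¹ * a * n) ∈ S.map π := by
        rw [hact a ha]
        refine mem_map_of_mem π (hUS ?_)
        have : x⁻¹ * a * x ∈ rcs x (U : Set G) := ⟨a, ha, rfl⟩
        rwa [hxU] at this
      have h4 : n⁻¹ * a * n ∈ (S.map π).comap π := h3
      rwa [hcomap] at h4
    have g2 : Good (U : Set G) n := hsubG N₂ hN₂ne hSN₂ (U : Set G) n hnN₂ hUS' hnU
    set y := x * n⁻¹ with hy
    have hyP : ∀ a ∈ U, a⁻¹ * (y⁻¹ * a * y) ∈ Q := by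
      intro a ha
      rw [← QuotientGroup.eq_one_iff]
      have ha' : x⁻¹ * a * x ∈ U := by
        have : x⁻¹ * a * x ∈ rcs x (U : Set G) := ⟨a, ha, rfl⟩
        rwa [hxU] at this
      have h3 := hact a ha
      show π (a⁻¹ * (y⁻¹ * a * y)) = 1
      have e : y⁻¹ * a * y = n * (x⁻¹ * a * x) * n⁻¹ := by rw [hy]; group
      rw [e, map_mul, map_mul, map_mul, ← h3]
      simp only [map_mul, map_inv]
      group
    have hyN : y ∈ normalizer (U : Set G) := by
      apply mem_normalizer_iff_rcg.mpr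
      apply Cfsg.Agent.Helper10.rcg_eq_of_le_of_finite
      intro z hz
      rw [mem_rcg] at hz
      have h3 := hyP _ hz
      have e : (y * z * y⁻¹)⁻¹ * (y⁻¹ * (y * z * y⁻¹) * y) = (y * z * y⁻¹)⁻¹ * z := by group
      rw [e] at h3
      have h4 : z = (y * z * y⁻¹) * ((y * z * y⁻¹)⁻¹ * z) := by group
      rw [h4]
      exact U.mul_mem hz (hQU h3)
    have hyX : y ∈ Cfsg.Agent.Helper10.stabMod U Q :=
      Cfsg.Agent.Helper10.mem_stabMod_iff.mpr ⟨hyN, hyP⟩
    obtain ⟨r, hr, c, hc', hyrc⟩ :=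
      Cfsg.Agent.Helper10.stabMod_factor S hS Q hQp h1 U hfn y hyX
    have hxe : x = r * c * n := by rw [← hyrc, hy]; group
    have hrU : rcs r (U : Set G) = (U : Set G) := by
      rw [← coe_rcg, mem_normalizer_iff_rcg.mp hr.2]
    have g1 : Good (U : Set G) r := hSgood _ r hr.1
    have g3 : Good (U : Set G) (r * n) := htrans _ _ _ g1 (by rw [hrU]; exact g2)
    apply hcongr _ _ _ g3
    intro a ha
    rw [hxe]
    have hra : r⁻¹ * a * r ∈ U := by
      have : r⁻¹ * a * r ∈ rcs r (U : Set G) := ⟨a, ha, rfl⟩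
      rwa [hrU] at this
    have hcc : c⁻¹ * (r⁻¹ * a * r) * c = r⁻¹ * a * r := by
      have h3 := mem_centralizer_iff.mp hc' _ hra
      calc c⁻¹ * (r⁻¹ * a * r) * c = c⁻¹ * ((r⁻¹ * a * r) * c) := by group
        _ = c⁻¹ * (c * (r⁻¹ * a * r)) := by rw [h3]
        _ = r⁻¹ * a * r := by group
    calc (r * c * n)⁻¹ * a * (r * c * n) = n⁻¹ * (c⁻¹ * (r⁻¹ * a * r) * c) * n := by group
      _ = n⁻¹ * (r⁻¹ * a * r) * n := by rw [hcc]
      _ = (r * n)⁻¹ * a * (r * n) := by group
  -- the Frattini step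
  by_cases h2 : normalizer ((S ⊓ C : Subgroup G) : Set G) = ⊤
  · exfalso
    exact hc (Cfsg.Agent.Helper10.constrained_of_inf_normal S hS hidx hY
      (normalizer_eq_top_iff.mp h2))
  intro A g hA hgA
  have hk := Cfsg.Agent.Helper10.k_lemma S hS hidx Good htrans C
    (fun g hg B hB hgB => hsubG (C ⊔ S) h1 le_sup_right (B : Set G) g hg
      (SetLike.coe_subset_coe.mpr hB) (by rw [← coe_rcg]; exact SetLike.coe_subset_coe.mpr hgB))
    (fun g hg B hB hgB => hsubG _ h2 (Cfsg.Agent.Helper10.le_normalizer_inf_normal S C)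
      (B : Set G) g hg (SetLike.coe_subset_coe.mpr hB)
      (by rw [← coe_rcg]; exact SetLike.coe_subset_coe.mpr hgB))
    (closure A) ((closure_le S).mpr hA) g (Cfsg.Agent.Helper10.closure_rcg_le hgA)
  exact hmono _ _ _ hk subset_closure

end step

section mainthm

/-- **Glauberman's local-to-global induction** for the functor of a strongly closed subgroup:
in a section-closed class whose constrained members have `W(D)` normal, `N(W(D))` controls strong
fusion -/
theorem dsec_fusion (cf : CharFun0.{u} p) (𝒞 : ∀ (H : Type u) [Group H], Prop)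
    (h𝒞 : SecClosed 𝒞)
    (hloc : ∀ (X : Type u) [Group X] [Finite X], 𝒞 X → Constrained p X →
      ∀ S D : Subgroup X, IsPGroup p S → ¬ p ∣ S.index → IsStronglyClosed D S →
        (cf.W X D).Normal) :
    ∀ (n : ℕ) (X : Type u) [Group X] [Finite X], Nat.card X ≤ n → 𝒞 X →
      ∀ S D : Subgroup X, IsPGroup p S → ¬ p ∣ S.index → IsStronglyClosed D S →
        CtlIn ⊤ (cf.W X D) S := by
  intro n
  induction n with
  | zero =>
    intro X _ _ hcard _
    have : 0 < Nat.card X := Nat.card_pos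
    omega
  | succ n ih =>
    intro X _ _ hcard hX S D hS hidx hD
    apply dsec_step cf _ _ _ S D hS hidx hD
    · intro L hL
      have hlt : Nat.card L < Nat.card X := by
        have h1 : L < ⊤ := lt_top_iff_ne_top.mpr hL
        have h2 := Cfsg.Agent.Helper10.card_lt_card_of_lt h1
        rwa [Subgroup.card_top] at h2
      exact ih ↥L (by omega) (h𝒞.sub hX L)
    · intro N _ hN
      have hlt : Nat.card (X ⧸ N) < Nat.card X := by
        rw [← Subgroup.index_eq_card, ← N.card_mul_index]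
        have h1 : 1 < Nat.card N := by
          rw [Subgroup.one_lt_card_iff_ne_bot]; exact hN
        have h2 : 0 < N.index := Nat.pos_of_ne_zero Subgroup.index_ne_zero_of_finite
        nlinarith
      exact ih (X ⧸ N) (by omega) (h𝒞.quot hX N)
    · exact hloc X hX

/-- `Qd(p)`-free groups, `p` odd: `N(W(D))` controls strong fusion for `D` strongly closed in
a Sylow `p`-subgroup, `W` a functor with the `ZJ`-property -/
theorem ctl_of_qdfree (hp : p ≠ 2) (cf : CharFun0.{u} p) (hZJ : HasZJ cf) {G : Type u} [Group G]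
    [Finite G] (hG : Cfsg.Agent.Helper4.QDF.QdFree p G) (P : Sylow p G) (D : Subgroup G)
    (hD : IsStronglyClosed D (P : Subgroup G)) : CtlIn ⊤ (cf.W G D) (P : Subgroup G) := by
  refine dsec_fusion cf (fun (H : Type u) [Group H] => Cfsg.Agent.Helper4.QDF.QdFree p H)
    (Cfsg.Agent.Helper1.ZJF.secClosed_qdfree p) ?_ (Nat.card G) G le_rfl hG (P : Subgroup G) D
    P.isPGroup' P.not_dvd_index hD
  intro X _ _ hX hc S D hS hidx hD
  have hst : IsNormalizerPStable p X := fun Q hQ g hg hq =>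
    Cfsg.Agent.Helper1.ZJF.normalizer_stable_qd hp Q hQ (hX.subgroup _) g hg hq
  have hStab := Cfsg.Agent.S3079.stab_of_normalizerPStable hst
  have hcoe : ((hS.toSylow hidx : Sylow p X) : Subgroup X) = S := IsPGroup.toSylow_coe hS hidx
  exact hZJ X (hS.toSylow hidx) D (by rw [hcoe]; exact hD) hStab hc

end mainthm

end Cfsg.Agent.Helper1.DF
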