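import Mathlib
import Cfsg.Agent.Lib.Helper1.DSec
import Cfsg.Agent.Lib.Helper10.GTSec
import Cfsg.Agent.Lib.Helper10.StrucStable

/-!
# The Glauberman--Thompson normal `p`-complement theorem for strongly closed subgroups

For `D` strongly closed in a Sylow `p`-subgroup `P` of `G` (`p` odd) and a characteristic functor
`W` with the `ZJ`-property: if `N_G(W(D))` has a normal `p`-complement, so has `G`.  The proof is
the minimal counterexample argument of helper4/helper10 (`GTAbstract`, `GTSec`) for triples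
`(G, P, D)`.
-/

set_option autoImplicit false

namespace Cfsg.Agent.Helper1.DF

open Cfsg Subgroup
open Cfsg.Agent.Helper10 (NPC)
open Cfsg.Agent.Helper10.GTS (CharFun0 normalizer_le0)
open Cfsg.Agent.Helper4.NPCB Cfsg.Agent.Helper4.GT

universe u

variable {p : ℕ} [hpp : Fact p.Prime] (cf : CharFun0.{u} p) {G : Type u} [Group G] [Finite G]

omit hpp [Finite G] in
theorem sc_map_conj {D S : Subgroup G} (hD : IsStronglyClosed D S) (g : G) :
    IsStronglyClosed (D.map (MulAut.conj g).toMonoidHom) (S.map (MulAut.conj g).toMonoidHom) := by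
  refine ⟨Subgroup.map_mono hD.1, ?_⟩
  rintro _ ⟨d, hd, rfl⟩ h ⟨s, hs, hse⟩
  have h1 : (g⁻¹ * h * g) * d * (g⁻¹ * h * g)⁻¹ ∈ D := by
    apply hD.2 d hd
    have e : (g⁻¹ * h * g) * d * (g⁻¹ * h * g)⁻¹ = s := by
      have hse' : g * s * g⁻¹ = h * (g * d * g⁻¹) * h⁻¹ := hse
      calc (g⁻¹ * h * g) * d * (g⁻¹ * h * g)⁻¹ = g⁻¹ * (h * (g * d * g⁻¹) * h⁻¹) * g := by group
        _ = g⁻¹ * (g * s * g⁻¹) * g := by rw [hse']
        _ = s := by group
    rw [e]; exact hs
  refine ⟨_, h1, ?_⟩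
  show g * ((g⁻¹ * h * g) * d * (g⁻¹ * h * g)⁻¹) * g⁻¹ = h * (g * d * g⁻¹) * h⁻¹
  group

omit [Finite G] in
theorem inf_normalizer_le (A B : Subgroup G) :
    normalizer (A : Set G) ⊓ normalizer (B : Set G) ≤ normalizer ((A ⊓ B : Subgroup G) : Set G) := by
  rintro x ⟨hxA, hxB⟩
  rw [mem_normalizer_iff]
  intro y
  constructor
  · rintro ⟨hyA, hyB⟩
    exact ⟨(mem_normalizer_iff.1 hxA y).1 hyA, (mem_normalizer_iff.1 hxB y).1 hyB⟩
  · rintro ⟨hyA, hyB⟩
    exact ⟨(mem_normalizer_iff.1 hxA y).2 hyA, (mem_normalizer_iff.1 hxB y).2 hyB⟩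

/-- the hypothesis passes to all Sylow `p`-subgroups -/
theorem adm_conj (P : Sylow p G) (D : Subgroup G) (hD1 : D ≠ ⊥)
    (hD : IsStronglyClosed D (P : Subgroup G))
    (h : NPC p ↥(normalizer (cf.W G D : Set G))) (P' : Sylow p G) :
    ∃ D' : Subgroup G, D' ≠ ⊥ ∧ IsStronglyClosed D' (P' : Subgroup G) ∧
      NPC p ↥(normalizer (cf.W G D' : Set G)) := by
  obtain ⟨g, hg⟩ := MulAction.exists_smul_eq G P P'
  have h1 : (P' : Subgroup G) = (P : Subgroup G).map (MulAut.conj g).toMonoidHom := by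
    rw [← hg]; rfl
  have hDp : IsPGroup p D := P.2.to_le hD.1
  refine ⟨D.map (MulAut.conj g).toMonoidHom, ?_, ?_, ?_⟩
  · intro h0
    apply hD1
    rwa [Subgroup.map_eq_bot_iff_of_injective _ (MulAut.conj g).injective] at h0
  · rw [h1]; exact sc_map_conj hD g
  · rw [cf.map G G (MulAut.conj g).toMonoidHom _ hDp (MulAut.conj g).injective.injOn,
      ← Subgroup.map_equiv_normalizer_eq]
    exact npc_map_conj _ g h

/-- the induction hypothesis, for subgroups -/
theorem npc_subgroup_of_ihD {n : ℕ}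
    (ih : ∀ m < n, ∀ (X : Type u) [Group X] [Finite X], Nat.card X = m →
      ∀ (P : Sylow p X) (D : Subgroup X), IsStronglyClosed D (P : Subgroup X) →
      NPC p ↥(normalizer (cf.W X D : Set X)) → NPC p X)
    (L : Subgroup G) (hL : Nat.card L < n) (S : Sylow p ↥L) (P₁ : Sylow p G)
    (hS : (S : Subgroup ↥L) = (P₁ : Subgroup G).subgroupOf L) (D₁ : Subgroup G)
    (hD₁ : IsStronglyClosed D₁ (P₁ : Subgroup G))
    (h : NPC p ↥(normalizer (cf.W G (D₁ ⊓ L) : Set G))) :
    NPC p ↥L := by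
  have hsc : IsStronglyClosed (D₁.subgroupOf L) (S : Subgroup ↥L) := by
    rw [hS]; exact sc_subgroupOf hD₁ L
  apply ih _ hL ↥L rfl S (D₁.subgroupOf L) hsc
  have hDp : IsPGroup p (D₁.subgroupOf L) := (P₁.2.to_le hD₁.1).comap_subtype
  have hmap : cf.W G (D₁ ⊓ L) = (cf.W ↥L (D₁.subgroupOf L)).map L.subtype := by
    rw [← cf.map ↥L G L.subtype (D₁.subgroupOf L) hDp (Subgroup.subtype_injective L).injOn,
      Subgroup.subgroupOf_map_subtype]
  rw [hmap] at h
  let f : ↥(normalizer (cf.W ↥L (D₁.subgroupOf L) : Set ↥L)) →*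
      ↥(normalizer (((cf.W ↥L (D₁.subgroupOf L)).map L.subtype : Subgroup G) : Set G)) :=
    (L.subtype.comp (normalizer (cf.W ↥L (D₁.subgroupOf L) : Set ↥L)).subtype).codRestrict _
      (fun x => Subgroup.le_normalizer_map L.subtype ⟨x, x.2, rfl⟩)
  have hf : Function.Injective f := by
    intro x y hxy
    have := congrArg Subtype.val hxy
    exact Subtype.ext (Subtype.ext this)
  exact npc_of_injective f hf h

section minimal

variable {n : ℕ} (hcard : Nat.card G = n)
  (ih : ∀ m < n, ∀ (X : Type u) [Group X] [Finite X], Nat.card X = m →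
      ∀ (P : Sylow p X) (D : Subgroup X), IsStronglyClosed D (P : Subgroup X) →
      NPC p ↥(normalizer (cf.W X D : Set X)) → NPC p X)
  (hall : ∀ P' : Sylow p G, ∃ D' : Subgroup G, D' ≠ ⊥ ∧ IsStronglyClosed D' (P' : Subgroup G) ∧
      NPC p ↥(normalizer (cf.W G D' : Set G)))

include hcard ih hall in
/-- Step 1: a bad subgroup with `ν` maximal is normal. -/
theorem stepAD (H : Subgroup G) (hHp : IsPGroup p H) (hH1 : H ≠ ⊥)
    (hHbad : ¬ NPC p ↥(normalizer (H : Set G)))
    (hmax : ∀ Q : Subgroup G, IsPGroup p Q → Q ≠ ⊥ →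
      ¬ NPC p ↥(normalizer (Q : Set G)) → nu p Q ≤ nu p H) :
    normalizer (H : Set G) = ⊤ := by
  by_contra hne
  set N := normalizer (H : Set G) with hN
  have hNlt : Nat.card N < n := hcard ▸ card_lt_of_ne_top N hne
  obtain R : Sylow p ↥N := default
  set RG : Subgroup G := (R : Subgroup ↥N).map N.subtype with hRG
  have hRGp : IsPGroup p RG := R.isPGroup'.map _
  obtain ⟨P₁, hP₁⟩ := hRGp.exists_le_sylow
  obtain ⟨D₁, hD₁1, hD₁, hnpc₁⟩ := hall P₁
  have hRcoe : (R : Subgroup ↥N) = (P₁ : Subgroup G).subgroupOf N := by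
    have hle : (R : Subgroup ↥N) ≤ (P₁ : Subgroup G).subgroupOf N := by
      intro x hx
      rw [Subgroup.mem_subgroupOf]
      exact hP₁ ⟨x, hx, rfl⟩
    exact (R.is_maximal' (Q := (P₁ : Subgroup G).subgroupOf N) P₁.2.comap_subtype hle).symm
  have hRGeq : RG = (P₁ : Subgroup G) ⊓ N := by
    rw [hRG, hRcoe, Subgroup.subgroupOf_map_subtype]
  have hbad2 : ¬ NPC p ↥(normalizer (cf.W G (D₁ ⊓ N) : Set G)) :=
    fun h => hHbad (npc_subgroup_of_ihD cf ih N hNlt R P₁ hRcoe D₁ hD₁ h)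
  have hHR : H ≤ RG := by
    have : (H.subgroupOf N).Normal := Subgroup.normal_in_normalizer
    have h1 := Cfsg.Agent.Helper23.PSolv.normal_pGroup_le_sylow (H.subgroupOf N)
      hHp.comap_subtype R
    intro x hx
    exact ⟨⟨x, Subgroup.le_normalizer hx⟩, h1 (Subgroup.mem_subgroupOf.mpr hx), rfl⟩
  have hDNeq : D₁ ⊓ N = D₁ ⊓ RG := by
    rw [hRGeq, ← inf_assoc, inf_eq_left.mpr hD₁.1]
  have hDNp : IsPGroup p (D₁ ⊓ N : Subgroup G) := P₁.2.to_le (inf_le_left.trans hD₁.1)
  have hDN1 : D₁ ⊓ N ≠ ⊥ := by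
    have h1 := sc_inf_center_ne_bot P₁.2 hD₁ hD₁1
    intro h0
    apply h1
    rw [eq_bot_iff, ← h0]
    rintro z ⟨hzD, -, hzC⟩
    refine ⟨hzD, ?_⟩
    rw [hN]
    show z ∈ normalizer (H : Set G)
    have hzC' : z ∈ centralizer ((P₁ : Subgroup G) : Set G) := hzC
    rw [mem_centralizer_iff] at hzC'
    rw [mem_normalizer_iff]
    intro h
    have hcomm : ∀ y ∈ H, z * y * z⁻¹ = y := by
      intro y hy
      have := hzC' y (hP₁ (hHR hy))
      rw [← this]; group
    constructor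
    · intro hh
      rw [hcomm h hh]; exact hh
    · intro hh
      have e : h = z⁻¹ * (z * h * z⁻¹) * z := by group
      have hc2 : z⁻¹ * (z * h * z⁻¹) * z = z * h * z⁻¹ := by
        have := hzC' (z * h * z⁻¹) (hP₁ (hHR hh))
        calc z⁻¹ * (z * h * z⁻¹) * z = z⁻¹ * ((z * h * z⁻¹) * z) := by group
          _ = z⁻¹ * (z * (z * h * z⁻¹)) := by rw [this]
          _ = z * h * z⁻¹ := by group
      rw [e, hc2]; exact hh
  have hW1 : cf.W G (D₁ ⊓ N) ≠ ⊥ := cf.ne_bot G _ hDNp hDN1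
  have hWp : IsPGroup p (cf.W G (D₁ ⊓ N)) := hDNp.to_le (cf.le_self G _)
  have hν := hmax _ hWp hW1 hbad2
  have hcardR : Nat.card RG = p ^ nu p H := by
    rw [hRG, Subgroup.card_map_of_injective (Subgroup.subtype_injective _),
      R.card_eq_multiplicity]
    rfl
  by_cases hle : (P₁ : Subgroup G) ≤ RG
  · have hPN : (P₁ : Subgroup G) ≤ N := fun x hx => (hRGeq ▸ hle hx : x ∈ (P₁ : Subgroup G) ⊓ N).2
    have heq : D₁ ⊓ N = D₁ := inf_eq_left.mpr (hD₁.1.trans hPN)
    rw [heq] at hbad2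
    exact hbad2 hnpc₁
  · obtain ⟨x, hxP, hxN, hxR⟩ :=
      Cfsg.Agent.S0658.exists_normalizer_growth (P₁ : Subgroup G) RG P₁.2 hP₁ hle
    set X : Subgroup G := (P₁ : Subgroup G) ⊓ normalizer (RG : Set G) with hX
    have hXp : IsPGroup p X := P₁.2.to_le inf_le_left
    have hlt : Nat.card RG < Nat.card X :=
      Cfsg.Agent.S0658.card_lt_of_lt (le_inf hP₁ Subgroup.le_normalizer)
        (Subgroup.mem_inf.2 ⟨hxP, hxN⟩) hxR
    have hXN : X ≤ normalizer (cf.W G (D₁ ⊓ N) : Set G) := by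
      refine le_trans ?_ (normalizer_le0 cf (D₁ ⊓ N) hDNp)
      rw [hDNeq]
      refine le_trans ?_ (inf_normalizer_le D₁ RG)
      exact le_inf (inf_le_left.trans (le_normalizer_of_sc hD₁)) inf_le_right
    have h1 := card_le_of_le (normalizer (cf.W G (D₁ ⊓ N) : Set G)) X hXp hXN
    have h2 : p ^ nu p (cf.W G (D₁ ⊓ N)) ≤ p ^ nu p H := Nat.pow_le_pow_right hpp.out.pos hν
    have h1' : Nat.card X ≤ p ^ nu p (cf.W G (D₁ ⊓ N)) := h1
    omega

include hcard ih in
/-- Step 3: the quotient by `O_p(G)` has a normal `p`-complement. -/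
theorem stepBD (P : Sylow p G) (D : Subgroup G) (hD : IsStronglyClosed D (P : Subgroup G))
    (hO1 : pCore p G ≠ ⊥) (hDO : ¬ D ≤ pCore p G)
    (hb : ∀ Q : Subgroup G, IsPGroup p Q → (P : Subgroup G) ≤ normalizer (Q : Set G) →
      Nat.card (pCore p G) < Nat.card Q → NPC p ↥(normalizer (Q : Set G))) :
    NPC p (G ⧸ pCore p G) := by
  set O := pCore p G with hO
  have hsurj := QuotientGroup.mk'_surjective O
  have hlt : Nat.card (G ⧸ O) < n := hcard ▸ card_quotient_lt O hO1
  set Pb : Sylow p (G ⧸ O) := P.mapSurjective hsurj with hPb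
  have hPbcoe : (Pb : Subgroup (G ⧸ O)) = (P : Subgroup G).map (QuotientGroup.mk' O) :=
    Sylow.coe_mapSurjective hsurj P
  have hOP : O ≤ P := Cfsg.Agent.Helper23.PSolv.pCore_le_sylow P
  set Db : Subgroup (G ⧸ O) := D.map (QuotientGroup.mk' O) with hDb
  have hscb : IsStronglyClosed Db (Pb : Subgroup (G ⧸ O)) := by
    rw [hPbcoe]; exact sc_map_of_le hD O hOP
  apply ih _ hlt (G ⧸ O) rfl Pb Db hscb
  set Wb := cf.W (G ⧸ O) Db with hWb
  have hDb1 : Db ≠ ⊥ := by
    intro h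
    rw [hDb, Subgroup.map_eq_bot_iff, QuotientGroup.ker_mk'] at h
    exact hDO h
  have hDbp : IsPGroup p Db := Pb.2.to_le hscb.1
  have hWb1 : Wb ≠ ⊥ := cf.ne_bot _ _ hDbp hDb1
  have hWbP : Wb ≤ Pb := (cf.le_self _ _).trans hscb.1
  set H₁ : Subgroup G := Wb.comap (QuotientGroup.mk' O) with hH₁
  have hOH₁ : O ≤ H₁ := by
    intro x hx
    rw [hH₁, Subgroup.mem_comap]
    have : QuotientGroup.mk' O x = 1 := (QuotientGroup.eq_one_iff x).mpr hx
    rw [this]; exact Subgroup.one_mem _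
  have hH₁P : H₁ ≤ P := by
    have h1 : H₁ ≤ ((P : Subgroup G).map (QuotientGroup.mk' O)).comap (QuotientGroup.mk' O) :=
      Subgroup.comap_mono (hPbcoe ▸ hWbP)
    rwa [QuotientGroup.comap_map_mk', sup_eq_right.mpr hOP] at h1
  have hH₁p : IsPGroup p H₁ := P.2.to_le hH₁P
  have hcardlt : Nat.card O < Nat.card H₁ := by
    obtain ⟨⟨w, hw⟩, hw1⟩ := (Subgroup.ne_bot_iff_exists_ne_one (H := Wb)).mp hWb1
    obtain ⟨x, rfl⟩ := hsurj w
    refine Cfsg.Agent.S0658.card_lt_of_lt hOH₁ (x := x) hw ?_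
    intro hxO
    apply hw1
    apply Subtype.ext
    exact (QuotientGroup.eq_one_iff x).mpr hxO
  have hPN : (P : Subgroup G) ≤ normalizer (H₁ : Set G) := by
    rw [hH₁, ← Subgroup.comap_normalizer_eq_of_surjective Wb hsurj]
    intro x hx
    rw [Subgroup.mem_comap]
    apply normalizer_le0 cf Db hDbp
    apply le_normalizer_of_sc hscb
    rw [hPbcoe]
    exact Subgroup.mem_map_of_mem _ hx
  have hnpc := hb H₁ hH₁p hPN hcardlt
  have hNeq : normalizer (Wb : Set (G ⧸ O)) =
      (normalizer (H₁ : Set G)).map (QuotientGroup.mk' O) := by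
    rw [hH₁, ← Subgroup.comap_normalizer_eq_of_surjective Wb hsurj,
      Subgroup.map_comap_eq_self_of_surjective hsurj]
  rw [hNeq]
  exact npc_of_surjective ((QuotientGroup.mk' O).subgroupMap _)
    ((QuotientGroup.mk' O).subgroupMap_surjective _) hnpc

include hcard ih in
/-- Step 4: `O_{p'}(G) = 1`. -/
theorem stepCD (P : Sylow p G) (D : Subgroup G) (hD : IsStronglyClosed D (P : Subgroup G))
    (hnpcD : NPC p ↥(normalizer (cf.W G D : Set G))) (hnot : ¬ NPC p G) :
    pPrimeCore p G = ⊥ := by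
  by_contra hK
  have hKc : (Nat.card (pPrimeCore p G)).Coprime p :=
    Cfsg.Agent.Helper22.card_pPrimeCore_coprime p
  have hlt : Nat.card (G ⧸ pPrimeCore p G) < n := hcard ▸ card_quotient_lt _ hK
  have hsurj := QuotientGroup.mk'_surjective (pPrimeCore p G)
  have hDp : IsPGroup p D := P.2.to_le hD.1
  apply hnot
  apply npc_of_quotient (pPrimeCore p G) hKc
  have hscb : IsStronglyClosed (D.map (QuotientGroup.mk' (pPrimeCore p G)))
      ((P.mapSurjective hsurj : Sylow p (G ⧸ pPrimeCore p G)) :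
        Subgroup (G ⧸ pPrimeCore p G)) := by
    rw [Sylow.coe_mapSurjective]
    exact sc_map_of_coprime hD P.2 (pPrimeCore p G) hKc
  apply ih _ hlt (G ⧸ pPrimeCore p G) rfl (P.mapSurjective hsurj)
    (D.map (QuotientGroup.mk' (pPrimeCore p G))) hscb
  rw [cf.map G (G ⧸ pPrimeCore p G) (QuotientGroup.mk' (pPrimeCore p G))
    D hDp (Cfsg.Agent.S0667.injOn_mk' hDp hKc)]
  have hWp : IsPGroup p (cf.W G D) := hDp.to_le (cf.le_self G _)
  rw [Cfsg.Agent.Helper7.normalizer_map_mk'_eq hWp hKc]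
  exact npc_of_surjective ((QuotientGroup.mk' (pPrimeCore p G)).subgroupMap _)
    ((QuotientGroup.mk' (pPrimeCore p G)).subgroupMap_surjective _) hnpcD

include hcard ih in
/-- Step 6a: `P` is a maximal subgroup of `G`. -/
theorem stepED (P : Sylow p G) (D : Subgroup G) (hD : IsStronglyClosed D (P : Subgroup G))
    (hnpcD : NPC p ↥(normalizer (cf.W G D : Set G)))
    (hcent : centralizer (pCore p G : Set G) ≤ pCore p G) (L : Subgroup G)
    (hPL : (P : Subgroup G) ≤ L) (hL : L ≠ ⊤) : L ≤ P := by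
  have hLlt : Nat.card L < n := hcard ▸ card_lt_of_ne_top L hL
  set S : Sylow p ↥L := P.subtype hPL with hS
  have hScoe : (S : Subgroup ↥L) = (P : Subgroup G).subgroupOf L := by
    rw [hS, Sylow.coe_subtype]
  have hDL : D ⊓ L = D := inf_eq_left.mpr (hD.1.trans hPL)
  have hnpc : NPC p ↥L := npc_subgroup_of_ihD cf ih L hLlt S P hScoe D hD
    (by rw [hDL]; exact hnpcD)
  have hOP : pCore p G ≤ P := Cfsg.Agent.Helper23.PSolv.pCore_le_sylow P
  have hOn : ((pCore p G).subgroupOf L).Normal :=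
    Subgroup.Normal.subgroupOf inferInstance L
  have hpg : IsPGroup p ↥L :=
    isPGroup_of_npc_of_centralizer_le hnpc ((pCore p G).subgroupOf L)
      ((Cfsg.Agent.Helper10.pCore_isPGroup p).comap_subtype) (by
        intro x hx
        rw [Subgroup.mem_subgroupOf]
        apply hcent
        rw [Subgroup.mem_centralizer_iff] at hx ⊢
        intro o ho
        have := hx ⟨o, hPL (hOP ho)⟩ (Subgroup.mem_subgroupOf.mpr ho)
        exact congrArg Subtype.val this)
  exact (P.is_maximal' (Q := L) hpg hPL).le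

end minimal

/-- **Glauberman--Thompson for strongly closed subgroups**, for a functor with the
`ZJ`-property. -/
theorem dgt_aux (hp : p ≠ 2) (hZJ : HasZJ cf) :
    ∀ n : ℕ, ∀ (G : Type u) [Group G] [Finite G], Nat.card G = n →
    ∀ (P : Sylow p G) (D : Subgroup G), IsStronglyClosed D (P : Subgroup G) →
    NPC p ↥(normalizer (cf.W G D : Set G)) → NPC p G := by
  intro n
  induction n using Nat.strong_induction_on with
  | _ n ih =>
  intro G _ _ hcard P D hD hP
  by_contra hnot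
  have hDp : IsPGroup p D := P.2.to_le hD.1
  have hD1 : D ≠ ⊥ := by
    rintro rfl
    have h1 : normalizer (cf.W G (⊥ : Subgroup G) : Set G) = ⊤ := by
      have : cf.W G (⊥ : Subgroup G) = ⊥ := le_bot_iff.mp (cf.le_self G ⊥)
      rw [this]
      exact Subgroup.normalizer_eq_top_iff.mpr inferInstance
    rw [h1] at hP
    exact hnot (npc_top_iff.mp hP)
  have hall := adm_conj cf P D hD1 hD hP
  -- the bad subgroups
  let Bad : Subgroup G → Prop := fun Q =>
    IsPGroup p Q ∧ Q ≠ ⊥ ∧ ¬ NPC p ↥(normalizer (Q : Set G))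
  have hne : ∃ Q, Bad Q := by
    by_contra h
    push Not at h
    apply hnot
    apply npc_of_local
    intro Q hQ hQ1
    by_contra hb
    exact h Q ⟨hQ, hQ1, hb⟩
  let f : Subgroup G → ℕ := fun Q => nu p Q * (Nat.card G + 1) + Nat.card Q
  obtain ⟨H, hHbad, hHmax⟩ := Set.exists_max_image {Q | Bad Q} f (Set.toFinite _) hne
  have hcardle : ∀ Q : Subgroup G, Nat.card Q ≤ Nat.card G := fun Q =>
    Subgroup.card_le_card_group Q
  have hmax1 : ∀ Q, Bad Q → nu p Q ≤ nu p H := by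
    intro Q hQ
    by_contra hlt
    push Not at hlt
    have h1 : f Q ≤ f H := hHmax Q hQ
    have h2 : (nu p H + 1) * (Nat.card G + 1) ≤ nu p Q * (Nat.card G + 1) :=
      Nat.mul_le_mul_right _ hlt
    have h3 := hcardle H
    simp only [f] at h1
    rw [add_mul, one_mul] at h2
    omega
  have hmax2 : ∀ Q, Bad Q → nu p Q = nu p H → Nat.card Q ≤ Nat.card H := by
    intro Q hQ heq
    have h1 : f Q ≤ f H := hHmax Q hQ
    simp only [f] at h1
    rw [heq] at h1
    omega
  have hHn : normalizer (H : Set G) = ⊤ :=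
    stepAD cf hcard ih hall H hHbad.1 hHbad.2.1 hHbad.2.2
      (fun Q h1 h2 h3 => hmax1 Q ⟨h1, h2, h3⟩)
  have hHnormal : H.Normal := Subgroup.normalizer_eq_top_iff.mp hHn
  have hHO : H ≤ pCore p G := le_sSup ⟨hHnormal, hHbad.1⟩
  have hO1 : pCore p G ≠ ⊥ := fun h => hHbad.2.1 (eq_bot_iff.mpr (h ▸ hHO))
  have hνH : nu p H = (Nat.card G).factorization p := by
    unfold nu
    rw [hHn, Subgroup.card_top]
  have hOP : pCore p G ≤ P := Cfsg.Agent.Helper23.PSolv.pCore_le_sylow P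
  have hOn : (pCore p G).Normal := inferInstance
  have hDO : ¬ D ≤ pCore p G := by
    intro h
    have hDn : normalizer (D : Set G) = ⊤ := by
      apply normalizer_eq_top_of_sc hD
      intro g d hd
      exact hOP (hOn.conj_mem d (h hd) g)
    have h1 : normalizer (cf.W G D : Set G) = ⊤ := by
      rw [eq_top_iff, ← hDn]
      exact normalizer_le0 cf _ hDp
    rw [h1] at hP
    exact hnot (npc_top_iff.mp hP)
  have hb : ∀ Q : Subgroup G, IsPGroup p Q →
      (P : Subgroup G) ≤ normalizer (Q : Set G) →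
      Nat.card (pCore p G) < Nat.card Q → NPC p ↥(normalizer (Q : Set G)) := by
    intro Q hQ hPQ hlt
    by_contra hbad
    have hQ1 : Q ≠ ⊥ := by
      rintro rfl
      rw [Subgroup.card_bot] at hlt
      have : 0 < Nat.card (pCore p G) := Nat.card_pos
      omega
    have hBadQ : Bad Q := ⟨hQ, hQ1, hbad⟩
    have h1 := hmax1 Q hBadQ
    have h2 : nu p H ≤ nu p Q := by
      have h3 := card_le_of_le (normalizer (Q : Set G)) (P : Subgroup G) P.2 hPQ
      rw [P.card_eq_multiplicity] at h3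
      rw [hνH]
      exact (Nat.pow_le_pow_iff_right hpp.out.one_lt).mp h3
    have h3 := hmax2 Q hBadQ (le_antisymm h1 h2)
    have h4 : Nat.card H ≤ Nat.card (pCore p G) := Subgroup.card_le_of_le hHO
    omega
  have hquo := stepBD cf hcard ih P D hD hO1 hDO hb
  obtain ⟨Nb, hNbn, hNbc, k, hk⟩ := hquo
  have hK := stepCD cf hcard ih P D hD hP hnot
  have hcent := stepD hK Nb hNbn hNbc k hk
  have hE := stepED cf hcard ih P D hD hP hcent
  have st := stepF hnot P hE Nb hNbn hNbc k hk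
  have hfree : Cfsg.Agent.Helper4.SLF.SL2Free p G := Cfsg.Agent.Helper10.sl2free_of_struc hp st
  have hst : IsNormalizerPStable p G := Cfsg.Agent.Helper10.isNormalizerPStable_of_sl2free hp hfree
  have hStab := Cfsg.Agent.S3079.stab_of_normalizerPStable hst
  have hWn : (cf.W G D).Normal := hZJ G P D hD hStab hcent
  have h1 : normalizer (cf.W G D : Set G) = ⊤ := Subgroup.normalizer_eq_top_iff.mpr hWn
  rw [h1] at hP
  exact hnot (npc_top_iff.mp hP)

/-- **Glauberman--Thompson for strongly closed subgroups** -/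
theorem dgt (hp : p ≠ 2) (hZJ : HasZJ cf) (P : Sylow p G) (D : Subgroup G)
    (hD : IsStronglyClosed D (P : Subgroup G))
    (h : NPC p ↥(normalizer (cf.W G D : Set G))) : NPC p G :=
  dgt_aux cf hp hZJ _ G rfl P D hD h

end Cfsg.Agent.Helper1.DF
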