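import Mathlib
import Cfsg.Agent.Lib.Helper20.E8TLat
import Cfsg.Agent.Lib.Helper4.E8TCYC30EQ

/-!
# S2375 piece DETN (helper1): `det (q - M) = Φ₃₀(q)` when `Φ₃₀(M) = 0`, and `m ℤ⁸ ⊆ (q - M) ℤ⁸`
-/

set_option autoImplicit false

open Polynomial

namespace Cfsg.Agent.Helper20.E8T

/-- the polynomial `Φ₃₀` over `ℤ` -/
noncomputable def e8tdetn_phi : ℤ[X] := X ^ 8 + X ^ 7 - X ^ 5 - X ^ 4 - X ^ 3 + X + 1

theorem e8tdetn_phi_eq : e8tdetn_phi = cyclotomic 30 ℤ := (cyc30_eq ℤ).symm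

theorem e8tdetn_aeval (M : Matrix (Fin 8) (Fin 8) ℤ) : aeval M e8tdetn_phi = Phi30M M := by
  simp [e8tdetn_phi, Phi30M]

theorem e8tdetn_eval (q : ℕ) (hq : 2 ≤ q) : e8tdetn_phi.eval (q : ℤ) = (mq q : ℤ) := by
  have h1 : q ^ 5 + q ^ 4 + q ^ 3 ≤ q ^ 8 + q ^ 7 := by
    have h5 : q ^ 5 ≤ q ^ 8 := Nat.pow_le_pow_right (by omega) (by norm_num)
    have h4 : q ^ 4 + q ^ 3 ≤ q ^ 7 := by
      have a1 : q ^ 4 ≤ q ^ 6 := Nat.pow_le_pow_right (by omega) (by norm_num)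
      have a2 : q ^ 3 ≤ q ^ 6 := Nat.pow_le_pow_right (by omega) (by norm_num)
      have a3 : q ^ 6 * 2 ≤ q ^ 6 * q := Nat.mul_le_mul_left _ hq
      have a4 : q ^ 7 = q ^ 6 * q := by ring
      omega
    omega
  have h5' : q ^ 5 ≤ q ^ 8 + q ^ 7 := by omega
  have h4' : q ^ 4 ≤ q ^ 8 + q ^ 7 - q ^ 5 := by omega
  have h3' : q ^ 3 ≤ q ^ 8 + q ^ 7 - q ^ 5 - q ^ 4 := by omega
  unfold mq
  simp only [e8tdetn_phi, eval_add, eval_sub, eval_pow, eval_X, eval_one]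
  push_cast [h5', h4', h3']
  ring

/-- the characteristic polynomial of `M` is `Φ₃₀` -/
theorem e8tdetn_charpoly (M : Matrix (Fin 8) (Fin 8) ℤ) (hM : Phi30M M = 0) :
    M.charpoly = e8tdetn_phi := by
  -- over `ℚ`
  set MQ : Matrix (Fin 8) (Fin 8) ℚ := M.map (Int.castRingHom ℚ) with hMQ
  have hphiQ : e8tdetn_phi.map (Int.castRingHom ℚ) = cyclotomic 30 ℚ := by
    rw [e8tdetn_phi_eq, map_cyclotomic]
  have hirr : Irreducible (cyclotomic 30 ℚ) := cyclotomic.irreducible_rat (by norm_num)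
  have hzero : aeval MQ (cyclotomic 30 ℚ) = 0 := by
    rw [cyc30_eq ℚ]
    simp only [map_add, map_sub, map_pow, aeval_X, map_one]
    have h1 := congrArg (Int.castRingHom ℚ).mapMatrix hM
    simp only [Phi30M, map_add, map_sub, map_pow, map_one, map_zero, RingHom.mapMatrix_apply] at h1
    exact h1
  have hmin : minpoly ℚ MQ = cyclotomic 30 ℚ := by
    have hmon : (cyclotomic 30 ℚ).Monic := cyclotomic.monic 30 ℚ
    exact (minpoly.eq_of_irreducible_of_monic hirr hzero hmon).symm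
  have hdvd : cyclotomic 30 ℚ ∣ MQ.charpoly := hmin ▸ Matrix.minpoly_dvd_charpoly MQ
  have hdeg : (cyclotomic 30 ℚ).natDegree = 8 := by
    rw [natDegree_cyclotomic]
    decide
  have hcharQ : MQ.charpoly = cyclotomic 30 ℚ := by
    have hm1 : MQ.charpoly.Monic := Matrix.charpoly_monic MQ
    have hm2 : (cyclotomic 30 ℚ).Monic := cyclotomic.monic 30 ℚ
    have hd : MQ.charpoly.natDegree = 8 := by
      rw [Matrix.charpoly_natDegree_eq_dim]
      simp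
    apply Polynomial.eq_of_monic_of_dvd_of_natDegree_le hm2 hm1 hdvd
    rw [hd, hdeg]
  -- back to `ℤ`
  have hinj : Function.Injective (Polynomial.map (Int.castRingHom ℚ)) :=
    Polynomial.map_injective _ Int.cast_injective
  apply hinj
  rw [← Matrix.charpoly_map, hphiQ]
  exact hcharQ

theorem det_qM (q : ℕ) (hq : 2 ≤ q) (M : Matrix (Fin 8) (Fin 8) ℤ) (hM : Phi30M M = 0) :
    (qM q M).det = (mq q : ℤ) := by
  have h1 := Matrix.eval_charpoly M (q : ℤ)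
  rw [e8tdetn_charpoly M hM, e8tdetn_eval q hq] at h1
  rw [h1]
  congr 1
  unfold qM
  rw [Matrix.smul_one_eq_diagonal]
  rfl

/-- `m ℤ⁸ ⊆ L'` (adjugate) -/
theorem mq_smul_mem (q : ℕ) (hq : 2 ≤ q) (M : Matrix (Fin 8) (Fin 8) ℤ) (hM : Phi30M M = 0) (y : Fin 8 → ℤ) :
    ∃ z : Fin 8 → ℤ, (mq q : ℤ) • y = (qM q M).mulVec z := by
  refine ⟨(Matrix.adjugate (qM q M)).mulVec y, ?_⟩
  rw [Matrix.mulVec_mulVec, Matrix.mul_adjugate, det_qM q hq M hM, Matrix.smul_mulVec, Matrix.one_mulVec]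

end Cfsg.Agent.Helper20.E8T
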