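import Mathlib
import Cfsg.Agent.Lib.Helper20.E8TLat
import Cfsg.Agent.Lib.Helper4.E8TINDEX
import Cfsg.Agent.Lib.Helper1.E8TDETN
import Cfsg.Agent.Lib.Helper1.E8TGEN

/-!
# S2375 piece ORD (helper1): the image of a root in `ℤ⁸ / (q - M) ℤ⁸` has order `m = Φ₃₀(q)`
-/

set_option autoImplicit false

namespace Cfsg.Agent.Helper20.E8T

theorem e8tord_mq_pos (q : ℕ) : 0 < mq q := by
  unfold mq
  exact Nat.succ_pos _

theorem ord_gen (q : ℕ) (hq : 2 ≤ q) (M : Matrix (Fin 8) (Fin 8) ℤ) (hM : IsGood M) (v : ℕ) (hv : v < 240) (k : ℤ)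
    (z : Fin 8 → ℤ) (h : k • rc v = (qM q M).mulVec z) : (mq q : ℤ) ∣ k := by
  classical
  have hdet : (qM q M).det = (mq q : ℤ) := det_qM q hq M hM.2
  have hdet0 : (qM q M).det ≠ 0 := by
    rw [hdet]
    exact_mod_cast (e8tord_mq_pos q).ne'
  have hcard := index_det (qM q M) hdet0
  rw [hdet, Int.natAbs_natCast] at hcard
  set S : AddSubgroup (Fin 8 → ℤ) := (LinearMap.range (Matrix.mulVecLin (qM q M))).toAddSubgroup with hS
  have hmemS : ∀ y : Fin 8 → ℤ, y ∈ S ↔ ∃ z : Fin 8 → ℤ, y = (qM q M).mulVec z := by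
    intro y
    rw [hS, Submodule.mem_toAddSubgroup, LinearMap.mem_range]
    constructor
    · rintro ⟨z, hz⟩
      exact ⟨z, by rw [← hz, Matrix.mulVecLin_apply]⟩
    · rintro ⟨z, hz⟩
      exact ⟨z, by rw [hz, Matrix.mulVecLin_apply]⟩
  set vb : (Fin 8 → ℤ) ⧸ S := QuotientAddGroup.mk (rc v) with hvb
  obtain ⟨c, hc⟩ := gen_exists q hq M hM v hv
  have hgen : ∀ x : (Fin 8 → ℤ) ⧸ S, x ∈ AddSubgroup.zmultiples vb := by
    intro x
    induction x using QuotientAddGroup.induction_on with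
    | H y =>
      obtain ⟨z', hz'⟩ := hc y
      rw [AddSubgroup.mem_zmultiples_iff]
      refine ⟨c ⬝ᵥ y, ?_⟩
      rw [hvb, ← QuotientAddGroup.mk_zsmul, QuotientAddGroup.eq]
      rw [(hmemS _)]
      exact ⟨z', by rw [← hz']; abel⟩
  have horder : addOrderOf vb = Nat.card ((Fin 8 → ℤ) ⧸ S) :=
    addOrderOf_eq_card_of_forall_mem_zmultiples hgen
  rw [hcard] at horder
  have hk : k • vb = 0 := by
    rw [hvb, ← QuotientAddGroup.mk_zsmul, QuotientAddGroup.eq_zero_iff, hmemS]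
    exact ⟨z, h⟩
  have := addOrderOf_dvd_iff_zsmul_eq_zero.2 hk
  rwa [horder] at this

end Cfsg.Agent.Helper20.E8T
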