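import Mathlib
import Cfsg.Prelude.Def_Transfer

/-!
# The elementary abelian subgroup generated by two commuting elements of order `p`
(helper1's shared library)
-/

set_option autoImplicit false

namespace Cfsg.Agent.Helper1

variable {G : Type*} [Group G] [Finite G]

theorem elemAbelian_closure_pair {p : ℕ} [hp : Fact p.Prime] {z w : G}
    (hz : orderOf z = p) (hw : orderOf w = p) (hzw : z * w = w * z)
    (hwz : w ∉ Subgroup.zpowers z) :
    Cfsg.IsElementaryAbelian p (Subgroup.closure {z, w}) ∧
      p ^ 2 ≤ Nat.card (Subgroup.closure ({z, w} : Set G)) := by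
  set U : Subgroup G := Subgroup.closure {z, w} with hU
  have hzU : z ∈ U := Subgroup.subset_closure (by simp)
  have hwU : w ∈ U := Subgroup.subset_closure (by simp)
  have hUcomm : IsMulCommutative U := by
    apply Subgroup.isMulCommutative_closure
    intro x hx y hy
    rcases hx with rfl | hx <;> rcases hy with rfl | hy
    · rfl
    · rw [Set.mem_singleton_iff] at hy; subst hy; exact hzw
    · rw [Set.mem_singleton_iff] at hx; subst hx; exact hzw.symm
    · rw [Set.mem_singleton_iff] at hx hy; subst hx; subst hy; rfl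
  have hUc : ∀ a ∈ U, ∀ b ∈ U, a * b = b * a := by
    intro a ha b hb
    have := hUcomm.is_comm.comm (⟨a, ha⟩ : U) ⟨b, hb⟩
    exact congrArg Subtype.val this
  have hUexp : ∀ a ∈ U, a ^ p = 1 := by
    intro a ha
    induction ha using Subgroup.closure_induction with
    | mem x hx =>
      rcases hx with rfl | hx
      · rw [← hz]; exact pow_orderOf_eq_one _
      · rw [Set.mem_singleton_iff] at hx; subst hx; rw [← hw]; exact pow_orderOf_eq_one _
    | one => exact one_pow _
    | mul x y hx hy ihx ihy =>
      have hc : Commute x y := hUc x hx y hy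
      rw [hc.mul_pow, ihx, ihy, one_mul]
    | inv x hx ihx => rw [inv_pow, ihx, inv_one]
  have hUp : IsPGroup p U := by
    intro u
    refine ⟨1, ?_⟩
    rw [pow_one]
    exact Subtype.ext (hUexp u u.2)
  refine ⟨⟨hUcomm, hUexp⟩, ?_⟩
  obtain ⟨k, hk⟩ := hUp.exists_card_eq
  have hlt : Subgroup.zpowers z < U := by
    refine lt_of_le_of_ne ((Subgroup.zpowers_le).mpr hzU) ?_
    intro h
    apply hwz
    rw [h]; exact hwU
  have h1 : Nat.card (Subgroup.zpowers z) < Nat.card U := by
    rcases Nat.lt_or_ge (Nat.card (Subgroup.zpowers z)) (Nat.card U) with h | h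
    · exact h
    · exact absurd (Subgroup.eq_of_le_of_card_ge hlt.le h) hlt.ne
  rw [Nat.card_zpowers, hz, hk] at h1
  rw [hk]
  have hk2 : 2 ≤ k := by
    by_contra hlt2
    have : k ≤ 1 := by omega
    have h2 : p ^ k ≤ p ^ 1 := Nat.pow_le_pow_right hp.out.pos this
    rw [pow_one] at h2
    omega
  exact Nat.pow_le_pow_right hp.out.pos hk2

end Cfsg.Agent.Helper1
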