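import Mathlib

/-!
# Peeling a hyperbolic pair off a group with a central element `z` of prime order, and gluing
isomorphisms along it (helper1)

Setting: `z` central of order `p`, `x * y = z * (y * x)`, `x ^ p = z ^ α`, `y ^ p = z ^ β`, and all
commutators with `x` and `y` lie in `⟨z⟩`.  Then every element is uniquely `x ^ a * y ^ b * c` with
`a, b < p` and `c` in the centralizer of `{x, y}`.
-/

set_option autoImplicit false

namespace Cfsg.Agent.Helper1.ExtraGlue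

open Subgroup

universe u v

variable {E : Type u} [Group E]

/-- The hypotheses on a "hyperbolic pair" `x, y` over the central element `z`. -/
structure HPair (p : ℕ) (z x y : E) (α β : ℕ) : Prop where
  ppos : 0 < p
  zc : ∀ g : E, g * z = z * g
  zord : orderOf z = p
  comm : x * y = z * (y * x)
  xp : x ^ p = z ^ α
  yp : y ^ p = z ^ β
  cx : ∀ g : E, ∃ k : ℕ, g * x = z ^ k * (x * g)
  cy : ∀ g : E, ∃ k : ℕ, g * y = z ^ k * (y * g)

/-- The centralizer of the pair. -/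
def cent (x y : E) : Subgroup E := centralizer {x, y}

theorem mem_cent {x y c : E} : c ∈ cent x y ↔ c * x = x * c ∧ c * y = y * c := by
  unfold cent
  rw [mem_centralizer_iff]
  constructor
  · intro h
    exact ⟨(h x (by simp)).symm, (h y (by simp)).symm⟩
  · rintro ⟨h1, h2⟩ w hw
    rcases hw with rfl | rfl
    · exact h1.symm
    · exact h2.symm

/-- The normal form map. -/
def θ (x y : E) (a b : ℕ) (c : E) : E := x ^ a * y ^ b * c

namespace HPair

variable {p : ℕ} {z x y : E} {α β : ℕ}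

theorem zpow_comm (h : HPair p z x y α β) (k : ℕ) (g : E) : g * z ^ k = z ^ k * g := by
  have : Commute g z := h.zc g
  exact this.pow_right k

theorem z_mem (h : HPair p z x y α β) : z ∈ cent x y :=
  mem_cent.mpr ⟨(h.zc x).symm, (h.zc y).symm⟩

theorem zpow_mem (h : HPair p z x y α β) (k : ℕ) : z ^ k ∈ cent x y := pow_mem h.z_mem k

theorem zpow_eq_iff (h : HPair p z x y α β) {a b : ℕ} (ha : a < p) (hb : b < p) :
    z ^ a = z ^ b ↔ a = b := by
  rw [pow_eq_pow_iff_modEq, h.zord]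
  constructor
  · intro hab
    have := Nat.ModEq.eq_of_lt_of_lt hab ha hb
    exact this
  · rintro rfl; rfl

theorem zpow_p (h : HPair p z x y α β) : z ^ p = 1 := by
  rw [← h.zord]; exact pow_orderOf_eq_one z

theorem pow_x_y (h : HPair p z x y α β) (a : ℕ) : x ^ a * y = z ^ a * (y * x ^ a) := by
  induction a with
  | zero => simp
  | succ a ih =>
    calc x ^ (a + 1) * y = x ^ a * (x * y) := by rw [pow_succ, mul_assoc]
      _ = x ^ a * (z * (y * x)) := by rw [h.comm]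
      _ = z * (x ^ a * y * x) := by rw [← mul_assoc, h.zc (x ^ a)]; simp only [mul_assoc]
      _ = z * (z ^ a * (y * x ^ a) * x) := by rw [ih]
      _ = z ^ (a + 1) * (y * x ^ (a + 1)) := by
        rw [pow_succ' z a, pow_succ x a]; simp only [mul_assoc]

theorem pow_x_pow_y (h : HPair p z x y α β) (a b : ℕ) :
    x ^ a * y ^ b = z ^ (a * b) * (y ^ b * x ^ a) := by
  induction b with
  | zero => simp
  | succ b ih =>
    calc x ^ a * y ^ (b + 1) = x ^ a * y ^ b * y := by rw [pow_succ, mul_assoc]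
      _ = z ^ (a * b) * (y ^ b * x ^ a) * y := by rw [ih]
      _ = z ^ (a * b) * (y ^ b * (x ^ a * y)) := by simp only [mul_assoc]
      _ = z ^ (a * b) * (y ^ b * (z ^ a * (y * x ^ a))) := by rw [h.pow_x_y]
      _ = z ^ (a * b) * (z ^ a * (y ^ b * (y * x ^ a))) := by
        rw [← mul_assoc (y ^ b), h.zpow_comm a (y ^ b)]; simp only [mul_assoc]
      _ = z ^ (a * (b + 1)) * (y ^ (b + 1) * x ^ a) := by
        rw [Nat.mul_succ, pow_add, pow_succ y b]; simp only [mul_assoc]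

theorem mul_law (h : HPair p z x y α β) (a b a' b' : ℕ) {c c' : E} (hc : c ∈ cent x y) :
    z ^ (a' * b) * (θ x y a b c * θ x y a' b' c') = θ x y (a + a') (b + b') (c * c') := by
  obtain ⟨hcx, hcy⟩ := mem_cent.mp hc
  have hcx' : c * x ^ a' = x ^ a' * c := (Commute.pow_right (show Commute c x from hcx) a')
  have hcy' : c * y ^ b' = y ^ b' * c := (Commute.pow_right (show Commute c y from hcy) b')
  unfold θ
  calc z ^ (a' * b) * (x ^ a * y ^ b * c * (x ^ a' * y ^ b' * c'))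
      = z ^ (a' * b) * (x ^ a * y ^ b * (c * x ^ a') * y ^ b' * c') := by simp only [mul_assoc]
    _ = z ^ (a' * b) * (x ^ a * y ^ b * (x ^ a' * c) * y ^ b' * c') := by rw [hcx']
    _ = z ^ (a' * b) * (x ^ a * y ^ b * x ^ a' * (c * y ^ b') * c') := by simp only [mul_assoc]
    _ = z ^ (a' * b) * (x ^ a * y ^ b * x ^ a' * (y ^ b' * c) * c') := by rw [hcy']
    _ = x ^ a * (z ^ (a' * b) * (y ^ b * x ^ a')) * y ^ b' * c * c' := by
      rw [← mul_assoc (x ^ a) (z ^ (a' * b)), h.zpow_comm (a' * b) (x ^ a)]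
      simp only [mul_assoc]
    _ = x ^ a * (x ^ a' * y ^ b) * y ^ b' * c * c' := by rw [← h.pow_x_pow_y]
    _ = x ^ (a + a') * y ^ (b + b') * (c * c') := by
      rw [pow_add, pow_add]; simp only [mul_assoc]

theorem red_x (h : HPair p z x y α β) (a k b : ℕ) (c : E) :
    θ x y (a + p * k) b c = θ x y a b (z ^ (α * k) * c) := by
  unfold θ
  rw [pow_add, pow_mul, h.xp, ← pow_mul]
  calc x ^ a * z ^ (α * k) * y ^ b * c = x ^ a * (z ^ (α * k) * y ^ b) * c := by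
        simp only [mul_assoc]
    _ = x ^ a * (y ^ b * z ^ (α * k)) * c := by rw [h.zpow_comm (α * k) (y ^ b)]
    _ = x ^ a * y ^ b * (z ^ (α * k) * c) := by simp only [mul_assoc]

theorem red_y (h : HPair p z x y α β) (a b k : ℕ) (c : E) :
    θ x y a (b + p * k) c = θ x y a b (z ^ (β * k) * c) := by
  unfold θ
  rw [pow_add, pow_mul, h.yp, ← pow_mul]
  simp only [mul_assoc]

theorem red (h : HPair p z x y α β) (a b : ℕ) (c : E) :
    θ x y a b c = θ x y (a % p) (b % p) (z ^ (α * (a / p)) * (z ^ (β * (b / p)) * c)) := by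
  conv_lhs => rw [← Nat.mod_add_div a p, ← Nat.mod_add_div b p]
  rw [h.red_x, h.red_y]
  unfold θ
  rw [← mul_assoc (z ^ (α * (a / p))), ← mul_assoc (z ^ (β * (b / p))),
    ← h.zpow_comm (α * (a / p)) (z ^ (β * (b / p)))]

theorem theta_y (h : HPair p z x y α β) (a b : ℕ) {c : E} (hc : c ∈ cent x y) :
    θ x y a b c * y = z ^ a * (y * θ x y a b c) := by
  obtain ⟨hcx, hcy⟩ := mem_cent.mp hc
  unfold θ
  calc x ^ a * y ^ b * c * y = x ^ a * y ^ b * (c * y) := by simp only [mul_assoc]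
    _ = x ^ a * (y ^ b * y) * c := by rw [hcy]; simp only [mul_assoc]
    _ = x ^ a * (y * y ^ b) * c := by rw [← pow_succ, pow_succ']
    _ = (x ^ a * y) * y ^ b * c := by simp only [mul_assoc]
    _ = z ^ a * (y * x ^ a) * y ^ b * c := by rw [h.pow_x_y]
    _ = z ^ a * (y * (x ^ a * y ^ b * c)) := by simp only [mul_assoc]

theorem theta_x (h : HPair p z x y α β) (a b : ℕ) {c : E} (hc : c ∈ cent x y) :
    z ^ b * (θ x y a b c * x) = x * θ x y a b c := by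
  obtain ⟨hcx, hcy⟩ := mem_cent.mp hc
  unfold θ
  have h1 := h.pow_x_pow_y 1 b
  rw [pow_one, one_mul] at h1
  calc z ^ b * (x ^ a * y ^ b * c * x) = z ^ b * (x ^ a * y ^ b * (c * x)) := by
        simp only [mul_assoc]
    _ = z ^ b * (x ^ a * y ^ b * (x * c)) := by rw [hcx]
    _ = x ^ a * (z ^ b * (y ^ b * x)) * c := by
      rw [← mul_assoc (x ^ a) (z ^ b), h.zpow_comm b (x ^ a)]; simp only [mul_assoc]
    _ = x ^ a * (x * y ^ b) * c := by rw [← h1]
    _ = x * (x ^ a * y ^ b * c) := by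
      rw [← mul_assoc (x ^ a) x, ← pow_succ, pow_succ']; simp only [mul_assoc]

theorem eq_of (h : HPair p z x y α β) {a b a' b' : ℕ} (ha : a < p) (hb : b < p) (ha' : a' < p)
    (hb' : b' < p) {c c' : E} (hc : c ∈ cent x y) (hc' : c' ∈ cent x y)
    (he : θ x y a b c = θ x y a' b' c') : a = a' ∧ b = b' ∧ c = c' := by
  have h1 := h.theta_y a b hc
  have h2 := h.theta_y a' b' hc'
  rw [he, h2] at h1
  have haa : a = a' := ((h.zpow_eq_iff ha ha').mp (mul_right_cancel h1).symm)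
  have h3 := h.theta_x a b hc
  have h4 := h.theta_x a' b' hc'
  rw [he, ← h4] at h3
  have hbb : b = b' := (h.zpow_eq_iff hb hb').mp (mul_right_cancel h3)
  subst haa hbb
  refine ⟨rfl, rfl, ?_⟩
  unfold θ at he
  exact mul_left_cancel he

theorem exists_theta (h : HPair p z x y α β) (g : E) :
    ∃ a b : ℕ, ∃ c ∈ cent x y, g = θ x y a b c := by
  obtain ⟨k, hk⟩ := h.cy g
  -- g₁ = (x^k)⁻¹ g commutes with y
  set g₁ := (x ^ k)⁻¹ * g with hg₁
  have h1 : g₁ * y = y * g₁ := by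
    have e := h.pow_x_y k
    -- x^k * (g₁ * y) = x^k * (y * g₁)
    apply mul_left_cancel (a := x ^ k)
    calc x ^ k * (g₁ * y) = g * y := by rw [hg₁]; simp only [mul_assoc, mul_inv_cancel_left]
      _ = z ^ k * (y * g) := hk
      _ = z ^ k * (y * (x ^ k * g₁)) := by rw [hg₁, mul_inv_cancel_left]
      _ = (z ^ k * (y * x ^ k)) * g₁ := by simp only [mul_assoc]
      _ = x ^ k * y * g₁ := by rw [← e]
      _ = x ^ k * (y * g₁) := by rw [mul_assoc]
  obtain ⟨l, hl⟩ := h.cx g₁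
  set m := (p - 1) * l with hm
  set g₂ := (y ^ m)⁻¹ * g₁ with hg₂
  have hp1 : 1 ≤ p := h.ppos
  have hzl : z ^ l * z ^ m = 1 := by
    rw [← pow_add, hm]
    have : l + (p - 1) * l = p * l := by
      obtain ⟨q, rfl⟩ : ∃ q, p = q + 1 := ⟨p - 1, by omega⟩
      simp only [Nat.add_sub_cancel]; ring
    rw [this, pow_mul, h.zpow_p, one_pow]
  have h2 : g₂ * y = y * g₂ := by
    have hc : Commute (y ^ m) y := (Commute.refl y).pow_left m
    have hc' : (y ^ m)⁻¹ * y = y * (y ^ m)⁻¹ := (hc.inv_left).eq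
    calc g₂ * y = (y ^ m)⁻¹ * (g₁ * y) := by rw [hg₂, mul_assoc]
      _ = ((y ^ m)⁻¹ * y) * g₁ := by rw [h1, mul_assoc]
      _ = y * g₂ := by rw [hc', hg₂, mul_assoc]
  have h3 : g₂ * x = x * g₂ := by
    have e := h.pow_x_pow_y 1 m
    rw [pow_one, one_mul] at e
    -- e : x * y^m = z^m * (y^m * x)
    apply mul_left_cancel (a := y ^ m)
    calc y ^ m * (g₂ * x) = g₁ * x := by rw [hg₂]; simp only [mul_assoc, mul_inv_cancel_left]
      _ = z ^ l * (x * g₁) := hl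
      _ = z ^ l * (x * (y ^ m * g₂)) := by rw [hg₂, mul_inv_cancel_left]
      _ = z ^ l * ((x * y ^ m) * g₂) := by simp only [mul_assoc]
      _ = z ^ l * ((z ^ m * (y ^ m * x)) * g₂) := by rw [e]
      _ = (z ^ l * z ^ m) * (y ^ m * (x * g₂)) := by simp only [mul_assoc]
      _ = y ^ m * (x * g₂) := by rw [hzl, one_mul]
  refine ⟨k, m, g₂, mem_cent.mpr ⟨h3, h2⟩, ?_⟩
  unfold θ
  rw [hg₂, hg₁]
  simp only [mul_assoc, mul_inv_cancel_left]

theorem exists_theta_lt (h : HPair p z x y α β) (g : E) :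
    ∃ a < p, ∃ b < p, ∃ c ∈ cent x y, g = θ x y a b c := by
  obtain ⟨a, b, c, hc, rfl⟩ := h.exists_theta g
  refine ⟨a % p, Nat.mod_lt _ h.ppos, b % p, Nat.mod_lt _ h.ppos, _, ?_, h.red a b c⟩
  exact mul_mem (h.zpow_mem _) (mul_mem (h.zpow_mem _) hc)

theorem theta_central (h : HPair p z x y α β) (a b : ℕ) (c : E) {w : E}
    (hw : ∀ g : E, g * w = w * g) : θ x y a b (w * c) = w * θ x y a b c := by
  unfold θ
  rw [← mul_assoc (x ^ a * y ^ b) w c, hw (x ^ a * y ^ b), mul_assoc]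

theorem card_eq (h : HPair p z x y α β) : Nat.card E = p * p * Nat.card (cent x y) := by
  let f : Fin p × Fin p × cent x y → E := fun t => θ x y t.1.val t.2.1.val (t.2.2 : E)
  have hbij : Function.Bijective f := by
    constructor
    · rintro ⟨a, b, c⟩ ⟨a', b', c'⟩ he
      obtain ⟨e1, e2, e3⟩ := h.eq_of a.2 b.2 a'.2 b'.2 c.2 c'.2 he
      have e1' : a = a' := Fin.ext e1
      have e2' : b = b' := Fin.ext e2
      have e3' : c = c' := Subtype.ext e3
      rw [e1', e2', e3']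
    · intro g
      obtain ⟨a, ha, b, hb, c, hc, rfl⟩ := h.exists_theta_lt g
      exact ⟨(⟨a, ha⟩, ⟨b, hb⟩, ⟨c, hc⟩), rfl⟩
  rw [← Nat.card_congr (Equiv.ofBijective f hbij), Nat.card_prod, Nat.card_prod, Nat.card_fin,
    mul_assoc]

end HPair

section Glue

variable {E₁ : Type u} {E₂ : Type v} [Group E₁] [Group E₂] {p : ℕ} {z₁ x₁ y₁ : E₁}
  {z₂ x₂ y₂ : E₂} {α β : ℕ}

/-- Gluing a homomorphism of the centralizers along matching hyperbolic pairs. -/
theorem glue_hom (h₁ : HPair p z₁ x₁ y₁ α β) (h₂ : HPair p z₂ x₂ y₂ α β)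
    (g : cent x₁ y₁ →* cent x₂ y₂) (hg : (g ⟨z₁, h₁.z_mem⟩ : E₂) = z₂) :
    ∃ f : E₁ →* E₂, ∀ (a b : ℕ) (c : cent x₁ y₁),
      f (θ x₁ y₁ a b c) = θ x₂ y₂ a b (g c) := by
  have hex := h₁.exists_theta_lt
  choose A hA B hB Cc hCc hspec using hex
  let F : E₁ → E₂ := fun u => θ x₂ y₂ (A u) (B u) (g ⟨Cc u, hCc u⟩)
  have hgz : ∀ k : ℕ, ((g (⟨z₁, h₁.z_mem⟩ ^ k) : cent x₂ y₂) : E₂) = z₂ ^ k := by
    intro k
    rw [map_pow, Subgroup.coe_pow, hg]
  have spec_lt : ∀ a < p, ∀ b < p, ∀ c : cent x₁ y₁,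
      F (θ x₁ y₁ a b c) = θ x₂ y₂ a b (g c) := by
    intro a ha b hb c
    set u := θ x₁ y₁ a b c with hu
    obtain ⟨e1, e2, e3⟩ := h₁.eq_of (hA u) (hB u) ha hb (hCc u) c.2 ((hspec u).symm.trans hu)
    change θ x₂ y₂ (A u) (B u) (g ⟨Cc u, hCc u⟩) = _
    have e4 : (⟨Cc u, hCc u⟩ : cent x₁ y₁) = c := Subtype.ext e3
    rw [e1, e2, e4]
  have spec : ∀ (a b : ℕ) (c : cent x₁ y₁), F (θ x₁ y₁ a b c) = θ x₂ y₂ a b (g c) := by
    intro a b c
    let zC : cent x₁ y₁ := ⟨z₁, h₁.z_mem⟩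
    let c' : cent x₁ y₁ := zC ^ (α * (a / p)) * (zC ^ (β * (b / p)) * c)
    have hc' : (c' : E₁) = z₁ ^ (α * (a / p)) * (z₁ ^ (β * (b / p)) * c) := by
      simp [c', zC]
    have hgc' : ((g c' : cent x₂ y₂) : E₂) = z₂ ^ (α * (a / p)) * (z₂ ^ (β * (b / p)) * g c) := by
      simp only [c', map_mul, Subgroup.coe_mul]
      rw [hgz, hgz]
    rw [h₁.red a b c, ← hc', spec_lt _ (Nat.mod_lt _ h₁.ppos) _ (Nat.mod_lt _ h₁.ppos) c', hgc',
      ← h₂.red]
  refine ⟨MonoidHom.mk' F ?_, spec⟩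
  intro u v
  obtain ⟨a, b, c, hc, rfl⟩ := h₁.exists_theta u
  obtain ⟨a', b', c', hc', rfl⟩ := h₁.exists_theta v
  have hlaw := h₁.mul_law a b a' b' (c' := c') hc
  have hw₁ : ∀ g : E₁, g * (z₁ ^ (a' * b))⁻¹ = (z₁ ^ (a' * b))⁻¹ * g := by
    intro g
    have : Commute g (z₁ ^ (a' * b)) := h₁.zpow_comm _ g
    exact this.inv_right.eq
  have hw₂ : ∀ g : E₂, g * (z₂ ^ (a' * b))⁻¹ = (z₂ ^ (a' * b))⁻¹ * g := by
    intro g
    have : Commute g (z₂ ^ (a' * b)) := h₂.zpow_comm _ g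
    exact this.inv_right.eq
  let zC : cent x₁ y₁ := ⟨z₁, h₁.z_mem⟩
  let cc : cent x₁ y₁ := (zC ^ (a' * b))⁻¹ * (⟨c, hc⟩ * ⟨c', hc'⟩)
  have hcc : (cc : E₁) = (z₁ ^ (a' * b))⁻¹ * (c * c') := by simp [cc, zC]
  have huv : θ x₁ y₁ a b c * θ x₁ y₁ a' b' c' = θ x₁ y₁ (a + a') (b + b') cc := by
    rw [hcc, h₁.theta_central _ _ _ hw₁, ← hlaw, inv_mul_cancel_left]
  have hgcc : ((g cc : cent x₂ y₂) : E₂)
      = (z₂ ^ (a' * b))⁻¹ * ((g ⟨c, hc⟩ : E₂) * (g ⟨c', hc'⟩ : E₂)) := by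
    simp only [cc, map_mul, map_inv, Subgroup.coe_mul, Subgroup.coe_inv]
    rw [hgz]
  rw [huv, spec, hgcc, h₂.theta_central _ _ _ hw₂,
    ← h₂.mul_law a b a' b' (g ⟨c, hc⟩).2, inv_mul_cancel_left]
  have e1 := spec a b ⟨c, hc⟩
  have e2 := spec a' b' ⟨c', hc'⟩
  rw [← e1, ← e2]

/-- Gluing an isomorphism of the centralizers along matching hyperbolic pairs. -/
theorem glue (h₁ : HPair p z₁ x₁ y₁ α β) (h₂ : HPair p z₂ x₂ y₂ α β)
    (g : cent x₁ y₁ ≃* cent x₂ y₂) (hg : (g ⟨z₁, h₁.z_mem⟩ : E₂) = z₂) :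
    ∃ f : E₁ ≃* E₂, f z₁ = z₂ := by
  have hg' : (g.symm ⟨z₂, h₂.z_mem⟩ : E₁) = z₁ := by
    have : g ⟨z₁, h₁.z_mem⟩ = ⟨z₂, h₂.z_mem⟩ := Subtype.ext hg
    rw [← this, MulEquiv.symm_apply_apply]
  obtain ⟨f, hf⟩ := glue_hom h₁ h₂ g.toMonoidHom hg
  obtain ⟨f', hf'⟩ := glue_hom h₂ h₁ g.symm.toMonoidHom hg'
  have h12 : ∀ u, f' (f u) = u := by
    intro u
    obtain ⟨a, b, c, hc, rfl⟩ := h₁.exists_theta u
    have := hf a b ⟨c, hc⟩
    rw [this, hf']
    simp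
  have h21 : ∀ u, f (f' u) = u := by
    intro u
    obtain ⟨a, b, c, hc, rfl⟩ := h₂.exists_theta u
    have := hf' a b ⟨c, hc⟩
    rw [this, hf]
    simp
  refine ⟨MulEquiv.mk' ⟨f, f', h12, h21⟩ (map_mul f), ?_⟩
  change f z₁ = z₂
  have e : z₁ = θ x₁ y₁ 0 0 ((⟨z₁, h₁.z_mem⟩ : cent x₁ y₁) : E₁) := by simp [θ]
  rw [e, hf]
  simp only [MulEquiv.coe_toMonoidHom, hg]
  simp [θ]

end Glue

end Cfsg.Agent.Helper1.ExtraGlue
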