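import Mathlib
import Cfsg.Prelude.Def_Transfer
import Cfsg.Agent.Lib.Helper1.ExtraGlue
import Cfsg.Agent.Lib.Helper21.PGroupFrattini

/-!
# Groups with centre of order `p`, central commutators and central `p`-th powers (helper1)

`ES p E` is the working hypothesis for extraspecial-type arguments (it also allows the cyclic
group of order `p`).  We show that the centralizer of a hyperbolic pair is again `ES`, and
classify the `ES` groups of exponent `p`.
-/

set_option autoImplicit false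

namespace Cfsg.Agent.Helper1.ExtraGlue

open Subgroup

universe u v

/-- Centre of order `p`, all commutators and all `p`-th powers central. -/
structure ES (p : ℕ) (E : Type u) [Group E] : Prop where
  card_center : Nat.card (center E) = p
  comm_mem : ∀ a b : E, a * b * a⁻¹ * b⁻¹ ∈ center E
  pow_mem : ∀ a : E, a ^ p ∈ center E

theorem cyclic_iso {E₁ : Type u} {E₂ : Type v} [Group E₁] [Group E₂] {z₁ : E₁} {z₂ : E₂}
    (h1 : ∀ x, x ∈ zpowers z₁) (h2 : ∀ x, x ∈ zpowers z₂) (ho : orderOf z₁ = orderOf z₂) :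
    ∃ f : E₁ ≃* E₂, f z₁ = z₂ := by
  let f : E₁ →* E₂ := monoidHomOfForallMemZpowers h1 (g' := z₂) (by rw [ho])
  let f' : E₂ →* E₁ := monoidHomOfForallMemZpowers h2 (g' := z₁) (by rw [ho])
  have hf : f z₁ = z₂ := monoidHomOfForallMemZpowers_apply_gen h1 _
  have hf' : f' z₂ = z₁ := monoidHomOfForallMemZpowers_apply_gen h2 _
  have e1 : f'.comp f = MonoidHom.id E₁ := by
    rw [MonoidHom.eq_iff_eq_on_generator h1]
    simp [hf, hf']
  have e2 : f.comp f' = MonoidHom.id E₂ := by
    rw [MonoidHom.eq_iff_eq_on_generator h2]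
    simp [hf, hf']
  refine ⟨MulEquiv.mk' ⟨f, f', fun u => ?_, fun u => ?_⟩ (map_mul f), hf⟩
  · exact DFunLike.congr_fun e1 u
  · exact DFunLike.congr_fun e2 u

theorem comm_pow {E : Type u} [Group E] {w x y : E} (hw : ∀ g : E, g * w = w * g)
    (h : x * y = w * (y * x)) (j : ℕ) : x * y ^ j = w ^ j * (y ^ j * x) := by
  induction j with
  | zero => simp
  | succ j ih =>
    have hwj : ∀ g : E, g * w ^ j = w ^ j * g := fun g =>
      (Commute.pow_right (show Commute g w from hw g) j).eq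
    calc x * y ^ (j + 1) = x * y ^ j * y := by rw [pow_succ, mul_assoc]
      _ = w ^ j * (y ^ j * x) * y := by rw [ih]
      _ = w ^ j * (y ^ j * (x * y)) := by simp only [mul_assoc]
      _ = w ^ j * (y ^ j * (w * (y * x))) := by rw [h]
      _ = w ^ j * (w * (y ^ j * (y * x))) := by
        rw [← mul_assoc (y ^ j) w, hw (y ^ j)]; simp only [mul_assoc]
      _ = w ^ (j + 1) * (y ^ (j + 1) * x) := by
        rw [pow_succ w j, pow_succ y j]; simp only [mul_assoc]

namespace ES

variable {p : ℕ} [hp : Fact p.Prime] {E : Type u} [Group E] [Finite E]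

theorem orderOf_eq (h : ES p E) {z : E} (hz : z ∈ center E) (hz1 : z ≠ 1) : orderOf z = p := by
  have h1 : orderOf (⟨z, hz⟩ : center E) ∣ p := by
    rw [← h.card_center]; exact orderOf_dvd_natCard _
  rw [Subgroup.orderOf_mk] at h1
  rcases (Nat.dvd_prime hp.out).mp h1 with h2 | h2
  · exact absurd (orderOf_eq_one_iff.mp h2) hz1
  · exact h2

theorem exists_pow_eq (h : ES p E) {z : E} (hz : z ∈ center E) (hz1 : z ≠ 1) {w : E}
    (hw : w ∈ center E) : ∃ k : ℕ, w = z ^ k := by
  have h1 : zpowers (⟨z, hz⟩ : center E) = ⊤ := by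
    apply Subgroup.eq_top_of_card_eq
    rw [Nat.card_zpowers, Subgroup.orderOf_mk, h.orderOf_eq hz hz1, h.card_center]
  have h2 : (⟨w, hw⟩ : center E) ∈ zpowers (⟨z, hz⟩ : center E) := by rw [h1]; trivial
  rw [← mem_powers_iff_mem_zpowers] at h2
  obtain ⟨k, hk⟩ := h2
  refine ⟨k, ?_⟩
  have := congrArg Subtype.val hk
  simpa using this.symm

theorem exists_rel (h : ES p E) {z : E} (hz : z ∈ center E) (hz1 : z ≠ 1) (a b : E) :
    ∃ k : ℕ, a * b = z ^ k * (b * a) := by
  obtain ⟨k, hk⟩ := h.exists_pow_eq hz hz1 (h.comm_mem a b)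
  refine ⟨k, ?_⟩
  rw [← hk]; group

theorem hpair (h : ES p E) {z x y : E} (hz : z ∈ center E) (hz1 : z ≠ 1)
    (hxy : x * y = z * (y * x)) {α β : ℕ} (hα : x ^ p = z ^ α) (hβ : y ^ p = z ^ β) :
    HPair p z x y α β where
  ppos := hp.out.pos
  zc := fun g => Subgroup.mem_center_iff.mp hz g
  zord := h.orderOf_eq hz hz1
  comm := hxy
  xp := hα
  yp := hβ
  cx := fun g => h.exists_rel hz hz1 g x
  cy := fun g => h.exists_rel hz hz1 g y

/-- In a non-abelian `ES` group there is a hyperbolic pair over any generator of the centre. -/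
theorem exists_pair (h : ES p E) {z : E} (hz : z ∈ center E) (hz1 : z ≠ 1)
    (hne : center E ≠ ⊤) : ∃ x y : E, x * y = z * (y * x) := by
  have hzc : ∀ g : E, g * z = z * g := fun g => Subgroup.mem_center_iff.mp hz g
  obtain ⟨x, hx⟩ : ∃ x : E, x ∉ center E := by
    by_contra hcon
    push Not at hcon
    exact hne (eq_top_iff.mpr fun x _ => hcon x)
  rw [Subgroup.mem_center_iff] at hx
  push Not at hx
  obtain ⟨y₀, hy₀⟩ := hx
  obtain ⟨k, hk⟩ := h.exists_rel hz hz1 x y₀
  have hzo := h.orderOf_eq hz hz1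
  have hkp : ¬ p ∣ k := by
    intro hd
    apply hy₀
    have : z ^ k = 1 := by rw [← hzo] at hd; exact orderOf_dvd_iff_pow_eq_one.mp hd
    rw [this, one_mul] at hk
    exact hk.symm
  have hcop : Nat.Coprime k p := ((Nat.Prime.coprime_iff_not_dvd hp.out).mpr hkp).symm
  obtain ⟨j, -, hj⟩ := Nat.exists_mul_mod_eq_one_of_coprime hcop hp.out.one_lt
  refine ⟨x, y₀ ^ j, ?_⟩
  have h1 := comm_pow (w := z ^ k) (fun g => (Commute.pow_right (show Commute g z from hzc g) k).eq)
    hk j
  rw [h1, ← pow_mul]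
  congr 1
  rw [← pow_mod_orderOf, hzo, hj, pow_one]

theorem center_le_cent (x y : E) : center E ≤ cent x y := by
  intro w hw
  rw [Subgroup.mem_center_iff] at hw
  exact mem_cent.mpr ⟨(hw x).symm, (hw y).symm⟩

theorem mem_center_cent_iff {z x y : E} {α β : ℕ} (hP : HPair p z x y α β) (c : cent x y) :
    c ∈ center (cent x y) ↔ (c : E) ∈ center E := by
  constructor
  · intro hc
    rw [Subgroup.mem_center_iff] at hc ⊢
    intro u
    obtain ⟨a, b, c', hc', rfl⟩ := hP.exists_theta u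
    obtain ⟨hcx, hcy⟩ := mem_cent.mp c.2
    have h1 : (c' : E) * c = c * c' := by
      have := hc ⟨c', hc'⟩
      exact congrArg Subtype.val this
    have hcx' : (c : E) * x ^ a = x ^ a * c := Commute.pow_right (show Commute (c : E) x from hcx) a
    have hcy' : (c : E) * y ^ b = y ^ b * c := Commute.pow_right (show Commute (c : E) y from hcy) b
    unfold θ
    calc x ^ a * y ^ b * c' * c = x ^ a * y ^ b * (c' * c) := by rw [mul_assoc]
      _ = x ^ a * (y ^ b * c) * c' := by rw [h1]; simp only [mul_assoc]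
      _ = (x ^ a * c) * y ^ b * c' := by rw [← hcy']; simp only [mul_assoc]
      _ = c * (x ^ a * y ^ b * c') := by rw [← hcx']; simp only [mul_assoc]
  · intro hc
    rw [Subgroup.mem_center_iff] at hc ⊢
    intro g
    exact Subtype.ext (hc g)

/-- The centralizer of a hyperbolic pair is again `ES`. -/
theorem cent_es (h : ES p E) {z x y : E} {α β : ℕ} (hP : HPair p z x y α β) :
    ES p (cent x y) where
  card_center := by
    rw [← h.card_center]
    refine Nat.card_congr ⟨fun c => ⟨(c : cent x y), (mem_center_cent_iff hP _).mp c.2⟩,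
      fun w => ⟨⟨w, center_le_cent x y w.2⟩, (mem_center_cent_iff hP _).mpr w.2⟩,
      fun c => rfl, fun w => rfl⟩
  comm_mem := fun a b => (mem_center_cent_iff hP _).mpr (by
    have := h.comm_mem (a : E) (b : E)
    simpa using this)
  pow_mem := fun a => (mem_center_cent_iff hP _).mpr (by
    have := h.pow_mem (a : E)
    simpa using this)

theorem card_lt_of_pair {z x y : E} {α β : ℕ} (hP : HPair p z x y α β) :
    Nat.card (cent x y) < Nat.card E := by
  rw [hP.card_eq]
  have h1 : 0 < Nat.card (cent x y) := Nat.card_pos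
  have h2 := hp.out.two_le
  have h3 : 4 ≤ p * p := by nlinarith
  nlinarith

end ES

/-- Two `ES` groups of exponent `p` and the same order are isomorphic, by an isomorphism matching
given generators of the centres. -/
theorem iso_of_exponent_aux {p : ℕ} [hp : Fact p.Prime] : ∀ (n : ℕ) (E₁ : Type u) (E₂ : Type v)
    [Group E₁] [Group E₂] [Finite E₁] [Finite E₂], ES p E₁ → ES p E₂ →
    (∀ a : E₁, a ^ p = 1) → (∀ a : E₂, a ^ p = 1) → Nat.card E₁ = n → Nat.card E₂ = n →
    ∀ z₁ ∈ center E₁, z₁ ≠ 1 → ∀ z₂ ∈ center E₂, z₂ ≠ 1 → ∃ f : E₁ ≃* E₂, f z₁ = z₂ := by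
  intro n
  induction n using Nat.strong_induction_on with
  | _ n ih =>
  intro E₁ E₂ _ _ _ _ h₁ h₂ he₁ he₂ hc₁ hc₂ z₁ hz₁ hz₁1 z₂ hz₂ hz₂1
  have ho₁ := h₁.orderOf_eq hz₁ hz₁1
  have ho₂ := h₂.orderOf_eq hz₂ hz₂1
  by_cases hab : center E₁ = ⊤
  · -- both groups are cyclic of order `p`
    have hn : n = p := by
      rw [← hc₁, ← h₁.card_center, hab, Subgroup.card_top]
    have hab₂ : center E₂ = ⊤ := by
      apply Subgroup.eq_top_of_card_eq
      rw [h₂.card_center, hc₂, hn]
    have g1 : ∀ x : E₁, x ∈ zpowers z₁ := by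
      intro x
      obtain ⟨k, hk⟩ := h₁.exists_pow_eq hz₁ hz₁1 (show x ∈ center E₁ by rw [hab]; trivial)
      rw [hk]; exact pow_mem (mem_zpowers z₁) k
    have g2 : ∀ x : E₂, x ∈ zpowers z₂ := by
      intro x
      obtain ⟨k, hk⟩ := h₂.exists_pow_eq hz₂ hz₂1 (show x ∈ center E₂ by rw [hab₂]; trivial)
      rw [hk]; exact pow_mem (mem_zpowers z₂) k
    exact cyclic_iso g1 g2 (ho₁.trans ho₂.symm)
  · have hab₂ : center E₂ ≠ ⊤ := by
      intro h
      apply hab
      apply Subgroup.eq_top_of_card_eq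
      rw [h₁.card_center, hc₁, ← hc₂, ← h₂.card_center, h, Subgroup.card_top]
    obtain ⟨x₁, y₁, hxy₁⟩ := h₁.exists_pair hz₁ hz₁1 hab
    obtain ⟨x₂, y₂, hxy₂⟩ := h₂.exists_pair hz₂ hz₂1 hab₂
    have hP₁ : HPair p z₁ x₁ y₁ 0 0 :=
      h₁.hpair hz₁ hz₁1 hxy₁ (by rw [he₁, pow_zero]) (by rw [he₁, pow_zero])
    have hP₂ : HPair p z₂ x₂ y₂ 0 0 :=
      h₂.hpair hz₂ hz₂1 hxy₂ (by rw [he₂, pow_zero]) (by rw [he₂, pow_zero])
    have hlt : Nat.card (cent x₁ y₁) < n := hc₁ ▸ ES.card_lt_of_pair hP₁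
    have hcard : Nat.card (cent x₂ y₂) = Nat.card (cent x₁ y₁) := by
      have e1 := hP₁.card_eq
      have e2 := hP₂.card_eq
      rw [hc₁] at e1
      rw [hc₂, e1] at e2
      have hpp : 0 < p * p := Nat.mul_pos hp.out.pos hp.out.pos
      exact (Nat.eq_of_mul_eq_mul_left hpp e2).symm
    obtain ⟨g, hg⟩ := ih _ hlt (cent x₁ y₁) (cent x₂ y₂) (h₁.cent_es hP₁) (h₂.cent_es hP₂)
      (fun a => Subtype.ext (by simpa using he₁ (a : E₁)))
      (fun a => Subtype.ext (by simpa using he₂ (a : E₂))) rfl hcard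
      ⟨z₁, hP₁.z_mem⟩ ((ES.mem_center_cent_iff hP₁ _).mpr hz₁)
      (fun h => hz₁1 (congrArg Subtype.val h))
      ⟨z₂, hP₂.z_mem⟩ ((ES.mem_center_cent_iff hP₂ _).mpr hz₂)
      (fun h => hz₂1 (congrArg Subtype.val h))
    exact glue hP₁ hP₂ g (congrArg Subtype.val hg)

theorem es_of_isExtraspecial {p : ℕ} [hp : Fact p.Prime] {E : Type u} [Group E] [Finite E]
    (h : Cfsg.IsExtraspecial p E) : ES p E where
  card_center := h.2
  comm_mem := fun a b => by
    rw [← h.1.2.2, commutator_def, ← commutatorElement_def]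
    exact Subgroup.commutator_mem_commutator (Subgroup.mem_top a) (Subgroup.mem_top b)
  pow_mem := fun a => by
    rw [← h.1.2.1]
    exact Cfsg.Agent.Helper21.pow_mem_frattini_of_isPGroup h.1.1 a

theorem exists_center_ne_one {p : ℕ} [hp : Fact p.Prime] {E : Type u} [Group E] [Finite E]
    (h : ES p E) : ∃ z ∈ center E, z ≠ 1 := by
  have h1 : center E ≠ ⊥ := by
    rw [← Subgroup.one_lt_card_iff_ne_bot, h.card_center]
    exact hp.out.one_lt
  obtain ⟨z, hz⟩ := (Subgroup.ne_bot_iff_exists_ne_one).mp h1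
  exact ⟨z, z.2, fun e => hz (Subtype.ext e)⟩

end Cfsg.Agent.Helper1.ExtraGlue
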