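import Mathlib
import Cfsg.Agent.Lib.Helper1.ExtraES

/-!
# `ES 2` groups: among three of the same order two are isomorphic (helper1)
-/

set_option autoImplicit false

namespace Cfsg.Agent.Helper1.ExtraGlue

open Subgroup

universe u v w

namespace ES

variable {E : Type u} [Group E] [Finite E]

theorem z_sq (h : ES 2 E) {z : E} (hz : z ∈ center E) (hz1 : z ≠ 1) : z ^ 2 = 1 := by
  have := h.orderOf_eq hz hz1
  rw [← this]; exact pow_orderOf_eq_one z

theorem eq_one_or_eq (h : ES 2 E) {z : E} (hz : z ∈ center E) (hz1 : z ≠ 1) {w : E}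
    (hw : w ∈ center E) : w = 1 ∨ w = z := by
  obtain ⟨k, rfl⟩ := h.exists_pow_eq hz hz1 hw
  have h2 := h.orderOf_eq hz hz1
  rw [← pow_mod_orderOf, h2]
  rcases Nat.mod_two_eq_zero_or_one k with e | e
  · left; rw [e, pow_zero]
  · right; rw [e, pow_one]

theorem sq_eq (h : ES 2 E) {z : E} (hz : z ∈ center E) (hz1 : z ≠ 1) (a : E) :
    a ^ 2 = 1 ∨ a ^ 2 = z := h.eq_one_or_eq hz hz1 (h.pow_mem a)

theorem rel (h : ES 2 E) {z : E} (hz : z ∈ center E) (hz1 : z ≠ 1) (a b : E) :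
    a * b = b * a ∨ a * b = z * (b * a) := by
  rcases h.eq_one_or_eq hz hz1 (h.comm_mem a b) with e | e
  · left
    have : a * b = (a * b * a⁻¹ * b⁻¹) * (b * a) := by group
    rw [this, e, one_mul]
  · right
    have : a * b = (a * b * a⁻¹ * b⁻¹) * (b * a) := by group
    rw [this, e]

/-- A noncentral involution is part of a hyperbolic pair of involutions. -/
theorem exists_pair00_of_involution (h : ES 2 E) {z : E} (hz : z ∈ center E) (hz1 : z ≠ 1)
    {u : E} (hu : u ∉ center E) (hu2 : u ^ 2 = 1) : ∃ x y : E, HPair 2 z x y 0 0 := by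
  have hzc : ∀ g : E, g * z = z * g := fun g => Subgroup.mem_center_iff.mp hz g
  have hzz : z * z = 1 := by rw [← pow_two]; exact h.z_sq hz hz1
  rw [Subgroup.mem_center_iff] at hu
  push Not at hu
  obtain ⟨d, hd⟩ := hu
  have hud : u * d = z * (d * u) := by
    rcases h.rel hz hz1 u d with e | e
    · exact absurd e.symm hd
    · exact e
  rcases h.sq_eq hz hz1 d with hd2 | hd2
  · exact ⟨u, d, h.hpair hz hz1 hud (by rw [hu2, pow_zero]) (by rw [hd2, pow_zero])⟩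
  · refine ⟨u, u * d, h.hpair hz hz1 ?_ (by rw [hu2, pow_zero]) ?_⟩
    · calc u * (u * d) = u * (z * (d * u)) := by rw [hud]
        _ = z * (u * d * u) := by rw [← mul_assoc u z, hzc u]; simp only [mul_assoc]
    · have hdu : d * u = z * (u * d) := by
        rw [hud, ← mul_assoc, hzz, one_mul]
      have huu : u * u = 1 := by rw [← pow_two]; exact hu2
      have hdd : d * d = z := by rw [← pow_two]; exact hd2
      rw [pow_zero, pow_two]
      calc u * d * (u * d) = u * (d * u) * d := by simp only [mul_assoc]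
        _ = u * (z * (u * d)) * d := by rw [hdu]
        _ = z * (u * u) * (d * d) := by
          rw [← mul_assoc u z, hzc u]; simp only [mul_assoc]
        _ = 1 := by rw [huu, hdd, mul_one, hzz]

/-- A non-abelian `ES 2` group has a hyperbolic pair of type `(0,0)` or `(1,1)`. -/
theorem exists_pair_two (h : ES 2 E) {z : E} (hz : z ∈ center E) (hz1 : z ≠ 1)
    (hne : center E ≠ ⊤) : ∃ t : ℕ, t ≤ 1 ∧ ∃ x y : E, HPair 2 z x y t t := by
  by_cases hinv : ∃ u : E, u ∉ center E ∧ u ^ 2 = 1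
  · obtain ⟨u, hu, hu2⟩ := hinv
    obtain ⟨x, y, hP⟩ := h.exists_pair00_of_involution hz hz1 hu hu2
    exact ⟨0, by norm_num, x, y, hP⟩
  · push Not at hinv
    obtain ⟨x, y, hxy⟩ := h.exists_pair hz hz1 hne
    have hx : x ∉ center E := by
      intro hx
      have := Subgroup.mem_center_iff.mp hx y
      rw [this] at hxy
      have : z = 1 := by
        have h2 : 1 * (x * y) = z * (x * y) := by rw [one_mul]; exact hxy
        exact (mul_right_cancel h2).symm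
      exact hz1 this
    have hy : y ∉ center E := by
      intro hy
      have := Subgroup.mem_center_iff.mp hy x
      rw [this] at hxy
      have : z = 1 := by
        have h2 : 1 * (y * x) = z * (y * x) := by rw [one_mul]; exact hxy
        exact (mul_right_cancel h2).symm
      exact hz1 this
    have hx2 : x ^ 2 = z ^ 1 := by
      rw [pow_one]
      rcases h.sq_eq hz hz1 x with e | e
      · exact absurd e (hinv x hx)
      · exact e
    have hy2 : y ^ 2 = z ^ 1 := by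
      rw [pow_one]
      rcases h.sq_eq hz hz1 y with e | e
      · exact absurd e (hinv y hy)
      · exact e
    exact ⟨1, le_refl 1, x, y, h.hpair hz hz1 hxy hx2 hy2⟩

/-- In an `ES 2` group of order more than `8` there is a noncentral involution. -/
theorem exists_involution_of_card (h : ES 2 E) {z x y : E} (hz : z ∈ center E) (hz1 : z ≠ 1)
    {t : ℕ} (hP : HPair 2 z x y t t) (hcard : 8 < Nat.card E) :
    ∃ u : E, u ∉ center E ∧ u ^ 2 = 1 := by
  have hzc : ∀ g : E, g * z = z * g := fun g => Subgroup.mem_center_iff.mp hz g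
  have hzz : z * z = 1 := by rw [← pow_two]; exact h.z_sq hz hz1
  by_cases hx2 : x ^ 2 = 1
  · refine ⟨x, ?_, hx2⟩
    intro hx
    have := Subgroup.mem_center_iff.mp hx y
    have hxy := hP.comm
    rw [this] at hxy
    have h2 : 1 * (x * y) = z * (x * y) := by rw [one_mul]; exact hxy
    exact hz1 (mul_right_cancel h2).symm
  have hx2z : x ^ 2 = z := by
    rcases h.sq_eq hz hz1 x with e | e
    · exact absurd e hx2
    · exact e
  have hC := h.cent_es hP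
  have hcc : 2 < Nat.card (cent x y) := by
    have := hP.card_eq
    rw [this] at hcard
    omega
  have hne : center (cent x y) ≠ ⊤ := by
    intro e
    have := hC.card_center
    rw [e, Subgroup.card_top] at this
    omega
  obtain ⟨c, hc⟩ : ∃ c : cent x y, c ∉ center (cent x y) := by
    by_contra hcon
    push Not at hcon
    exact hne (eq_top_iff.mpr fun c _ => hcon c)
  have hcE : (c : E) ∉ center E := fun hh => hc ((mem_center_cent_iff hP c).mpr hh)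
  obtain ⟨hcx, hcy⟩ := mem_cent.mp c.2
  rcases h.sq_eq hz hz1 (c : E) with hc2 | hc2
  · exact ⟨c, hcE, hc2⟩
  · refine ⟨x * c, ?_, ?_⟩
    · intro hu
      have h1 := Subgroup.mem_center_iff.mp hu y
      -- y * (x * c) = x * c * y
      have h2 : x * (c : E) * y = z * (y * (x * c)) := by
        calc x * (c : E) * y = x * (y * c) := by rw [mul_assoc, hcy]
          _ = (x * y) * c := by rw [mul_assoc]
          _ = z * (y * x) * c := by rw [hP.comm]
          _ = z * (y * (x * c)) := by simp only [mul_assoc]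
      rw [← h1] at h2
      have h3 : 1 * (y * (x * (c : E))) = z * (y * (x * c)) := by rw [one_mul]; exact h2
      exact hz1 (mul_right_cancel h3).symm
    · rw [pow_two]
      calc x * (c : E) * (x * c) = x * ((c : E) * x) * c := by simp only [mul_assoc]
        _ = x * (x * c) * c := by rw [hcx]
        _ = (x * x) * ((c : E) * c) := by simp only [mul_assoc]
        _ = 1 := by rw [← pow_two, ← pow_two, hx2z, hc2, hzz]

theorem exists_pair00_of_card (h : ES 2 E) {z : E} (hz : z ∈ center E) (hz1 : z ≠ 1)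
    (hne : center E ≠ ⊤) (hcard : 8 < Nat.card E) : ∃ x y : E, HPair 2 z x y 0 0 := by
  obtain ⟨t, -, x, y, hP⟩ := h.exists_pair_two hz hz1 hne
  obtain ⟨u, hu, hu2⟩ := h.exists_involution_of_card hz hz1 hP hcard
  exact h.exists_pair00_of_involution hz hz1 hu hu2

end ES

/-- Isomorphisms of `ES 2` groups automatically match the nontrivial central elements. -/
theorem iso_map_z {E₁ : Type u} {E₂ : Type v} [Group E₁] [Group E₂] [Finite E₁] [Finite E₂]
    (h₂ : ES 2 E₂) {z₁ : E₁} {z₂ : E₂} (hz₁ : z₁ ∈ center E₁) (hz₁1 : z₁ ≠ 1)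
    (hz₂ : z₂ ∈ center E₂) (hz₂1 : z₂ ≠ 1) (g : E₁ ≃* E₂) : g z₁ = z₂ := by
  have h1 : g z₁ ∈ center E₂ := by
    rw [Subgroup.mem_center_iff] at hz₁ ⊢
    intro b
    obtain ⟨a, rfl⟩ := g.surjective b
    rw [← map_mul, ← map_mul, hz₁ a]
  rcases h₂.eq_one_or_eq hz₂ hz₂1 h1 with e | e
  · exfalso
    apply hz₁1
    apply g.injective
    rw [e, map_one]
  · exact e

/-- Gluing step for `ES 2` groups. -/
theorem glue_two {E₁ : Type u} {E₂ : Type v} [Group E₁] [Group E₂] [Finite E₁] [Finite E₂]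
    (h₁ : ES 2 E₁) (h₂ : ES 2 E₂) {z₁ x₁ y₁ : E₁} {z₂ x₂ y₂ : E₂} (hz₁ : z₁ ∈ center E₁)
    (hz₁1 : z₁ ≠ 1) (hz₂ : z₂ ∈ center E₂) (hz₂1 : z₂ ≠ 1) {t : ℕ}
    (hP₁ : HPair 2 z₁ x₁ y₁ t t) (hP₂ : HPair 2 z₂ x₂ y₂ t t)
    (g : cent x₁ y₁ ≃* cent x₂ y₂) : Nonempty (E₁ ≃* E₂) := by
  have hg : g ⟨z₁, hP₁.z_mem⟩ = ⟨z₂, hP₂.z_mem⟩ :=
    iso_map_z (h₂.cent_es hP₂) ((ES.mem_center_cent_iff hP₁ _).mpr hz₁)
      (fun h => hz₁1 (congrArg Subtype.val h)) ((ES.mem_center_cent_iff hP₂ _).mpr hz₂)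
      (fun h => hz₂1 (congrArg Subtype.val h)) g
  obtain ⟨f, -⟩ := glue hP₁ hP₂ g (congrArg Subtype.val hg)
  exact ⟨f⟩

/-- `ES 2` groups of order `2` are isomorphic. -/
theorem iso_of_card_two {E₁ : Type u} {E₂ : Type v} [Group E₁] [Group E₂] [Finite E₁] [Finite E₂]
    (h₁ : ES 2 E₁) (h₂ : ES 2 E₂) (hc₁ : Nat.card E₁ = 2) (hc₂ : Nat.card E₂ = 2) :
    Nonempty (E₁ ≃* E₂) := by
  obtain ⟨z₁, hz₁, hz₁1⟩ := exists_center_ne_one h₁
  obtain ⟨z₂, hz₂, hz₂1⟩ := exists_center_ne_one h₂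
  have hab₁ : center E₁ = ⊤ := by
    apply Subgroup.eq_top_of_card_eq; rw [h₁.card_center, hc₁]
  have hab₂ : center E₂ = ⊤ := by
    apply Subgroup.eq_top_of_card_eq; rw [h₂.card_center, hc₂]
  have g1 : ∀ x : E₁, x ∈ zpowers z₁ := by
    intro x
    obtain ⟨k, hk⟩ := h₁.exists_pow_eq hz₁ hz₁1 (show x ∈ center E₁ by rw [hab₁]; trivial)
    rw [hk]; exact pow_mem (mem_zpowers z₁) k
  have g2 : ∀ x : E₂, x ∈ zpowers z₂ := by
    intro x
    obtain ⟨k, hk⟩ := h₂.exists_pow_eq hz₂ hz₂1 (show x ∈ center E₂ by rw [hab₂]; trivial)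
    rw [hk]; exact pow_mem (mem_zpowers z₂) k
  obtain ⟨f, -⟩ := cyclic_iso g1 g2
    ((h₁.orderOf_eq hz₁ hz₁1).trans (h₂.orderOf_eq hz₂ hz₂1).symm)
  exact ⟨f⟩

theorem card_cent_eq {E₁ : Type u} {E₂ : Type v} [Group E₁] [Group E₂] [Finite E₁] [Finite E₂]
    {p : ℕ} (hp : 0 < p) {z₁ x₁ y₁ : E₁} {z₂ x₂ y₂ : E₂} {α β α' β' : ℕ}
    (hP₁ : HPair p z₁ x₁ y₁ α β) (hP₂ : HPair p z₂ x₂ y₂ α' β')
    (hc : Nat.card E₁ = Nat.card E₂) : Nat.card (cent x₁ y₁) = Nat.card (cent x₂ y₂) := by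
  have e1 := hP₁.card_eq
  have e2 := hP₂.card_eq
  rw [hc, e2] at e1
  exact (Nat.eq_of_mul_eq_mul_left (Nat.mul_pos hp hp) e1).symm

theorem center_ne_top_of_card {E : Type u} [Group E] [Finite E] (h : ES 2 E) {n : ℕ}
    (hn2 : n ≠ 2) (hc : Nat.card E = n) : center E ≠ ⊤ := by
  intro e
  have := h.card_center
  rw [e, Subgroup.card_top, hc] at this
  exact hn2 this

theorem card_cent_of_le {E : Type u} [Group E] [Finite E] {z x y : E} {t : ℕ} (h : ES 2 E)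
    (hP : HPair 2 z x y t t) {n : ℕ} (hn8 : ¬ 8 < n) (hc : Nat.card E = n) :
    Nat.card (cent x y) = 2 := by
  have e := hP.card_eq
  have hC := (h.cent_es hP).card_center
  have hle : Nat.card (center (cent x y)) ≤ Nat.card (cent x y) :=
    Subgroup.card_le_card_group _
  rw [hc] at e
  omega

/-- Among three `ES 2` groups of the same order two are isomorphic. -/
theorem three_aux : ∀ (n : ℕ) (E₁ : Type u) (E₂ : Type v) (E₃ : Type w)
    [Group E₁] [Group E₂] [Group E₃] [Finite E₁] [Finite E₂] [Finite E₃],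
    ES 2 E₁ → ES 2 E₂ → ES 2 E₃ → Nat.card E₁ = n → Nat.card E₂ = n → Nat.card E₃ = n →
    Nonempty (E₁ ≃* E₂) ∨ Nonempty (E₂ ≃* E₃) ∨ Nonempty (E₁ ≃* E₃) := by
  intro n
  induction n using Nat.strong_induction_on with
  | _ n ih =>
  intro E₁ E₂ E₃ _ _ _ _ _ _ h₁ h₂ h₃ hc₁ hc₂ hc₃
  obtain ⟨z₁, hz₁, hz₁1⟩ := exists_center_ne_one h₁
  obtain ⟨z₂, hz₂, hz₂1⟩ := exists_center_ne_one h₂
  obtain ⟨z₃, hz₃, hz₃1⟩ := exists_center_ne_one h₃
  by_cases hn2 : n = 2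
  · left
    exact iso_of_card_two h₁ h₂ (hc₁.trans hn2) (hc₂.trans hn2)
  have hne₁ := center_ne_top_of_card h₁ hn2 hc₁
  have hne₂ := center_ne_top_of_card h₂ hn2 hc₂
  have hne₃ := center_ne_top_of_card h₃ hn2 hc₃
  by_cases hn8 : 8 < n
  · obtain ⟨x₁, y₁, hP₁⟩ := h₁.exists_pair00_of_card hz₁ hz₁1 hne₁ (hc₁ ▸ hn8)
    obtain ⟨x₂, y₂, hP₂⟩ := h₂.exists_pair00_of_card hz₂ hz₂1 hne₂ (hc₂ ▸ hn8)
    obtain ⟨x₃, y₃, hP₃⟩ := h₃.exists_pair00_of_card hz₃ hz₃1 hne₃ (hc₃ ▸ hn8)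
    have hlt : Nat.card (cent x₁ y₁) < n := hc₁ ▸ ES.card_lt_of_pair hP₁
    have e12 := card_cent_eq (by norm_num) hP₁ hP₂ (hc₁.trans hc₂.symm)
    have e13 := card_cent_eq (by norm_num) hP₁ hP₃ (hc₁.trans hc₃.symm)
    rcases ih _ hlt (cent x₁ y₁) (cent x₂ y₂) (cent x₃ y₃) (h₁.cent_es hP₁) (h₂.cent_es hP₂)
      (h₃.cent_es hP₃) rfl e12.symm e13.symm with ⟨⟨g⟩⟩ | ⟨⟨g⟩⟩ | ⟨⟨g⟩⟩
    · left; exact glue_two h₁ h₂ hz₁ hz₁1 hz₂ hz₂1 hP₁ hP₂ g
    · right; left; exact glue_two h₂ h₃ hz₂ hz₂1 hz₃ hz₃1 hP₂ hP₃ g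
    · right; right; exact glue_two h₁ h₃ hz₁ hz₁1 hz₃ hz₃1 hP₁ hP₃ g
  · -- order at most 8: the centralizers of the pairs have order 2
    obtain ⟨t₁, ht₁, x₁, y₁, hP₁⟩ := h₁.exists_pair_two hz₁ hz₁1 hne₁
    obtain ⟨t₂, ht₂, x₂, y₂, hP₂⟩ := h₂.exists_pair_two hz₂ hz₂1 hne₂
    obtain ⟨t₃, ht₃, x₃, y₃, hP₃⟩ := h₃.exists_pair_two hz₃ hz₃1 hne₃
    have c₁ := card_cent_of_le h₁ hP₁ hn8 hc₁
    have c₂ := card_cent_of_le h₂ hP₂ hn8 hc₂
    have c₃ := card_cent_of_le h₃ hP₃ hn8 hc₃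
    obtain ⟨g12⟩ := iso_of_card_two (h₁.cent_es hP₁) (h₂.cent_es hP₂) c₁ c₂
    obtain ⟨g23⟩ := iso_of_card_two (h₂.cent_es hP₂) (h₃.cent_es hP₃) c₂ c₃
    obtain ⟨g13⟩ := iso_of_card_two (h₁.cent_es hP₁) (h₃.cent_es hP₃) c₁ c₃
    by_cases e12 : t₁ = t₂
    · subst e12
      left; exact glue_two h₁ h₂ hz₁ hz₁1 hz₂ hz₂1 hP₁ hP₂ g12
    by_cases e23 : t₂ = t₃
    · subst e23
      right; left; exact glue_two h₂ h₃ hz₂ hz₂1 hz₃ hz₃1 hP₂ hP₃ g23
    have e13 : t₁ = t₃ := by omega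
    subst e13
    right; right; exact glue_two h₁ h₃ hz₁ hz₁1 hz₃ hz₃1 hP₁ hP₃ g13

end Cfsg.Agent.Helper1.ExtraGlue
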