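import Mathlib
import Cfsg.Agent.Lib.Helper1.ExtraTwo

/-!
# Counting the solutions of `g ^ 2 = 1` in `ES 2` groups (helper1)
-/

set_option autoImplicit false

namespace Cfsg.Agent.Helper1.ExtraGlue

open Subgroup

universe u v

namespace HPair

variable {E : Type u} [Group E] {p : ℕ} {z x y : E} {α β : ℕ}

/-- The normal form bijection. -/
noncomputable def normalEquiv (h : HPair p z x y α β) : Fin p × Fin p × cent x y ≃ E :=
  Equiv.ofBijective (fun t => θ x y t.1.val t.2.1.val (t.2.2 : E)) (by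
    constructor
    · rintro ⟨a, b, c⟩ ⟨a', b', c'⟩ he
      obtain ⟨e1, e2, e3⟩ := h.eq_of a.2 b.2 a'.2 b'.2 c.2 c'.2 he
      have e1' : a = a' := Fin.ext e1
      have e2' : b = b' := Fin.ext e2
      have e3' : c = c' := Subtype.ext e3
      rw [e1', e2', e3']
    · intro g
      obtain ⟨a, ha, b, hb, c, hc, rfl⟩ := h.exists_theta_lt g
      exact ⟨(⟨a, ha⟩, ⟨b, hb⟩, ⟨c, hc⟩), rfl⟩)

theorem normalEquiv_apply (h : HPair p z x y α β) (t : Fin p × Fin p × cent x y) :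
    h.normalEquiv t = θ x y t.1.val t.2.1.val (t.2.2 : E) := rfl

end HPair

/-- Number of solutions of `g ^ 2 = 1`. -/
noncomputable def nSq (E : Type u) [Group E] : ℕ := Nat.card {g : E // g ^ 2 = 1}

namespace ES

variable {E : Type u} [Group E] [Finite E]

theorem theta_sq (h : ES 2 E) {z x y : E} (hz : z ∈ center E) (hz1 : z ≠ 1) {t : ℕ}
    (hP : HPair 2 z x y t t) {c : E} (hc : c ∈ cent x y) :
    (θ x y 0 0 c) ^ 2 = c ^ 2 ∧ (θ x y 1 0 c) ^ 2 = z ^ t * c ^ 2 ∧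
    (θ x y 0 1 c) ^ 2 = z ^ t * c ^ 2 ∧ (θ x y 1 1 c) ^ 2 = z * c ^ 2 := by
  obtain ⟨hcx, hcy⟩ := mem_cent.mp hc
  have hzz : z * z = 1 := by rw [← pow_two]; exact h.z_sq hz hz1
  have hzc : ∀ g : E, g * z = z * g := hP.zc
  refine ⟨by simp [θ], ?_, ?_, ?_⟩
  · unfold θ
    rw [pow_one, pow_zero, mul_one, pow_two, ← hP.xp, pow_two, pow_two]
    calc x * c * (x * c) = x * (c * x) * c := by simp only [mul_assoc]
      _ = x * (x * c) * c := by rw [hcx]
      _ = x * x * (c * c) := by simp only [mul_assoc]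
  · unfold θ
    rw [pow_one, pow_zero, one_mul, pow_two, ← hP.yp, pow_two, pow_two]
    calc y * c * (y * c) = y * (c * y) * c := by simp only [mul_assoc]
      _ = y * (y * c) * c := by rw [hcy]
      _ = y * y * (c * c) := by simp only [mul_assoc]
  · unfold θ
    rw [pow_one, pow_one, pow_two, pow_two]
    have hyx : y * x = z * (x * y) := by rw [hP.comm, ← mul_assoc, hzz, one_mul]
    have hxx : x * x = z ^ t := by rw [← pow_two]; exact hP.xp
    have hyy : y * y = z ^ t := by rw [← pow_two]; exact hP.yp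
    have hcxy : c * (x * y) = x * y * c := by
      rw [← mul_assoc, hcx, mul_assoc, hcy, mul_assoc]
    calc x * y * c * (x * y * c) = x * y * (c * (x * y)) * c := by simp only [mul_assoc]
      _ = x * y * (x * y * c) * c := by rw [hcxy]
      _ = x * (y * x) * y * (c * c) := by simp only [mul_assoc]
      _ = x * (z * (x * y)) * y * (c * c) := by rw [hyx]
      _ = z * ((x * x) * (y * y)) * (c * c) := by
        rw [← mul_assoc x z, hzc x]; simp only [mul_assoc]
      _ = z * (c * c) := by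
        rw [hxx, hyy, ← pow_add, ← two_mul, pow_mul, h.z_sq hz hz1, one_pow, mul_one]

theorem z_mul_eq_one_iff (h : ES 2 E) {z : E} (hz : z ∈ center E) (hz1 : z ≠ 1) (w : E) :
    z * w = 1 ↔ w = z := by
  have hzz : z * z = 1 := by rw [← pow_two]; exact h.z_sq hz hz1
  constructor
  · intro e
    calc w = z * z * w := by rw [hzz, one_mul]
      _ = z * (z * w) := by rw [mul_assoc]
      _ = z := by rw [e, mul_one]
  · rintro rfl; exact hzz

/-- The counting recursion along a hyperbolic pair of type `(t, t)`. -/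
theorem nSq_eq (h : ES 2 E) {z x y : E} (hz : z ∈ center E) (hz1 : z ≠ 1) {t : ℕ} (ht : t ≤ 1)
    (hP : HPair 2 z x y t t) :
    nSq E = (if t = 0 then 3 else 1) * nSq (cent x y) +
      (if t = 0 then 1 else 3) * Nat.card {c : cent x y // (c : E) ^ 2 = z} := by
  classical
  unfold nSq
  have e1 : {g : E // g ^ 2 = 1} ≃
      {u : Fin 2 × Fin 2 × cent x y // (hP.normalEquiv u) ^ 2 = 1} :=
    (Equiv.subtypeEquiv hP.normalEquiv (fun u => Iff.rfl)).symm
  have e2 : {u : Fin 2 × Fin 2 × cent x y // (hP.normalEquiv u) ^ 2 = 1} ≃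
      Σ a : Fin 2, {v : Fin 2 × cent x y // (hP.normalEquiv (a, v)) ^ 2 = 1} :=
    Equiv.subtypeProdEquivSigmaSubtype (fun a v => (hP.normalEquiv (a, v)) ^ 2 = 1)
  have e3 : ∀ a : Fin 2, {v : Fin 2 × cent x y // (hP.normalEquiv (a, v)) ^ 2 = 1} ≃
      Σ b : Fin 2, {c : cent x y // (hP.normalEquiv (a, b, c)) ^ 2 = 1} := fun a =>
    Equiv.subtypeProdEquivSigmaSubtype (fun b c => (hP.normalEquiv (a, b, c)) ^ 2 = 1)
  rw [Nat.card_congr (e1.trans e2), Nat.card_sigma, Fin.sum_univ_two,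
    Nat.card_congr (e3 0), Nat.card_congr (e3 1), Nat.card_sigma, Nat.card_sigma,
    Fin.sum_univ_two, Fin.sum_univ_two]
  simp only [HPair.normalEquiv_apply, Fin.val_zero, Fin.val_one]
  have key : ∀ c : cent x y, ((θ x y 0 0 (c : E)) ^ 2 = 1 ↔ c ^ 2 = 1) ∧
      ((θ x y 1 1 (c : E)) ^ 2 = 1 ↔ (c : E) ^ 2 = z) := by
    intro c
    obtain ⟨s1, -, -, s4⟩ := h.theta_sq hz hz1 hP c.2
    rw [s1, s4, h.z_mul_eq_one_iff hz hz1]
    refine ⟨?_, Iff.rfl⟩
    constructor
    · intro e; exact Subtype.ext (by simpa using e)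
    · intro e; have := congrArg Subtype.val e; simpa using this
  have c00 : Nat.card {c : cent x y // (θ x y 0 0 (c : E)) ^ 2 = 1} =
      Nat.card {c : cent x y // c ^ 2 = 1} :=
    Nat.card_congr (Equiv.subtypeEquivRight fun c => (key c).1)
  have c11 : Nat.card {c : cent x y // (θ x y 1 1 (c : E)) ^ 2 = 1} =
      Nat.card {c : cent x y // (c : E) ^ 2 = z} :=
    Nat.card_congr (Equiv.subtypeEquivRight fun c => (key c).2)
  rw [c00, c11]
  rcases Nat.le_one_iff_eq_zero_or_eq_one.mp ht with rfl | rfl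
  · have key2 : ∀ c : cent x y, ((θ x y 1 0 (c : E)) ^ 2 = 1 ↔ c ^ 2 = 1) ∧
        ((θ x y 0 1 (c : E)) ^ 2 = 1 ↔ c ^ 2 = 1) := by
      intro c
      obtain ⟨-, s2, s3, -⟩ := h.theta_sq hz hz1 hP c.2
      rw [s2, s3, pow_zero, one_mul]
      have : (c : E) ^ 2 = 1 ↔ c ^ 2 = 1 := by
        constructor
        · intro e; exact Subtype.ext (by simpa using e)
        · intro e; have := congrArg Subtype.val e; simpa using this
      exact ⟨this, this⟩
    have c10 : Nat.card {c : cent x y // (θ x y 1 0 (c : E)) ^ 2 = 1} =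
        Nat.card {c : cent x y // c ^ 2 = 1} :=
      Nat.card_congr (Equiv.subtypeEquivRight fun c => (key2 c).1)
    have c01 : Nat.card {c : cent x y // (θ x y 0 1 (c : E)) ^ 2 = 1} =
        Nat.card {c : cent x y // c ^ 2 = 1} :=
      Nat.card_congr (Equiv.subtypeEquivRight fun c => (key2 c).2)
    rw [c10, c01]
    simp only [if_true]
    ring
  · have key2 : ∀ c : cent x y, ((θ x y 1 0 (c : E)) ^ 2 = 1 ↔ (c : E) ^ 2 = z) ∧
        ((θ x y 0 1 (c : E)) ^ 2 = 1 ↔ (c : E) ^ 2 = z) := by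
      intro c
      obtain ⟨-, s2, s3, -⟩ := h.theta_sq hz hz1 hP c.2
      rw [s2, s3, pow_one, h.z_mul_eq_one_iff hz hz1]
      exact ⟨Iff.rfl, Iff.rfl⟩
    have c10 : Nat.card {c : cent x y // (θ x y 1 0 (c : E)) ^ 2 = 1} =
        Nat.card {c : cent x y // (c : E) ^ 2 = z} :=
      Nat.card_congr (Equiv.subtypeEquivRight fun c => (key2 c).1)
    have c01 : Nat.card {c : cent x y // (θ x y 0 1 (c : E)) ^ 2 = 1} =
        Nat.card {c : cent x y // (c : E) ^ 2 = z} :=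
      Nat.card_congr (Equiv.subtypeEquivRight fun c => (key2 c).2)
    rw [c10, c01]
    simp only [one_ne_zero, if_false]
    ring

/-- The elements of an `ES 2` group square to `1` or to `z`. -/
theorem card_eq_nSq_add (h : ES 2 E) {z : E} (hz : z ∈ center E) (hz1 : z ≠ 1) :
    Nat.card E = nSq E + Nat.card {g : E // g ^ 2 = z} := by
  classical
  unfold nSq
  have e : {g : E // g ^ 2 = z} ≃ {g : E // ¬ g ^ 2 = 1} :=
    Equiv.subtypeEquivRight fun g => by
      constructor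
      · intro e1 e2; exact hz1 (e1.symm.trans e2)
      · intro e1
        rcases h.sq_eq hz hz1 g with e2 | e2
        · exact absurd e2 e1
        · exact e2
  rw [Nat.card_congr e, ← Nat.card_sum]
  exact Nat.card_congr (Equiv.sumCompl (fun g : E => g ^ 2 = 1)).symm

theorem card_cent_eq_nSq_add (h : ES 2 E) {z x y : E} (hz : z ∈ center E) (hz1 : z ≠ 1) {t : ℕ}
    (hP : HPair 2 z x y t t) :
    Nat.card (cent x y) = nSq (cent x y) + Nat.card {c : cent x y // (c : E) ^ 2 = z} := by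
  have h1 := (h.cent_es hP).card_eq_nSq_add (z := ⟨z, hP.z_mem⟩)
    ((mem_center_cent_iff hP _).mpr hz) (fun e => hz1 (congrArg Subtype.val e))
  rw [h1]
  congr 1
  apply Nat.card_congr
  refine Equiv.subtypeEquivRight fun c => ?_
  constructor
  · intro e; have := congrArg Subtype.val e; simpa using this
  · intro e; exact Subtype.ext (by simpa using e)

theorem nSq_pair_zero (h : ES 2 E) {z x y : E} (hz : z ∈ center E) (hz1 : z ≠ 1)
    (hP : HPair 2 z x y 0 0) : nSq E = 2 * nSq (cent x y) + Nat.card (cent x y) := by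
  have h1 := h.nSq_eq hz hz1 (le_of_lt Nat.one_pos) hP
  have h2 := h.card_cent_eq_nSq_add hz hz1 hP
  simp only [if_true] at h1
  omega

theorem nSq_pair_one (h : ES 2 E) {z x y : E} (hz : z ∈ center E) (hz1 : z ≠ 1)
    (hP : HPair 2 z x y 1 1) : nSq E + 2 * nSq (cent x y) = 3 * Nat.card (cent x y) := by
  have h1 := h.nSq_eq hz hz1 (le_refl 1) hP
  have h2 := h.card_cent_eq_nSq_add hz hz1 hP
  simp only [one_ne_zero, if_false] at h1
  omega

theorem nSq_of_card_two (h : ES 2 E) (hc : Nat.card E = 2) : nSq E = 2 := by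
  obtain ⟨z, hz, hz1⟩ := exists_center_ne_one h
  have hab : center E = ⊤ := by
    apply Subgroup.eq_top_of_card_eq; rw [h.card_center, hc]
  unfold nSq
  have key : Nat.card {g : E // g ^ 2 = 1} = Nat.card E := by
    apply Nat.card_congr
    refine Equiv.subtypeUnivEquiv fun g => ?_
    rcases h.eq_one_or_eq hz hz1 (show g ∈ center E by rw [hab]; trivial) with e | e
    · rw [e, one_pow]
    · rw [e]; exact h.z_sq hz hz1
  rw [key, hc]

end ES

/-- Order and number of involution-type elements of an `ES 2` group. -/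
theorem es_two_structure : ∀ (n : ℕ) (E : Type u) [Group E] [Finite E], ES 2 E → Nat.card E = n →
    ∃ m : ℕ, n = 2 ^ (2 * m + 1) ∧ (nSq E = 2 ^ (2 * m) + 2 ^ m ∨ nSq E = 2 ^ (2 * m) - 2 ^ m) := by
  intro n
  induction n using Nat.strong_induction_on with
  | _ n ih =>
  intro E _ _ h hc
  obtain ⟨z, hz, hz1⟩ := exists_center_ne_one h
  by_cases hn2 : n = 2
  · refine ⟨0, by simpa using hn2, Or.inl ?_⟩
    rw [h.nSq_of_card_two (hc.trans hn2)]; norm_num
  have hne := center_ne_top_of_card h hn2 hc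
  obtain ⟨t, ht, x, y, hP⟩ := h.exists_pair_two hz hz1 hne
  have hlt : Nat.card (cent x y) < n := hc ▸ ES.card_lt_of_pair hP
  obtain ⟨m, hm, hm2⟩ := ih _ hlt (cent x y) (h.cent_es hP) rfl
  have hcard := hP.card_eq
  rw [hc, hm] at hcard
  refine ⟨m + 1, ?_, ?_⟩
  · rw [hcard]; ring
  have hle : 2 ^ m ≤ 2 ^ (2 * m) := Nat.pow_le_pow_right (by norm_num) (by omega)
  have e1 : 2 ^ (2 * (m + 1)) = 4 * 2 ^ (2 * m) := by ring
  have e2 : 2 ^ (m + 1) = 2 * 2 ^ m := by ring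
  have e3 : 2 ^ (2 * m + 1) = 2 * 2 ^ (2 * m) := by ring
  rcases Nat.le_one_iff_eq_zero_or_eq_one.mp ht with rfl | rfl
  · have h1 := h.nSq_pair_zero hz hz1 hP
    rw [hm, e3] at h1
    rcases hm2 with e | e
    · left; rw [e1, e2]; omega
    · right; rw [e1, e2]; omega
  · have h1 := h.nSq_pair_one hz hz1 hP
    rw [hm, e3] at h1
    rcases hm2 with e | e
    · right; rw [e1, e2]; omega
    · left; rw [e1, e2]; omega

/-- `ES 2` groups of the same order with the same number of solutions of `g ^ 2 = 1` are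
isomorphic. -/
theorem es_two_iso : ∀ (n : ℕ) (E₁ : Type u) (E₂ : Type v) [Group E₁] [Group E₂] [Finite E₁]
    [Finite E₂], ES 2 E₁ → ES 2 E₂ → Nat.card E₁ = n → Nat.card E₂ = n → nSq E₁ = nSq E₂ →
    Nonempty (E₁ ≃* E₂) := by
  intro n
  induction n using Nat.strong_induction_on with
  | _ n ih =>
  intro E₁ E₂ _ _ _ _ h₁ h₂ hc₁ hc₂ hsq
  obtain ⟨z₁, hz₁, hz₁1⟩ := exists_center_ne_one h₁
  obtain ⟨z₂, hz₂, hz₂1⟩ := exists_center_ne_one h₂
  by_cases hn2 : n = 2
  · exact iso_of_card_two h₁ h₂ (hc₁.trans hn2) (hc₂.trans hn2)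
  have hne₁ := center_ne_top_of_card h₁ hn2 hc₁
  have hne₂ := center_ne_top_of_card h₂ hn2 hc₂
  by_cases hn8 : 8 < n
  · obtain ⟨x₁, y₁, hP₁⟩ := h₁.exists_pair00_of_card hz₁ hz₁1 hne₁ (hc₁ ▸ hn8)
    obtain ⟨x₂, y₂, hP₂⟩ := h₂.exists_pair00_of_card hz₂ hz₂1 hne₂ (hc₂ ▸ hn8)
    have hlt : Nat.card (cent x₁ y₁) < n := hc₁ ▸ ES.card_lt_of_pair hP₁
    have e12 := card_cent_eq (by norm_num) hP₁ hP₂ (hc₁.trans hc₂.symm)
    have s1 := h₁.nSq_pair_zero hz₁ hz₁1 hP₁
    have s2 := h₂.nSq_pair_zero hz₂ hz₂1 hP₂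
    have hsq' : nSq (cent x₁ y₁) = nSq (cent x₂ y₂) := by omega
    obtain ⟨g⟩ := ih _ hlt (cent x₁ y₁) (cent x₂ y₂) (h₁.cent_es hP₁) (h₂.cent_es hP₂) rfl
      e12.symm hsq'
    exact glue_two h₁ h₂ hz₁ hz₁1 hz₂ hz₂1 hP₁ hP₂ g
  · obtain ⟨t₁, ht₁, x₁, y₁, hP₁⟩ := h₁.exists_pair_two hz₁ hz₁1 hne₁
    obtain ⟨t₂, ht₂, x₂, y₂, hP₂⟩ := h₂.exists_pair_two hz₂ hz₂1 hne₂
    have c₁ := card_cent_of_le h₁ hP₁ hn8 hc₁
    have c₂ := card_cent_of_le h₂ hP₂ hn8 hc₂
    obtain ⟨g⟩ := iso_of_card_two (h₁.cent_es hP₁) (h₂.cent_es hP₂) c₁ c₂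
    have q₁ := (h₁.cent_es hP₁).nSq_of_card_two c₁
    have q₂ := (h₂.cent_es hP₂).nSq_of_card_two c₂
    have r₁ := h₁.nSq_eq hz₁ hz₁1 ht₁ hP₁
    have r₂ := h₂.nSq_eq hz₂ hz₂1 ht₂ hP₂
    have k₁ := h₁.card_cent_eq_nSq_add hz₁ hz₁1 hP₁
    have k₂ := h₂.card_cent_eq_nSq_add hz₂ hz₂1 hP₂
    have ht : t₁ = t₂ := by
      rcases Nat.le_one_iff_eq_zero_or_eq_one.mp ht₁ with rfl | rfl <;>
      rcases Nat.le_one_iff_eq_zero_or_eq_one.mp ht₂ with rfl | rfl <;>
      simp at r₁ r₂ <;> omega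
    subst ht
    exact glue_two h₁ h₂ hz₁ hz₁1 hz₂ hz₂1 hP₁ hP₂ g

end Cfsg.Agent.Helper1.ExtraGlue
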