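import Mathlib
import Cfsg.Agent.Lib.Helper13.F4TDefs
import Cfsg.Agent.S1035

/-!
# S2372 piece CHIB4 (helper1): `T(K) ≅ (Kˣ)⁴` through the values at the fundamental roots `33, 27, 25, 24`
(the `F₄` analogue of helper16's G2TCHIB)
-/

set_option autoImplicit false
set_option linter.unusedSectionVars false
set_option linter.unusedVariables false

namespace Cfsg.Agent.Helper13.F4T

open Cfsg Cfsg.Lie Cfsg.Agent.Lead.Chev Cfsg.Agent.Lead.Tw

section K

variable {K : Type*} [Field K]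

/-- the character of `F₄` in terms of the four coordinates -/
theorem f4tchib_chi (c : ℕ → K) (v : ℕ) :
    chi chevF4 c v = c 0 ^ chevF4.cartan 0 v * c 1 ^ chevF4.cartan 1 v * c 2 ^ chevF4.cartan 2 v *
      c 3 ^ chevF4.cartan 3 v := by
  unfold chi
  have : chevF4.rank = 4 := rfl
  rw [this]
  simp [List.range_succ, mul_assoc]

theorem f4tchib_cartan (i : ℕ) (hi : i < 4) (v : ℕ) (hv : v < 48) :
    chevF4.cartan i v = chevF4.cartan i 33 * (rcv v).1 + chevF4.cartan i 27 * (rcv v).2.1 +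
      chevF4.cartan i 25 * (rcv v).2.2.1 + chevF4.cartan i 24 * (rcv v).2.2.2 := by
  interval_cases i <;> interval_cases v <;> decide

theorem f4tchib_ev_Tmat (h : GL chevF4.Idx K) (c : ℕ → K)
    (e : (h : Matrix chevF4.Idx chevF4.Idx K) = Tmat chevF4 c) (v : ℕ) (hv : v < 48) :
    ev h v = chi chevF4 c v := by
  unfold ev
  have hv' : v < chevF4.nroots := hv
  rw [dif_pos hv', e]
  unfold Tmat
  rw [Matrix.diagonal_apply_eq]
  rfl

theorem f4tchib_chi_rc (c : ℕ → K) (hc : ∀ i < 4, c i ≠ 0) (v : ℕ) (hv : v < 48) :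
    chi chevF4 c v = chi chevF4 c 33 ^ (rcv v).1 * chi chevF4 c 27 ^ (rcv v).2.1 *
      chi chevF4 c 25 ^ (rcv v).2.2.1 * chi chevF4 c 24 ^ (rcv v).2.2.2 := by
  have h0 : c 0 ≠ 0 := hc 0 (by norm_num)
  have h1 : c 1 ≠ 0 := hc 1 (by norm_num)
  have h2 : c 2 ≠ 0 := hc 2 (by norm_num)
  have h3 : c 3 ≠ 0 := hc 3 (by norm_num)
  rw [f4tchib_chi c v, f4tchib_chi c 33, f4tchib_chi c 27, f4tchib_chi c 25, f4tchib_chi c 24,
    f4tchib_cartan 0 (by norm_num) v hv, f4tchib_cartan 1 (by norm_num) v hv,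
    f4tchib_cartan 2 (by norm_num) v hv, f4tchib_cartan 3 (by norm_num) v hv]
  simp only [zpow_add₀ h0, zpow_add₀ h1, zpow_add₀ h2, zpow_add₀ h3, zpow_mul, mul_zpow]
  ring

theorem ev_rc (h : GL chevF4.Idx K) (hh : h ∈ chevF4.diagonalSubgroup K) (v : ℕ) (hv : v < 48) :
    ev h v = ev h 33 ^ (rcv v).1 * ev h 27 ^ (rcv v).2.1 * ev h 25 ^ (rcv v).2.2.1 * ev h 24 ^ (rcv v).2.2.2 := by
  obtain ⟨c, hc, e⟩ := exists_Tmat_of_mem chevF4 (f4F K).hall h hh
  rw [f4tchib_ev_Tmat h c e v hv, f4tchib_ev_Tmat h c e 33 (by norm_num),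
    f4tchib_ev_Tmat h c e 27 (by norm_num), f4tchib_ev_Tmat h c e 25 (by norm_num),
    f4tchib_ev_Tmat h c e 24 (by norm_num)]
  exact f4tchib_chi_rc c hc v hv

theorem eq_one_of_ev (h : GL chevF4.Idx K) (hh : h ∈ chevF4.diagonalSubgroup K) (h0 : ev h 33 = 1)
    (h1 : ev h 27 = 1) (h2 : ev h 25 = 1) (h3 : ev h 24 = 1) : h = 1 := by
  obtain ⟨c, hc, e⟩ := exists_Tmat_of_mem chevF4 (f4F K).hall h hh
  apply Units.ext
  rw [e, Units.val_one, ← Matrix.diagonal_one]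
  unfold Tmat
  congr 1
  funext idx
  rcases idx with i | v
  · rfl
  · have hv : v.val < 48 := v.2
    have h4 := ev_rc h hh v.val hv
    rw [h0, h1, h2, h3, one_zpow, one_zpow, one_zpow, one_zpow, one_mul, one_mul, one_mul,
      f4tchib_ev_Tmat h c e v.val hv] at h4
    simpa using h4

theorem exists_ev (x0 x1 x2 x3 : K) (h0 : x0 ≠ 0) (h1 : x1 ≠ 0) (h2 : x2 ≠ 0) (h3 : x3 ≠ 0) :
    ∃ h ∈ chevF4.diagonalSubgroup K, ev h 33 = x0 ∧ ev h 27 = x1 ∧ ev h 25 = x2 ∧ ev h 24 = x3 := by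
  have hF := f4F K
  let u0 : Kˣ := Units.mk0 x0 h0
  let u1 : Kˣ := Units.mk0 x1 h1
  let u2 : Kˣ := Units.mk0 x2 h2
  let u3 : Kˣ := Units.mk0 x3 h3
  let c : Fin chevF4.rank → Kˣ := fun i =>
    if i.val = 0 then u0 ^ 2 * u1 ^ 3 * u2 ^ 2 * u3
    else if i.val = 1 then u0 ^ 3 * u1 ^ 6 * u2 ^ 4 * u3 ^ 2
    else if i.val = 2 then u0 ^ 4 * u1 ^ 8 * u2 ^ 6 * u3 ^ 3
    else u0 ^ 2 * u1 ^ 4 * u2 ^ 3 * u3 ^ 2
  have hmem : torusHom chevF4 K c ∈ chevF4.diagonalSubgroup K := by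
    rw [← torusHom_range chevF4 hF.xadd hF.hsimple hF.hall (fun i hi => hF.simple_lt i hi)]
    exact ⟨c, rfl⟩
  have hr : (4 : ℕ) = chevF4.rank := rfl
  have e0 : extC chevF4 c 0 = x0 ^ 2 * x1 ^ 3 * x2 ^ 2 * x3 := by
    rw [extC_lt chevF4 c 0 (by rw [← hr]; norm_num)]
    simp [c, u0, u1, u2, u3]
  have e1 : extC chevF4 c 1 = x0 ^ 3 * x1 ^ 6 * x2 ^ 4 * x3 ^ 2 := by
    rw [extC_lt chevF4 c 1 (by rw [← hr]; norm_num)]
    simp [c, u0, u1, u2, u3]
  have e2 : extC chevF4 c 2 = x0 ^ 4 * x1 ^ 8 * x2 ^ 6 * x3 ^ 3 := by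
    rw [extC_lt chevF4 c 2 (by rw [← hr]; norm_num)]
    simp [c, u0, u1, u2, u3]
  have e3 : extC chevF4 c 3 = x0 ^ 2 * x1 ^ 4 * x2 ^ 3 * x3 ^ 2 := by
    rw [extC_lt chevF4 c 3 (by rw [← hr]; norm_num)]
    simp [c, u0, u1, u2, u3]
  have c33a : chevF4.cartan 0 33 = 2 := by decide
  have c33b : chevF4.cartan 1 33 = -1 := by decide
  have c33c : chevF4.cartan 2 33 = 0 := by decide
  have c33d : chevF4.cartan 3 33 = 0 := by decide
  have c27a : chevF4.cartan 0 27 = -1 := by decide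
  have c27b : chevF4.cartan 1 27 = 2 := by decide
  have c27c : chevF4.cartan 2 27 = -1 := by decide
  have c27d : chevF4.cartan 3 27 = 0 := by decide
  have c25a : chevF4.cartan 0 25 = 0 := by decide
  have c25b : chevF4.cartan 1 25 = -2 := by decide
  have c25c : chevF4.cartan 2 25 = 2 := by decide
  have c25d : chevF4.cartan 3 25 = -1 := by decide
  have c24a : chevF4.cartan 0 24 = 0 := by decide
  have c24b : chevF4.cartan 1 24 = 0 := by decide
  have c24c : chevF4.cartan 2 24 = -1 := by decide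
  have c24d : chevF4.cartan 3 24 = 2 := by decide
  refine ⟨torusHom chevF4 K c, hmem, ?_, ?_, ?_, ?_⟩
  · rw [f4tchib_ev_Tmat _ _ (torusHom_val chevF4 c) 33 (by norm_num), f4tchib_chi, e0, e1, e2, e3,
      c33a, c33b, c33c, c33d]
    rw [zpow_neg, zpow_one, zpow_ofNat, zpow_zero, zpow_zero]
    field_simp
  · rw [f4tchib_ev_Tmat _ _ (torusHom_val chevF4 c) 27 (by norm_num), f4tchib_chi, e0, e1, e2, e3,
      c27a, c27b, c27c, c27d]
    rw [zpow_neg, zpow_one, zpow_ofNat, zpow_neg, zpow_one, zpow_zero]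
    field_simp
  · rw [f4tchib_ev_Tmat _ _ (torusHom_val chevF4 c) 25 (by norm_num), f4tchib_chi, e0, e1, e2, e3,
      c25a, c25b, c25c, c25d]
    rw [zpow_zero, zpow_neg, zpow_ofNat, zpow_ofNat, zpow_neg, zpow_one]
    field_simp
  · rw [f4tchib_ev_Tmat _ _ (torusHom_val chevF4 c) 24 (by norm_num), f4tchib_chi, e0, e1, e2, e3,
      c24a, c24b, c24c, c24d]
    rw [zpow_zero, zpow_zero, zpow_neg, zpow_one, zpow_ofNat]
    field_simp

/-- `|T(K)| = (|K| - 1)⁴` -/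
theorem card_torus [Fintype K] : Nat.card (chevF4.diagonalSubgroup K) = (Fintype.card K - 1) ^ 4 := by
  have h := Cfsg.Agent.S1035.result (F := K) (q := Fintype.card K) rfl (chevF4, 1) (by simp)
  have hr : chevF4.rank = 4 := rfl
  simp only [one_mul, hr] at h
  exact h

end K

end Cfsg.Agent.Helper13.F4T
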