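import Mathlib
import Cfsg.Agent.Lib.Helper15.CoprimeGen

/-!
# Fixed-point-free actions of nonabelian groups of order `pq` (helper1's shared library)

A nonabelian group of order `p * q` (`p < q` primes) cannot act fixed-point-freely on a nontrivial
abelian group: abstract norm argument giving `w ^ q = 1`.
-/

set_option autoImplicit false

namespace Cfsg.Agent.Helper1

section Norm

variable {A W : Type*} [Group A] [Fintype A] [CommGroup W] (φ : A →* MulAut W)

/-- The norm with respect to a nontrivial subgroup vanishes under a fixed-point-free action. -/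
theorem fpf_norm_eq_one [DecidableEq A] (hfpf : ∀ a : A, a ≠ 1 → ∀ w : W, φ a w = w → w = 1)
    (B : Subgroup A) [DecidablePred (· ∈ B)] (hB : B ≠ ⊥) (w : W) :
    ∏ b ∈ Finset.univ.filter (· ∈ B), φ b w = 1 := by
  obtain ⟨c, hc1⟩ := (Subgroup.ne_bot_iff_exists_ne_one).mp hB
  have hc1' : (c : A) ≠ 1 := fun h => hc1 (Subtype.ext h)
  apply hfpf c hc1'
  rw [map_prod]
  apply Finset.prod_equiv (Equiv.mulLeft (c : A))
  · intro b
    simp only [Finset.mem_filter, Finset.mem_univ, true_and, Equiv.coe_mulLeft]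
    constructor
    · intro hb; exact B.mul_mem c.2 hb
    · intro hb
      have := B.mul_mem (B.inv_mem c.2) hb
      simpa using this
  · intro b _
    simp only [Equiv.coe_mulLeft, map_mul, MulAut.mul_apply]

end Norm

section PQ

variable {A : Type*} [Group A] [Finite A]

/-- structure of a nonabelian group of order `p * q`, `p < q` -/
theorem exists_normal_of_card_pq {p q : ℕ} (hp : p.Prime) (hq : q.Prime) (hpq : p < q)
    (hcard : Nat.card A = p * q) (hnc : ¬ ∀ a b : A, a * b = b * a) :
    ∃ Q : Subgroup A, Q.Normal ∧ Nat.card Q = q ∧ Q.index = p ∧ ∀ a : A, a ∉ Q → a ^ p = 1 := by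
  haveI : Fact q.Prime := ⟨hq⟩
  obtain ⟨y, hy⟩ := exists_prime_orderOf_dvd_card' q (hcard ▸ dvd_mul_left q p)
  set Q := Subgroup.zpowers y with hQ
  have hQcard : Nat.card Q = q := by rw [Nat.card_zpowers, hy]
  have hidx : Q.index = p := by
    have h1 := Q.card_mul_index
    rw [hQcard, hcard, mul_comm p q] at h1
    exact Nat.eq_of_mul_eq_mul_left hq.pos h1
  have hmin : (Nat.card A).minFac = p := by
    rw [hcard]
    have hne1 : p * q ≠ 1 := by
      have := hp.two_le; have := hq.two_le; nlinarith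
    have hm := Nat.minFac_prime hne1
    have hle : (p * q).minFac ≤ p := Nat.minFac_le_of_dvd hp.two_le (dvd_mul_right p q)
    rcases (Nat.Prime.dvd_mul hm).mp (Nat.minFac_dvd (p * q)) with h | h
    · exact (Nat.prime_dvd_prime_iff_eq hm hp).mp h
    · have := (Nat.prime_dvd_prime_iff_eq hm hq).mp h
      omega
  have hQn : Q.Normal := Subgroup.normal_of_index_eq_minFac_card (by rw [hidx, hmin])
  refine ⟨Q, hQn, hQcard, hidx, ?_⟩
  intro a haQ
  have hd : orderOf a ∣ p * q := hcard ▸ orderOf_dvd_natCard a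
  obtain ⟨d1, d2, hd1, hd2, hd12⟩ := (Nat.dvd_mul).mp hd
  rcases (Nat.dvd_prime hq).mp hd2 with h2 | h2
  · rw [h2, mul_one] at hd12
    rw [← orderOf_dvd_iff_pow_eq_one, ← hd12]
    exact hd1
  · rcases (Nat.dvd_prime hp).mp hd1 with h1 | h1
    · exfalso
      rw [h1, h2, one_mul] at hd12
      apply haQ
      rw [← QuotientGroup.eq_one_iff]
      have e1 : ((a : A ⧸ Q)) ^ q = 1 := by
        rw [← QuotientGroup.mk_pow, hd12, pow_orderOf_eq_one, QuotientGroup.mk_one]
      have e2 : ((a : A ⧸ Q)) ^ p = 1 := by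
        have : Nat.card (A ⧸ Q) = p := hidx
        rw [← this]; exact pow_card_eq_one'
      have h3 : orderOf (a : A ⧸ Q) ∣ Nat.gcd q p :=
        Nat.dvd_gcd (orderOf_dvd_of_pow_eq_one e1) (orderOf_dvd_of_pow_eq_one e2)
      have hcop : Nat.gcd q p = 1 := by
        rw [← Nat.Coprime, Nat.coprime_primes hq hp]; omega
      rw [hcop, Nat.dvd_one, orderOf_eq_one_iff] at h3
      exact h3
    · exfalso
      rw [h1, h2] at hd12
      have hcyc : IsCyclic A := isCyclic_of_orderOf_eq_card a (by rw [← hd12, hcard])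
      apply hnc
      letI := IsCyclic.commGroup (α := A)
      exact fun a b => mul_comm a b

end PQ

section Main

variable {A W : Type*} [Group A] [Finite A] [CommGroup W] (φ : A →* MulAut W)

/-- A nonabelian group of order `p * q`, `p < q`, acting fixed-point-freely on a commutative group `W`
forces `W` to have exponent dividing `q`. -/
theorem pow_eq_one_of_fpf_pq (hfpf : ∀ a : A, a ≠ 1 → ∀ w : W, φ a w = w → w = 1)
    {p q : ℕ} (hp : p.Prime) (hq : q.Prime) (hpq : p < q)
    (hcard : Nat.card A = p * q) (hnc : ¬ ∀ a b : A, a * b = b * a) (w : W) : w ^ q = 1 := by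
  classical
  letI : Fintype A := Fintype.ofFinite A
  obtain ⟨Q, hQn, hQcard, hidx, hQp⟩ := exists_normal_of_card_pq hp hq hpq hcard hnc
  haveI := hQn
  have hQne : Q ≠ ⊥ := by
    intro h
    rw [h, Subgroup.card_bot] at hQcard
    exact hq.one_lt.ne hQcard
  -- the fibres of the quotient map
  set Qs : Finset A := Finset.univ.filter (· ∈ Q) with hQs
  have hQs_card : Qs.card = q := by
    rw [← hQcard, Nat.card_eq_fintype_card, Fintype.card_subtype]
  have hfib : ∀ g : A, Finset.univ.filter (fun a : A => (a : A ⧸ Q) = (g : A ⧸ Q))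
      = Qs.image (g * ·) := by
    intro g
    ext a
    simp only [Finset.mem_filter, Finset.mem_univ, true_and, Finset.mem_image, hQs]
    constructor
    · intro h
      refine ⟨g⁻¹ * a, ?_, by group⟩
      exact QuotientGroup.eq.mp h.symm
    · rintro ⟨b, hb, rfl⟩
      rw [QuotientGroup.eq]
      have : (g * b)⁻¹ * g = b⁻¹ := by group
      rw [this]; exact Q.inv_mem hb
  have hinj : ∀ g : A, Function.Injective (g * · : A → A) := fun g => mul_right_injective g
  have hfib_card : ∀ g : A,
      (Finset.univ.filter (fun a : A => (a : A ⧸ Q) = (g : A ⧸ Q))).card = q := by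
    intro g
    rw [hfib g, Finset.card_image_of_injective _ (hinj g), hQs_card]
  have hfib_prod : ∀ g : A,
      ∏ d ∈ Finset.univ.filter (fun a : A => (a : A ⧸ Q) = (g : A ⧸ Q)), φ d w = 1 := by
    intro g
    rw [hfib g, Finset.prod_image (fun a _ b _ h => hinj g h)]
    have h1 : ∀ b ∈ Qs, φ (g * b) w = φ g (φ b w) := by
      intro b _
      rw [map_mul, MulAut.mul_apply]
    rw [Finset.prod_congr rfl h1, ← map_prod, fpf_norm_eq_one φ hfpf Q hQne w, map_one]
  -- an element outside `Q`
  obtain ⟨x, hxQ⟩ : ∃ x : A, x ∉ Q := by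
    by_contra hall
    push Not at hall
    have : Q = ⊤ := (Subgroup.eq_top_iff' Q).mpr hall
    rw [this, Subgroup.index_top] at hidx
    exact hp.one_lt.ne hidx
  set t : A ⧸ Q := (x : A ⧸ Q) with ht
  have ht1 : t ≠ 1 := fun h => hxQ ((QuotientGroup.eq_one_iff x).mp h)
  have htp : t ^ p = 1 := by
    have : Nat.card (A ⧸ Q) = p := hidx
    rw [← this]; exact pow_card_eq_one'
  have hti : ∀ i : ℕ, 0 < i → i < p → t ^ i ≠ 1 := by
    intro i hi0 hip h
    have h1 : orderOf t ∣ Nat.gcd i p :=
      Nat.dvd_gcd (orderOf_dvd_of_pow_eq_one h) (orderOf_dvd_of_pow_eq_one htp)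
    have hcop : Nat.gcd i p = 1 := by
      rw [Nat.gcd_comm]
      exact (Nat.Prime.coprime_iff_not_dvd hp).mpr (fun hd => by
        have := Nat.le_of_dvd hi0 hd; omega)
    rw [hcop, Nat.dvd_one, orderOf_eq_one_iff] at h1
    exact ht1 h1
  have hpow_out : ∀ (a : A) (s : A ⧸ Q), (a : A ⧸ Q) = s → s ≠ 1 → a ^ p = 1 := by
    intro a s has hs
    apply hQp
    intro haQ
    apply hs
    rw [← has]
    exact (QuotientGroup.eq_one_iff a).mpr haQ
  set F : A ⧸ Q → Finset A := fun s => Finset.univ.filter (fun a : A => (a : A ⧸ Q) = s) with hF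
  -- (d) cyclic norms
  have hd : ∀ c ∈ F t, ∏ i ∈ Finset.range p, φ (c ^ i) w = 1 := by
    intro c hc
    have hct : (c : A ⧸ Q) = t := (Finset.mem_filter.mp hc).2
    have hcp : c ^ p = 1 := hpow_out c t hct ht1
    have hc1 : c ≠ 1 := by
      intro h
      apply ht1
      rw [← hct, h, QuotientGroup.mk_one]
    have := Cfsg.Agent.Helper15.prod_pow_apply_eq_one (φ c) (by rw [← map_pow, hcp, map_one])
      (hfpf c hc1) w
    simpa [← map_pow] using this
  -- (e) power maps between fibres
  have he : ∀ i : ℕ, 0 < i → i < p →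
      ∏ c ∈ F t, φ (c ^ i) w = ∏ d ∈ F (t ^ i), φ d w := by
    intro i hi0 hip
    have hcop : Nat.Coprime i p := by
      rw [Nat.coprime_comm]
      exact (Nat.Prime.coprime_iff_not_dvd hp).mpr (fun hd => by
        have := Nat.le_of_dvd hi0 hd; omega)
    obtain ⟨m, -, hm⟩ := Nat.exists_mul_mod_eq_one_of_coprime hcop hp.one_lt
    apply Finset.prod_nbij' (fun c => c ^ i) (fun d => d ^ m)
    · intro c hc
      have hct : (c : A ⧸ Q) = t := (Finset.mem_filter.mp hc).2
      simp only [hF, Finset.mem_filter, Finset.mem_univ, true_and]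
      rw [QuotientGroup.mk_pow, hct]
    · intro d hd'
      have hdt : (d : A ⧸ Q) = t ^ i := (Finset.mem_filter.mp hd').2
      simp only [hF, Finset.mem_filter, Finset.mem_univ, true_and]
      rw [QuotientGroup.mk_pow, hdt, ← pow_mul, pow_eq_pow_mod _ htp, hm, pow_one]
    · intro c hc
      have hct : (c : A ⧸ Q) = t := (Finset.mem_filter.mp hc).2
      have hcp : c ^ p = 1 := hpow_out c t hct ht1
      show (c ^ i) ^ m = c
      rw [← pow_mul, pow_eq_pow_mod _ hcp, hm, pow_one]
    · intro d hd'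
      have hdt : (d : A ⧸ Q) = t ^ i := (Finset.mem_filter.mp hd').2
      have hdp : d ^ p = 1 := hpow_out d (t ^ i) hdt (hti i hi0 hip)
      show (d ^ m) ^ i = d
      rw [← pow_mul, mul_comm, pow_eq_pow_mod _ hdp, hm, pow_one]
    · intro c _
      rfl
  -- combine
  have h1 : ∏ c ∈ F t, ∏ i ∈ Finset.range p, φ (c ^ i) w = 1 :=
    Finset.prod_eq_one hd
  rw [Finset.prod_comm] at h1
  obtain ⟨p', rfl⟩ : ∃ p', p = p' + 1 := ⟨p - 1, by have := hp.pos; omega⟩
  rw [Finset.prod_range_succ'] at h1
  have h2 : ∀ i ∈ Finset.range p', ∏ c ∈ F t, φ (c ^ (i + 1)) w = 1 := by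
    intro i hi
    have hi' : i + 1 < p' + 1 := by
      have := Finset.mem_range.mp hi; omega
    rw [he (i + 1) (by omega) hi']
    have : t ^ (i + 1) = ((x ^ (i + 1) : A) : A ⧸ Q) := by
      rw [QuotientGroup.mk_pow]
    rw [hF]
    simp only [this]
    exact hfib_prod (x ^ (i + 1))
  rw [Finset.prod_eq_one h2, one_mul] at h1
  simp only [pow_zero, map_one, MulAut.one_apply, Finset.prod_const] at h1
  have hcardF : (F t).card = q := hfib_card x
  rw [hcardF] at h1
  exact h1

end Main

end Cfsg.Agent.Helper1
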