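import Mathlib
import Cfsg.Agent.Lib.Helper19.FC5Defs
import Cfsg.Agent.Lib.Helper5.FCQuot

/-!
# S4291 piece SOLV (helper1): the solvable case, modulo the `two_structure` piece (X)
-/

set_option autoImplicit false

namespace Cfsg.Agent.Helper1.FC5SOLV

open Cfsg Cfsg.Agent.Helper5 Cfsg.Agent.Helper16 Cfsg.Agent.Helper19.FC5

universe u

/-- the statement of piece X (`two_structure`) at universe `u` -/
def TwoStructure : Prop :=
  ∀ {X : Type u} [Group X] [Finite X]
    (_ : Subgroup.centralizer (pCore 2 X : Set X) ≤ pCore 2 X)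
    (S' : Sylow 2 X) (_ : UniqueOrderP 2 S') (_ : ¬ IsCyclic S'),
    ∃ N' : Subgroup X, N'.Normal ∧ IsCyclic N' ∧ IsPGroup 2 N' ∧
      ((∃ f : X →* DihedralGroup 2, Function.Surjective f ∧ f.ker = N') ∨
       (∃ f : X →* alternatingGroup (Fin 4), Function.Surjective f ∧ f.ker = N') ∨
       (∃ f : X →* Equiv.Perm (Fin 4), Function.Surjective f ∧ f.ker = N'))

theorem exists_of_solvable_aux {G : Type u} [Group G] [Finite G] (hX : TwoStructure.{u})
    (hsol : Group.IsSolvable G)
    (hF : FCFacts G) (hnc : ∃ S : Sylow 2 G, ¬ IsCyclic S) :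
    ∃ N : Subgroup G, N.Normal ∧ CycSyl N ∧ QuotAlt N := by
  haveI hFp : Fact (Nat.Prime 2) := ⟨Nat.prime_two⟩
  have hOc : (Nat.card (pPrimeCore 2 G)).Coprime 2 :=
    Cfsg.Agent.Helper22.card_pPrimeCore_coprime 2
  have hπs : Function.Surjective (QuotientGroup.mk' (pPrimeCore 2 G)) :=
    QuotientGroup.mk'_surjective _
  have hsol' : Group.IsSolvable (G ⧸ pPrimeCore 2 G) := inferInstance
  have hO' : pPrimeCore 2 (G ⧸ pPrimeCore 2 G) = ⊥ :=
    Cfsg.Agent.Helper7.pPrimeCore_quotient_eq_bot' 2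
  have hC := centralizer_pCore_le_of_isSolvable 2 hsol' hO'
  -- the quotient map is injective on `2`-elements
  have hinj2 : ∀ u : G, (∃ j : ℕ, u ^ 2 ^ j = 1) →
      (QuotientGroup.mk' (pPrimeCore 2 G)) u = 1 → u = 1 := by
    rintro u ⟨j, hj⟩ h1
    have h2 : u ∈ pPrimeCore 2 G := by
      rwa [QuotientGroup.mk'_apply, QuotientGroup.eq_one_iff] at h1
    have h4 : u ^ Nat.card (pPrimeCore 2 G) = 1 := by
      have h := pow_card_eq_one' (G := pPrimeCore 2 G) (x := ⟨u, h2⟩)
      have h' := congrArg (fun z : pPrimeCore 2 G => (z : G)) h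
      simpa only [Subgroup.coe_pow, Subgroup.coe_one] using h'
    exact Cfsg.Agent.Helper14.eq_one_of_pow_eq_one_of_coprime h4 hj
      (Nat.Coprime.pow_right j hOc)
  obtain ⟨S, hSnc⟩ := hnc
  have hinj : Function.Injective
      ((QuotientGroup.mk' (pPrimeCore 2 G)).subgroupMap (S : Subgroup G)) := by
    rw [injective_iff_map_eq_one]
    intro x hx
    have h1 : (QuotientGroup.mk' (pPrimeCore 2 G)) (x : G) = 1 := by
      have := congrArg Subtype.val hx
      simpa using this
    obtain ⟨j, hj⟩ := S.2 x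
    have h3 : (x : G) ^ 2 ^ j = 1 := by
      have := congrArg Subtype.val hj
      simpa using this
    exact Subtype.ext (hinj2 _ ⟨j, h3⟩ h1)
  let S' : Sylow 2 (G ⧸ pPrimeCore 2 G) := S.mapSurjective hπs
  let f : (S : Subgroup G) ≃* (S' : Subgroup (G ⧸ pPrimeCore 2 G)) :=
    MulEquiv.ofBijective ((QuotientGroup.mk' (pPrimeCore 2 G)).subgroupMap (S : Subgroup G))
      ⟨hinj, MonoidHom.subgroupMap_surjective _ _⟩
  have hUS : UniqueOrderP 2 (S : Subgroup G) := (hF.subgroup _).uniqueOrderP S.2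
  have hUS' : UniqueOrderP 2 (S' : Subgroup (G ⧸ pPrimeCore 2 G)) :=
    uniqueOrderP_of_injective f.symm.toMonoidHom f.symm.injective hUS
  have hS'nc : ¬ IsCyclic (S' : Subgroup (G ⧸ pPrimeCore 2 G)) := by
    intro hc
    exact hSnc (isCyclic_of_surjective f.symm.toMonoidHom f.symm.surjective)
  obtain ⟨N', hN'n, hN'c, hN'2, halt⟩ := hX hC S' hUS' hS'nc
  have key : ∀ {Q : Type} [Group Q] (f' : (G ⧸ pPrimeCore 2 G) →* Q),
      Function.Surjective f' → f'.ker = N' →
      Function.Surjective (f'.comp (QuotientGroup.mk' (pPrimeCore 2 G))) ∧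
      (f'.comp (QuotientGroup.mk' (pPrimeCore 2 G))).ker
        = N'.comap (QuotientGroup.mk' (pPrimeCore 2 G)) := by
    intro Q _ f' hs hk
    refine ⟨hs.comp hπs, ?_⟩
    rw [← MonoidHom.comap_ker, hk]
  refine ⟨N'.comap (QuotientGroup.mk' (pPrimeCore 2 G)), hN'n.comap _, ?_, ?_⟩
  · intro p _ P
    by_cases hp2 : p = 2
    · subst hp2
      let ψ : (P : Subgroup (N'.comap (QuotientGroup.mk' (pPrimeCore 2 G)))) →* N' :=
        MonoidHom.codRestrict
          ((QuotientGroup.mk' (pPrimeCore 2 G)).comp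
            ((N'.comap (QuotientGroup.mk' (pPrimeCore 2 G))).subtype.comp
              (P : Subgroup (N'.comap (QuotientGroup.mk' (pPrimeCore 2 G)))).subtype))
          N' (fun u => Subgroup.mem_comap.mp u.1.2)
      have hψ : Function.Injective ψ := by
        rw [injective_iff_map_eq_one]
        intro u hu
        have h1 : (QuotientGroup.mk' (pPrimeCore 2 G))
            ((u : (N'.comap (QuotientGroup.mk' (pPrimeCore 2 G)))) : G) = 1 := by
          have := congrArg Subtype.val hu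
          exact this
        obtain ⟨j, hj⟩ := P.2 u
        have h3 : ((u : (N'.comap (QuotientGroup.mk' (pPrimeCore 2 G)))) : G) ^ 2 ^ j = 1 := by
          have := congrArg
            (fun z : (P : Subgroup (N'.comap (QuotientGroup.mk' (pPrimeCore 2 G)))) =>
              ((z : (N'.comap (QuotientGroup.mk' (pPrimeCore 2 G)))) : G)) hj
          simpa using this
        exact Subtype.ext (Subtype.ext (hinj2 _ ⟨j, h3⟩ h1))
      haveI := hN'c
      exact isCyclic_of_injective ψ hψ
    · have hodd : Odd p := (Fact.out : p.Prime).odd_of_ne_two hp2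
      have hFP : FCFacts (P : Subgroup (N'.comap (QuotientGroup.mk' (pPrimeCore 2 G)))) :=
        (hF.subgroup _).subgroup _
      exact hFP.isCyclic_of_isPGroup_odd hodd P.2
  · rcases halt with ⟨f', hs, hk⟩ | ⟨f', hs, hk⟩ | ⟨f', hs, hk⟩
    · exact Or.inr (Or.inl ⟨_, (key f' hs hk).1, (key f' hs hk).2⟩)
    · exact Or.inr (Or.inr (Or.inl ⟨_, (key f' hs hk).1, (key f' hs hk).2⟩))
    · exact Or.inr (Or.inr (Or.inr (Or.inl ⟨_, (key f' hs hk).1, (key f' hs hk).2⟩)))

end Cfsg.Agent.Helper1.FC5SOLV
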