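import Mathlib
import Cfsg.Agent.Lib.Helper1.DSec

/-!
# Subgroups normal in the fusion system of a group

`R ≤ S` is *normal in the fusion system* of `G` on `S` when `N_G(R)` controls strong fusion in `S`
(`CtlIn ⊤ R S`).  This file contains transfer lemmas for this notion (subgroups, injective maps,
quotients by a normal `p`-subgroup `Q` with `G = C_G(Q) S`) and the theorem that in a `Qd(p)`-free
group (`p` odd) a subgroup of largest order which is normal in the fusion system is centric.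
-/

set_option autoImplicit false

namespace Cfsg.Agent.Helper1.DF

open Cfsg Subgroup
open Cfsg.Agent.Helper10 (rcs rcg mem_rcs mem_rcg coe_rcg mem_normalizer_iff_rcg)
open Cfsg.Agent.Helper10.GTS (CharFun0)

universe u

section transfer

variable {G : Type*} [Group G]

/-- control in a subgroup `H`, viewed as a group, gives control relative to `H` -/
theorem ctlIn_map_subtype (H : Subgroup G) (V' S' : Subgroup ↥H)
    (h : CtlIn (G := ↥H) ⊤ V' S') : CtlIn H (V'.map H.subtype) (S'.map H.subtype) := by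
  intro A g hg hA hgA
  set A' : Set ↥H := {a | (a : G) ∈ A} with hA'
  have h1 : A' ⊆ ((S' : Subgroup ↥H) : Set ↥H) := by
    intro a ha
    obtain ⟨s, hs, hsa⟩ := hA ha
    have : s = a := Subtype.ext hsa
    rw [← this]; exact hs
  have h2 : rcs (⟨g, hg⟩ : ↥H) A' ⊆ ((S' : Subgroup ↥H) : Set ↥H) := by
    rintro _ ⟨a, ha, rfl⟩
    have h3 : g⁻¹ * (a : G) * g ∈ ((S'.map H.subtype : Subgroup G) : Set G) := hgA ⟨a, ha, rfl⟩
    obtain ⟨s, hs, hsa⟩ := h3
    have : s = (⟨g, hg⟩ : ↥H)⁻¹ * a * ⟨g, hg⟩ := Subtype.ext hsa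
    show (⟨g, hg⟩ : ↥H)⁻¹ * a * ⟨g, hg⟩ ∈ S'
    rw [← this]; exact hs
  obtain ⟨n', ⟨-, hn'⟩, hn'A⟩ := h A' ⟨g, hg⟩ (mem_top _) h1 h2
  refine ⟨(n' : G), ⟨n'.2, Subgroup.le_normalizer_map H.subtype ⟨n', hn', rfl⟩⟩, ?_⟩
  intro a ha
  obtain ⟨s, -, hsa⟩ := hA ha
  have haH : a ∈ H := hsa ▸ s.2
  have := hn'A ⟨a, haH⟩ ha
  exact congrArg Subtype.val this

/-- composition of control -/
theorem ctlIn_comp {Q R S : Subgroup G} (h1 : CtlIn ⊤ Q S)
    (h2 : CtlIn (normalizer (Q : Set G)) R S) : CtlIn ⊤ R S := by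
  intro A g _ hA hgA
  obtain ⟨n₁, ⟨-, hn₁⟩, h₁⟩ := h1 A g (mem_top _) hA hgA
  have hrc : rcs n₁ A = rcs g A := Cfsg.Agent.Helper10.rcs_congr h₁
  obtain ⟨n₂, ⟨-, hn₂⟩, h₂⟩ := h2 A n₁ hn₁ hA (by rw [hrc]; exact hgA)
  exact ⟨n₂, ⟨mem_top _, hn₂⟩, fun a ha => (h₂ a ha).trans (h₁ a ha)⟩

/-- transport of control along an injective homomorphism -/
theorem ctlIn_comap_injective {Y Z : Type*} [Group Y] [Group Z] (j : Y →* Z)
    (hj : Function.Injective j) (W S : Subgroup Z) (h : CtlIn j.range W S) :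
    CtlIn ⊤ (W.comap j) (S.comap j) := by
  intro A g _ hA hgA
  have h1 : j '' A ⊆ (S : Set Z) := by
    rintro _ ⟨a, ha, rfl⟩
    exact hA ha
  have h2 : rcs (j g) (j '' A) ⊆ (S : Set Z) := by
    rintro _ ⟨_, ⟨a, ha, rfl⟩, rfl⟩
    have : g⁻¹ * a * g ∈ S.comap j := hgA ⟨a, ha, rfl⟩
    rw [mem_comap] at this
    show (j g)⁻¹ * j a * j g ∈ S
    simpa only [map_mul, map_inv] using this
  obtain ⟨n, ⟨⟨n', rfl⟩, hn⟩, hnA⟩ := h (j '' A) (j g) ⟨g, rfl⟩ h1 h2
  have hn' : j n' ∈ normalizer (W : Set Z) := hn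
  refine ⟨n', ⟨mem_top _, ?_⟩, ?_⟩
  · show n' ∈ normalizer ((W.comap j : Subgroup Y) : Set Y)
    rw [mem_normalizer_iff]
    intro w
    rw [mem_comap, mem_comap]
    have := mem_normalizer_iff.mp hn' (j w)
    simpa only [map_mul, map_inv] using this
  · intro a ha
    apply hj
    have := hnA (j a) ⟨a, ha, rfl⟩
    simpa only [map_mul, map_inv] using this

end transfer

section lifting

variable {X : Type*} [Group X] [Finite X] {p : ℕ} [Fact p.Prime]

/-- lifting control of strong fusion modulo a normal `p`-subgroup `Q` with `X = C_X(Q) S` -/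
theorem ctlIn_comap_of_quotient (S Q : Subgroup X) [Q.Normal] (hS : IsPGroup p S)
    (hidx : ¬ p ∣ S.index) (hQS : Q ≤ S) (hCS : centralizer (Q : Set X) ⊔ S = ⊤)
    (Vb : Subgroup (X ⧸ Q))
    (hSVb : S.map (QuotientGroup.mk' Q) ≤ normalizer (Vb : Set (X ⧸ Q)))
    (h : CtlIn ⊤ Vb (S.map (QuotientGroup.mk' Q))) :
    CtlIn ⊤ (Vb.comap (QuotientGroup.mk' Q)) S := by
  set π := QuotientGroup.mk' Q with hπ
  have hπs : Function.Surjective π := QuotientGroup.mk'_surjective Q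
  set V := Vb.comap π with hV
  have hQp : IsPGroup p Q := hS.to_le hQS
  have hNV : normalizer (V : Set X) = (normalizer (Vb : Set (X ⧸ Q))).comap π := by
    rw [hV, ← Subgroup.comap_normalizer_eq_of_surjective Vb hπs]
  have hSV : S ≤ normalizer (V : Set X) := by
    intro s hs
    rw [hNV, mem_comap]
    exact hSVb (mem_map_of_mem π hs)
  -- the property of conjugation maps
  set Good : Set X → X → Prop := fun A g =>
    ∃ n ∈ normalizer (V : Set X), ∀ a ∈ A, n⁻¹ * a * n = g⁻¹ * a * g with hGood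
  have hmono : ∀ (A B : Set X) (g : X), Good B g → A ⊆ B → Good A g := by
    rintro A B g ⟨n, hn, hnB⟩ hAB
    exact ⟨n, hn, fun a ha => hnB a (hAB ha)⟩
  have htrans : ∀ (A : Set X) (g h : X), Good A g → Good (rcs g A) h → Good A (g * h) := by
    rintro A g h ⟨n₁, hn₁, h1⟩ ⟨n₂, hn₂, h2⟩
    refine ⟨n₁ * n₂, mul_mem hn₁ hn₂, fun a ha => ?_⟩
    have e1 : (n₁ * n₂)⁻¹ * a * (n₁ * n₂) = n₂⁻¹ * (n₁⁻¹ * a * n₁) * n₂ := by group
    rw [e1, h1 a ha, h2 _ ⟨a, ha, rfl⟩]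
    group
  have hinv : ∀ (A : Set X) (g : X), Good A g → Good (rcs g A) g⁻¹ := by
    rintro A g ⟨n, hn, h1⟩
    refine ⟨n⁻¹, inv_mem hn, ?_⟩
    rintro _ ⟨a, ha, rfl⟩
    show n⁻¹⁻¹ * (g⁻¹ * a * g) * n⁻¹ = g⁻¹⁻¹ * (g⁻¹ * a * g) * g⁻¹
    calc n⁻¹⁻¹ * (g⁻¹ * a * g) * n⁻¹ = n⁻¹⁻¹ * (n⁻¹ * a * n) * n⁻¹ := by rw [h1 a ha]
      _ = a := by group
      _ = g⁻¹⁻¹ * (g⁻¹ * a * g) * g⁻¹ := by group
  have hcongr : ∀ (A : Set X) (g g₂ : X), Good A g →
      (∀ a ∈ A, g₂⁻¹ * a * g₂ = g⁻¹ * a * g) → Good A g₂ := by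
    rintro A g g₂ ⟨n, hn, h1⟩ h2
    exact ⟨n, hn, fun a ha => (h1 a ha).trans (h2 a ha).symm⟩
  have hSgood : ∀ (A : Set X), ∀ r ∈ S, Good A r := fun A r hr => ⟨r, hSV hr, fun _ _ => rfl⟩
  suffices hmain : ∀ (A : Set X) (g : X), A ⊆ (S : Set X) → rcs g A ⊆ (S : Set X) → Good A g by
    intro A g _ hA hgA
    obtain ⟨n, hn, hnA⟩ := hmain A g hA hgA
    exact ⟨n, ⟨mem_top _, hn⟩, hnA⟩
  apply Cfsg.Agent.Helper10.fn_final S hS hidx Good hmono htrans hinv
  intro U hUS hfn x hx hbig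
  by_cases hQU : Q ≤ U
  swap
  · have hlt : U < U ⊔ Q := lt_of_le_of_ne le_sup_left (fun h => hQU (h ▸ le_sup_right))
    have hU'S : U ⊔ Q ≤ S := sup_le hUS hQS
    have hxU' : rcg x (U ⊔ Q) = U ⊔ Q := by
      have e : rcg x (U ⊔ Q) = rcg x U ⊔ rcg x Q := Subgroup.map_sup _ _ _
      rw [e, mem_normalizer_iff_rcg.mp hx, Cfsg.Agent.Helper10.rcg_eq_self_of_normal]
    have := hbig (U ⊔ Q) hU'S (Cfsg.Agent.Helper10.card_lt_card_of_lt hlt) x
      (by rw [hxU']; exact hU'S)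
    exact hmono _ _ _ this (SetLike.coe_subset_coe.mpr le_sup_left)
  have hxU : rcs x (U : Set X) = (U : Set X) := by
    rw [← coe_rcg, mem_normalizer_iff_rcg.mp hx]
  have hA' : π '' (U : Set X) ⊆ ((S.map π : Subgroup (X ⧸ Q)) : Set (X ⧸ Q)) := by
    rintro _ ⟨a, ha, rfl⟩
    exact ⟨a, hUS ha, rfl⟩
  have hgA' : rcs (π x) (π '' (U : Set X)) ⊆ ((S.map π : Subgroup (X ⧸ Q)) : Set (X ⧸ Q)) := by
    rw [← Cfsg.Agent.Helper10.image_rcs, hxU]; exact hA'
  obtain ⟨nb, ⟨-, hnb⟩, hnbU⟩ := h (π '' (U : Set X)) (π x) (mem_top _) hA' hgA'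
  obtain ⟨n, rfl⟩ := hπs nb
  have hnV : n ∈ normalizer (V : Set X) := by
    rw [hNV, mem_comap]; exact hnb
  have hact : ∀ a ∈ U, π (n⁻¹ * a * n) = π (x⁻¹ * a * x) := by
    intro a ha
    have := hnbU (π a) ⟨a, ha, rfl⟩
    simpa only [map_mul, map_inv] using this
  have g2 : Good (U : Set X) n := ⟨n, hnV, fun _ _ => rfl⟩
  set y := x * n⁻¹ with hy
  have hyP : ∀ a ∈ U, a⁻¹ * (y⁻¹ * a * y) ∈ Q := by
    intro a ha
    rw [← QuotientGroup.eq_one_iff]
    have h3 := hact a ha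
    show π (a⁻¹ * (y⁻¹ * a * y)) = 1
    have e : y⁻¹ * a * y = n * (x⁻¹ * a * x) * n⁻¹ := by rw [hy]; group
    rw [e, map_mul, map_mul, map_mul, ← h3]
    simp only [map_mul, map_inv]
    group
  have hyN : y ∈ normalizer (U : Set X) := by
    apply mem_normalizer_iff_rcg.mpr
    apply Cfsg.Agent.Helper10.rcg_eq_of_le_of_finite
    intro z hz
    rw [mem_rcg] at hz
    have h3 := hyP _ hz
    have e : (y * z * y⁻¹)⁻¹ * (y⁻¹ * (y * z * y⁻¹) * y) = (y * z * y⁻¹)⁻¹ * z := by group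
    rw [e] at h3
    have h4 : z = (y * z * y⁻¹) * ((y * z * y⁻¹)⁻¹ * z) := by group
    rw [h4]
    exact U.mul_mem hz (hQU h3)
  have hyX : y ∈ Cfsg.Agent.Helper10.stabMod U Q :=
    Cfsg.Agent.Helper10.mem_stabMod_iff.mpr ⟨hyN, hyP⟩
  obtain ⟨r, hr, c, hc', hyrc⟩ :=
    Cfsg.Agent.Helper10.stabMod_factor S hS Q hQp hCS U hfn y hyX
  have hxe : x = r * c * n := by rw [← hyrc, hy]; group
  have hrU : rcs r (U : Set X) = (U : Set X) := by
    rw [← coe_rcg, mem_normalizer_iff_rcg.mp hr.2]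
  have g1 : Good (U : Set X) r := hSgood _ r hr.1
  have g3 : Good (U : Set X) (r * n) := htrans _ _ _ g1 (by rw [hrU]; exact g2)
  apply hcongr _ _ _ g3
  intro a ha
  rw [hxe]
  have hra : r⁻¹ * a * r ∈ U := by
    have : r⁻¹ * a * r ∈ rcs r (U : Set X) := ⟨a, ha, rfl⟩
    rwa [hrU] at this
  have hcc : c⁻¹ * (r⁻¹ * a * r) * c = r⁻¹ * a * r := by
    have h3 := mem_centralizer_iff.mp hc' _ hra
    calc c⁻¹ * (r⁻¹ * a * r) * c = c⁻¹ * ((r⁻¹ * a * r) * c) := by group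
      _ = c⁻¹ * (c * (r⁻¹ * a * r)) := by rw [h3]
      _ = r⁻¹ * a * r := by group
  calc (r * c * n)⁻¹ * a * (r * c * n) = n⁻¹ * (c⁻¹ * (r⁻¹ * a * r) * c) * n := by group
    _ = n⁻¹ * (r⁻¹ * a * r) * n := by rw [hcc]
    _ = (r * n)⁻¹ * a * (r * n) := by group

end lifting

section centric

variable {p : ℕ} [Fact p.Prime]

theorem sc_inf_normal {G : Type*} [Group G] (S K : Subgroup G) [hK : K.Normal] :
    IsStronglyClosed (S ⊓ K) S :=
  ⟨inf_le_left, fun x hx g hg => ⟨hg, hK.conj_mem x hx.2 g⟩⟩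

/-- a subgroup normal in the fusion system on `S` is normal in `S` -/
theorem le_normalizer_of_ctlIn {G : Type*} [Group G] [Finite G] {Q S : Subgroup G} (hQS : Q ≤ S)
    (h : CtlIn ⊤ Q S) : S ≤ normalizer (Q : Set G) := by
  intro s hs
  apply mem_normalizer_iff_rcg.mpr
  apply Cfsg.Agent.Helper10.rcg_eq_of_le_of_finite
  intro z hz
  rw [mem_rcg] at hz
  have hA : ((Q : Subgroup G) : Set G) ⊆ (S : Set G) := SetLike.coe_subset_coe.mpr hQS
  have hsA : rcs s ((Q : Subgroup G) : Set G) ⊆ (S : Set G) := by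
    rintro _ ⟨a, ha, rfl⟩
    exact S.mul_mem (S.mul_mem (S.inv_mem hs) (hQS ha)) hs
  obtain ⟨n, ⟨-, hn⟩, hnA⟩ := h _ s (mem_top _) hA hsA
  have h1 := hnA _ hz
  have e : s⁻¹ * (s * z * s⁻¹) * s = z := by group
  rw [e] at h1
  rw [← h1]
  have hn' : n⁻¹ ∈ normalizer (Q : Set G) := inv_mem hn
  have := (mem_normalizer_iff.mp hn' (s * z * s⁻¹)).1 hz
  simpa using this

/-- in a `Qd(p)`-free group, a normal subgroup `Q` which is maximal among the subgroups of `S`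
normal in the fusion system contains its centralizer in `S` -/
theorem centric_of_max (hp : p ≠ 2) {X : Type u} [Group X] [Finite X]
    (hX : Cfsg.Agent.Helper4.QDF.QdFree p X) (S Q : Subgroup X) [hQn : Q.Normal]
    (hS : IsPGroup p S) (hidx : ¬ p ∣ S.index) (hQS : Q ≤ S)
    (hmax : ∀ V : Subgroup X, Q ≤ V → V ≤ S → CtlIn ⊤ V S → V = Q) :
    S ⊓ centralizer (Q : Set X) ≤ Q := by
  set C := centralizer (Q : Set X) with hC
  haveI hCn : C.Normal := Subgroup.normal_centralizer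
  set H := C ⊔ S with hH
  have hSH : S ≤ H := le_sup_right
  have hCH : C ≤ H := le_sup_left
  have hQH : Q ≤ H := hQS.trans hSH
  set π := QuotientGroup.mk' Q with hπ
  have hπs : Function.Surjective π := QuotientGroup.mk'_surjective Q
  set Pb := S.map π with hPb
  set Cb := C.map π with hCb
  haveI hCbn : Cb.Normal := Subgroup.Normal.map hCn π hπs
  set Db := Pb ⊓ Cb with hDbdef
  have hDb : IsStronglyClosed Db Pb := sc_inf_normal Pb Cb
  have hPbp : IsPGroup p Pb := hS.map π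
  have hDbp : IsPGroup p Db := hPbp.to_le hDb.1
  set cf := cfA0.{u} p with hcf
  set Wb := cf.W (X ⧸ Q) Db with hWb
  have hPbN : Pb ≤ normalizer (Wb : Set (X ⧸ Q)) :=
    (le_normalizer_of_sc hDb).trans (normalizer_le_cf cf Db hDbp)
  set Hb := H.map π with hHb
  have hPbHb : Pb ≤ Hb := Subgroup.map_mono hSH
  -- Step 1: the theorem for strongly closed subgroups in `Hb`
  have hHbfree : Cfsg.Agent.Helper4.QDF.QdFree p ↥Hb := (hX.quotient Q).subgroup Hb
  have hp1 : IsPGroup p (Pb.subgroupOf Hb) := hPbp.comap_subtype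
  have hidx1 : ¬ p ∣ (Pb.subgroupOf Hb).index := by
    show ¬ p ∣ Pb.relIndex Hb
    intro hd
    exact hidx ((hd.trans (Subgroup.relIndex_dvd_index_of_le hPbHb)).trans
      (Subgroup.index_map_dvd S hπs))
  have hcoe : ((hp1.toSylow hidx1 : Sylow p ↥Hb) : Subgroup ↥Hb) = Pb.subgroupOf Hb :=
    IsPGroup.toSylow_coe hp1 hidx1
  have hD' : IsStronglyClosed (Db.subgroupOf Hb) ((hp1.toSylow hidx1 : Sylow p ↥Hb) : Subgroup ↥Hb) := by
    rw [hcoe]; exact sc_subgroupOf hDb Hb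
  have h1 := ctl_of_qdfree hp cf (hasZJ_cfA0 hp) hHbfree (hp1.toSylow hidx1) (Db.subgroupOf Hb) hD'
  rw [hcoe] at h1
  -- Step 2
  have h2 := ctlIn_of_subtype cf Hb Pb Db hPbp hDb.1 h1
  rw [inf_eq_left.mpr (hDb.1.trans hPbHb), inf_eq_left.mpr hPbHb] at h2
  -- Step 3: the quotient of `H`
  set Q' := Q.subgroupOf H with hQ'
  haveI hQ'n : Q'.Normal := Subgroup.Normal.subgroupOf hQn H
  set π' := QuotientGroup.mk' Q' with hπ'
  have hπ's : Function.Surjective π' := QuotientGroup.mk'_surjective Q'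
  set j : (↥H ⧸ Q') →* (X ⧸ Q) := QuotientGroup.map Q' Q H.subtype le_rfl with hj
  have hjπ : ∀ h : ↥H, j (π' h) = π (h : X) := fun h => rfl
  have hjinj : Function.Injective j := by
    rw [← MonoidHom.ker_eq_bot_iff, eq_bot_iff]
    intro y hy
    obtain ⟨h, rfl⟩ := hπ's y
    rw [MonoidHom.mem_ker, hjπ] at hy
    have h3 : (h : X) ∈ Q := (QuotientGroup.eq_one_iff _).mp hy
    rw [Subgroup.mem_bot]
    exact (QuotientGroup.eq_one_iff h).mpr (Subgroup.mem_subgroupOf.mpr h3)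
  have hrange : j.range = Hb := by
    ext y
    constructor
    · rintro ⟨z, rfl⟩
      obtain ⟨h, rfl⟩ := hπ's z
      exact ⟨(h : X), h.2, rfl⟩
    · rintro ⟨x, hx, rfl⟩
      exact ⟨π' ⟨x, hx⟩, rfl⟩
  -- Step 4
  have h4 := ctlIn_comap_injective j hjinj Wb Pb (by rw [hrange]; exact h2)
  set S' := S.subgroupOf H with hS'
  have hPbj : Pb.comap j = S'.map π' := by
    ext y
    obtain ⟨h, rfl⟩ := hπ's y
    rw [mem_comap, hjπ]
    constructor
    · rintro ⟨s, hs, hsh⟩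
      have h3 : s⁻¹ * (h : X) ∈ Q := by
        rw [← QuotientGroup.eq_one_iff]
        show π (s⁻¹ * (h : X)) = 1
        rw [map_mul, map_inv, hsh]; group
      have h4 : (h : X) ∈ S := by
        have e : (h : X) = s * (s⁻¹ * (h : X)) := by group
        rw [e]; exact S.mul_mem hs (hQS h3)
      exact ⟨h, Subgroup.mem_subgroupOf.mpr h4, rfl⟩
    · rintro ⟨s, hs, hsh⟩
      refine ⟨(s : X), Subgroup.mem_subgroupOf.mp hs, ?_⟩
      rw [← hjπ, ← hjπ, hsh]
  rw [hPbj] at h4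
  -- Step 5: lifting in `H`
  have hS'p : IsPGroup p S' := hS.comap_subtype
  have hidx' : ¬ p ∣ S'.index := by
    show ¬ p ∣ S.relIndex H
    exact fun hd => hidx (hd.trans (Subgroup.relIndex_dvd_index_of_le hSH))
  have hQS' : Q' ≤ S' := fun x hx => Subgroup.mem_subgroupOf.mpr (hQS (Subgroup.mem_subgroupOf.mp hx))
  have hCS' : centralizer (Q' : Set ↥H) ⊔ S' = ⊤ := by
    rw [eq_top_iff]
    have h3 : C.subgroupOf H ⊔ S' = ⊤ := by
      rw [hS', ← Subgroup.subgroupOf_sup hCH hSH]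
      exact Subgroup.subgroupOf_self H
    rw [← h3]
    apply sup_le_sup_right
    intro c hc
    rw [mem_centralizer_iff]
    intro q hq
    have := mem_centralizer_iff.mp (Subgroup.mem_subgroupOf.mp hc) (q : X)
      (Subgroup.mem_subgroupOf.mp hq)
    exact Subtype.ext this
  have hSVb : S'.map π' ≤ normalizer ((Wb.comap j : Subgroup (↥H ⧸ Q')) : Set (↥H ⧸ Q')) := by
    rintro _ ⟨s, hs, rfl⟩
    rw [mem_normalizer_iff]
    intro w
    rw [mem_comap, mem_comap]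
    have hs' : π (s : X) ∈ normalizer (Wb : Set (X ⧸ Q)) :=
      hPbN (mem_map_of_mem π (Subgroup.mem_subgroupOf.mp hs))
    have := mem_normalizer_iff.mp hs' (j w)
    rw [map_mul, map_mul, map_inv, hjπ]
    exact this
  have h5 := ctlIn_comap_of_quotient S' Q' hS'p hidx' hQS' hCS' (Wb.comap j) hSVb h4
  -- Step 6
  have h6 := ctlIn_map_subtype H _ S' h5
  rw [hS', Subgroup.subgroupOf_map_subtype, inf_eq_left.mpr hSH] at h6
  -- Step 7
  set V := Wb.comap π with hV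
  have hVS : V ≤ S := by
    intro x hx
    have h3 : π x ∈ Pb := hDb.1 (cf.le_self _ Db hx)
    obtain ⟨s, hs, hsx⟩ := h3
    have h4 : s⁻¹ * x ∈ Q := by
      rw [← QuotientGroup.eq_one_iff]
      show π (s⁻¹ * x) = 1
      rw [map_mul, map_inv, hsx]; group
    have e : x = s * (s⁻¹ * x) := by group
    rw [e]; exact S.mul_mem hs (hQS h4)
  have hVid : ((Wb.comap j).comap π').map H.subtype = V := by
    ext x
    constructor
    · rintro ⟨h, hh, rfl⟩
      exact hh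
    · intro hx
      exact ⟨⟨x, hSH (hVS hx)⟩, hx, rfl⟩
  rw [hVid] at h6
  -- Step 8: the whole group
  have hNV : normalizer (V : Set X) = (normalizer (Wb : Set (X ⧸ Q))).comap π := by
    rw [hV, ← Subgroup.comap_normalizer_eq_of_surjective Wb hπs]
  have hDbeq : (S ⊓ C).map π = Db := by
    apply le_antisymm (Subgroup.map_inf_le S C π)
    rintro y ⟨⟨s, hs, rfl⟩, ⟨c, hc, hcs⟩⟩
    have h3 : s⁻¹ * c ∈ Q := by
      rw [← QuotientGroup.eq_one_iff]
      show π (s⁻¹ * c) = 1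
      rw [map_mul, map_inv, hcs]; group
    have h4 : c ∈ S := by
      have e : c = s * (s⁻¹ * c) := by group
      rw [e]; exact S.mul_mem hs (hQS h3)
    exact ⟨c, ⟨h4, hc⟩, hcs⟩
  have hN2 : normalizer ((S ⊓ C : Subgroup X) : Set X) ≤ normalizer (V : Set X) := by
    intro g hg
    rw [hNV, mem_comap]
    apply normalizer_le_cf cf Db hDbp
    rw [← hDbeq]
    exact Subgroup.le_normalizer_map π ⟨g, hg, rfl⟩
  set Good : Set X → X → Prop := fun A g =>
    ∃ n ∈ normalizer (V : Set X), ∀ a ∈ A, n⁻¹ * a * n = g⁻¹ * a * g with hGood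
  have htrans : ∀ (A : Set X) (g h : X), Good A g → Good (rcs g A) h → Good A (g * h) := by
    rintro A g h ⟨n₁, hn₁, h1⟩ ⟨n₂, hn₂, h2⟩
    refine ⟨n₁ * n₂, mul_mem hn₁ hn₂, fun a ha => ?_⟩
    have e1 : (n₁ * n₂)⁻¹ * a * (n₁ * n₂) = n₂⁻¹ * (n₁⁻¹ * a * n₁) * n₂ := by group
    rw [e1, h1 a ha, h2 _ ⟨a, ha, rfl⟩]
    group
  have hctl : CtlIn ⊤ V S := by
    intro A g _ hA hgA
    have hk := Cfsg.Agent.Helper10.k_lemma S hS hidx Good htrans C
      (fun g hg B hB hgB => by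
        obtain ⟨n, hn, hnB⟩ := h6 (B : Set X) g hg (SetLike.coe_subset_coe.mpr hB)
          (by rw [← coe_rcg]; exact SetLike.coe_subset_coe.mpr hgB)
        exact ⟨n, hn.2, hnB⟩)
      (fun g hg B _ _ => ⟨g, hN2 hg, fun _ _ => rfl⟩)
      (closure A) ((closure_le S).mpr hA) g (Cfsg.Agent.Helper10.closure_rcg_le hgA)
    obtain ⟨n, hn, hnA⟩ := hk
    exact ⟨n, ⟨mem_top _, hn⟩, fun a ha => hnA a (subset_closure ha)⟩
  -- Step 9
  have hQV : Q ≤ V := by
    intro x hx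
    rw [hV, mem_comap]
    have : π x = 1 := (QuotientGroup.eq_one_iff x).mpr hx
    rw [this]; exact one_mem _
  have hVQ : V = Q := hmax V hQV hVS hctl
  have hWb1 : Wb = ⊥ := by
    rw [eq_bot_iff]
    intro w hw
    obtain ⟨x, rfl⟩ := hπs w
    have hx : x ∈ V := hw
    rw [hVQ] at hx
    rw [Subgroup.mem_bot]
    exact (QuotientGroup.eq_one_iff x).mpr hx
  have hDb1 : Db = ⊥ := by
    by_contra hne
    exact cf.ne_bot (X ⧸ Q) Db hDbp hne hWb1
  intro x hx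
  have h3 : π x ∈ Db := by
    rw [← hDbeq]; exact mem_map_of_mem π hx
  rw [hDb1, Subgroup.mem_bot] at h3
  exact (QuotientGroup.eq_one_iff x).mp h3

/-- a subgroup of largest order among those normal in the fusion system on `S` -/
theorem exists_max_fnormal {G : Type*} [Group G] [Finite G] (S : Subgroup G) :
    ∃ Q : Subgroup G, Q ≤ S ∧ CtlIn ⊤ Q S ∧
      ∀ V : Subgroup G, V ≤ S → CtlIn ⊤ V S → Nat.card V ≤ Nat.card Q := by
  have hne : ({Q : Subgroup G | Q ≤ S ∧ CtlIn ⊤ Q S}).Nonempty :=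
    ⟨⊥, bot_le, ctlIn_of_normal ⊤ ⊥ S (normalizer_eq_top_iff.mpr inferInstance)⟩
  obtain ⟨Q, hQ, hmax⟩ := Set.exists_max_image {Q : Subgroup G | Q ≤ S ∧ CtlIn ⊤ Q S}
    (fun Q => Nat.card Q) (Set.toFinite _) hne
  exact ⟨Q, hQ.1, hQ.2, fun V hV hc => hmax V ⟨hV, hc⟩⟩

/-- in a `Qd(p)`-free group, `p` odd, a subgroup of largest order normal in the fusion system on
a Sylow `p`-subgroup `S` contains its centralizer in `S` -/
theorem centric_of_max_card (hp : p ≠ 2) {G : Type u} [Group G] [Finite G]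
    (hG : Cfsg.Agent.Helper4.QDF.QdFree p G) (S Q : Subgroup G)
    (hS : IsPGroup p S) (hidx : ¬ p ∣ S.index) (hQS : Q ≤ S) (hQ : CtlIn ⊤ Q S)
    (hmax : ∀ V : Subgroup G, V ≤ S → CtlIn ⊤ V S → Nat.card V ≤ Nat.card Q) :
    S ⊓ centralizer (Q : Set G) ≤ Q := by
  set N := normalizer (Q : Set G) with hN
  have hSN : S ≤ N := le_normalizer_of_ctlIn hQS hQ
  have hQN : Q ≤ N := le_normalizer
  set S' := S.subgroupOf N with hS'
  set Q' := Q.subgroupOf N with hQ'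
  haveI hQ'n : Q'.Normal := Subgroup.normal_in_normalizer
  have hS'p : IsPGroup p S' := hS.comap_subtype
  have hidx' : ¬ p ∣ S'.index := by
    show ¬ p ∣ S.relIndex N
    exact fun hd => hidx (hd.trans (Subgroup.relIndex_dvd_index_of_le hSN))
  have hQS' : Q' ≤ S' := fun x hx => Subgroup.mem_subgroupOf.mpr (hQS (Subgroup.mem_subgroupOf.mp hx))
  have hmax' : ∀ V' : Subgroup ↥N, Q' ≤ V' → V' ≤ S' → CtlIn ⊤ V' S' → V' = Q' := by
    intro V' hQV' hV'S' hV'
    have h1 := ctlIn_map_subtype N V' S' hV'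
    rw [hS', Subgroup.subgroupOf_map_subtype, inf_eq_left.mpr hSN] at h1
    have h2 : CtlIn ⊤ (V'.map N.subtype) S := ctlIn_comp hQ h1
    have hVS : V'.map N.subtype ≤ S := by
      rintro _ ⟨v, hv, rfl⟩
      exact Subgroup.mem_subgroupOf.mp (hV'S' hv)
    have h3 := hmax _ hVS h2
    have hQV : Q ≤ V'.map N.subtype := by
      intro x hx
      exact ⟨⟨x, hQN hx⟩, hQV' (Subgroup.mem_subgroupOf.mpr hx), rfl⟩
    have h4 : Q = V'.map N.subtype := Subgroup.eq_of_le_of_card_ge hQV h3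
    apply le_antisymm _ hQV'
    intro v hv
    rw [hQ', Subgroup.mem_subgroupOf, h4]
    exact ⟨v, hv, rfl⟩
  have h5 := centric_of_max hp (hG.subgroup N) S' Q' hS'p hidx' hQS' hmax'
  intro x hx
  have hxN : x ∈ N := centralizer_le_normalizer _ hx.2
  have h6 : (⟨x, hxN⟩ : ↥N) ∈ S' ⊓ centralizer (Q' : Set ↥N) := by
    refine ⟨Subgroup.mem_subgroupOf.mpr hx.1, ?_⟩
    show (⟨x, hxN⟩ : ↥N) ∈ centralizer (Q' : Set ↥N)
    rw [mem_centralizer_iff]
    intro q hq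
    have := mem_centralizer_iff.mp hx.2 (q : G) (Subgroup.mem_subgroupOf.mp hq)
    exact Subtype.ext this
  exact Subgroup.mem_subgroupOf.mp (h5 h6)

end centric

end Cfsg.Agent.Helper1.DF
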