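import Mathlib
import Cfsg.Agent.Lib.Helper1.FNormal
import Cfsg.Agent.Lib.Helper1.DGT

/-!
# Centric radical subgroups and subgroups normal in the fusion system

Every subgroup of `P` which is normal in the fusion system of `G` on `P` is contained in every
centric radical subgroup of `P`.
-/

set_option autoImplicit false
set_option linter.style.haveILetI false

namespace Cfsg.Agent.Helper1.DF

open Cfsg Subgroup
open Cfsg.Agent.Helper10 (rcs rcg mem_rcs mem_rcg coe_rcg mem_normalizer_iff_rcg)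

section basic

variable {G : Type*} [Group G]

theorem conj_mem_centralizer {R : Subgroup G} {n c : G} (hn : n ∈ normalizer (R : Set G))
    (hc : c ∈ centralizer (R : Set G)) : n * c * n⁻¹ ∈ centralizer (R : Set G) := by
  rw [mem_centralizer_iff]
  intro q hq
  have hq' : n⁻¹ * q * n⁻¹⁻¹ ∈ R := (mem_normalizer_iff.mp (inv_mem hn) q).mp hq
  rw [inv_inv] at hq'
  have h1 := mem_centralizer_iff.mp hc _ hq'
  calc q * (n * c * n⁻¹) = n * ((n⁻¹ * q * n) * c) * n⁻¹ := by group
    _ = n * (c * (n⁻¹ * q * n)) * n⁻¹ := by rw [h1]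
    _ = n * c * n⁻¹ * q := by group

theorem normalizer_le_normalizer_centralizer (R : Subgroup G) :
    normalizer (R : Set G) ≤ normalizer ((centralizer (R : Set G) : Subgroup G) : Set G) := by
  intro n hn
  rw [mem_normalizer_iff]
  intro c
  constructor
  · exact fun hc => conj_mem_centralizer hn hc
  · intro hc
    have := conj_mem_centralizer (inv_mem hn) hc
    have e : n⁻¹ * (n * c * n⁻¹) * n⁻¹⁻¹ = c := by group
    rwa [e] at this

theorem relIndex_sup_of_le_normalizer {H K : Subgroup G} (hK : K ≤ normalizer (H : Set G)) :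
    H.relIndex (K ⊔ H) = H.relIndex K := by
  set L := normalizer (H : Set G) with hL
  have hHL : H ≤ L := le_normalizer
  haveI : (H.subgroupOf L).Normal := Subgroup.normal_in_normalizer
  have h1 : (H.subgroupOf L).relIndex (K.subgroupOf L ⊔ H.subgroupOf L) =
      (H.subgroupOf L).relIndex (K.subgroupOf L) := Subgroup.relIndex_sup_right _ _
  rw [← Subgroup.subgroupOf_sup hK hHL, Subgroup.relIndex_subgroupOf (sup_le hK hHL),
    Subgroup.relIndex_subgroupOf hK] at h1
  exact h1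

/-- the centric radical subgroups of `P`, in the form used in statement S1953 -/
def CRad (p : ℕ) (P Q : Subgroup G) : Prop :=
  Q ≤ P ∧
    (∃ R : Sylow p ↥(centralizer (Q : Set G)),
      (R : Subgroup ↥(centralizer (Q : Set G))).map (centralizer (Q : Set G)).subtype =
        Q ⊓ centralizer (Q : Set G)) ∧
    ∀ X : Subgroup G, X ≤ normalizer (Q : Set G) →
      (∀ n ∈ normalizer (Q : Set G), X.map (MulAut.conj n).toMonoidHom = X) →
      Q ⊔ centralizer (Q : Set G) ≤ X →
      (∃ k : ℕ, (Q ⊔ centralizer (Q : Set G)).relIndex X = p ^ k) →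
      X = Q ⊔ centralizer (Q : Set G)

end basic

section le

variable {G : Type*} [Group G] [Finite G] {p : ℕ} [Fact p.Prime]

/-- a subgroup normal in the fusion system lies in every centric radical subgroup -/
theorem le_of_crad (P Q R : Subgroup G) (hP : IsPGroup p P) (hQP : Q ≤ P) (hQ : CtlIn ⊤ Q P)
    (hR : CRad p P R) : Q ≤ R := by
  unfold CRad at hR
  set N := normalizer (R : Set G) with hN
  set C := centralizer (R : Set G) with hC
  obtain ⟨hRP, ⟨Rs, hRs⟩, hrad⟩ := hR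
  have hCN : C ≤ N := centralizer_le_normalizer _
  have hRN : R ≤ N := le_normalizer
  have hPQ : P ≤ normalizer (Q : Set G) := le_normalizer_of_ctlIn hQP hQ
  set Q₁ := Q ⊓ N with hQ₁
  set X := Q₁ ⊔ (R ⊔ C) with hX
  have hRCN : R ⊔ C ≤ N := sup_le hRN hCN
  have hXN : X ≤ N := sup_le inf_le_right hRCN
  have hRCX : R ⊔ C ≤ X := le_sup_right
  have hCX : C ≤ X := le_sup_right.trans hRCX
  have hQ₁X : Q₁ ≤ X := le_sup_left
  have hconj : ∀ n ∈ N, X.map (MulAut.conj n).toMonoidHom ≤ X := by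
    intro n hn
    rw [hX, Subgroup.map_sup, Subgroup.map_sup]
    refine sup_le ?_ (sup_le ?_ ?_)
    · rintro _ ⟨q, hq, rfl⟩
      have hA : ((R : Subgroup G) : Set G) ⊆ (P : Set G) := hRP
      have hgA : rcs n ((R : Subgroup G) : Set G) ⊆ (P : Set G) := by
        rintro _ ⟨a, ha, rfl⟩
        apply hRP
        have := (mem_normalizer_iff.mp (inv_mem hn) a).mp ha
        rwa [inv_inv] at this
      obtain ⟨m, ⟨-, hm⟩, hmA⟩ := hQ _ n (mem_top _) hA hgA
      have hc : n * m⁻¹ ∈ C := by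
        rw [hC, mem_centralizer_iff]
        intro a ha
        have := hmA a ha
        calc a * (n * m⁻¹) = n * (n⁻¹ * a * n) * m⁻¹ := by group
          _ = n * (m⁻¹ * a * m) * m⁻¹ := by rw [this]
          _ = n * m⁻¹ * a := by group
      have hmN : m ∈ N := by
        have e : m = (n * m⁻¹)⁻¹ * n := by group
        rw [e]; exact mul_mem (inv_mem (hCN hc)) hn
      show n * q * n⁻¹ ∈ X
      have e : n * q * n⁻¹ = (n * m⁻¹) * (m * q * m⁻¹) * (n * m⁻¹)⁻¹ := by group
      rw [e]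
      have hq' : m * q * m⁻¹ ∈ Q₁ :=
        ⟨(mem_normalizer_iff.mp hm q).mp hq.1, N.mul_mem (N.mul_mem hmN hq.2) (N.inv_mem hmN)⟩
      exact X.mul_mem (X.mul_mem (hCX hc) (hQ₁X hq')) (X.inv_mem (hCX hc))
    · rintro _ ⟨r, hr, rfl⟩
      exact hRCX (le_sup_left (a := R) (b := C) ((mem_normalizer_iff.mp hn r).mp hr))
    · rintro _ ⟨c, hc, rfl⟩
      exact hCX (conj_mem_centralizer hn hc)
  have hconj' : ∀ n ∈ N, X.map (MulAut.conj n).toMonoidHom = X := by
    intro n hn
    apply le_antisymm (hconj n hn)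
    intro x hx
    have h1 : n⁻¹ * x * n⁻¹⁻¹ ∈ X := hconj n⁻¹ (inv_mem hn) ⟨x, hx, rfl⟩
    refine ⟨n⁻¹ * x * n⁻¹⁻¹, h1, ?_⟩
    show n * (n⁻¹ * x * n⁻¹⁻¹) * n⁻¹ = x
    group
  have hQ₁p : IsPGroup p Q₁ := hP.to_le (inf_le_left.trans hQP)
  have hidx : ∃ k : ℕ, (R ⊔ C).relIndex X = p ^ k := by
    have hQ₁n : Q₁ ≤ normalizer ((R ⊔ C : Subgroup G) : Set G) := by
      refine le_trans ?_ (normalizer_inf_normalizer_le_normalizer_sup R C)
      exact le_inf inf_le_right (inf_le_right.trans (normalizer_le_normalizer_centralizer R))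
    rw [hX, relIndex_sup_of_le_normalizer hQ₁n]
    exact hQ₁p.index _
  have hXeq : X = R ⊔ C := hrad X hXN hconj' hRCX hidx
  -- `Z(R)` is a normal Sylow subgroup of `C`
  haveI hRsn : (Rs : Subgroup ↥C).Normal := by
    constructor
    intro z hz c
    have hzR : (z : G) ∈ (Rs : Subgroup ↥C).map C.subtype := ⟨z, hz, rfl⟩
    rw [hRs] at hzR
    have e : c * z * c⁻¹ = z := by
      apply Subtype.ext
      have := mem_centralizer_iff.mp c.2 (z : G) hzR.1
      show (c : G) * z * (c : G)⁻¹ = z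
      rw [← this]; group
    rw [e]; exact hz
  have hPC : P ⊓ C ≤ R := by
    have hPC'p : IsPGroup p (P.subgroupOf C) := hP.comap_subtype
    have hsup : IsPGroup p ↥((Rs : Subgroup ↥C) ⊔ P.subgroupOf C) :=
      IsPGroup.to_sup_of_normal_left Rs.2 hPC'p
    have h1 := Rs.is_maximal' hsup le_sup_left
    intro z hz
    have hz' : (⟨z, hz.2⟩ : ↥C) ∈ (Rs : Subgroup ↥C) := by
      rw [← h1]; exact (le_sup_right : P.subgroupOf C ≤ _) (mem_subgroupOf.mpr hz.1)
    have h2 : z ∈ (Rs : Subgroup ↥C).map C.subtype := ⟨⟨z, hz.2⟩, hz', rfl⟩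
    rw [hRs] at h2
    exact h2.1
  have hQ₁R : Q₁ ≤ R := by
    intro q hq
    have h1 : q ∈ ((R ⊔ C : Subgroup G) : Set G) := by rw [← hXeq]; exact hQ₁X hq
    rw [coe_mul_of_right_le_normalizer_left R C hCN] at h1
    obtain ⟨r, hr, c, hc, rfl⟩ := Set.mem_mul.mp h1
    have hcP : c ∈ P := by
      have e : c = r⁻¹ * (r * c) := by group
      rw [e]; exact P.mul_mem (P.inv_mem (hRP hr)) (hQP hq.1)
    exact R.mul_mem hr (hPC ⟨hcP, hc⟩)
  -- normalizers grow
  set QR := Q ⊔ R with hQR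
  have hQRP : QR ≤ P := sup_le hQP hRP
  have hQRp : IsPGroup p QR := hP.to_le hQRP
  haveI : Group.IsNilpotent ↥QR := hQRp.isNilpotent
  have hnc := Group.normalizerCondition_of_isNilpotent (G := ↥QR)
  by_contra hne
  have hlt : R.subgroupOf QR < ⊤ := by
    rw [lt_top_iff_ne_top]
    intro h
    apply hne
    intro q hq
    have : (⟨q, (le_sup_left : Q ≤ QR) hq⟩ : ↥QR) ∈ R.subgroupOf QR := by rw [h]; exact mem_top _
    exact mem_subgroupOf.mp this
  obtain ⟨x, hxN, hxR⟩ := SetLike.exists_of_lt (hnc _ hlt)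
  have hx : (x : G) ∈ ((Q ⊔ R : Subgroup G) : Set G) := x.2
  rw [coe_mul_of_right_le_normalizer_left Q R (hRP.trans hPQ)] at hx
  obtain ⟨q, hq, r, hr, hqr⟩ := Set.mem_mul.mp hx
  have hxNR : (x : G) ∈ N := by
    rw [hN, mem_normalizer_iff_rcg]
    apply Cfsg.Agent.Helper10.rcg_eq_of_le_of_finite
    intro z hz
    rw [mem_rcg] at hz
    have hzQR : (x : G) * z * (x : G)⁻¹ ∈ QR := (le_sup_right : R ≤ QR) hz
    have h1 : (⟨(x : G) * z * (x : G)⁻¹, hzQR⟩ : ↥QR) ∈ R.subgroupOf QR := mem_subgroupOf.mpr hz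
    have h2 := (mem_normalizer_iff.mp (inv_mem hxN) _).mp h1
    have h3 := mem_subgroupOf.mp h2
    have e : ((x⁻¹ * (⟨(x : G) * z * (x : G)⁻¹, hzQR⟩ : ↥QR) * x⁻¹⁻¹ : ↥QR) : G) = z := by
      show (x : G)⁻¹ * ((x : G) * z * (x : G)⁻¹) * (x : G)⁻¹⁻¹ = z
      group
    rwa [e] at h3
  have hqN : q ∈ N := by
    have e : q = (x : G) * r⁻¹ := by rw [← hqr]; group
    rw [e]; exact N.mul_mem hxNR (N.inv_mem (hRN hr))
  apply hxR
  rw [mem_subgroupOf, ← hqr]
  exact R.mul_mem (hQ₁R ⟨hq, hqN⟩) hr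

end le

end Cfsg.Agent.Helper1.DF
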