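import Mathlib
import Cfsg.Agent.Lib.Helper1.FNormalCR
import Cfsg.Agent.Lib.Helper9.CentricRadical

/-!
# The largest subgroup normal in the fusion system is centric radical

In a `Qd(p)`-free group (`p` odd) a subgroup of largest order among those normal in the fusion
system on a Sylow `p`-subgroup is centric radical.
-/

set_option autoImplicit false
set_option linter.style.haveILetI false

namespace Cfsg.Agent.Helper1.DF

open Cfsg Subgroup
open Cfsg.Agent.Helper10 (rcs rcg mem_rcs mem_rcg coe_rcg mem_normalizer_iff_rcg)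
open Cfsg.Agent.Helper14 (PowCond powCond_iff_isPGroup_map powCond_of_isPGroup)

universe u

section pow

variable {L : Type*} [Group L] {p : ℕ}

theorem powCond_sup [Fact p.Prime] {A B Y : Subgroup L} [Y.Normal] [hA : A.Normal]
    (h1 : PowCond p A Y) (h2 : PowCond p B Y) : PowCond p (A ⊔ B) Y := by
  rw [powCond_iff_isPGroup_map] at h1 h2 ⊢
  rw [Subgroup.map_sup]
  haveI : (A.map (QuotientGroup.mk' Y)).Normal :=
    Subgroup.Normal.map hA _ (QuotientGroup.mk'_surjective Y)
  exact IsPGroup.to_sup_of_normal_left h1 h2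

theorem powCond_trans {A M Y : Subgroup L} (h1 : PowCond p A M) (h2 : PowCond p M Y) :
    PowCond p A Y := by
  intro a ha
  obtain ⟨k, hk⟩ := h1 a ha
  obtain ⟨j, hj⟩ := h2 _ hk
  exact ⟨k + j, by rw [pow_add, pow_mul]; exact hj⟩

theorem mem_normalizer_of_map_conj_eq {X : Subgroup L} {n : L}
    (h : X.map (MulAut.conj n).toMonoidHom = X) : n ∈ normalizer (X : Set L) := by
  rw [mem_normalizer_iff]
  intro x
  constructor
  · intro hx
    rw [← h]
    exact ⟨x, hx, rfl⟩
  · intro hx
    rw [← h] at hx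
    obtain ⟨y, hy, hyx⟩ := hx
    have e : y = x := by
      have h1 : n * y * n⁻¹ = n * x * n⁻¹ := hyx
      have h2 : y = n⁻¹ * (n * y * n⁻¹) * n := by group
      rw [h2, h1]; group
    rwa [← e]

end pow

section rad

variable {p : ℕ} [Fact p.Prime]

theorem crad_of_max (hp : p ≠ 2) {G : Type u} [Group G] [Finite G]
    (hG : Cfsg.Agent.Helper4.QDF.QdFree p G) (P Q : Subgroup G)
    (hP : IsPGroup p P) (hidx : ¬ p ∣ P.index) (hQP : Q ≤ P) (hQ : CtlIn ⊤ Q P)
    (hmax : ∀ V : Subgroup G, V ≤ P → CtlIn ⊤ V P → Nat.card V ≤ Nat.card Q) :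
    CRad p P Q := by
  have hcen : P ⊓ centralizer (Q : Set G) ≤ Q :=
    centric_of_max_card hp hG P Q hP hidx hQP hQ hmax
  unfold CRad
  set N := normalizer (Q : Set G) with hN
  set C := centralizer (Q : Set G) with hC
  have hPN : P ≤ N := le_normalizer_of_ctlIn hQP hQ
  have hCN : C ≤ N := centralizer_le_normalizer _
  have hQN : Q ≤ N := le_normalizer
  have hNC : N ≤ normalizer (C : Set G) := normalizer_le_normalizer_centralizer Q
  have hQp : IsPGroup p Q := hP.to_le hQP
  have hidxN : ¬ p ∣ P.relIndex N :=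
    fun hd => hidx (hd.trans (Subgroup.relIndex_dvd_index_of_le hPN))
  have hPCidx : ¬ p ∣ P.relIndex C :=
    Cfsg.Agent.Helper10.inf_relSylow_of_normal_in P N C hP hidxN hCN hNC
  have hQC : Q ⊓ C = P ⊓ C := le_antisymm (inf_le_inf_right _ hQP) (le_inf hcen inf_le_right)
  have hQCidx : ¬ p ∣ Q.relIndex C := by
    rw [← Subgroup.inf_relIndex_right Q C, hQC, Subgroup.inf_relIndex_right]; exact hPCidx
  refine ⟨hQP, ?_, ?_⟩
  · have hQ'p : IsPGroup p (Q.subgroupOf C) := hQp.comap_subtype
    have hQCidx' : ¬ p ∣ (Q.subgroupOf C).index := hQCidx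
    refine ⟨hQ'p.toSylow hQCidx', ?_⟩
    rw [IsPGroup.toSylow_coe]
    exact Subgroup.subgroupOf_map_subtype Q C
  · intro X hXN hXconj hQCX hk
    obtain ⟨k, hk⟩ := hk
    have hNX : N ≤ normalizer (X : Set G) := fun n hn => mem_normalizer_of_map_conj_eq (hXconj n hn)
    have hQX : Q ≤ X := le_sup_left.trans hQCX
    have hkey : P ⊓ X ≤ Q := by
      set P' := P.subgroupOf N with hP'
      set Q' := Q.subgroupOf N with hQ'
      set C' := C.subgroupOf N with hC'
      set X' := X.subgroupOf N with hX'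
      haveI hQ'n : Q'.Normal := Subgroup.normal_in_normalizer
      haveI hC'n : C'.Normal := (Subgroup.normal_subgroupOf_iff_le_normalizer hCN).mpr hNC
      haveI hX'n : X'.Normal := (Subgroup.normal_subgroupOf_iff_le_normalizer hXN).mpr hNX
      have hP'p : IsPGroup p P' := hP.comap_subtype
      have hidx' : ¬ p ∣ P'.index := hidxN
      set Y := pPrimeCore p ↥N with hY
      haveI hYn : Y.Normal := Cfsg.Agent.Helper22.pPrimeCore_normal p
      have hYcop : (Nat.card Y).Coprime p := Cfsg.Agent.Helper22.card_pPrimeCore_coprime p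
      have h1 : PowCond p Q' Y := powCond_of_isPGroup hQp.comap_subtype Y
      have h2 : PowCond p C' Y := by
        apply Cfsg.Agent.Helper9.powCond_pPrimeCore_of_central_sylow C' (Q' ⊓ C') inf_le_right
        · intro z hz
          rw [mem_centralizer_iff]
          intro c hc
          have hcC : (c : G) ∈ C := mem_subgroupOf.mp hc
          have hzQ : (z : G) ∈ Q := mem_subgroupOf.mp hz.1
          have := mem_centralizer_iff.mp hcC (z : G) hzQ
          exact Subtype.ext this.symm
        · exact hQp.comap_subtype.to_le inf_le_left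
        · rw [Subgroup.inf_relIndex_right, hQ', hC', Subgroup.relIndex_subgroupOf hCN]
          exact hQCidx
      have h3 : PowCond p (Q' ⊔ C') Y := powCond_sup h1 h2
      have hM : Q' ⊔ C' = (Q ⊔ C).subgroupOf N := (Subgroup.subgroupOf_sup hQN hCN).symm
      have h4 : PowCond p X' (Q' ⊔ C') := by
        intro x hx
        refine ⟨k, ?_⟩
        have hrel : (Q' ⊔ C').relIndex X' = p ^ k := by
          rw [hM, hX', Subgroup.relIndex_subgroupOf hXN]; exact hk
        rw [← hrel]
        exact Subgroup.pow_relIndex_mem (Q' ⊔ C') hx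
      have h5 : PowCond p X' Y := powCond_trans h4 h3
      set π := QuotientGroup.mk' Y with hπ
      have hπs : Function.Surjective π := QuotientGroup.mk'_surjective Y
      have hXbp : IsPGroup p (X'.map π) := (powCond_iff_isPGroup_map X' Y).mp h5
      haveI hXbn : (X'.map π).Normal := Subgroup.Normal.map hX'n _ hπs
      let PS : Sylow p ↥N := hP'p.toSylow hidx'
      have hXbP : X'.map π ≤ P'.map π := hXbp.le_sylow_of_normal (PS.mapSurjective hπs)
      set V' := (X' ⊔ Y) ⊓ P' with hV'
      have hV'P' : V' ≤ P' := inf_le_right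
      have hP'V' : P' ≤ normalizer (V' : Set ↥N) := by
        refine le_trans (le_inf ?_ le_normalizer) (inf_normalizer_le _ _)
        rw [normalizer_eq_top_iff.mpr (inferInstance : (X' ⊔ Y).Normal)]
        exact le_top
      have hV'map : V'.map π = X'.map π := by
        apply le_antisymm
        · rintro _ ⟨v, hv, rfl⟩
          obtain ⟨x, hx, y, hy, rfl⟩ := Subgroup.mem_sup_of_normal_right.mp hv.1
          refine ⟨x, hx, ?_⟩
          rw [map_mul]
          have : π y = 1 := (QuotientGroup.eq_one_iff y).mpr hy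
          rw [this, mul_one]
        · rintro _ ⟨x, hx, rfl⟩
          obtain ⟨t, ht, htx⟩ := hXbP (Subgroup.mem_map_of_mem π hx)
          refine ⟨t, ⟨?_, ht⟩, htx⟩
          have h6 : x⁻¹ * t ∈ Y := by
            apply (QuotientGroup.eq_one_iff _).mp
            show π (x⁻¹ * t) = 1
            rw [map_mul, map_inv, htx, inv_mul_cancel]
          have e : t = x * (x⁻¹ * t) := by group
          rw [e]
          exact Subgroup.mul_mem_sup hx h6
      have hctlb : CtlIn ⊤ (V'.map π) (P'.map π) := by
        apply ctlIn_of_normal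
        rw [hV'map]
        exact normalizer_eq_top_iff.mpr hXbn
      have hctl' : CtlIn ⊤ V' P' := ctl_of_quotient_pprime Y hYcop P' V' hP'p hV'P' hP'V' hctlb
      have hctlN := ctlIn_map_subtype N V' P' hctl'
      rw [hP', Subgroup.subgroupOf_map_subtype, inf_eq_left.mpr hPN] at hctlN
      have hctl : CtlIn ⊤ (V'.map N.subtype) P := ctlIn_comp hQ hctlN
      have hVP : V'.map N.subtype ≤ P := by
        rintro _ ⟨v, hv, rfl⟩
        exact mem_subgroupOf.mp hv.2
      have hcard := hmax _ hVP hctl
      have hQV : Q ≤ V'.map N.subtype := by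
        intro q hq
        refine ⟨⟨q, hQN hq⟩, ⟨?_, mem_subgroupOf.mpr (hQP hq)⟩, rfl⟩
        exact (le_sup_left : X' ≤ X' ⊔ Y) (mem_subgroupOf.mpr (hQX hq))
      have hVQ : Q = V'.map N.subtype := Subgroup.eq_of_le_of_card_ge hQV hcard
      intro z hz
      rw [hVQ]
      refine ⟨⟨z, hPN hz.1⟩, ⟨?_, mem_subgroupOf.mpr hz.1⟩, rfl⟩
      exact (le_sup_left : X' ≤ X' ⊔ Y) (mem_subgroupOf.mpr hz.2)
    have hPX : P ⊓ X = Q := le_antisymm hkey (le_inf hQP hQX)
    have hPXidx : ¬ p ∣ P.relIndex X :=
      Cfsg.Agent.Helper10.inf_relSylow_of_normal_in P N X hP hidxN hXN hNX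
    have e1 : Q.relIndex X = P.relIndex X := by rw [← hPX, Subgroup.inf_relIndex_right]
    have e2 : Q.relIndex (Q ⊔ C) * (Q ⊔ C).relIndex X = Q.relIndex X :=
      Subgroup.relIndex_mul_relIndex Q (Q ⊔ C) X le_sup_left hQCX
    rcases Nat.eq_zero_or_pos k with h0 | h0
    · rw [h0, pow_zero] at hk
      exact le_antisymm (Subgroup.relIndex_eq_one.mp hk) hQCX
    · exfalso
      apply hPXidx
      rw [← e1, ← e2, hk]
      exact Dvd.dvd.mul_left (dvd_pow_self p h0.ne') _

end rad

end Cfsg.Agent.Helper1.DF
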