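import Mathlib
import Cfsg.Agent.Lib.Helper1.FpfNorm
import Cfsg.Agent.Lib.Helper19.PGroupBasic

/-!
# Two commuting automorphisms of order `p` of a `p'`-group (helper1)

If `α`, `β` are commuting automorphisms with `α ^ p = β ^ p = 1` of a finite nilpotent group
without `p`-torsion such that `α ^ a * β ^ b` is fixed-point-free whenever `p ∤ a`, then `β = 1`.
-/

set_option autoImplicit false

namespace Cfsg.Agent.Helper1.Fpf

open Subgroup MonoidHom

universe u

/-- reindexing a product over `range p` by multiplication by a unit mod `p` -/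
theorem prod_range_mul_mod {M : Type*} [CommMonoid M] {p : ℕ} (hp : p.Prime) (g : ℕ → M) {k : ℕ}
    (hk0 : 0 < k) (hkp : k < p) :
    ∏ a ∈ Finset.range p, g (a * k % p) = ∏ j ∈ Finset.range p, g j := by
  classical
  have hcop : Nat.Coprime p k := (Nat.Prime.coprime_iff_not_dvd hp).mpr
    (fun hd => absurd (Nat.le_of_dvd hk0 hd) (by omega))
  have hinj : Set.InjOn (fun a => a * k % p) (Finset.range p : Set ℕ) := by
    intro a ha b hb hab
    simp only [Finset.coe_range, Set.mem_Iio] at ha hb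
    have h1 : a * k ≡ b * k [MOD p] := hab
    have h2 : a ≡ b [MOD p] := Nat.ModEq.cancel_right_of_coprime hcop h1
    have h3 : a % p = b % p := h2
    rwa [Nat.mod_eq_of_lt ha, Nat.mod_eq_of_lt hb] at h3
  have himg : (Finset.range p).image (fun a => a * k % p) = Finset.range p := by
    apply Finset.eq_of_subset_of_card_le
    · intro j hj
      rw [Finset.mem_image] at hj
      obtain ⟨a, _, rfl⟩ := hj
      rw [Finset.mem_range]
      exact Nat.mod_lt _ hp.pos
    · rw [Finset.card_image_of_injOn hinj]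
  conv_rhs => rw [← himg]
  rw [Finset.prod_image hinj]

theorem pow_apply_eq_pow_mod {G : Type*} [Group G] {β : G ≃* G} {p : ℕ} (hβ : β ^ p = 1) (n : ℕ)
    (u : G) : (β ^ n) u = (β ^ (n % p)) u := by
  conv_lhs => rw [← Nat.mod_add_div n p, pow_add, pow_mul, hβ, one_pow, mul_one]

/-- The abelian case. -/
theorem pair_abelian {A : Type*} [CommGroup A] [Finite A] {p : ℕ} (hp : p.Prime)
    (hA : ∀ u : A, u ^ p = 1 → u = 1) (α β : A ≃* A) (hαβ : α * β = β * α)
    (hα : α ^ p = 1) (hβ : β ^ p = 1)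
    (hfix : ∀ a b : ℕ, ¬ p ∣ a → ∀ u : A, (α ^ a) ((β ^ b) u) = u → u = 1) (u : A) : β u = u := by
  have hcomm : Commute α β := hαβ
  -- the norm of `β`
  let Nβ : A → A := fun v => ∏ j ∈ Finset.range p, (β ^ j) v
  have hNα : ∀ v : A, ∏ i ∈ Finset.range p, (α ^ i) v = 1 := by
    intro v
    apply prod_range_pow_eq_one _ hα
    intro w hw
    apply hfix 1 0 (fun h => hp.one_lt.ne' (Nat.dvd_one.mp h)) w
    rw [pow_one, pow_zero]
    exact hw
  have hNab : ∀ (b : ℕ) (v : A), ∏ i ∈ Finset.range p, ((α * β ^ b) ^ i) v = 1 := by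
    intro b v
    apply prod_range_pow_eq_one
    · intro w hw
      apply hfix 1 b (fun h => hp.one_lt.ne' (Nat.dvd_one.mp h)) w
      rw [pow_one]
      exact hw
    · rw [(hcomm.pow_right b).mul_pow, hα, ← pow_mul, mul_comm b p, pow_mul, hβ, one_pow, one_mul]
  have key : ∀ v : A, v ^ p = Nβ v := by
    intro v
    have hT : ∏ b ∈ Finset.range p, ∏ i ∈ Finset.range p, ((α * β ^ b) ^ i) v = 1 :=
      Finset.prod_eq_one fun b _ => hNab b v
    rw [Finset.prod_comm] at hT
    have hterm : ∀ i b : ℕ, ((α * β ^ b) ^ i) v = (α ^ i) ((β ^ (b * i % p)) v) := by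
      intro i b
      rw [(hcomm.pow_right b).mul_pow, ← pow_mul, MulAut.mul_apply, pow_apply_eq_pow_mod hβ]
    simp_rw [hterm] at hT
    have hinner : ∀ i : ℕ, ∏ b ∈ Finset.range p, (α ^ i) ((β ^ (b * i % p)) v)
        = (α ^ i) (∏ b ∈ Finset.range p, (β ^ (b * i % p)) v) := by
      intro i
      rw [map_prod]
    simp_rw [hinner] at hT
    obtain ⟨n, hn⟩ : ∃ n, p = n + 1 := ⟨p - 1, by have := hp.pos; omega⟩
    have hsplit := Finset.prod_range_succ'
      (fun i => (α ^ i) (∏ b ∈ Finset.range p, (β ^ (b * i % p)) v)) n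
    rw [← hn] at hsplit
    rw [hsplit] at hT
    have hzero : (α ^ 0) (∏ b ∈ Finset.range p, (β ^ (b * 0 % p)) v) = v ^ p := by
      simp
    have hrest : ∏ i ∈ Finset.range n,
        (α ^ (i + 1)) (∏ b ∈ Finset.range p, (β ^ (b * (i + 1) % p)) v)
        = ∏ i ∈ Finset.range n, (α ^ (i + 1)) (Nβ v) := by
      apply Finset.prod_congr rfl
      intro i hi
      rw [Finset.mem_range] at hi
      rw [prod_range_mul_mod hp (fun j => (β ^ j) v) (Nat.succ_pos i) (by omega)]
    rw [hzero, hrest] at hT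
    -- `Nα (Nβ v) = 1`
    have h2 := hNα (Nβ v)
    have hsplit2 := Finset.prod_range_succ' (fun i => (α ^ i) (Nβ v)) n
    rw [← hn] at hsplit2
    rw [hsplit2] at h2
    simp only [pow_zero, MulAut.one_apply] at h2
    -- compare
    have h3 : (∏ i ∈ Finset.range n, (α ^ (i + 1)) (Nβ v)) * v ^ p
        = (∏ i ∈ Finset.range n, (α ^ (i + 1)) (Nβ v)) * Nβ v := by rw [hT, h2]
    exact mul_left_cancel h3
  -- `Nβ (β u) = Nβ u`
  have hshift : Nβ (β u) = Nβ u := by
    change ∏ j ∈ Finset.range p, (β ^ j) (β u) = ∏ j ∈ Finset.range p, (β ^ j) u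
    have h1 : ∀ j, (β ^ j) (β u) = (β ^ (j + 1)) u := by
      intro j; rw [pow_succ, MulAut.mul_apply]
    simp_rw [h1]
    have h2 := Finset.prod_range_succ (fun k => (β ^ k) u) p
    have h3 := Finset.prod_range_succ' (fun k => (β ^ k) u) p
    rw [h2] at h3
    simp only [hβ, pow_zero, MulAut.one_apply] at h3
    exact (mul_right_cancel h3).symm
  have hmul : ∀ v w : A, Nβ (v * w) = Nβ v * Nβ w := by
    intro v w
    change ∏ j ∈ Finset.range p, (β ^ j) (v * w) = _
    simp only [map_mul]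
    exact Finset.prod_mul_distrib
  have hw : (u⁻¹ * β u) ^ p = 1 := by
    rw [key, hmul, hshift]
    have h1 : Nβ u⁻¹ * Nβ u = Nβ (u⁻¹ * u) := (hmul _ _).symm
    rw [h1, inv_mul_cancel]
    change ∏ j ∈ Finset.range p, (β ^ j) 1 = 1
    simp
  have := hA _ hw
  exact (inv_mul_eq_one.mp this).symm

theorem inv_center {G : Type*} [Group G] (φ : G ≃* G) : Inv φ (center G) := by
  intro x hx
  rw [Subgroup.mem_center_iff] at hx ⊢
  intro g
  obtain ⟨g', rfl⟩ := φ.surjective g
  rw [← map_mul, ← map_mul, hx g']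

theorem no_torsion_of_isPGroup {Q : Type*} [Group Q] {p q : ℕ} (hp : p.Prime) (hq : q.Prime)
    (hqp : q ≠ p) (hQ : IsPGroup q Q) (u : Q) (hu : u ^ p = 1) : u = 1 := by
  obtain ⟨k, hk⟩ := hQ u
  have h1 : orderOf u ∣ p := orderOf_dvd_of_pow_eq_one hu
  have h2 : orderOf u ∣ q ^ k := orderOf_dvd_of_pow_eq_one hk
  have hcop : Nat.Coprime p (q ^ k) :=
    Nat.Coprime.pow_right k ((Nat.coprime_primes hp hq).mpr (Ne.symm hqp))
  have h3 : orderOf u ∣ 1 := by
    have := Nat.dvd_gcd h1 h2
    rwa [hcop.gcd_eq_one] at this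
  exact orderOf_eq_one_iff.mp (Nat.dvd_one.mp h3)

open scoped IsMulCommutative in
/-- The general case, for `q`-groups. -/
theorem pair_aux {p q : ℕ} (hp : p.Prime) [hq : Fact q.Prime] (hqp : q ≠ p) :
    ∀ (n : ℕ) (Q : Type u) [Group Q] [Finite Q], Nat.card Q = n → IsPGroup q Q →
    ∀ (α β : Q ≃* Q), α * β = β * α → α ^ p = 1 → β ^ p = 1 →
    (∀ a b : ℕ, ¬ p ∣ a → ∀ u : Q, (α ^ a) ((β ^ b) u) = u → u = 1) → ∀ u : Q, β u = u := by
  intro n
  induction n using Nat.strong_induction_on with
  | _ n ih =>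
  intro Q _ _ hcard hQ α β hαβ hα hβ hfix
  have htor : ∀ u : Q, u ^ p = 1 → u = 1 := no_torsion_of_isPGroup hp hq.out hqp hQ
  by_cases hZ : center Q = ⊤
  · letI : CommGroup Q := { (inferInstance : Group Q) with
      mul_comm := fun a b => by
        have : a ∈ center Q := by rw [hZ]; trivial
        exact (Subgroup.mem_center_iff.mp this b).symm }
    exact pair_abelian hp htor α β hαβ hα hβ hfix
  -- the centre
  have hαZ : Inv α (center Q) := inv_center α
  have hβZ : Inv β (center Q) := inv_center β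
  have hβcenter : ∀ z ∈ center Q, β z = z := by
    intro z hz
    have h1 := pair_abelian (A := center Q) hp (fun u hu => Subtype.ext (htor u (by
      have := congrArg Subtype.val hu
      rw [Subgroup.coe_pow] at this
      exact this)))
      (restrict α _ hαZ) (restrict β _ hβZ)
      (by
        ext w
        have := DFunLike.congr_fun hαβ (w : Q)
        simpa [MulAut.mul_apply] using this)
      (restrict_pow_eq_one α _ hαZ hα) (restrict_pow_eq_one β _ hβZ hβ)
      (by
        intro a b ha w hw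
        apply Subtype.ext
        apply hfix a b ha (w : Q)
        have := congrArg Subtype.val hw
        rw [restrict_pow_apply, restrict_pow_apply] at this
        exact this) ⟨z, hz⟩
    exact congrArg Subtype.val h1
  -- the quotient
  haveI : Nontrivial Q := by
    by_contra hnt
    rw [not_nontrivial_iff_subsingleton] at hnt
    exact hZ (Subsingleton.elim _ _)
  have hZbot : center Q ≠ ⊥ := by
    have := hQ.center_nontrivial
    intro h
    rw [h] at this
    exact not_nontrivial _ this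
  have hlt : Nat.card (Q ⧸ center Q) < n := by
    rw [← hcard, ← Subgroup.index_eq_card, ← Subgroup.card_mul_index (center Q)]
    have h1 : 1 < Nat.card (center Q) := by
      rw [Subgroup.one_lt_card_iff_ne_bot]; exact hZbot
    have h2 : 0 < (center Q).index := Nat.pos_of_ne_zero Subgroup.index_ne_zero_of_finite
    nlinarith
  have hquot : ∀ ū : Q ⧸ center Q, (quot β _ hβZ) ū = ū := by
    apply ih _ hlt (Q ⧸ center Q) rfl (hQ.to_quotient _) (quot α _ hαZ) (quot β _ hβZ)
    · ext ū
      induction ū using QuotientGroup.induction_on with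
      | H g =>
        simp only [MulAut.mul_apply, quot_mk]
        have := DFunLike.congr_fun hαβ g
        simp only [MulAut.mul_apply] at this
        rw [this]
    · exact quot_pow_eq_one α _ hαZ hα
    · exact quot_pow_eq_one β _ hβZ hβ
    · intro a b ha ū hū
      have hφ : FixedPointFree (α ^ a * β ^ b) := by
        intro w hw
        exact hfix a b ha w hw
      have hφZ : Inv (α ^ a * β ^ b) (center Q) := inv_center _
      apply quot_fpf hφ (center Q) hφZ ū
      induction ū using QuotientGroup.induction_on with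
      | H g =>
        rw [quot_pow_mk, quot_pow_mk] at hū
        rw [quot_mk]
        exact hū
  intro u
  set c := u⁻¹ * β u with hc
  have hcZ : c ∈ center Q := by
    have := hquot (u : Q ⧸ center Q)
    rw [quot_mk, eq_comm, QuotientGroup.eq] at this
    exact this
  have hβc : β c = c := hβcenter c hcZ
  have hpow : ∀ k : ℕ, (β ^ k) u = u * c ^ k := by
    intro k
    induction k with
    | zero => simp
    | succ k ih' =>
      rw [pow_apply_succ, ih', map_mul, map_pow, hβc, pow_succ', ← mul_assoc]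
      congr 1
      rw [hc, mul_inv_cancel_left]
  have h1 := hpow p
  rw [hβ, MulAut.one_apply] at h1
  have h2 : c ^ p = 1 := by
    have : u * 1 = u * c ^ p := by rw [mul_one]; exact h1
    exact (mul_left_cancel this).symm
  have h3 := htor c h2
  rw [hc] at h3
  exact (inv_mul_eq_one.mp h3).symm

/-- Two commuting automorphisms `α`, `β` of a finite `q`-group with `α ^ p = β ^ p = 1`, `p ≠ q`,
such that `α ^ a * β ^ b` is fixed-point-free whenever `p ∤ a`: then `β = 1`. -/
theorem pair_trivial {p q : ℕ} (hp : p.Prime) [hq : Fact q.Prime] (hqp : q ≠ p) {Q : Type u}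
    [Group Q] [Finite Q] (hQ : IsPGroup q Q) (α β : Q ≃* Q) (hαβ : α * β = β * α)
    (hα : α ^ p = 1) (hβ : β ^ p = 1)
    (hfix : ∀ a b : ℕ, ¬ p ∣ a → ∀ u : Q, (α ^ a) ((β ^ b) u) = u → u = 1) (u : Q) : β u = u :=
  pair_aux hp hqp _ Q rfl hQ α β hαβ hα hβ hfix u

theorem mem_of_pow_mem {G : Type*} [Group G] {p : ℕ} (hp : p.Prime) {x : G} (hx : x ^ p = 1)
    {a : ℕ} (ha : ¬ p ∣ a) (S : Subgroup G) (h : x ^ a ∈ S) : x ∈ S := by
  have h1 : orderOf x ∣ p := orderOf_dvd_of_pow_eq_one hx
  have hcop : Nat.Coprime a (orderOf x) :=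
    Nat.Coprime.coprime_dvd_right h1 ((Nat.Prime.coprime_iff_not_dvd hp).mpr ha).symm
  obtain ⟨m, hm⟩ := exists_pow_eq_self_of_coprime hcop
  rw [← hm]
  exact pow_mem h m

/-- A `p`-group `R` of automorphisms of a nontrivial `q`-group such that all elements outside a
proper normal subgroup `B` have order `p` and are fixed-point-free: then `B = 1` and `|R| = p`. -/
theorem aut_pgroup {p q : ℕ} [hpf : Fact p.Prime] [hq : Fact q.Prime] (hqp : q ≠ p) {Q : Type u}
    [Group Q] [Finite Q] [Nontrivial Q] (hQ : IsPGroup q Q) (R B : Subgroup (MulAut Q))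
    (hR : IsPGroup p R) (hBR : B ≤ R) (hBn : ∀ r ∈ R, ∀ b ∈ B, r * b * r⁻¹ ∈ B)
    (hout : ∀ γ ∈ R, γ ∉ B → γ ^ p = 1 ∧ FixedPointFree γ) (hne : ∃ γ ∈ R, γ ∉ B) :
    B = ⊥ ∧ Nat.card R = p := by
  have hp : p.Prime := hpf.out
  haveI : Finite (MulAut Q) := Finite.of_injective (fun f : MulAut Q => (f : Q → Q))
    DFunLike.coe_injective
  -- the basic contradiction
  have key : ∀ x ∈ R, ∀ z ∈ R, x ^ p = 1 → z ^ p = 1 → x * z = z * x →
      (∀ a b : ℕ, ¬ p ∣ a → x ^ a * z ^ b ∉ B) → z = 1 := by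
    intro x hx z hz hxp hzp hxz hnot
    ext u
    apply pair_trivial hp hqp hQ x z hxz hxp hzp
    intro a b ha w hw
    have hγR : x ^ a * z ^ b ∈ R := mul_mem (pow_mem hx a) (pow_mem hz b)
    exact (hout _ hγR (hnot a b ha)).2 w hw
  obtain ⟨x, hxR, hxB⟩ := hne
  have hxp : x ^ p = 1 := (hout x hxR hxB).1
  have hB : B = ⊥ := by
    by_contra hBne
    have hN : B.subgroupOf R ≠ ⊥ := by
      intro h
      rw [Subgroup.subgroupOf_eq_bot, disjoint_iff, inf_eq_left.mpr hBR] at h
      exact hBne h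
    haveI : (B.subgroupOf R).Normal := by
      constructor
      intro n hn g
      rw [Subgroup.mem_subgroupOf] at hn ⊢
      exact hBn g g.2 n hn
    have h1 := Cfsg.Agent.Helper19.normal_inf_center_ne_bot hR (B.subgroupOf R) hN
    have hdvd : p ∣ Nat.card ↥(B.subgroupOf R ⊓ center ↥R) := by
      have hP : IsPGroup p ↥(B.subgroupOf R ⊓ center ↥R) := hR.to_subgroup _
      obtain ⟨k, hk⟩ := IsPGroup.iff_card.mp hP
      rw [hk]
      apply dvd_pow_self
      intro hk0
      rw [hk0, pow_zero] at hk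
      exact h1 (Subgroup.card_eq_one.mp hk)
    obtain ⟨ζ, hζ⟩ := exists_prime_orderOf_dvd_card' p hdvd
    obtain ⟨hζB, hζZ⟩ := Subgroup.mem_inf.mp ζ.2
    set z : MulAut Q := ((ζ : ↥R) : MulAut Q) with hz
    have hzR : z ∈ R := (ζ : ↥R).2
    have hzB : z ∈ B := Subgroup.mem_subgroupOf.mp hζB
    have hzo : orderOf z = p := by
      rw [hz, Subgroup.orderOf_coe, Subgroup.orderOf_coe]; exact hζ
    have hzp : z ^ p = 1 := by rw [← hzo]; exact pow_orderOf_eq_one z
    have hzc : ∀ r ∈ R, r * z = z * r := by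
      intro r hr
      have := Subgroup.mem_center_iff.mp hζZ ⟨r, hr⟩
      exact congrArg Subtype.val this
    have hz1 := key x hxR z hzR hxp hzp (hzc x hxR) (by
      intro a b ha hmem
      apply hxB
      apply mem_of_pow_mem hp hxp ha B
      have : x ^ a = x ^ a * z ^ b * (z ^ b)⁻¹ := by group
      rw [this]
      exact mul_mem hmem (inv_mem (pow_mem hzB b)))
    rw [hz1, orderOf_one] at hzo
    exact hp.one_lt.ne hzo
  refine ⟨hB, ?_⟩
  rw [hB] at hout hxB
  haveI : Nontrivial ↥R := by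
    refine ⟨⟨⟨x, hxR⟩, 1, ?_⟩⟩
    intro h
    apply hxB
    rw [Subgroup.mem_bot]
    exact congrArg Subtype.val h
  have hcn := hR.center_nontrivial
  have hdvd : p ∣ Nat.card ↥(center ↥R) := by
    have hP : IsPGroup p ↥(center ↥R) := hR.to_subgroup _
    obtain ⟨k, hk⟩ := IsPGroup.iff_card.mp hP
    rw [hk]
    apply dvd_pow_self
    intro hk0
    rw [hk0, pow_zero] at hk
    have := Subgroup.card_eq_one.mp hk
    rw [this] at hcn
    exact not_nontrivial _ hcn
  obtain ⟨ζ, hζ⟩ := exists_prime_orderOf_dvd_card' p hdvd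
  set z : MulAut Q := ((ζ : ↥R) : MulAut Q) with hz
  have hzR : z ∈ R := (ζ : ↥R).2
  have hzo : orderOf z = p := by
    rw [hz, Subgroup.orderOf_coe, Subgroup.orderOf_coe]; exact hζ
  have hzp : z ^ p = 1 := by rw [← hzo]; exact pow_orderOf_eq_one z
  have hzne : z ≠ 1 := by
    intro h
    rw [h, orderOf_one] at hzo
    exact hp.one_lt.ne hzo
  have hzc : ∀ r ∈ R, r * z = z * r := by
    intro r hr
    have := Subgroup.mem_center_iff.mp ζ.2 ⟨r, hr⟩
    exact congrArg Subtype.val this
  have hle : R ≤ zpowers z := by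
    intro y hy
    by_contra hyz
    have hy1 : y ∉ (⊥ : Subgroup (MulAut Q)) := by
      intro h
      rw [Subgroup.mem_bot] at h
      exact hyz (h ▸ one_mem _)
    have hyp : y ^ p = 1 := (hout y hy hy1).1
    apply hzne
    apply key y hy z hzR hyp hzp (hzc y hy)
    intro a b ha hmem
    rw [hB, Subgroup.mem_bot] at hmem
    apply hyz
    apply mem_of_pow_mem hp hyp ha (zpowers z)
    have : y ^ a = (z ^ b)⁻¹ := eq_inv_of_mul_eq_one_left hmem
    rw [this]
    exact inv_mem (pow_mem (mem_zpowers z) b)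
  have heq : R = zpowers z := le_antisymm hle (by
    rw [Subgroup.zpowers_le]; exact hzR)
  rw [heq, Nat.card_zpowers, hzo]

end Cfsg.Agent.Helper1.Fpf
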