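import Mathlib

/-!
# A counting lemma (helper1's shared library)

A nontrivial finite group acting on a finite set such that every nonidentity element has exactly
one fixed point has a global fixed point.
-/

set_option autoImplicit false

namespace Cfsg.Agent.Helper1

open MulAction

theorem exists_fixed_point_of_unique_fixed {K X : Type*} [Group K] [Finite K] [MulAction K X]
    [Finite X] (hK : Nontrivial K) (h : ∀ x : K, x ≠ 1 → ∃! ω : X, x • ω = ω) :
    ∃ ω : X, ∀ x : K, x • ω = ω := by
  classical
  by_contra hno
  push Not at hno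
  letI : Fintype K := Fintype.ofFinite K
  letI : Fintype X := Fintype.ofFinite X
  letI : Fintype (Quotient (orbitRel K X)) := Fintype.ofFinite _
  set m := Fintype.card K with hm
  have hm2 : 2 ≤ m := by
    rw [hm]; exact Fintype.one_lt_card
  -- Burnside's lemma
  have hB := sum_card_fixedBy_eq_card_orbits_mul_card_group K X
  have hfix1 : Fintype.card (fixedBy X (1 : K)) = Fintype.card X := by
    apply Fintype.card_congr
    exact (Equiv.subtypeUnivEquiv (fun x => by simp))
  have hfix : ∀ x : K, x ≠ 1 → Fintype.card (fixedBy X x) = 1 := by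
    intro x hx
    obtain ⟨ω, hω, huniq⟩ := h x hx
    rw [Fintype.card_eq_one_iff]
    exact ⟨⟨ω, hω⟩, fun y => Subtype.ext (huniq y.1 y.2)⟩
  have hsum1 : (∑ g : K, Fintype.card (fixedBy X g)) = Fintype.card X + (m - 1) := by
    rw [← Finset.add_sum_erase Finset.univ _ (Finset.mem_univ (1 : K)), hfix1]
    congr 1
    rw [Finset.sum_congr rfl (fun x hx => hfix x (Finset.ne_of_mem_erase hx))]
    simp [Finset.card_erase_of_mem, hm]
  -- class formula
  have hX : Fintype.card X
      = ∑ ω : Quotient (orbitRel K X), (stabilizer K ω.out).index := by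
    rw [Fintype.card_congr (selfEquivSigmaOrbitsQuotientStabilizer K X), Fintype.card_sigma]
    apply Finset.sum_congr rfl
    intro ω _
    rw [Subgroup.index, Nat.card_eq_fintype_card]
  -- the indices
  have hidx_dvd : ∀ ω : Quotient (orbitRel K X), (stabilizer K ω.out).index ∣ m := by
    intro ω
    rw [hm, ← Nat.card_eq_fintype_card]
    exact Subgroup.index_dvd_card _
  have hidx_ge : ∀ ω : Quotient (orbitRel K X), 2 ≤ (stabilizer K ω.out).index := by
    intro ω
    have h0 : (stabilizer K ω.out).index ≠ 0 := Subgroup.index_ne_zero_of_finite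
    have h1 : (stabilizer K ω.out).index ≠ 1 := by
      intro h1
      rw [Subgroup.index_eq_one] at h1
      obtain ⟨x, hx⟩ := hno ω.out
      apply hx
      have : x ∈ stabilizer K ω.out := by rw [h1]; exact Subgroup.mem_top x
      exact this
    omega
  set t : Quotient (orbitRel K X) → ℕ := fun ω => m - (stabilizer K ω.out).index with ht
  have hidx_le : ∀ ω : Quotient (orbitRel K X), (stabilizer K ω.out).index ≤ m :=
    fun ω => Nat.le_of_dvd (by omega) (hidx_dvd ω)
  have ht_le : ∀ ω, t ω ≤ m - 2 := by
    intro ω
    have := hidx_ge ω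
    simp only [ht]
    omega
  have ht_ge : ∀ ω, t ω = 0 ∨ m ≤ 2 * t ω := by
    intro ω
    obtain ⟨s, hs⟩ := hidx_dvd ω
    have hi := hidx_ge ω
    simp only [ht]
    rcases Nat.lt_or_ge s 2 with hs2 | hs2
    · left
      have hs1 : s = 1 := by
        rcases Nat.eq_zero_or_pos s with h0 | h0
        · rw [h0, mul_zero] at hs; omega
        · omega
      rw [hs1, mul_one] at hs
      omega
    · right
      have : 2 * (stabilizer K ω.out).index ≤ m := by
        calc 2 * (stabilizer K ω.out).index = (stabilizer K ω.out).index * 2 := by ring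
          _ ≤ (stabilizer K ω.out).index * s := Nat.mul_le_mul_left _ hs2
          _ = m := hs.symm
      omega
  have htsum : ∑ ω, t ω = m - 1 := by
    have h1 : ∑ ω : Quotient (orbitRel K X), (t ω + (stabilizer K ω.out).index)
        = Fintype.card (Quotient (orbitRel K X)) * m := by
      rw [Finset.sum_congr rfl (fun ω _ => Nat.sub_add_cancel (hidx_le ω))]
      simp
    rw [Finset.sum_add_distrib, ← hX] at h1
    rw [hsum1, ← hm] at hB
    omega
  -- conclude
  have hne : ∑ ω, t ω ≠ 0 := by rw [htsum]; omega
  obtain ⟨a, -, ha⟩ := Finset.exists_ne_zero_of_sum_ne_zero hne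
  have hsplit := Finset.add_sum_erase Finset.univ t (Finset.mem_univ a)
  by_cases hrest : ∑ ω ∈ Finset.univ.erase a, t ω = 0
  · have := ht_le a
    rw [hrest, add_zero] at hsplit
    omega
  · obtain ⟨b, hb, hb0⟩ := Finset.exists_ne_zero_of_sum_ne_zero hrest
    have h1 : t b ≤ ∑ ω ∈ Finset.univ.erase a, t ω :=
      Finset.single_le_sum (fun _ _ => Nat.zero_le _) hb
    have h2 := (ht_ge a).resolve_left ha
    have h3 := (ht_ge b).resolve_left hb0
    omega

end Cfsg.Agent.Helper1
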