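import Mathlib
import Cfsg.Prelude.Def_Solvable
import Cfsg.Agent.Lib.Helper1.Complement
import Cfsg.Agent.Lib.Helper1.UniqueFixed

/-!
# Elementary facts on Frobenius complements (helper1's shared library)
-/

set_option autoImplicit false

namespace Cfsg.Agent.Helper1

open Cfsg
open scoped Pointwise

variable {G : Type*} [Group G]

/-- The elementwise Frobenius property. -/
theorem frobenius_mem_of_conj_mem' {H : Subgroup G} (hH : Cfsg.IsFrobeniusComplement H) {x y : G}
    (hy : y ∈ H) (hy1 : y ≠ 1) (hxy : x⁻¹ * y * x ∈ H) : x ∈ H := by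
  by_contra hx
  have h1 := hH.2.2 x hx
  have h2 : y ∈ H ⊓ MulAut.conj x • H := Subgroup.mem_inf.mpr ⟨hy, mem_conj_smul_iff.mpr hxy⟩
  rw [h1, Subgroup.mem_bot] at h2
  exact hy1 h2

/-- A nonidentity element of a conjugate of a Frobenius complement `H` fixes exactly one point of
`G ⧸ H`. -/
theorem frobenius_existsUnique_fixed {H : Subgroup G} (hH : Cfsg.IsFrobeniusComplement H) {x : G}
    (hx1 : x ≠ 1) (hx : ∃ g : G, x ∈ MulAut.conj g • H) : ∃! ω : G ⧸ H, x • ω = ω := by
  obtain ⟨g, hg⟩ := hx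
  rw [mem_conj_smul_iff] at hg
  refine ⟨(g : G ⧸ H), ?_, ?_⟩
  · show ((x * g : G) : G ⧸ H) = g
    rw [QuotientGroup.eq]
    have : (x * g)⁻¹ * g = (g⁻¹ * x * g)⁻¹ := by group
    rw [this]; exact H.inv_mem hg
  · intro ω hω
    induction ω using QuotientGroup.induction_on with
    | H g' =>
      have h1 : ((x * g' : G) : G ⧸ H) = g' := hω
      rw [QuotientGroup.eq] at h1
      rw [QuotientGroup.eq]
      have hy1 : g⁻¹ * x * g ≠ 1 := by
        intro h
        apply hx1
        calc x = g * (g⁻¹ * x * g) * g⁻¹ := by group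
          _ = 1 := by rw [h]; group
      have h2 : (g⁻¹ * g')⁻¹ * (g⁻¹ * x * g) * (g⁻¹ * g') ∈ H := by
        have : (g⁻¹ * g')⁻¹ * (g⁻¹ * x * g) * (g⁻¹ * g') = ((x * g')⁻¹ * g')⁻¹ := by group
        rw [this]; exact H.inv_mem h1
      have h3 := frobenius_mem_of_conj_mem' hH hg hy1 h2
      have : g'⁻¹ * g = (g⁻¹ * g')⁻¹ := by group
      rw [this]; exact H.inv_mem h3

/-- A normal subgroup of a Frobenius group either lies in the kernel or contains it. -/
theorem frobenius_normal_le_or_le [Finite G] {H N : Subgroup G}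
    (hH : Cfsg.IsFrobeniusComplement H) (hN : N.Normal) (hNH : N ⊓ H = ⊥)
    (hcover : ∀ x : G, x ∉ N → ∃ g : G, x ∈ MulAut.conj g • H)
    (M : Subgroup G) (hM : M.Normal) : M ≤ N ∨ N ≤ M := by
  by_cases hMN : M ≤ N
  · exact Or.inl hMN
  · right
    obtain ⟨m, hmM, hmN⟩ := SetLike.not_le_iff_exists.mp hMN
    obtain ⟨g, hg⟩ := hcover m hmN
    rw [mem_conj_smul_iff] at hg
    set h := g⁻¹ * m * g with hh
    have hhM : h ∈ M := by
      have := hM.conj_mem m hmM g⁻¹
      simpa [hh] using this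
    have hh1 : h ≠ 1 := by
      intro h1
      apply hmN
      have : m = g * h * g⁻¹ := by rw [hh]; group
      rw [this, h1]; simp
    let f : N → (N ⊓ M : Subgroup G) := fun n => ⟨(n : G)⁻¹ * h⁻¹ * n * h, by
      refine Subgroup.mem_inf.mpr ⟨?_, ?_⟩
      · have h1 : h⁻¹ * (n : G) * h ∈ N := by
          have := hN.conj_mem n n.2 h⁻¹
          simpa using this
        have : (n : G)⁻¹ * h⁻¹ * n * h = (n : G)⁻¹ * (h⁻¹ * n * h) := by group
        rw [this]
        exact N.mul_mem (N.inv_mem n.2) h1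
      · have h1 : (n : G)⁻¹ * h⁻¹ * n ∈ M := by
          have := hM.conj_mem h⁻¹ (M.inv_mem hhM) (n : G)⁻¹
          simpa using this
        exact M.mul_mem h1 hhM⟩
    have hf : Function.Injective f := by
      intro n n' hnn
      have h1 : (n : G)⁻¹ * h⁻¹ * n * h = (n' : G)⁻¹ * h⁻¹ * n' * h :=
        congrArg Subtype.val hnn
      have h2 : (n : G)⁻¹ * h⁻¹ * n = (n' : G)⁻¹ * h⁻¹ * n' := mul_right_cancel h1
      set c : G := (n : G) * (n' : G)⁻¹ with hc
      have hcN : c ∈ N := N.mul_mem n.2 (N.inv_mem n'.2)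
      have h3 : c⁻¹ * h * c = h := by
        have e1 : (n : G)⁻¹ * h * n = (n' : G)⁻¹ * h * n' := by
          have := congrArg (·⁻¹) h2
          simpa [mul_assoc] using this
        rw [hc]
        calc ((n : G) * (n' : G)⁻¹)⁻¹ * h * ((n : G) * (n' : G)⁻¹)
            = (n' : G) * ((n : G)⁻¹ * h * n) * (n' : G)⁻¹ := by group
          _ = (n' : G) * ((n' : G)⁻¹ * h * n') * (n' : G)⁻¹ := by rw [e1]
          _ = h := by group
      have hcH : c ∈ H := frobenius_mem_of_conj_mem' hH hg hh1 (by rw [h3]; exact hg)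
      have hc1 : c = 1 := by
        have : c ∈ N ⊓ H := Subgroup.mem_inf.mpr ⟨hcN, hcH⟩
        rwa [hNH, Subgroup.mem_bot] at this
      apply Subtype.ext
      have : (n : G) = c * n' := by rw [hc]; group
      rw [this, hc1, one_mul]
    have hcard : Nat.card N ≤ Nat.card (N ⊓ M : Subgroup G) := Nat.card_le_card_of_injective f hf
    have : N ⊓ M = N := Subgroup.eq_of_le_of_card_ge inf_le_left hcard
    exact inf_eq_left.mp this

end Cfsg.Agent.Helper1
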