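import Mathlib
import Cfsg.Agent.S0041
import Cfsg.Agent.S0144
import Cfsg.Agent.Lib.Helper1.CoprimeSylow
import Cfsg.Agent.Lib.Helper1.CharacteristicMap
import Cfsg.Agent.Lib.Helper1.Permutable
import Cfsg.Agent.Lib.Helper1.CommutatorBasic
import Cfsg.Agent.Lib.Helper1.FpfAction

/-!
# A Frobenius complement is not a Frobenius group (helper1's shared library)

Internal form: `H` acts fixed-point-freely on a nontrivial normal subgroup `N`; then no element of
prime order of `H` can act fixed-point-freely on a nontrivial subgroup `K ≤ H` which it normalizes.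
-/

set_option autoImplicit false

namespace Cfsg.Agent.Helper1

open Subgroup
open scoped Pointwise

variable {G : Type*} [Group G] [Finite G]

/-- a central element of order `p` in a nontrivial `p`-subgroup -/
theorem exists_central_of_order {p : ℕ} [hp : Fact p.Prime] {P : Subgroup G} (hP : IsPGroup p P)
    (hP1 : P ≠ ⊥) : ∃ z ∈ P, orderOf z = p ∧ ∀ y ∈ P, z * y = y * z := by
  haveI : Nontrivial P := (Subgroup.nontrivial_iff_ne_bot P).mpr hP1
  haveI hcn : Nontrivial (Subgroup.center P) := hP.center_nontrivial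
  have hdvd : p ∣ Nat.card (Subgroup.center P) := by
    obtain ⟨k, hk⟩ := (hP.to_subgroup (Subgroup.center P)).exists_card_eq
    rw [hk]
    have hk0 : k ≠ 0 := by
      rintro rfl
      rw [pow_zero] at hk
      have := Finite.one_lt_card_iff_nontrivial.mpr hcn
      omega
    exact dvd_pow_self p hk0
  obtain ⟨z', hz'⟩ := exists_prime_orderOf_dvd_card' p hdvd
  refine ⟨((z' : P) : G), (z' : P).2, ?_, ?_⟩
  · rw [Subgroup.orderOf_coe, Subgroup.orderOf_coe, hz']
  · intro y hy
    have := (Subgroup.mem_center_iff.mp z'.2 ⟨y, hy⟩).symm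
    exact congrArg Subtype.val this

/-- conjugation by powers -/
theorem conj_pow_mem_of_conj_mem {x : G} {Z : Subgroup G} (h : ∀ y ∈ Z, x * y * x⁻¹ ∈ Z) :
    Subgroup.zpowers x ≤ normalizer (Z : Set G) := by
  apply le_normalizer_of_forall_conj_mem
  intro g hg
  rw [← mem_powers_iff_mem_zpowers] at hg
  obtain ⟨n, rfl⟩ := hg
  induction n with
  | zero => intro y hy; simpa using hy
  | succ n ih =>
    intro y hy
    have h1 := h _ (ih y hy)
    have : x ^ (n + 1) * y * (x ^ (n + 1))⁻¹ = x * (x ^ n * y * (x ^ n)⁻¹) * x⁻¹ := by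
      rw [pow_succ']; group
    rw [this]; exact h1

/-- In a group `H` acting fixed-point-freely on a nontrivial normal subgroup `N`, an element `x` of
prime order `q` normalizing the group generated by an element `z` of prime order `p ≠ q` commutes
with `z` (subgroups of order `pq` of Frobenius complements are cyclic). -/
theorem commute_of_fpf_of_conj_mem_zpowers {N H : Subgroup G} [hNn : N.Normal] (hN : N ≠ ⊥)
    (hfpf : ∀ h ∈ H, h ≠ 1 → N ⊓ centralizer {h} = ⊥) {p q : ℕ} (hp : p.Prime) (hq : q.Prime)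
    (hpq : p ≠ q) {z x : G} (hzH : z ∈ H) (hxH : x ∈ H) (hz : orderOf z = p)
    (hx : orderOf x = q) (hxzZ : x * z * x⁻¹ ∈ zpowers z) : x * z = z * x := by
  by_contra hne
  haveI : Fact p.Prime := ⟨hp⟩
  haveI : Fact q.Prime := ⟨hq⟩
  have hx1 : x ≠ 1 := by
    intro h; rw [h, orderOf_one] at hx; exact hq.one_lt.ne hx
  have hz1 : z ≠ 1 := by
    intro h; rw [h, orderOf_one] at hz; exact hp.one_lt.ne hz
  set Z₀ := zpowers z with hZ₀
  set X := zpowers x with hXdef
  have hXZ : X ≤ normalizer (Z₀ : Set G) := by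
    apply conj_pow_mem_of_conj_mem
    intro y hy
    obtain ⟨k, rfl⟩ := mem_zpowers_iff.mp hy
    have : x * z ^ k * x⁻¹ = (x * z * x⁻¹) ^ k := by
      rw [conj_zpow]
    rw [this]
    exact Z₀.zpow_mem hxzZ k
  have hcomm : (Z₀ : Set G) * (X : Set G) = (X : Set G) * (Z₀ : Set G) :=
    (set_mul_normalizer_comm (X : Set G) Z₀ hXZ).symm
  have hZ₀card : Nat.card Z₀ = p := by rw [Nat.card_zpowers, hz]
  have hXcard : Nat.card X = q := by rw [Nat.card_zpowers, hx]
  have hdisj : Z₀ ⊓ X = ⊥ := by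
    apply disjoint_iff.mp
    apply Subgroup.disjoint_of_coprime_natCard
    rw [hZ₀card, hXcard]
    exact (Nat.coprime_primes hp hq).mpr hpq
  set B := Z₀ ⊔ X with hB
  have hBcard : Nat.card B = p * q := by
    rw [card_sup_of_mul_comm hcomm hdisj, hZ₀card, hXcard]
  have hzB : z ∈ B := mem_sup_left (mem_zpowers z)
  have hxB : x ∈ B := mem_sup_right (mem_zpowers x)
  have hnc : ¬ ∀ a b : B, a * b = b * a := by
    intro h
    exact hne (congrArg Subtype.val (h ⟨x, hxB⟩ ⟨z, hzB⟩))
  have hBH : B ≤ H := by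
    apply sup_le
    · rw [hZ₀, zpowers_le]; exact hzH
    · rw [hXdef, zpowers_le]; exact hxH
  have hBsolv : Group.IsSolvable B :=
    Cfsg.Agent.S0144.result p q 1 1 hp hq (by rw [hBcard, pow_one, pow_one])
  have hNp : (Nat.card N).Coprime p := coprime_card_of_fpf hz (hfpf z hzH hz1)
  have hNq : (Nat.card N).Coprime q := coprime_card_of_fpf hx (hfpf x hxH hx1)
  have hcop : (Nat.card B).Coprime (Nat.card N) := by
    rw [hBcard]
    exact (Nat.Coprime.mul_right hNp hNq).symm
  have hNcard : Nat.card N ≠ 1 := fun h => hN ((Subgroup.card_eq_one).mp h)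
  obtain ⟨r, hr, hrN⟩ := Nat.exists_prime_and_dvd hNcard
  haveI : Fact r.Prime := ⟨hr⟩
  have hBN : B ≤ normalizer (N : Set G) := by rw [normalizer_eq_top]; exact le_top
  obtain ⟨R, hBR⟩ := exists_invariant_sylow (p := r) (K := N) B hBN hcop (Or.inl hBsolv)
  set R' : Subgroup G := (R : Subgroup N).map N.subtype with hR'
  have hR'N : R' ≤ N := by
    rintro _ ⟨y, -, rfl⟩; exact y.2
  have hR'p : IsPGroup r R' := R.2.map _
  have hR'card : Nat.card R' = r ^ (Nat.card N).factorization r := by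
    rw [hR', ← R.card_eq_multiplicity]
    exact (Nat.card_congr ((R : Subgroup N).equivMapOfInjective _ N.subtype_injective).toEquiv).symm
  have hR'1 : R' ≠ ⊥ := by
    intro h
    rw [h, Subgroup.card_bot] at hR'card
    have hpos : 0 < (Nat.card N).factorization r :=
      hr.factorization_pos_of_dvd Nat.card_pos.ne' hrN
    have : 1 < r ^ (Nat.card N).factorization r := Nat.one_lt_pow hpos.ne' hr.one_lt
    omega
  set W : Subgroup G := (Subgroup.center R').map R'.subtype with hW
  have hWR' : W ≤ R' := by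
    rintro _ ⟨y, -, rfl⟩; exact y.2
  haveI hWcomm : IsMulCommutative W := by
    refine ⟨⟨fun a b => ?_⟩⟩
    obtain ⟨a', ha', haeq⟩ := a.2
    obtain ⟨b', hb', hbeq⟩ := b.2
    apply Subtype.ext
    show (a : G) * (b : G) = (b : G) * (a : G)
    rw [← haeq, ← hbeq]
    have := Subgroup.mem_center_iff.mp ha' b'
    exact (congrArg Subtype.val this).symm
  have hW1 : W ≠ ⊥ := by
    haveI : Nontrivial R' := (Subgroup.nontrivial_iff_ne_bot R').mpr hR'1
    haveI hcn : Nontrivial (Subgroup.center R') := hR'p.center_nontrivial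
    obtain ⟨c, hc⟩ := exists_ne (1 : Subgroup.center R')
    intro h
    have : ((c : R') : G) ∈ W := ⟨(c : R'), c.2, rfl⟩
    rw [h, mem_bot] at this
    apply hc
    exact Subtype.ext (Subtype.ext this)
  have hBW : B ≤ normalizer (W : Set G) :=
    hBR.trans (normalizer_le_normalizer_map_of_characteristic R' (Subgroup.center R'))
  have hfpfW : ∀ b ∈ B, b ≠ 1 → W ⊓ centralizer {b} = ⊥ := by
    intro b hb hb1
    rw [eq_bot_iff, ← hfpf b (hBH hb) hb1]
    exact inf_le_inf_right _ (hWR'.trans hR'N)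
  rcases lt_or_gt_of_ne hpq with hlt | hlt
  · exact Cfsg.Agent.S0041.false_of_nonabelian_pq B W hW1 hBW hfpfW hp hq hlt hBcard hnc
  · exact Cfsg.Agent.S0041.false_of_nonabelian_pq B W hW1 hBW hfpfW hq hp hlt
      (by rw [hBcard, mul_comm]) hnc

/-- **A Frobenius complement is not a Frobenius group.** -/
theorem false_of_fpf_on_fpf {N H K : Subgroup G} [hNn : N.Normal] (hN : N ≠ ⊥)
    (hfpf : ∀ h ∈ H, h ≠ 1 → N ⊓ centralizer {h} = ⊥)
    (hKH : K ≤ H) (hK : K ≠ ⊥) {q : ℕ} [hq : Fact q.Prime] {x : G} (hxH : x ∈ H)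
    (hx : orderOf x = q) (hxK : x ∈ normalizer (K : Set G))
    (hxfpf : K ⊓ centralizer {x} = ⊥) : False := by
  have hx1 : x ≠ 1 := by
    intro h; rw [h, orderOf_one] at hx; exact hq.out.one_lt.ne hx
  have hKq : (Nat.card K).Coprime q := coprime_card_of_fpf' hxK hx hxfpf
  have hKcard : Nat.card K ≠ 1 := by
    intro h
    exact hK ((Subgroup.card_eq_one).mp h)
  obtain ⟨p, hp, hpK⟩ := Nat.exists_prime_and_dvd hKcard
  haveI : Fact p.Prime := ⟨hp⟩
  have hpq : p ≠ q := by
    rintro rfl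
    exact (Nat.Prime.coprime_iff_not_dvd hp).mp hKq.symm hpK
  have hX : IsPGroup q (zpowers x) :=
    IsPGroup.of_card (n := 1) (by rw [pow_one, Nat.card_zpowers, hx])
  obtain ⟨P, hPK, hPp, hPcard, hXP⟩ :=
    Cfsg.Agent.Helper15.exists_invariant_sylow_of_coprime (p := q) p hX hKq
      ((zpowers_le).mpr hxK)
  have hP1 : P ≠ ⊥ := by
    intro h
    rw [h, Subgroup.card_bot] at hPcard
    have hpos : 0 < (Nat.card K).factorization p :=
      hp.factorization_pos_of_dvd Nat.card_pos.ne' hpK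
    have : 1 < p ^ (Nat.card K).factorization p := Nat.one_lt_pow hpos.ne' hp.one_lt
    omega
  obtain ⟨z, hzP, hz, hzc⟩ := exists_central_of_order hPp hP1
  have hz1 : z ≠ 1 := by
    intro h; rw [h, orderOf_one] at hz; exact hp.one_lt.ne hz
  have hxzP : x * z * x⁻¹ ∈ P := (mem_normalizer_iff.mp (hXP (mem_zpowers x)) z).mp hzP
  have hxz_ord : orderOf (x * z * x⁻¹) = p := by
    have h1 := orderOf_injective (MulAut.conj x).toMonoidHom (MulAut.conj x).injective z
    simp only [MulEquiv.coe_toMonoidHom, MulAut.conj_apply] at h1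
    rw [h1, hz]
  have hxzZ : x * z * x⁻¹ ∈ zpowers z :=
    mem_zpowers_of_fpf hN hfpf P (hPK.trans hKH) hPp hzP hz hzc hxzP hxz_ord
  have hcomm := commute_of_fpf_of_conj_mem_zpowers hN hfpf hp hq.out hpq (hKH (hPK hzP)) hxH hz hx
    hxzZ
  have h1 : z ∈ K ⊓ centralizer {x} := by
    refine mem_inf.mpr ⟨hPK hzP, ?_⟩
    rw [mem_centralizer_iff]
    intro y hy
    rw [Set.mem_singleton_iff] at hy
    subst hy
    exact hcomm
  rw [hxfpf, mem_bot] at h1
  exact hz1 h1

end Cfsg.Agent.Helper1
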