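import Mathlib
import Cfsg.Prelude.Def_FusionComponents
import Cfsg.Agent.Lib.Helper1.FNormal

/-!
# Factor systems of the fusion system of a group

For a strongly closed subgroup `R` of `P`, a factor system of `F_P(G)` modulo `R` is the fusion
system of `N_G(R)/R` on `P/R`; subgroups normal in the latter (in the sense of control of strong
fusion) give subgroups normal in the factor system.
-/

set_option autoImplicit false
set_option linter.style.haveILetI false

namespace Cfsg.Agent.Helper1.DF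

open Cfsg Subgroup FusionSystem
open Cfsg.Agent.Helper10 (rcs rcg mem_rcs mem_rcg coe_rcg mem_normalizer_iff_rcg)

section

variable {G : Type*} [Group G]

theorem mem_preimageAlong {S : Subgroup G} {Ω' : Type*} [Group Ω'] (θ : S →* Ω')
    (P' : Subgroup Ω') {a : G} : a ∈ preimageAlong θ P' ↔ ∃ h : a ∈ S, θ ⟨a, h⟩ ∈ P' := by
  constructor
  · rintro ⟨x, hx, rfl⟩
    exact ⟨x.2, hx⟩
  · rintro ⟨h, hx⟩
    exact ⟨⟨a, h⟩, hx, rfl⟩

/-- the natural map `P/R → N_G(R)/R` -/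
def jmap (P R : Subgroup G) (hPN : P ≤ normalizer (R : Set G)) [(R.subgroupOf P).Normal] :
    ↥P ⧸ R.subgroupOf P →*
      ↥(normalizer (R : Set G)) ⧸ R.subgroupOf (normalizer (R : Set G)) :=
  QuotientGroup.map _ _ (Subgroup.inclusion hPN) (fun _ hx => hx)

theorem jmap_mk (P R : Subgroup G) (hPN : P ≤ normalizer (R : Set G)) [(R.subgroupOf P).Normal]
    (x : ↥P) : jmap P R hPN (QuotientGroup.mk' _ x) =
      QuotientGroup.mk' _ (Subgroup.inclusion hPN x) := rfl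

theorem jmap_injective (P R : Subgroup G) (hPN : P ≤ normalizer (R : Set G))
    [(R.subgroupOf P).Normal] : Function.Injective (jmap P R hPN) := by
  rw [injective_iff_map_eq_one]
  intro y hy
  obtain ⟨x, rfl⟩ := QuotientGroup.mk'_surjective _ y
  rw [jmap_mk] at hy
  have h1 : Subgroup.inclusion hPN x ∈ R.subgroupOf (normalizer (R : Set G)) :=
    (QuotientGroup.eq_one_iff _).mp hy
  exact (QuotientGroup.eq_one_iff _).mpr h1

theorem jmap_range (P R : Subgroup G) (hPN : P ≤ normalizer (R : Set G))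
    [(R.subgroupOf P).Normal] : (jmap P R hPN).range =
      (P.subgroupOf (normalizer (R : Set G))).map (QuotientGroup.mk' _) := by
  ext y
  constructor
  · rintro ⟨z, rfl⟩
    obtain ⟨x, rfl⟩ := QuotientGroup.mk'_surjective _ z
    rw [jmap_mk]
    exact ⟨_, mem_subgroupOf.mpr x.2, rfl⟩
  · rintro ⟨x, hx, rfl⟩
    exact ⟨QuotientGroup.mk' _ ⟨(x : G), mem_subgroupOf.mp hx⟩, rfl⟩

end

section main

variable {G : Type*} [Group G] [Finite G]

theorem mem_normalizer_of_conj_le {R : Subgroup G} {g : G} (h : ∀ x ∈ R, g * x * g⁻¹ ∈ R) :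
    g ∈ normalizer (R : Set G) := by
  have h1 : g⁻¹ ∈ normalizer (R : Set G) := by
    rw [mem_normalizer_iff_rcg]
    apply Cfsg.Agent.Helper10.rcg_eq_of_le_of_finite
    intro z hz
    rw [mem_rcg] at hz
    have := h _ hz
    have e : g * (g⁻¹ * z * g⁻¹⁻¹) * g⁻¹ = z := by group
    rwa [e] at this
  have := inv_mem h1
  rwa [inv_inv] at this

/-- a subgroup of `P/R` normal in the fusion system of `N_G(R)/R` is normal in every factor
system of `F_P(G)` modulo the strongly closed subgroup `R` -/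
theorem isNormal_comap (P R : Subgroup G) (hsc : IsStronglyClosed R P)
    [hRn : (R.subgroupOf P).Normal]
    (E : FusionSystem (⊤ : Subgroup (↥P ⧸ R.subgroupOf P)))
    (hE : (groupFusionSystem P).IsFactorSystem R (QuotientGroup.mk' (R.subgroupOf P)) E)
    (hPN : P ≤ normalizer (R : Set G))
    (Qb : Subgroup (↥(normalizer (R : Set G)) ⧸ R.subgroupOf (normalizer (R : Set G))))
    (hQbP : Qb ≤ (P.subgroupOf (normalizer (R : Set G))).map (QuotientGroup.mk' _))
    (hQb : CtlIn ⊤ Qb ((P.subgroupOf (normalizer (R : Set G))).map (QuotientGroup.mk' _))) :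
    E.IsNormal (Qb.comap (jmap P R hPN)) := by
  obtain ⟨hRP, hsc⟩ := hsc
  set N := normalizer (R : Set G) with hN
  set R₀ := R.subgroupOf P with hR₀
  set R₁ := R.subgroupOf N with hR₁
  set θ := QuotientGroup.mk' R₀ with hθ
  set π := QuotientGroup.mk' R₁ with hπ
  set j := jmap P R hPN with hj
  have hθs : Function.Surjective θ := QuotientGroup.mk'_surjective R₀
  have hπs : Function.Surjective π := QuotientGroup.mk'_surjective R₁
  have hjθ : ∀ x : ↥P, j (θ x) = π (Subgroup.inclusion hPN x) := fun x => rfl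
  have hjinj : Function.Injective j := jmap_injective P R hPN
  set Pb := (P.subgroupOf N).map π with hPb
  have hjrange : j.range = Pb := jmap_range P R hPN
  have hjPb : ∀ y, j y ∈ Pb := fun y => hjrange ▸ ⟨y, rfl⟩
  -- elements of `N` mapping into `Pb` lie in `P`
  have hPbP : ∀ y : ↥N, π y ∈ Pb → (y : G) ∈ P := by
    intro y hy
    obtain ⟨z, hz, hzy⟩ := hy
    have h1 : z⁻¹ * y ∈ R₁ := by
      apply (QuotientGroup.eq_one_iff _).mp
      show π (z⁻¹ * y) = 1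
      rw [map_mul, map_inv, hzy, inv_mul_cancel]
    have h2 : ((z⁻¹ * y : ↥N) : G) ∈ P := hRP (mem_subgroupOf.mp h1)
    have h3 : (z : G) ∈ P := mem_subgroupOf.mp hz
    have e : (y : G) = (z : G) * ((z⁻¹ * y : ↥N) : G) := by
      show (y : G) = (z : G) * ((z : G)⁻¹ * (y : G))
      group
    rw [e]; exact P.mul_mem h3 h2
  refine ⟨le_top, ?_⟩
  intro Pb' φb hφb
  have hφb' := (hE.2.2.2 Pb' φb).mp hφb
  set A := preimageAlong θ Pb' with hAdef
  obtain ⟨-, φ, hφ, hind⟩ := hφb'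
  obtain ⟨hAP, hφP, g, hg⟩ := hφ
  obtain ⟨hA, hφ', hP', hind⟩ := hind
  have hRA : R ≤ A := by
    intro r hr
    rw [hAdef, mem_preimageAlong]
    refine ⟨hRP hr, ?_⟩
    have : θ ⟨r, hRP hr⟩ = 1 := (QuotientGroup.eq_one_iff _).mpr (mem_subgroupOf.mpr hr)
    rw [this]; exact one_mem _
  have hgN : g ∈ N := by
    apply mem_normalizer_of_conj_le
    intro r hr
    apply hsc r hr
    have := hφP ⟨r, hRA hr⟩
    rwa [hg] at this
  set gb := π ⟨g, hgN⟩ with hgb
  -- conjugation by `gb` on `j '' Pb'`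
  have hgconj : ∀ y ∈ Pb', ∃ (a : ↥P) (ha : (a : G) ∈ A), θ a = y ∧
      ∃ hga : g * (a : G) * g⁻¹ ∈ P, gb * j y * gb⁻¹ = j (θ ⟨g * (a : G) * g⁻¹, hga⟩) ∧
        φ ⟨(a : G), ha⟩ = g * (a : G) * g⁻¹ := by
    intro y hy
    obtain ⟨a, rfl⟩ := hθs y
    have ha : (a : G) ∈ A := by
      rw [hAdef, mem_preimageAlong]; exact ⟨a.2, hy⟩
    have hga : g * (a : G) * g⁻¹ ∈ P := by
      have := hφP ⟨(a : G), ha⟩
      rwa [hg] at this
    refine ⟨a, ha, rfl, hga, ?_, hg _⟩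
    rw [hjθ, hjθ, hgb, ← map_inv, ← map_mul, ← map_mul]
    congr 1
  have h1 : j '' (Pb' : Set (↥P ⧸ R₀)) ⊆ (Pb : Set _) := by
    rintro _ ⟨y, -, rfl⟩
    exact hjPb y
  have h2 : rcs gb⁻¹ (j '' (Pb' : Set (↥P ⧸ R₀))) ⊆ (Pb : Set _) := by
    rintro _ ⟨_, ⟨y, hy, rfl⟩, rfl⟩
    obtain ⟨a, ha, -, hga, he, -⟩ := hgconj y hy
    show gb⁻¹⁻¹ * j y * gb⁻¹ ∈ Pb
    rw [inv_inv, he]
    exact hjPb _
  obtain ⟨nb, ⟨-, hnb⟩, hnbA⟩ := hQb _ gb⁻¹ (mem_top _) h1 h2
  set mb := nb⁻¹ with hmb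
  have hmbN : mb ∈ normalizer (Qb : Set _) := inv_mem hnb
  have hmconj : ∀ y ∈ Pb', mb * j y * mb⁻¹ = gb * j y * gb⁻¹ := by
    intro y hy
    have := hnbA (j y) ⟨y, hy, rfl⟩
    rw [inv_inv] at this
    rw [hmb, inv_inv]
    exact this
  obtain ⟨m', hm'⟩ := hπs mb
  set Q' := Qb.comap j with hQ'
  set Bb := Pb' ⊔ Q' with hBb
  have hBbconj : ∀ b ∈ Bb, mb * j b * mb⁻¹ ∈ Pb := by
    have : Bb ≤ ((Pb.comap (MulAut.conj mb).toMonoidHom).comap j) := by
      apply sup_le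
      · intro y hy
        show mb * j y * mb⁻¹ ∈ Pb
        rw [hmconj y hy]
        obtain ⟨a, ha, -, hga, he, -⟩ := hgconj y hy
        rw [he]
        exact hjPb _
      · intro y hy
        show mb * j y * mb⁻¹ ∈ Pb
        exact hQbP ((mem_normalizer_iff.mp hmbN (j y)).mp hy)
    exact fun b hb => this hb
  let c : ↥Bb →* _ := (MulAut.conj mb).toMonoidHom.comp (j.comp Bb.subtype)
  have hc : ∀ b, c b ∈ j.range := by
    intro b
    rw [hjrange]
    exact hBbconj b b.2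
  let ψb : ↥Bb →* (↥P ⧸ R₀) :=
    (MonoidHom.ofInjective hjinj).symm.toMonoidHom.comp (c.codRestrict j.range hc)
  have hψb : ∀ b : ↥Bb, j (ψb b) = mb * j b * mb⁻¹ := by
    intro b
    show j ((MonoidHom.ofInjective hjinj).symm (c.codRestrict j.range hc b)) = _
    rw [MonoidHom.apply_ofInjective_symm]
    rfl
  set B := preimageAlong θ Bb with hBdef
  have hBP : B ≤ P := by
    intro x hx
    rw [hBdef, mem_preimageAlong] at hx
    exact hx.1
  have hB' : ∀ x : ↥B, θ ⟨x, hBP x.2⟩ ∈ Bb := by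
    intro x
    obtain ⟨_, hx⟩ := (mem_preimageAlong θ Bb).mp x.2
    exact hx
  have hmconjB : ∀ x : ↥B, mb * j (θ ⟨x, hBP x.2⟩) * mb⁻¹ =
      π (⟨(m' : G) * (x : G) * (m' : G)⁻¹,
        N.mul_mem (N.mul_mem m'.2 (hPN (hBP x.2))) (N.inv_mem m'.2)⟩ : ↥N) := by
    intro x
    rw [hjθ, ← hm', ← map_inv, ← map_mul, ← map_mul]
    congr 1
  have hψP : ∀ x : ↥B, conjHom B (m' : G) x ∈ P := by
    intro x
    show (m' : G) * (x : G) * (m' : G)⁻¹ ∈ P
    have h3 := hBbconj _ (hB' x)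
    rw [hmconjB x] at h3
    exact hPbP _ h3
  refine ⟨ψb, ?_, ?_, ?_⟩
  · apply (hE.2.2.2 Bb ψb).mpr
    refine ⟨le_top, conjHom B (m' : G), ⟨hBP, hψP, (m' : G), fun x => rfl⟩, hBP, hψP, hB', ?_⟩
    intro x
    apply hjinj
    rw [hψb, hjθ]
    exact hmconjB x
  · intro x
    apply hjinj
    rw [hψb]
    show mb * j (x : ↥P ⧸ R₀) * mb⁻¹ = _
    rw [hmconj _ x.2]
    obtain ⟨a, ha, hax, hga, he, hφa⟩ := hgconj _ x.2
    rw [he]
    congr 1
    have hx : x = ⟨θ ⟨(a : G), hA ha⟩, hP' ⟨(a : G), ha⟩⟩ := Subtype.ext hax.symm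
    rw [hx, hind ⟨(a : G), ha⟩]
    congr 1
    exact Subtype.ext hφa.symm
  · ext y
    constructor
    · rintro ⟨b, hb, rfl⟩
      have hb' : (b : ↥P ⧸ R₀) ∈ Q' := mem_subgroupOf.mp hb
      show j (ψb b) ∈ Qb
      rw [hψb]
      exact (mem_normalizer_iff.mp hmbN _).mp hb'
    · intro hy
      have hy' : j y ∈ Qb := hy
      have h3 : mb⁻¹ * j y * mb⁻¹⁻¹ ∈ Qb := (mem_normalizer_iff.mp (inv_mem hmbN) _).mp hy'
      have h4 : mb⁻¹ * j y * mb⁻¹⁻¹ ∈ j.range := by rw [hjrange]; exact hQbP h3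
      obtain ⟨z, hz⟩ := h4
      have hzQ : z ∈ Q' := by
        show j z ∈ Qb
        rw [hz]; exact h3
      have hzB : z ∈ Bb := (le_sup_right : Q' ≤ Bb) hzQ
      refine ⟨⟨z, hzB⟩, mem_subgroupOf.mpr hzQ, ?_⟩
      apply hjinj
      rw [hψb]
      show mb * j z * mb⁻¹ = j y
      rw [hz]
      group

end main

end Cfsg.Agent.Helper1.DF
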