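import Mathlib

/-!
# Fixed-point-free automorphisms of order dividing four: linear lemmas (helper1)

`V` is a finite abelian group, `s ∈ Aut V` with `s ^ 4 = 1` fixing only `1`.  Subgroups `X` of
`Aut V` normalised by `s` on which conjugation by `s` has no nontrivial fixed points.
-/

set_option autoImplicit false

namespace Cfsg.Agent.Helper1.GH4

open Subgroup

section General

variable {A : Type*} [Group A] {F : Type*} [FunLike F A A] [MonoidHomClass F A A]

/-- For a hom `g` stabilising a finite subgroup `X` without nontrivial fixed points on it, the map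
`a ↦ a⁻¹ g(a)` is a bijection of `X`. -/
theorem bij_comm (X : Subgroup A) [Finite X] (g : F)
    (hinv : ∀ x ∈ X, g x ∈ X) (hfpf : ∀ x ∈ X, g x = x → x = 1) :
    Function.Bijective
      (fun a : X => (⟨(a : A)⁻¹ * g a, X.mul_mem (X.inv_mem a.2) (hinv a a.2)⟩ : X)) := by
  apply Finite.injective_iff_bijective.mp
  intro a b hab
  have h1 : (a : A)⁻¹ * g a = (b : A)⁻¹ * g b := congrArg Subtype.val hab
  have h2 : g ((b : A) * (a : A)⁻¹) = (b : A) * (a : A)⁻¹ := by
    rw [map_mul, map_inv]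
    have e : g (a : A) = (a : A) * ((b : A)⁻¹ * g b) := by rw [← h1]; group
    rw [e]; group
  have h3 := hfpf _ (X.mul_mem b.2 (X.inv_mem a.2)) h2
  apply Subtype.ext
  exact (mul_inv_eq_one.mp h3).symm

theorem exists_comm (X : Subgroup A) [Finite X] (g : F)
    (hinv : ∀ x ∈ X, g x ∈ X) (hfpf : ∀ x ∈ X, g x = x → x = 1) (y : A) (hy : y ∈ X) :
    ∃ a ∈ X, y = a⁻¹ * g a := by
  obtain ⟨a, ha⟩ := (bij_comm X g hinv hfpf).2 ⟨y, hy⟩
  exact ⟨a, a.2, (congrArg Subtype.val ha).symm⟩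

/-- A fixed-point-free involutory hom inverts. -/
theorem inv_of_sq (X : Subgroup A) [Finite X] (g : F)
    (hinv : ∀ x ∈ X, g x ∈ X) (hfpf : ∀ x ∈ X, g x = x → x = 1)
    (hsq : ∀ x ∈ X, g (g x) = x) : ∀ x ∈ X, g x = x⁻¹ := by
  intro x hx
  obtain ⟨a, ha, rfl⟩ := exists_comm X g hinv hfpf x hx
  rw [map_mul, map_inv, hsq a ha]
  group

theorem comm_of_sq (X : Subgroup A) [Finite X] (g : F)
    (hinv : ∀ x ∈ X, g x ∈ X) (hfpf : ∀ x ∈ X, g x = x → x = 1)
    (hsq : ∀ x ∈ X, g (g x) = x) : ∀ x ∈ X, ∀ y ∈ X, x * y = y * x := by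
  intro x hx y hy
  have h := inv_of_sq X g hinv hfpf hsq
  have h1 := h (x * y) (X.mul_mem hx hy)
  rw [map_mul, h x hx, h y hy] at h1
  have h2 : (x⁻¹ * y⁻¹)⁻¹ = ((x * y)⁻¹)⁻¹ := by rw [h1]
  rw [mul_inv_rev, inv_inv, inv_inv, inv_inv] at h2
  exact h2.symm

end General

section Conj

variable {A : Type*} [Group A] (s : A)

theorem conj_sq_apply (x : A) : MulAut.conj (s ^ 2) x = MulAut.conj s (MulAut.conj s x) := by
  simp only [MulAut.conj_apply]; rw [pow_two]; group

theorem conj_pow_mem (X : Subgroup A) (hXs : ∀ x ∈ X, MulAut.conj s x ∈ X) (k : ℕ) :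
    ∀ x ∈ X, MulAut.conj (s ^ k) x ∈ X := by
  induction k with
  | zero => intro x hx; simpa using hx
  | succ k ih =>
    intro x hx
    rw [pow_succ', map_mul, MulAut.mul_apply]
    exact hXs _ (ih x hx)

theorem conj_inv_mem (hs4 : s ^ 4 = 1) (X : Subgroup A) (hXs : ∀ x ∈ X, MulAut.conj s x ∈ X) :
    ∀ x ∈ X, MulAut.conj s⁻¹ x ∈ X := by
  have e : s⁻¹ = s ^ 3 := by
    apply inv_eq_of_mul_eq_one_left
    rw [← pow_succ]; exact hs4
  rw [e]
  exact conj_pow_mem s X hXs 3

theorem conj_four (hs4 : s ^ 4 = 1) (x : A) :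
    MulAut.conj s (MulAut.conj s (MulAut.conj s (MulAut.conj s x))) = x := by
  have e : MulAut.conj (s ^ 4) x
      = MulAut.conj s (MulAut.conj s (MulAut.conj s (MulAut.conj s x))) := by
    rw [pow_succ, pow_succ, pow_succ, pow_one, map_mul, map_mul, map_mul, MulAut.mul_apply,
      MulAut.mul_apply, MulAut.mul_apply]
  rw [← e, hs4, map_one, MulAut.one_apply]

/-- A subgroup carrying a fixed-point-free automorphism of order dividing `4` has odd order. -/
theorem odd_card (hs4 : s ^ 4 = 1) (X : Subgroup A) [Finite X]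
    (hXs : ∀ x ∈ X, MulAut.conj s x ∈ X) (hXf : ∀ x ∈ X, MulAut.conj s x = x → x = 1) :
    Odd (Nat.card X) := by
  classical
  letI : Fintype X := Fintype.ofFinite X
  let f : Function.End X := fun x => ⟨MulAut.conj s x, hXs x x.2⟩
  have hf : f ^ 2 ^ 2 = 1 := by
    funext x
    show (f ^ 4) x = x
    rw [pow_succ, pow_succ, pow_succ, pow_one]
    apply Subtype.ext
    exact conj_four s hs4 x
  haveI : Fact (Nat.Prime 2) := ⟨Nat.prime_two⟩
  have h1 := Equiv.Perm.card_fixedPoints_modEq (f := f) (p := 2) (n := 2) hf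
  have h2 : Function.fixedPoints f = {1} := by
    ext x
    simp only [Function.mem_fixedPoints, Function.IsFixedPt, Set.mem_singleton_iff]
    constructor
    · intro hx
      have : MulAut.conj s (x : A) = x := congrArg Subtype.val hx
      exact Subtype.ext (hXf x x.2 this)
    · rintro rfl
      apply Subtype.ext
      show MulAut.conj s ((1 : X) : A) = ((1 : X) : A)
      simp
  rw [← Nat.card_eq_fintype_card, ← Nat.card_eq_fintype_card, h2] at h1
  have h3 : Nat.card ({1} : Set X) = 1 := by simp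
  rw [h3] at h1
  rw [Nat.odd_iff]
  exact h1

end Conj

section Linear

variable {V : Type*} [CommGroup V] [Finite V]

/-- **Trace identity.** A subgroup `Q` of `Aut V` of order prime to `|V|`, normalised by the
fixed-point-free `s` of order dividing `4`, such that conjugation by `s` and by `s ^ 2` have no
nontrivial fixed points on `Q`, is trivial. -/
theorem L1 (s : MulAut V) (hs4 : s ^ 4 = 1) (hsf : ∀ v : V, s v = v → v = 1)
    (Q : Subgroup (MulAut V)) (hQs : ∀ x ∈ Q, MulAut.conj s x ∈ Q)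
    (hf1 : ∀ x ∈ Q, MulAut.conj s x = x → x = 1)
    (hf2 : ∀ x ∈ Q, MulAut.conj (s ^ 2) x = x → x = 1)
    (hcop : (Nat.card Q).Coprime (Nat.card V)) : Q = ⊥ := by
  classical
  letI : Fintype Q := Fintype.ofFinite Q
  -- the norm is trivial
  have hN : ∀ v : V, v * s v * (s ^ 2) v * (s ^ 3) v = 1 := by
    intro v
    apply hsf
    rw [map_mul, map_mul, map_mul]
    have e0 : s (s v) = (s ^ 2) v := by rw [pow_two, MulAut.mul_apply]
    have e1 : s ((s ^ 2) v) = (s ^ 3) v := by rw [pow_succ' s 2, MulAut.mul_apply]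
    have e2 : s ((s ^ 3) v) = v := by
      rw [← MulAut.mul_apply, ← pow_succ', hs4, MulAut.one_apply]
    rw [e0, e1, e2]
    simp only [mul_comm, mul_left_comm, mul_assoc]
  -- invariance and freeness for the three powers
  have hinv : ∀ k : ℕ, ∀ x ∈ Q, MulAut.conj (s ^ k) x ∈ Q := conj_pow_mem s Q hQs
  have hf3 : ∀ x ∈ Q, MulAut.conj (s ^ 3) x = x → x = 1 := by
    intro x hx h
    apply hf1 x hx
    have h4 : MulAut.conj s (MulAut.conj (s ^ 3) x) = x := by
      rw [← MulAut.mul_apply, ← map_mul, ← pow_succ', hs4, map_one, MulAut.one_apply]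
    rw [h] at h4
    exact h4
  have hf : ∀ k : ℕ, k = 1 ∨ k = 2 ∨ k = 3 → ∀ x ∈ Q, MulAut.conj (s ^ k) x = x → x = 1 := by
    rintro k (rfl | rfl | rfl)
    · simpa using hf1
    · exact hf2
    · exact hf3
  -- the bijections
  let Fk : ℕ → Q → Q := fun k a =>
    ⟨(a : MulAut V)⁻¹ * MulAut.conj (s ^ k) (a : MulAut V),
      Q.mul_mem (Q.inv_mem a.2) (hinv k a a.2)⟩
  have hbij : ∀ k : ℕ, k = 1 ∨ k = 2 ∨ k = 3 → Function.Bijective (Fk k) := by
    intro k hk
    exact bij_comm Q (MulAut.conj (s ^ k)) (hinv k) (hf k hk)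
  -- the basic identity
  have hid : ∀ (a : Q) (v : V),
      v * ((Fk 1 a : Q) : MulAut V) (s v) * ((Fk 2 a : Q) : MulAut V) ((s ^ 2) v)
        * ((Fk 3 a : Q) : MulAut V) ((s ^ 3) v) = 1 := by
    intro a v
    have h := hN ((a : MulAut V) v)
    have h' : (a : MulAut V)⁻¹ ((a : MulAut V) v * s ((a : MulAut V) v)
        * (s ^ 2) ((a : MulAut V) v) * (s ^ 3) ((a : MulAut V) v)) = 1 := by
      rw [h, map_one]
    rw [map_mul, map_mul, map_mul] at h'
    rw [← h']
    have hk : ∀ k : ℕ, ((Fk k a : Q) : MulAut V) ((s ^ k) v)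
        = (a : MulAut V)⁻¹ ((s ^ k) ((a : MulAut V) v)) := by
      intro k
      show ((a : MulAut V)⁻¹ * MulAut.conj (s ^ k) (a : MulAut V)) ((s ^ k) v) = _
      rw [MulAut.conj_apply]
      simp only [MulAut.mul_apply, MulAut.inv_apply_self]
    have h1 := hk 1
    rw [pow_one] at h1
    rw [h1, hk 2, hk 3, MulAut.inv_apply_self]
  -- the average
  let M : V → V := fun w => ∏ b : Q, (b : MulAut V) w
  have hMfix : ∀ c ∈ Q, ∀ w : V, c (M w) = M w := by
    intro c hc w
    show c (∏ b : Q, (b : MulAut V) w) = ∏ b : Q, (b : MulAut V) w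
    rw [map_prod]
    have := Equiv.prod_comp (Equiv.mulLeft (⟨c, hc⟩ : Q)) (fun b : Q => (b : MulAut V) w)
    rw [← this]
    apply Finset.prod_congr rfl
    intro b _
    simp [MulAut.mul_apply]
  have hsum : ∀ v : V, v ^ Fintype.card Q * M (s v) * M ((s ^ 2) v) * M ((s ^ 3) v) = 1 := by
    intro v
    have h1 : ∏ a : Q, (v * ((Fk 1 a : Q) : MulAut V) (s v)
        * ((Fk 2 a : Q) : MulAut V) ((s ^ 2) v) * ((Fk 3 a : Q) : MulAut V) ((s ^ 3) v)) = 1 := by
      apply Finset.prod_eq_one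
      intro a _
      exact hid a v
    rw [Finset.prod_mul_distrib, Finset.prod_mul_distrib, Finset.prod_mul_distrib,
      Finset.prod_const, Finset.card_univ] at h1
    have r1 := (hbij 1 (Or.inl rfl)).prod_comp (fun b : Q => (b : MulAut V) (s v))
    have r2 := (hbij 2 (Or.inr (Or.inl rfl))).prod_comp (fun b : Q => (b : MulAut V) ((s ^ 2) v))
    have r3 := (hbij 3 (Or.inr (Or.inr rfl))).prod_comp (fun b : Q => (b : MulAut V) ((s ^ 3) v))
    rw [r1, r2, r3] at h1
    exact h1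
  rw [Subgroup.eq_bot_iff_forall]
  intro c hc
  apply MulEquiv.ext
  intro v
  rw [MulAut.one_apply]
  have hz : c (v ^ Fintype.card Q) = v ^ Fintype.card Q := by
    have e : v ^ Fintype.card Q = (M (s v) * M ((s ^ 2) v) * M ((s ^ 3) v))⁻¹ := by
      rw [eq_inv_iff_mul_eq_one, ← hsum v]
      simp only [mul_assoc]
    rw [e, map_inv, map_mul, map_mul, hMfix c hc, hMfix c hc, hMfix c hc]
  rw [map_pow] at hz
  have h1 : (c v * v⁻¹) ^ Fintype.card Q = 1 := by
    rw [mul_pow, hz, inv_pow, mul_inv_cancel]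
  have h2 : orderOf (c v * v⁻¹) ∣ Nat.card Q := by
    rw [Nat.card_eq_fintype_card]; exact orderOf_dvd_of_pow_eq_one h1
  have h3 : orderOf (c v * v⁻¹) ∣ Nat.card V := orderOf_dvd_natCard _
  have h4 : orderOf (c v * v⁻¹) = 1 := Nat.eq_one_of_dvd_coprimes hcop h2 h3
  rw [orderOf_eq_one_iff] at h4
  exact mul_inv_eq_one.mp h4

end Linear

end Cfsg.Agent.Helper1.GH4
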