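import Mathlib
import Cfsg.Agent.Lib.Helper1.GH4A

/-!
# Fixed-point-free automorphisms of order dividing four: the key lemma (helper1)

`s ∈ Aut V` fixed-point-free with `s ^ 4 = 1`; `X ≤ Aut V` solvable of order prime to `|V|`,
normalised by `s`, conjugation by `s` fixed-point-free on `X`.  Then `s ^ 2` centralises `X`.
-/

set_option autoImplicit false

namespace Cfsg.Agent.Helper1.GH4

open Subgroup
open scoped commutatorElement

variable {V : Type*} [CommGroup V] [Finite V]

theorem KL (s : MulAut V) (hs4 : s ^ 4 = 1) (hsf : ∀ v : V, s v = v → v = 1) :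
    ∀ (n : ℕ) (X : Subgroup (MulAut V)), Nat.card X = n →
      (∀ x ∈ X, MulAut.conj s x ∈ X) → (∀ x ∈ X, MulAut.conj s x = x → x = 1) →
      Group.IsSolvable X → (Nat.card X).Coprime (Nat.card V) →
      ∀ x ∈ X, MulAut.conj (s ^ 2) x = x := by
  intro n
  induction n using Nat.strong_induction_on with
  | _ n ih =>
  intro X hcard hXs hXf hsol hcop
  have ih' : ∀ Y : Subgroup (MulAut V), Y ≤ X → Y ≠ X → (∀ x ∈ Y, MulAut.conj s x ∈ Y) →
      ∀ x ∈ Y, MulAut.conj (s ^ 2) x = x := by
    intro Y hYX hne hYs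
    have hlt : Nat.card Y < n := by
      rw [← hcard]
      rcases (Nat.le_of_dvd Nat.card_pos (Subgroup.card_dvd_of_le hYX)).lt_or_eq with h | h
      · exact h
      · exact absurd (Subgroup.eq_of_le_of_card_ge hYX h.ge) hne
    exact ih _ hlt Y rfl hYs (fun x hx => hXf x (hYX hx))
      (Group.isSolvable_of_isSolvable_injective (Subgroup.inclusion_injective hYX))
      (Nat.Coprime.coprime_dvd_left (Subgroup.card_dvd_of_le hYX) hcop)
  have hodd : Odd (Nat.card X) := odd_card s hs4 X hXs hXf
  have hoddo : ∀ x ∈ X, Odd (orderOf x) := fun x hx =>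
    Odd.of_dvd_nat hodd (Subgroup.orderOf_dvd_natCard X hx)
  have hsq : ∀ x ∈ X, x ^ 2 = 1 → x = 1 := by
    intro x hx h2
    have h1 : orderOf x ∣ 2 := orderOf_dvd_of_pow_eq_one h2
    have h3 := hoddo x hx
    have : orderOf x = 1 := by
      rcases (Nat.dvd_prime Nat.prime_two).mp h1 with h | h
      · exact h
      · rw [h] at h3; exact absurd h3 (by decide)
    exact orderOf_eq_one_iff.mp this
  -- square roots in odd order
  have hroot : ∀ x ∈ X, ∃ k : ℕ, (x ^ 2) ^ k = x := by
    intro x hx
    obtain ⟨k, hk⟩ := hoddo x hx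
    refine ⟨k + 1, ?_⟩
    rw [← pow_mul, show 2 * (k + 1) = (2 * k + 1) + 1 by ring, ← hk, pow_succ, pow_orderOf_eq_one,
      one_mul]
  set g : MulAut (MulAut V) := MulAut.conj s with hg
  set c : MulAut (MulAut V) := MulAut.conj (s ^ 2) with hc
  have hcg : ∀ x, c x = g (g x) := fun x => conj_sq_apply s x
  have hcc : ∀ x, c (c x) = x := by
    intro x
    rw [hcg, hcg]
    exact conj_four s hs4 x
  have hXc : ∀ x ∈ X, c x ∈ X := fun x hx => by rw [hcg]; exact hXs _ (hXs x hx)
  -- main claim: inverted elements are trivial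
  have star : ∀ i ∈ X, c i = i⁻¹ → i = 1 := by
    intro i hi hti
    obtain ⟨j, hj⟩ : ∃ j, j = g i := ⟨_, rfl⟩
    have hjX : j ∈ X := hj ▸ hXs i hi
    have hgj : g j = i⁻¹ := by rw [hj, ← hcg i]; exact hti
    have hcj : c j = j⁻¹ := by rw [hcg, hgj, map_inv, ← hj]
    obtain ⟨Y, hY⟩ : ∃ Y : Subgroup (MulAut V), Y = Subgroup.closure ({i, j} : Set (MulAut V)) :=
      ⟨_, rfl⟩
    have hYX : Y ≤ X := by
      rw [hY, Subgroup.closure_le]
      rintro z (rfl | rfl)
      · exact hi
      · exact hjX
    have hiY : i ∈ Y := hY ▸ Subgroup.subset_closure (by simp)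
    have hjY : j ∈ Y := hY ▸ Subgroup.subset_closure (by simp)
    have hYs : ∀ x ∈ Y, g x ∈ Y := by
      have : Y ≤ Y.comap g.toMonoidHom := by
        conv_lhs => rw [hY]
        rw [Subgroup.closure_le]
        rintro z (rfl | rfl)
        · show g z ∈ Y
          rw [← hj]; exact hjY
        · show g z ∈ Y
          rw [hgj]; exact Y.inv_mem hiY
      exact fun x hx => this hx
    by_cases hne : Y = X
    swap
    · have h1 := ih' Y hYX hne hYs i hiY
      rw [hti] at h1
      apply hsq i hi
      rw [pow_two]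
      nth_rewrite 1 [← h1]
      exact inv_mul_cancel i
    by_cases hX1 : X = ⊥
    · rw [hX1] at hi; exact Subgroup.mem_bot.mp hi
    -- derived subgroup
    obtain ⟨D, hD⟩ : ∃ D : Subgroup (MulAut V), D = ⁅X, X⁆ := ⟨_, rfl⟩
    have hDX : D ≤ X := hD ▸ Subgroup.commutator_le_self X
    have hDne : D ≠ X := by
      intro h
      haveI : Nontrivial X := (Subgroup.nontrivial_iff_ne_bot X).mpr hX1
      have h1 := Group.IsSolvable.commutator_lt_top_of_nontrivial X
      have h2 : (commutator X).map X.subtype = (⊤ : Subgroup X).map X.subtype := by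
        rw [Subgroup.map_subtype_commutator, ← hD, h, ← MonoidHom.range_eq_map,
          Subgroup.range_subtype]
      exact h1.ne (Subgroup.map_injective X.subtype_injective h2)
    have hDs : ∀ x ∈ D, g x ∈ D := by
      intro x hx
      have h1 : D.map g.toMonoidHom ≤ D := by
        rw [hD, Subgroup.map_commutator]
        apply Subgroup.commutator_mono <;>
        · rintro _ ⟨y, hy, rfl⟩
          exact hXs y hy
      exact h1 (Subgroup.mem_map_of_mem _ hx)
    have hDc : ∀ x ∈ D, c x = x := ih' D hDX hDne hDs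
    have hDinv : ∀ x ∈ D, g x = x⁻¹ :=
      inv_of_sq D g hDs (fun x hx => hXf x (hDX hx)) (fun x hx => by rw [← hcg]; exact hDc x hx)
    have hcomm : ⁅i, j⁆ ∈ D := hD ▸ Subgroup.commutator_mem_commutator hi hjX
    have h1 := hDinv _ hcomm
    rw [map_commutatorElement, hgj, ← hj] at h1
    simp only [commutatorElement_def] at h1
    have h2 : j⁻¹ * i ^ 2 = i ^ 2 * j⁻¹ := by
      have e1 : j⁻¹ * (i * i) = (i * j⁻¹) * (j * i⁻¹ * j⁻¹ * i⁻¹⁻¹) * i := by group
      have e2 : (i * i) * j⁻¹ = (i * j⁻¹) * (i * j * i⁻¹ * j⁻¹)⁻¹ * i := by group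
      rw [pow_two, e1, e2, h1]
    have h3 : Commute (i ^ 2) j := by
      have : Commute (i ^ 2) j⁻¹ := h2.symm
      exact (Commute.inv_right_iff).mp this
    have hcij : Commute i j := by
      obtain ⟨k, hk⟩ := hroot i hi
      rw [← hk]
      exact h3.pow_left k
    -- X is abelian
    have hXab : ∀ a ∈ X, ∀ b ∈ X, a * b = b * a := by
      have hsub : ({i, j} : Set (MulAut V)) ⊆ Subgroup.centralizer ({i, j} : Set (MulAut V)) := by
        intro z hz
        rw [SetLike.mem_coe, Subgroup.mem_centralizer_iff]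
        intro y hy
        rcases hz with rfl | rfl <;> rcases hy with rfl | rfl
        · rfl
        · exact hcij.symm.eq
        · exact hcij.eq
        · rfl
      have h1 : Y ≤ Subgroup.centralizer ({i, j} : Set (MulAut V)) := by
        rw [hY]; exact (Subgroup.closure_le _).mpr hsub
      have h2 : Y ≤ Subgroup.centralizer
          (Subgroup.centralizer ({i, j} : Set (MulAut V)) : Set (MulAut V)) := by
        rw [hY]; exact Subgroup.closure_le_centralizer_centralizer _
      intro a ha b hb
      rw [← hne] at ha hb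
      have := Subgroup.mem_centralizer_iff.mp (h2 ha) b (h1 hb)
      exact this.symm
    have hcinv : ∀ a ∈ X, c a = a⁻¹ := by
      intro a ha
      rw [← hne, hY] at ha
      induction ha using Subgroup.closure_induction with
      | mem z hz =>
        rcases hz with rfl | rfl
        · exact hti
        · exact hcj
      | one => simp
      | mul x y hx hy ihx ihy =>
        rw [map_mul, ihx, ihy, mul_inv_rev]
        rw [← hY, hne] at hx hy
        exact hXab _ (X.inv_mem hx) _ (X.inv_mem hy)
      | inv x hx ihx => rw [map_inv, ihx]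
    have hcf : ∀ a ∈ X, c a = a → a = 1 := by
      intro a ha h
      rw [hcinv a ha] at h
      apply hsq a ha
      rw [pow_two]
      nth_rewrite 1 [← h]
      exact inv_mul_cancel a
    have hbot := L1 s hs4 hsf X hXs hXf hcf hcop
    exact absurd hbot hX1
  intro x hx
  obtain ⟨u, hu⟩ : ∃ u, u = x⁻¹ * c x := ⟨_, rfl⟩
  have huX : u ∈ X := hu ▸ X.mul_mem (X.inv_mem hx) (hXc x hx)
  have htu : c u = u⁻¹ := by
    rw [hu, map_mul, map_inv, hcc]
    group
  obtain ⟨k, hk⟩ := hroot u huX
  have hwX : u ^ k ∈ X := X.pow_mem huX k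
  have hw2 : (u ^ k) ^ 2 = u := by rw [← pow_mul, mul_comm, pow_mul]; exact hk
  have htw : c (u ^ k) = (u ^ k)⁻¹ := by rw [map_pow, htu, inv_pow]
  have hw1 : u ^ k = 1 := star _ hwX htw
  have hu1 : u = 1 := by rw [← hw2, hw1, one_pow]
  rw [hu] at hu1
  exact (inv_mul_eq_one.mp hu1).symm

end Cfsg.Agent.Helper1.GH4
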