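import Mathlib
import Cfsg.Agent.Lib.Helper1.GH4B
import Cfsg.Agent.Lib.Helper1.FpfAut
import Cfsg.Agent.Lib.Helper1.CoprimeIndex

/-!
# Fixed-point-free automorphisms of order dividing four: irreducible case (helper1)

`V` an abelian `p`-group, `s ∈ Aut V` fixed-point-free with `s ^ 4 = 1`, `H ≤ Aut V` normalised by
`s` with conjugation by `s` fixed-point-free on `H`, and `V` irreducible under `⟨H, s⟩`.  Then `H`
is abelian.
-/

set_option autoImplicit false

namespace Cfsg.Agent.Helper1.GH4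

open Subgroup

/-- Conjugation by `s` as an automorphism of an invariant subgroup. -/
noncomputable def conjAut {A : Type*} [Group A] (s : A) (hs4 : s ^ 4 = 1) (X : Subgroup A)
    (hXs : ∀ x ∈ X, MulAut.conj s x ∈ X) : X ≃* X where
  toFun x := ⟨MulAut.conj s x, hXs x x.2⟩
  invFun x := ⟨MulAut.conj s⁻¹ x, conj_inv_mem s hs4 X hXs x x.2⟩
  left_inv x := Subtype.ext (by simp [MulAut.conj_apply, mul_assoc])
  right_inv x := Subtype.ext (by simp [MulAut.conj_apply, mul_assoc])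
  map_mul' x y := Subtype.ext (map_mul (MulAut.conj s) (x : A) (y : A))

@[simp] theorem conjAut_coe {A : Type*} [Group A] (s : A) (hs4 : s ^ 4 = 1) (X : Subgroup A)
    (hXs : ∀ x ∈ X, MulAut.conj s x ∈ X) (x : X) :
    ((conjAut s hs4 X hXs x : X) : A) = MulAut.conj s x := rfl

variable {V : Type*} [CommGroup V] [Finite V]

theorem thmA (p : ℕ) [hp : Fact p.Prime] (hVp : IsPGroup p V) [Nontrivial V]
    (s : MulAut V) (hs4 : s ^ 4 = 1) (hsf : ∀ v : V, s v = v → v = 1)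
    (H : Subgroup (MulAut V)) (hHs : ∀ x ∈ H, MulAut.conj s x ∈ H)
    (hHf : ∀ x ∈ H, MulAut.conj s x = x → x = 1)
    (hirr : ∀ W : Subgroup V, (∀ a ∈ H, ∀ w ∈ W, a w ∈ W) → (∀ w ∈ W, s w ∈ W) →
      W = ⊥ ∨ W = ⊤) :
    ∀ x ∈ H, MulAut.conj (s ^ 2) x = x := by
  set g : MulAut (MulAut V) := MulAut.conj s with hg
  set c : MulAut (MulAut V) := MulAut.conj (s ^ 2) with hc
  have hcg : ∀ x, c x = g (g x) := fun x => conj_sq_apply s x
  let γ : H ≃* H := conjAut s hs4 H hHs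
  have hγ : MonoidHom.FixedPointFree γ := fun x hx =>
    Subtype.ext (hHf x x.2 (congrArg Subtype.val hx))
  -- the centraliser of `s ^ 2`
  let T : Subgroup H := (Subgroup.centralizer ({s ^ 2} : Set (MulAut V))).subgroupOf H
  have hT : ∀ x : H, x ∈ T ↔ c (x : MulAut V) = x := by
    intro x
    rw [Subgroup.mem_subgroupOf, Subgroup.mem_centralizer_iff]
    simp only [Set.mem_singleton_iff, forall_eq, hc, MulAut.conj_apply]
    rw [mul_inv_eq_iff_eq_mul]
  -- invariant Sylow subgroups for the other primes lie in `T`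
  have hsyl : ∀ (q : ℕ) [Fact q.Prime], q ≠ p → ∀ P : Sylow q H,
      Fpf.Inv γ (P : Subgroup H) → (P : Subgroup H) ≤ T := by
    intro q hqf hqp P hP
    obtain ⟨X, hX⟩ : ∃ X : Subgroup (MulAut V), X = (P : Subgroup H).map H.subtype := ⟨_, rfl⟩
    have hXq : IsPGroup q X := hX ▸ P.2.map H.subtype
    have hXs : ∀ x ∈ X, g x ∈ X := by
      rw [hX]
      rintro _ ⟨x, hx, rfl⟩
      exact ⟨γ x, hP x hx, rfl⟩
    have hXf : ∀ x ∈ X, g x = x → x = 1 := by
      rw [hX]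
      rintro _ ⟨x, hx, rfl⟩ h
      exact hHf _ x.2 h
    have hXsol : Group.IsSolvable X := by
      haveI := hXq.isNilpotent
      infer_instance
    have hcop : (Nat.card X).Coprime (Nat.card V) := by
      obtain ⟨a, ha⟩ := IsPGroup.iff_card.mp hXq
      obtain ⟨b, hb⟩ := IsPGroup.iff_card.mp hVp
      rw [ha, hb]
      exact Nat.Coprime.pow _ _ ((Nat.coprime_primes hqf.out hp.out).mpr hqp)
    have h := KL s hs4 hsf _ X rfl hXs hXf hXsol hcop
    intro x hx
    rw [hT]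
    exact h _ (hX ▸ ⟨x, hx, rfl⟩)
  -- `T` has `p`-power index
  have hTidx : ∃ a : ℕ, T.index = p ^ a := by
    refine ⟨_, Nat.eq_prime_pow_of_unique_prime_dvd Subgroup.index_ne_zero_of_finite ?_⟩
    intro q hq hqd
    by_contra hqp
    haveI : Fact q.Prime := ⟨hq⟩
    obtain ⟨P, hP⟩ := Fpf.exists_inv_sylow hγ q
    have h1 : T.index ∣ (P : Subgroup H).index := Subgroup.index_dvd_of_le (hsyl q hqp P hP)
    exact P.not_dvd_index (hqd.trans h1)
  obtain ⟨a, ha⟩ := hTidx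
  obtain ⟨P, hP⟩ := Fpf.exists_inv_sylow hγ p
  have hcopi : T.index.Coprime (P : Subgroup H).index := by
    rw [ha]
    apply Nat.Coprime.pow_left
    exact (Nat.Prime.coprime_iff_not_dvd hp.out).mpr P.not_dvd_index
  have hfac : ∀ x : H, ∃ t ∈ T, ∃ y ∈ (P : Subgroup H), x = t * y :=
    exists_mul_of_coprime_index hcopi
  obtain ⟨PV, hPV⟩ : ∃ PV : Subgroup (MulAut V), PV = (P : Subgroup H).map H.subtype := ⟨_, rfl⟩
  have hPVc : ∀ y ∈ PV, c y ∈ PV := by
    rw [hPV]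
    rintro _ ⟨y, hy, rfl⟩
    refine ⟨γ (γ y), hP _ (hP y hy), ?_⟩
    rw [hcg]
    rfl
  obtain ⟨N, hN⟩ : ∃ N : Subgroup (MulAut V),
      N = Subgroup.closure {u : MulAut V | ∃ x ∈ H, u = x⁻¹ * c x} := ⟨_, rfl⟩
  have hgen : ∀ x ∈ H, x⁻¹ * c x ∈ N := fun x hx => hN ▸ Subgroup.subset_closure ⟨x, hx, rfl⟩
  have hNP : N ≤ PV := by
    rw [hN, Subgroup.closure_le]
    rintro _ ⟨x, hx, rfl⟩
    obtain ⟨t, ht, y, hy, hxy⟩ := hfac ⟨x, hx⟩
    have hx' : x = (t : MulAut V) * (y : MulAut V) := congrArg Subtype.val hxy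
    have htc : c (t : MulAut V) = t := (hT t).mp ht
    have hyPV : (y : MulAut V) ∈ PV := hPV ▸ ⟨y, hy, rfl⟩
    have e : x⁻¹ * c x = (y : MulAut V)⁻¹ * c (y : MulAut V) := by
      rw [hx', map_mul, htc]; group
    rw [SetLike.mem_coe, e]
    exact PV.mul_mem (PV.inv_mem hyPV) (hPVc _ hyPV)
  have hNp : IsPGroup p N := (hPV ▸ P.2.map H.subtype : IsPGroup p PV).to_le hNP
  have hNH : ∀ h ∈ H, ∀ n ∈ N, h * n * h⁻¹ ∈ N := by
    intro h hh n hn
    have hle : N ≤ N.comap (MulAut.conj h).toMonoidHom := by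
      conv_lhs => rw [hN]
      rw [Subgroup.closure_le]
      rintro _ ⟨x, hx, rfl⟩
      show MulAut.conj h (x⁻¹ * c x) ∈ N
      have e : MulAut.conj h (x⁻¹ * c x)
          = ((x * h⁻¹)⁻¹ * c (x * h⁻¹)) * ((h⁻¹)⁻¹ * c (h⁻¹))⁻¹ := by
        rw [MulAut.conj_apply, map_mul c x, map_inv c h]; group
      rw [e]
      exact N.mul_mem (hgen _ (H.mul_mem hx (H.inv_mem hh))) (N.inv_mem (hgen _ (H.inv_mem hh)))
    exact hle hn
  have hNs : ∀ n ∈ N, g n ∈ N := by
    have hle : N ≤ N.comap g.toMonoidHom := by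
      conv_lhs => rw [hN]
      rw [Subgroup.closure_le]
      rintro _ ⟨x, hx, rfl⟩
      show g (x⁻¹ * c x) ∈ N
      have e : g (x⁻¹ * c x) = (g x)⁻¹ * c (g x) := by rw [map_mul, map_inv, hcg, hcg]
      rw [e]
      exact hgen _ (hHs x hx)
    exact fun n hn => hle hn
  have hNs' : ∀ n ∈ N, MulAut.conj s⁻¹ n ∈ N := conj_inv_mem s hs4 N hNs
  -- the fixed points of `N`
  let W : Subgroup V :=
    { carrier := {v | ∀ n ∈ N, n v = v}
      one_mem' := fun n _ => map_one n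
      mul_mem' := fun {a b} ha hb n hn => by rw [map_mul, ha n hn, hb n hn]
      inv_mem' := fun {a} ha n hn => by rw [map_inv, ha n hn] }
  have hWH : ∀ a ∈ H, ∀ w ∈ W, a w ∈ W := by
    intro a ha w hw n hn
    have h1 := hNH a⁻¹ (H.inv_mem ha) n hn
    have h2 : (a⁻¹ * n * a⁻¹⁻¹) w = w := hw _ h1
    have e : n (a w) = a ((a⁻¹ * n * a⁻¹⁻¹) w) := by simp [MulAut.mul_apply]
    rw [e, h2]
  have hWs : ∀ w ∈ W, s w ∈ W := by
    intro w hw n hn
    have h1 := hNs' n hn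
    have h2 : (MulAut.conj s⁻¹ n) w = w := hw _ h1
    have e : n (s w) = s ((MulAut.conj s⁻¹ n) w) := by
      simp [MulAut.conj_apply, MulAut.mul_apply]
    rw [e, h2]
  have hW1 : W ≠ ⊥ := by
    have hpV : p ∣ Nat.card V := by
      obtain ⟨k, hk⟩ := IsPGroup.iff_card.mp hVp
      have hk0 : k ≠ 0 := by
        rintro rfl
        rw [pow_zero] at hk
        exact (Finite.one_lt_card (α := V)).ne' hk
      rw [hk]; exact dvd_pow_self p hk0
    have h1 : (1 : V) ∈ MulAction.fixedPoints N V := by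
      intro n
      rw [Subgroup.smul_def, MulAut.smul_def]
      exact map_one _
    obtain ⟨b, hb, hb1⟩ := hNp.exists_fixed_point_of_prime_dvd_card_of_fixed_point V hpV h1
    intro hbot
    have hbW : b ∈ W := by
      intro n hn
      have := hb ⟨n, hn⟩
      rwa [Subgroup.smul_def, MulAut.smul_def] at this
    rw [hbot, Subgroup.mem_bot] at hbW
    exact hb1 hbW.symm
  have hWtop : W = ⊤ := (hirr W hWH hWs).resolve_left hW1
  intro x hx
  have h1 : x⁻¹ * c x = 1 := by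
    apply MulEquiv.ext
    intro v
    have hv : v ∈ W := hWtop ▸ Subgroup.mem_top v
    rw [MulAut.one_apply]
    exact hv _ (hgen x hx)
  exact (inv_mul_eq_one.mp h1).symm

/-- In the irreducible situation, `H` is abelian. -/
theorem thmA_comm (p : ℕ) [hp : Fact p.Prime] (hVp : IsPGroup p V) [Nontrivial V]
    (s : MulAut V) (hs4 : s ^ 4 = 1) (hsf : ∀ v : V, s v = v → v = 1)
    (H : Subgroup (MulAut V)) (hHs : ∀ x ∈ H, MulAut.conj s x ∈ H)
    (hHf : ∀ x ∈ H, MulAut.conj s x = x → x = 1)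
    (hirr : ∀ W : Subgroup V, (∀ a ∈ H, ∀ w ∈ W, a w ∈ W) → (∀ w ∈ W, s w ∈ W) →
      W = ⊥ ∨ W = ⊤) :
    ∀ x ∈ H, ∀ y ∈ H, x * y = y * x := by
  have h := thmA p hVp s hs4 hsf H hHs hHf hirr
  apply comm_of_sq H (MulAut.conj s) hHs hHf
  intro x hx
  rw [← conj_sq_apply]
  exact h x hx

end Cfsg.Agent.Helper1.GH4
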