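import Mathlib
import Cfsg.Prelude.Def_Solvable
import Cfsg.Agent.Lib.Helper20.GL4SubDefs

/-!
# S2553, piece COSET (helper1): a subgroup of order 2520 of `A8` is isomorphic to `A7`.
-/

set_option autoImplicit false

namespace Cfsg.Agent.Helper20.GL4Sub

namespace COSET

/-- coset action on 8 points, with the trivial coset sent to the last point -/
theorem exists_action {G : Type*} [Group G] [Finite G] [IsSimpleGroup G]
    (hbig : 2 < Nat.card G) (H : Subgroup G) (hidx : H.index = 8) :
    ∃ ψ : G →* Equiv.Perm (Fin 8), Function.Injective ψ ∧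
      (∀ g, Equiv.Perm.sign (ψ g) = 1) ∧
      (∀ g, ψ g (Fin.last 7) = Fin.last 7 ↔ g ∈ H) := by
  classical
  haveI : Fintype (G ⧸ H) := Fintype.ofFinite _
  have hcard : Fintype.card (G ⧸ H) = 8 := by
    rw [← hidx, Subgroup.index, Nat.card_eq_fintype_card]
  have hH : H ≠ ⊤ := by
    intro h
    rw [h, Subgroup.index_top] at hidx
    omega
  let e0 : (G ⧸ H) ≃ Fin 8 := Fintype.equivFinOfCardEq hcard
  let q1 : G ⧸ H := ((1 : G) : G ⧸ H)
  let e : (G ⧸ H) ≃ Fin 8 := e0.trans (Equiv.swap (e0 q1) (Fin.last 7))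
  have he1 : e q1 = Fin.last 7 := by
    change Equiv.swap (e0 q1) (Fin.last 7) (e0 q1) = Fin.last 7
    exact Equiv.swap_apply_left _ _
  let ψ : G →* Equiv.Perm (Fin 8) :=
    (e.permCongrHom.toMonoidHom).comp (MulAction.toPermHom G (G ⧸ H))
  have hψ : ∀ g x, ψ g x = e (g • e.symm x) := by
    intro g x
    rfl
  have hfix : ∀ g, ψ g (Fin.last 7) = Fin.last 7 ↔ g ∈ H := by
    intro g
    rw [hψ, ← he1, Equiv.symm_apply_apply, e.apply_eq_iff_eq]
    have h4 : g • q1 = ((g * 1 : G) : G ⧸ H) := rfl
    rw [h4, mul_one]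
    change ((g : G) : G ⧸ H) = ((1 : G) : G ⧸ H) ↔ g ∈ H
    rw [eq_comm, QuotientGroup.eq]
    simp
  have hker : ψ.ker = ⊥ := by
    rcases (ψ.normal_ker).eq_bot_or_eq_top with h | h
    · exact h
    · exfalso
      apply hH
      rw [eq_top_iff]
      intro g _
      have hg : g ∈ ψ.ker := by rw [h]; trivial
      rw [MonoidHom.mem_ker] at hg
      rw [← hfix g, hg]
      rfl
  have hinj : Function.Injective ψ := (MonoidHom.ker_eq_bot_iff ψ).mp hker
  have hsign : ∀ g : G, Equiv.Perm.sign (ψ g) = 1 := by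
    let s : G →* ℤˣ := (Equiv.Perm.sign).comp ψ
    rcases (s.normal_ker).eq_bot_or_eq_top with h | h
    · exfalso
      have sinj : Function.Injective s := (MonoidHom.ker_eq_bot_iff s).mp h
      have h1 := Nat.card_le_card_of_injective s sinj
      have h2 : Nat.card ℤˣ = 2 := by
        rw [Nat.card_eq_fintype_card]; rfl
      omega
    · intro g
      have : g ∈ s.ker := by rw [h]; trivial
      exact this
  exact ⟨ψ, hinj, hsign, hfix⟩

end COSET

/-- COSET -/
theorem iso_A7_of_card (hst : Nonempty (stabLast ≃* alternatingGroup (Fin 7))) (S : Subgroup A8)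
    (h : Nat.card S = 2520) : Nonempty (S ≃* alternatingGroup (Fin 7)) := by
  classical
  obtain ⟨est⟩ := hst
  haveI : IsSimpleGroup A8 := alternatingGroup.isSimpleGroup (by simp)
  have hidx : S.index = 8 := by
    have h1 := Subgroup.card_mul_index S
    rw [h, card_A8] at h1
    omega
  obtain ⟨ψ, hinj, hsign, hfix⟩ :=
    COSET.exists_action (G := A8) (by rw [card_A8]; norm_num) S hidx
  let ψ' : A8 →* A8 := ψ.codRestrict (alternatingGroup (Fin 8))
    (fun g => Equiv.Perm.mem_alternatingGroup.mpr (hsign g))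
  have hinj' : Function.Injective ψ' := by
    intro a b hab
    apply hinj
    have := congrArg (fun x : A8 => (x : Equiv.Perm (Fin 8))) hab
    exact this
  have hsurj' : Function.Surjective ψ' := Finite.injective_iff_surjective.mp hinj'
  have hmem : ∀ g : A8, ψ' g ∈ stabLast ↔ g ∈ S := by
    intro g
    rw [← hfix g]
    unfold stabLast
    rw [Subgroup.mem_subgroupOf, MulAction.mem_stabilizer_iff]
    rfl
  let f : S →* stabLast :=
    (ψ'.comp S.subtype).codRestrict stabLast (fun s => (hmem s.1).mpr s.2)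
  have hf : Function.Bijective f := by
    constructor
    · intro a b hab
      apply Subtype.ext
      apply hinj'
      have := congrArg (fun x : stabLast => (x : A8)) hab
      exact this
    · intro y
      obtain ⟨g, hg⟩ := hsurj' y.1
      have hgS : g ∈ S := by
        rw [← hmem, hg]; exact y.2
      refine ⟨⟨g, hgS⟩, ?_⟩
      apply Subtype.ext
      exact hg
  exact ⟨(MulEquiv.ofBijective f hf).trans est⟩

end Cfsg.Agent.Helper20.GL4Sub
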