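import Mathlib
import Cfsg.Agent.Lib.Helper17.GLkDefs

/-!
# S2478 piece GLK-TEXT: `tuple_ext`
-/

open Polynomial

namespace Cfsg.Agent.Helper17.GLk

universe u

section pieces
variable {F : Type u} [Field F]

/-- the exponents are bounded by the dimension -/
theorem glktext_e_le {ι : Type u} [Fintype ι] {p : ι → F[X]} {e : ι → ℕ} (n : ℕ)
    (hp : ∀ i, Irreducible (p i))
    (hdim : ∑ i, e i * (p i).natDegree = n) (i : ι) : e i ≤ n := by
  have h1 : e i * (p i).natDegree ≤ ∑ i, e i * (p i).natDegree :=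
    Finset.single_le_sum (f := fun i => e i * (p i).natDegree) (fun _ _ => Nat.zero_le _)
      (Finset.mem_univ i)
  have h2 : 1 ≤ (p i).natDegree := (hp i).natDegree_pos
  calc e i = e i * 1 := (mul_one _).symm
    _ ≤ e i * (p i).natDegree := Nat.mul_le_mul_left _ h2
    _ ≤ n := hdim ▸ h1

/-- outside `[1,n]` the tuple entry is `1` -/
theorem glktext_eq_one {ι : Type u} [Fintype ι] {p : ι → F[X]} {e : ι → ℕ} (n : ℕ)
    (hp : ∀ i, Irreducible (p i)) (he : ∀ i, 1 ≤ e i)
    (hdim : ∑ i, e i * (p i).natDegree = n) (j : ℕ) (hj : j = 0 ∨ n < j) :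
    tupleOfDecomp p e j = 1 := by
  unfold tupleOfDecomp
  apply Finset.prod_eq_one
  intro i hi
  exfalso
  rw [Finset.mem_filter] at hi
  have h1 := he i
  have h2 := glktext_e_le n hp hdim i
  omega

/-- PIECE GLK-TEXT: for `j = 0` and for `j > n` both filters are empty. -/
theorem tuple_ext {ι ι' : Type u} [Fintype ι] [Fintype ι']
    {p : ι → F[X]} {e : ι → ℕ} {p' : ι' → F[X]} {e' : ι' → ℕ} (n : ℕ)
    (hp : ∀ i, Irreducible (p i)) (he : ∀ i, 1 ≤ e i)
    (hdim : ∑ i, e i * (p i).natDegree = n)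
    (hp' : ∀ i, Irreducible (p' i)) (he' : ∀ i, 1 ≤ e' i)
    (hdim' : ∑ i, e' i * (p' i).natDegree = n)
    (hf : (fun j : Fin n => tupleOfDecomp p e ((j : ℕ) + 1))
      = (fun j : Fin n => tupleOfDecomp p' e' ((j : ℕ) + 1))) :
    ∀ j, tupleOfDecomp p e j = tupleOfDecomp p' e' j := by
  intro j
  by_cases hj : j = 0 ∨ n < j
  · rw [glktext_eq_one n hp he hdim j hj, glktext_eq_one n hp' he' hdim' j hj]
  · have h1 : j - 1 < n := by omega
    have h2 := congrFun hf ⟨j - 1, h1⟩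
    have h3 : j - 1 + 1 = j := by omega
    simpa only [h3] using h2

end pieces

end Cfsg.Agent.Helper17.GLk
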