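import Mathlib
import Cfsg.Agent.Lib.Helper17.GLkDefs

/-!
# S2478 piece GLK-TUP: `Tup_finite_ncard_le_of`
-/

open Polynomial

namespace Cfsg.Agent.Helper17.GLk

universe u

section pieces
variable {F : Type u} [Field F]

/-- splitting off the first entry of a tuple -/
theorem glktup_maps (k J m : ℕ) (hJ : 1 ≤ J) (f : Fin (k + 1) → F[X])
    (hf : f ∈ Tup F (k + 1) J m) :
    ((f 0, Fin.tail f) : F[X] × (Fin k → F[X])) ∈
      ⋃ r ∈ Finset.range (m / J + 1), (Mon F r) ×ˢ (Tup F k (J + 1) (m - J * r)) := by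
  obtain ⟨hf1, hf2⟩ := hf
  rw [Fin.sum_univ_succ] at hf2
  simp only [Fin.val_zero, add_zero, Fin.val_succ] at hf2
  have hle : J * (f 0).natDegree ≤ m := by omega
  have hr : (f 0).natDegree ≤ m / J := by
    rw [Nat.le_div_iff_mul_le (by omega)]
    rw [mul_comm]; exact hle
  refine Set.mem_biUnion (x := (f 0).natDegree) (Finset.mem_range.mpr (by omega)) ?_
  refine Set.mk_mem_prod ⟨(hf1 0).1, rfl, (hf1 0).2⟩ ⟨fun i => hf1 i.succ, ?_⟩
  have h3 : ∑ i : Fin k, (J + 1 + (i : ℕ)) * (Fin.tail f i).natDegree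
      = ∑ i : Fin k, (J + ((i : ℕ) + 1)) * (f i.succ).natDegree := by
    apply Finset.sum_congr rfl
    intro i _
    have : J + 1 + (i : ℕ) = J + ((i : ℕ) + 1) := by omega
    rw [this]; rfl
  rw [h3]
  omega

theorem glktup_inj (k : ℕ) :
    Function.Injective (fun f : Fin (k + 1) → F[X] => ((f 0, Fin.tail f) : F[X] × (Fin k → F[X]))) := by
  intro f f' h
  have h1 : f 0 = f' 0 := congrArg Prod.fst h
  have h2 : Fin.tail f = Fin.tail f' := congrArg Prod.snd h
  rw [← Fin.cons_self_tail f, ← Fin.cons_self_tail f', h1, h2]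

/-- PIECE GLK-TUP (GLK-MON is a hypothesis here; induction on `k`, `D_succ`): `f ↦ (f 0, Fin.tail f)` injects
`Tup F (k+1) J m` into `⋃_{r ≤ m / J} Mon F r ×ˢ Tup F k (J+1) (m - J*r)`. -/
theorem Tup_finite_ncard_le_of [Fintype F]
    (hMon : ∀ r, (Mon F r).Finite ∧ (Mon F r).ncard = Nw (Fintype.card F) r)
    (k J m : ℕ) (hJ : 1 ≤ J) :
    (Tup F k J m).Finite ∧ (Tup F k J m).ncard ≤ D (Fintype.card F) k J m := by
  induction k generalizing J m with
  | zero =>
    have hfin : (Tup F 0 J m).Finite := Set.toFinite _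
    refine ⟨hfin, ?_⟩
    show (Tup F 0 J m).ncard ≤ (if m = 0 then 1 else 0)
    by_cases hm : m = 0
    · rw [if_pos hm]
      exact Set.ncard_le_one_of_subsingleton _
    · rw [if_neg hm]
      have : Tup F 0 J m = ∅ := by
        ext f
        simp only [Tup, Set.mem_setOf_eq, Set.mem_empty_iff_false, iff_false, not_and]
        intro _ h
        apply hm
        rw [← h]
        simp
      rw [this]
      simp
  | succ k ih =>
    have hUfin : (⋃ r ∈ Finset.range (m / J + 1),
        (Mon F r) ×ˢ (Tup F k (J + 1) (m - J * r))).Finite :=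
      Set.Finite.biUnion (Finset.finite_toSet (Finset.range (m / J + 1)))
        (fun r _ => (hMon r).1.prod (ih (J + 1) (m - J * r) (by omega)).1)
    have hmaps : ∀ f ∈ Tup F (k + 1) J m,
        (fun f : Fin (k + 1) → F[X] => ((f 0, Fin.tail f) : F[X] × (Fin k → F[X]))) f ∈
        ⋃ r ∈ Finset.range (m / J + 1), (Mon F r) ×ˢ (Tup F k (J + 1) (m - J * r)) :=
      fun f hf => glktup_maps k J m hJ f hf
    have hinj : Set.InjOn
        (fun f : Fin (k + 1) → F[X] => ((f 0, Fin.tail f) : F[X] × (Fin k → F[X])))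
        (Tup F (k + 1) J m) := (glktup_inj k).injOn
    refine ⟨Set.Finite.of_injOn hmaps hinj hUfin, ?_⟩
    calc (Tup F (k + 1) J m).ncard
        ≤ (⋃ r ∈ Finset.range (m / J + 1),
            (Mon F r) ×ˢ (Tup F k (J + 1) (m - J * r))).ncard :=
          Set.ncard_le_ncard_of_injOn _ hmaps hinj hUfin
      _ ≤ ∑ r ∈ Finset.range (m / J + 1),
            ((Mon F r) ×ˢ (Tup F k (J + 1) (m - J * r))).ncard :=
          Finset.set_ncard_biUnion_le _ _
      _ ≤ ∑ r ∈ Finset.range (m / J + 1),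
            Nw (Fintype.card F) r * D (Fintype.card F) k (J + 1) (m - J * r) := by
          apply Finset.sum_le_sum
          intro r _
          rw [Set.ncard_prod, (hMon r).2]
          exact Nat.mul_le_mul_left _ (ih (J + 1) (m - J * r) (by omega)).2
      _ = D (Fintype.card F) (k + 1) J m := (D_succ _ _ _ _).symm

end pieces

end Cfsg.Agent.Helper17.GLk
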