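import Mathlib
import Cfsg.Agent.Lib.Helper8.GRDefs
import Cfsg.Agent.Lib.Helper4.XSDUAL

/-!
# S3085 PIECE GR-DECOMP (helper1): `C = ⟨a,b⟩ * C_C(a,b)` elementwise.
-/

set_option autoImplicit false
set_option linter.unusedVariables false

namespace Cfsg.Agent.Helper8.GR

open Cfsg.Agent.Helper8.XS

/-- aux: commuting with both factors gives commuting with the product -/
theorem decomp_cc {Q : Type*} [Group Q] (g x u : Q) (h1 : g * x = x * g) (h2 : g * u = u * g) :
    g * (x * u) = (x * u) * g := by
  calc g * (x * u) = (g * x) * u := by group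
    _ = (x * g) * u := by rw [h1]
    _ = x * (g * u) := by group
    _ = x * (u * g) := by rw [h2]
    _ = (x * u) * g := by group

theorem decomp {Q : Type*} [Group Q] {z : Q} (C : Subgroup Q) (h : XSp C z)
    (a b : Q) (ha : a ∈ C) (hb : b ∈ C) (hab : a * b ≠ b * a) (x : Q) (hx : x ∈ C) :
    ∃ u : Q, (u = 1 ∨ u = a ∨ u = b ∨ u = a * b) ∧
      x * u ∈ C ⊓ Subgroup.centralizer ({a, b} : Set Q) := by
  have hba : b * a ≠ a * b := fun e => hab e.symm
  have haab : a * (a * b) ≠ (a * b) * a := by
    intro e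
    apply hab
    have : a * (a * b) = a * (b * a) := by rw [e]; group
    exact mul_left_cancel this
  have hbab : b * (a * b) ≠ (a * b) * b := by
    intro e
    apply hba
    have : (b * a) * b = (a * b) * b := by rw [← e]; group
    exact mul_right_cancel this
  have key : ∀ u : Q, u ∈ C → a * (x * u) = (x * u) * a → b * (x * u) = (x * u) * b →
      x * u ∈ C ⊓ Subgroup.centralizer ({a, b} : Set Q) := by
    intro u hu e1 e2
    refine Subgroup.mem_inf.mpr ⟨C.mul_mem hx hu, ?_⟩
    rw [Subgroup.mem_centralizer_iff]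
    intro g hg
    rcases hg with rfl | hg
    · exact e1
    · rw [Set.mem_singleton_iff] at hg
      subst hg
      exact e2
  by_cases hxa : a * x = x * a
  · by_cases hxb : b * x = x * b
    · refine ⟨1, Or.inl rfl, key 1 C.one_mem ?_ ?_⟩
      · exact decomp_cc a x 1 hxa (by simp)
      · exact decomp_cc b x 1 hxb (by simp)
    · refine ⟨a, Or.inr (Or.inl rfl), key a ha ?_ ?_⟩
      · exact decomp_cc a x a hxa rfl
      · exact xs_mul_comm h b x a hb hx ha hxb hba
  · by_cases hxb : b * x = x * b
    · refine ⟨b, Or.inr (Or.inr (Or.inl rfl)), key b hb ?_ ?_⟩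
      · exact xs_mul_comm h a x b ha hx hb hxa hab
      · exact decomp_cc b x b hxb rfl
    · refine ⟨a * b, Or.inr (Or.inr (Or.inr rfl)), key (a * b) (C.mul_mem ha hb) ?_ ?_⟩
      · exact xs_mul_comm h a x (a * b) ha hx (C.mul_mem ha hb) hxa haab
      · exact xs_mul_comm h b x (a * b) hb hx (C.mul_mem ha hb) hxb hbab

end Cfsg.Agent.Helper8.GR
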