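import Mathlib
import Cfsg.Agent.Lib.Helper8.GRDefs
import Cfsg.Agent.Lib.Helper4.XSDUAL
import Cfsg.Agent.Lib.Helper1.GRDECOMP

/-!
# S3085 PIECE GR-CENTXS (helper1): the centralizer of a noncommuting pair again carries extraspecial data.
-/

set_option autoImplicit false
set_option linter.unusedVariables false

namespace Cfsg.Agent.Helper8.GR

open Cfsg.Agent.Helper8.XS

/-- aux: membership in `C ⊓ centralizer {a, b}` unfolded -/
theorem centxs_mem {Q : Type*} [Group Q] (C : Subgroup Q) (a b w : Q) :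
    w ∈ C ⊓ Subgroup.centralizer ({a, b} : Set Q) ↔ w ∈ C ∧ a * w = w * a ∧ b * w = w * b := by
  rw [Subgroup.mem_inf, Subgroup.mem_centralizer_iff]
  constructor
  · rintro ⟨h1, h2⟩
    exact ⟨h1, h2 a (by simp), h2 b (by simp)⟩
  · rintro ⟨h1, h2, h3⟩
    refine ⟨h1, ?_⟩
    intro g hg
    rcases hg with rfl | hg
    · exact h2
    · rw [Set.mem_singleton_iff] at hg
      subst hg
      exact h3

/-- aux: if `w` commutes with `y * u` and with `u` then it commutes with `y` -/
theorem centxs_cancel {Q : Type*} [Group Q] (w y u : Q) (h1 : w * (y * u) = (y * u) * w)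
    (h2 : w * u = u * w) : w * y = y * w := by
  have h3 : w * u⁻¹ = u⁻¹ * w := by
    calc w * u⁻¹ = u⁻¹ * (u * w) * u⁻¹ := by group
      _ = u⁻¹ * (w * u) * u⁻¹ := by rw [h2]
      _ = u⁻¹ * w := by group
  calc w * y = (w * (y * u)) * u⁻¹ := by group
    _ = ((y * u) * w) * u⁻¹ := by rw [h1]
    _ = (y * u) * (w * u⁻¹) := by group
    _ = (y * u) * (u⁻¹ * w) := by rw [h3]
    _ = y * w := by group

theorem centxs {Q : Type*} [Group Q] {z : Q} (C : Subgroup Q) (h : XSp C z)
    (a b : Q) (ha : a ∈ C) (hb : b ∈ C) (hab : a * b ≠ b * a) :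
    XSp (C ⊓ Subgroup.centralizer ({a, b} : Set Q)) z := by
  refine ⟨?_, h.hz1, h.hzz, ?_, ?_, ?_, ?_⟩
  · rw [centxs_mem]
    exact ⟨h.hzE, h.hcen a ha, h.hcen b hb⟩
  · intro x hx
    rw [centxs_mem] at hx
    exact h.hcen x hx.1
  · intro w hw hcw
    have hw' := (centxs_mem C a b w).mp hw
    refine h.hcenter w hw'.1 ?_
    intro y hy
    obtain ⟨u, hu, hyu⟩ := decomp C h a b ha hb hab y hy
    have h1 : w * (y * u) = (y * u) * w := hcw (y * u) hyu
    have hwa : w * a = a * w := hw'.2.1.symm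
    have hwb : w * b = b * w := hw'.2.2.symm
    have h2 : w * u = u * w := by
      rcases hu with rfl | rfl | rfl | rfl
      · simp
      · exact hwa
      · exact hwb
      · exact decomp_cc w a b hwa hwb
    exact centxs_cancel w y u h1 h2
  · intro x hx y hy
    rw [centxs_mem] at hx hy
    exact h.hcomm x hx.1 y hy.1
  · intro x hx
    rw [centxs_mem] at hx
    exact h.hsq x hx.1

end Cfsg.Agent.Helper8.GR
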