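import Mathlib
import Cfsg.Agent.Lib.Helper8.HJDefs

/-!
# S3313 PIECE CARDC (helper1): `|C_G(z)| = 60 * 32 = 1920` from `ZCfg`.
-/

set_option autoImplicit false

namespace Cfsg.Agent.Helper8.HJ

open Cfsg

/-- `|A5| = 60` transported along an isomorphism. -/
theorem cardc_card_of_iso {B : Type*} [Group B] (h : Nonempty (B ≃* alternatingGroup (Fin 5))) :
    Nat.card B = 60 := by
  obtain ⟨e⟩ := h
  rw [Nat.card_congr e.toEquiv, nat_card_alternatingGroup, Nat.card_eq_fintype_card, Fintype.card_fin]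
  decide

/-- PIECE CARDC.  `|C| = |K| |Q| = 60 * 32`: `(k, q) ↦ k * q` is a bijection `K × Q → C` (`hsup`, `hinf`). -/
theorem card_C {G : Type*} [Group G] [Finite G] {z : G} {Q K : Subgroup G} (c : ZCfg z Q K) :
    Nat.card ↥(Subgroup.centralizer ({z} : Set G)) = 1920 := by
  have hK60 : Nat.card K = 60 := cardc_card_of_iso c.hK
  have h1920 : Nat.card (K × Q) = 1920 := by rw [Nat.card_prod, hK60, c.hcard]
  rw [← h1920]
  symm
  apply Nat.card_congr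
  refine Equiv.ofBijective
    (fun p => ⟨p.1.1 * p.2.1, mul_mem (c.hKC p.1.2) (c.hQC p.2.2)⟩) ⟨?_, ?_⟩
  · rintro ⟨⟨k1, hk1⟩, ⟨q1, hq1⟩⟩ ⟨⟨k2, hk2⟩, ⟨q2, hq2⟩⟩ h
    simp only [Subtype.mk.injEq] at h
    have h1 : k2⁻¹ * k1 = q2 * q1⁻¹ := by
      have h' := congrArg (fun x => k2⁻¹ * x * q1⁻¹) h
      simp only [mul_assoc, mul_inv_cancel, mul_one, inv_mul_cancel_left] at h'
      exact h'
    have h2 : k2⁻¹ * k1 = 1 :=
      c.hinf _ (K.mul_mem (K.inv_mem hk2) hk1) (h1 ▸ Q.mul_mem hq2 (Q.inv_mem hq1))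
    have hk : k1 = k2 := by
      have := inv_mul_eq_one.mp h2
      exact this.symm
    subst hk
    have hq : q1 = q2 := mul_left_cancel h
    subst hq
    rfl
  · rintro ⟨x, hx⟩
    obtain ⟨k, hk, q, hq, rfl⟩ := c.hsup x hx
    exact ⟨(⟨k, hk⟩, ⟨q, hq⟩), rfl⟩

end Cfsg.Agent.Helper8.HJ
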