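import Mathlib
import Cfsg.Agent.Lib.Helper8.HJDefs

/-!
# S3313 PIECE CARDT (helper1): `|C_G(t)| = 4 * 60 = 240` from `TCfg`.
-/

set_option autoImplicit false

namespace Cfsg.Agent.Helper8.HJ

open Cfsg

/-- `|A5| = 60` transported along an isomorphism. -/
theorem cardt_card_of_iso {B : Type*} [Group B] (h : Nonempty (B ≃* alternatingGroup (Fin 5))) :
    Nat.card B = 60 := by
  obtain ⟨e⟩ := h
  rw [Nat.card_congr e.toEquiv, nat_card_alternatingGroup, Nat.card_eq_fintype_card, Fintype.card_fin]
  decide

/-- the order of an internal direct product -/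
theorem cardt_card_idp {G : Type*} [Group G] {V B S : Subgroup G}
    (h : Cfsg.IsInternalDirectProduct V B S) : Nat.card S = Nat.card V * Nat.card B := by
  obtain ⟨hV, hB, hcomm, hinf, hsup⟩ := h
  have comm : ∀ (m : V) (n : B), Commute (V.subtype m) (B.subtype n) :=
    fun m n => hcomm m.1 m.2 n.1 n.2
  have hinj : Function.Injective (MonoidHom.noncommCoprod V.subtype B.subtype comm) := by
    rw [MonoidHom.noncommCoprod_injective]
    refine ⟨V.subtype_injective, B.subtype_injective, ?_⟩
    rw [Subgroup.range_subtype, Subgroup.range_subtype, disjoint_iff, hinf]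
  have hrange : (MonoidHom.noncommCoprod V.subtype B.subtype comm).range = S := by
    rw [MonoidHom.noncommCoprod_range, Subgroup.range_subtype, Subgroup.range_subtype, hsup]
  rw [← hrange, ← Nat.card_prod]
  exact (Nat.card_congr (MonoidHom.ofInjective hinj).toEquiv).symm

/-- PIECE CARDT.  `|C_G(t)| = |V| |B| = 4 * 60` from the internal direct product. -/
theorem card_D {G : Type*} [Group G] [Finite G] {z t : G} {Q V B : Subgroup G} (d : TCfg z t Q V B) :
    Nat.card ↥(Subgroup.centralizer ({t} : Set G)) = 240 := by
  rw [cardt_card_idp d.hVB, d.hV, cardt_card_of_iso d.hB]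

end Cfsg.Agent.Helper8.HJ
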