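import Mathlib
import Cfsg.Agent.Lib.Helper1.FpfPair

/-!
# Hughes subgroups: the action of a `p`-group on a `q`-group (helper1)
-/

set_option autoImplicit false

namespace Cfsg.Agent.Helper1.Hughes

open Subgroup MonoidHom Cfsg.Agent.Helper1.Fpf

universe u

/-- A `p`-subgroup `P` normalising a nontrivial `q`-subgroup `Q` such that all elements of `P`
outside a `P`-invariant subgroup `B < P` have order `p` and centralise no nontrivial element
of `Q`: then `B` centralises `Q` and `|P : B| = p`. -/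
theorem pgroup_action {G : Type u} [Group G] [Finite G] {p q : ℕ} [hpf : Fact p.Prime]
    [hq : Fact q.Prime] (hqp : q ≠ p) (P Q B : Subgroup G) (hP : IsPGroup p P)
    (hQ : IsPGroup q Q) (hQ1 : Q ≠ ⊥) (hPQ : P ≤ normalizer (Q : Set G)) (hBP : B ≤ P)
    (hBn : ∀ g ∈ P, ∀ b ∈ B, g * b * g⁻¹ ∈ B)
    (hout : ∀ g ∈ P, g ∉ B → g ^ p = 1 ∧ ∀ u ∈ Q, g * u = u * g → u = 1)
    (hne : ∃ g ∈ P, g ∉ B) :
    B ≤ centralizer (Q : Set G) ∧ B.relIndex P = p := by
  haveI : Nontrivial ↥Q := (Subgroup.nontrivial_iff_ne_bot Q).mpr hQ1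
  let act : ↥P →* MulAut ↥Q := (Subgroup.normalizerMonoidHom Q).comp (Subgroup.inclusion hPQ)
  have hact : ∀ (g : ↥P) (u : ↥Q), ((act g u : ↥Q) : G) = (g : G) * (u : G) * (g : G)⁻¹ := by
    intro g u; rfl
  have hfpf : ∀ g : ↥P, (g : G) ∉ B → FixedPointFree (act g) := by
    intro g hg u hu
    apply Subtype.ext
    apply (hout g g.2 hg).2 u u.2
    have := congrArg Subtype.val hu
    rw [hact] at this
    calc (g : G) * u = ((g : G) * u * (g : G)⁻¹) * g := by group
      _ = u * g := by rw [this]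
  have hker : ∀ g : ↥P, act g = 1 → (g : G) ∈ B := by
    intro g hg
    by_contra hgB
    obtain ⟨u, hu⟩ := exists_ne (1 : ↥Q)
    apply hu
    apply hfpf g hgB
    rw [hg, MulAut.one_apply]
  set R : Subgroup (MulAut ↥Q) := act.range with hR
  set B' : Subgroup (MulAut ↥Q) := (B.subgroupOf P).map act with hB'
  have hRp : IsPGroup p R := hP.of_surjective act.rangeRestrict act.rangeRestrict_surjective
  have hB'R : B' ≤ R := by
    rintro _ ⟨b, _, rfl⟩
    exact ⟨b, rfl⟩
  have hmemB' : ∀ g : ↥P, act g ∈ B' → (g : G) ∈ B := by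
    rintro g ⟨b, hb, hbg⟩
    have h1 : act (b⁻¹ * g) = 1 := by rw [map_mul, map_inv, hbg, inv_mul_cancel]
    have h2 := hker _ h1
    have h3 : (g : G) = (b : G) * ((b⁻¹ * g : ↥P) : G) := by
      simp
    rw [h3]
    exact mul_mem (Subgroup.mem_subgroupOf.mp (SetLike.mem_coe.mp hb)) h2
  have hres := aut_pgroup hqp (Q := ↥Q) hQ R B' hRp hB'R
    (by
      rintro _ ⟨g, rfl⟩ _ ⟨b, hb, rfl⟩
      refine ⟨g * b * g⁻¹, ?_, by simp⟩
      have hb' : (b : G) ∈ B := Subgroup.mem_subgroupOf.mp (SetLike.mem_coe.mp hb)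
      change g * b * g⁻¹ ∈ B.subgroupOf P
      rw [Subgroup.mem_subgroupOf]
      exact hBn g g.2 b hb')
    (by
      rintro _ ⟨g, rfl⟩ hgB'
      have hgB : (g : G) ∉ B := by
        intro h
        exact hgB' ⟨g, Subgroup.mem_subgroupOf.mpr h, rfl⟩
      refine ⟨?_, hfpf g hgB⟩
      rw [← map_pow]
      have : g ^ p = 1 := Subtype.ext (by rw [Subgroup.coe_pow]; exact (hout g g.2 hgB).1)
      rw [this, map_one])
    (by
      obtain ⟨g, hgP, hgB⟩ := hne
      exact ⟨act ⟨g, hgP⟩, ⟨_, rfl⟩, fun h => hgB (hmemB' ⟨g, hgP⟩ h)⟩)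
  obtain ⟨hB'bot, hcard⟩ := hres
  have hBker : B.subgroupOf P = act.ker := by
    apply le_antisymm
    · intro b hb
      rw [MonoidHom.mem_ker]
      have : act b ∈ B' := ⟨b, hb, rfl⟩
      rw [hB'bot, Subgroup.mem_bot] at this
      exact this
    · intro g hg
      rw [Subgroup.mem_subgroupOf]
      exact hker g (MonoidHom.mem_ker.mp hg)
  constructor
  · intro b hb
    have hbP : b ∈ P := hBP hb
    have h1 : act ⟨b, hbP⟩ = 1 := by
      have : (⟨b, hbP⟩ : ↥P) ∈ B.subgroupOf P := Subgroup.mem_subgroupOf.mpr hb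
      rw [hBker] at this
      exact MonoidHom.mem_ker.mp this
    rw [Subgroup.mem_centralizer_iff]
    intro u hu
    have h2 := congrArg (fun f : MulAut ↥Q => ((f ⟨u, hu⟩ : ↥Q) : G)) h1
    simp only [hact, MulAut.one_apply] at h2
    -- h2 : b * u * b⁻¹ = u
    calc u * b = (b * u * b⁻¹) * b := by rw [h2]
      _ = b * u := by group
  · rw [Subgroup.relIndex, hBker, Subgroup.index_ker]
    exact hcard

end Cfsg.Agent.Helper1.Hughes
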