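import Mathlib
import Cfsg.Agent.Lib.Helper1.FpfPair

/-!
# Hughes subgroups: basic setting (helper1)

`HS p H`: `H` is a proper normal subgroup of `G` such that every element outside `H` has
`p`-th power `1`.
-/

set_option autoImplicit false

namespace Cfsg.Agent.Helper1.Hughes

open Subgroup MonoidHom Cfsg.Agent.Helper1.Fpf

universe u

/-- The Hughes setting. -/
structure HS (p : ℕ) {G : Type*} [Group G] (H : Subgroup G) : Prop where
  normal : H.Normal
  ne_top : H ≠ ⊤
  pow_eq_one : ∀ g : G, g ∉ H → g ^ p = 1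

namespace HS

variable {p : ℕ} {G : Type*} [Group G] {H : Subgroup G}

theorem exists_not_mem (hS : HS p H) : ∃ x : G, x ∉ H := by
  by_contra hcon
  push Not at hcon
  exact hS.ne_top (eq_top_iff.mpr fun x _ => hcon x)

theorem mul_not_mem (_hS : HS p H) {h x : G} (hh : h ∈ H) (hx : x ∉ H) : h * x ∉ H := by
  intro hmem
  apply hx
  have : x = h⁻¹ * (h * x) := by group
  rw [this]
  exact mul_mem (inv_mem hh) hmem

theorem mul_pow (hS : HS p H) {h x : G} (hh : h ∈ H) (hx : x ∉ H) : (h * x) ^ p = 1 :=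
  hS.pow_eq_one _ (hS.mul_not_mem hh hx)

theorem pow_eq_one_of_commute (hS : HS p H) {u x : G} (hu : u ∈ H) (hx : x ∉ H)
    (hc : x * u = u * x) : u ^ p = 1 := by
  have h1 := hS.mul_pow hu hx
  have hcomm : Commute u x := hc.symm
  rw [hcomm.mul_pow, hS.pow_eq_one x hx, mul_one] at h1
  exact h1

theorem pow_mem (hS : HS p H) (g : G) : g ^ p ∈ H := by
  by_cases hg : g ∈ H
  · exact _root_.pow_mem hg p
  · rw [hS.pow_eq_one g hg]; exact one_mem _

theorem quotient_pow (hS : HS p H) (y : G ⧸ H) :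
    haveI := hS.normal
    y ^ p = 1 := by
  haveI := hS.normal
  induction y using QuotientGroup.induction_on with
  | H g =>
    rw [← QuotientGroup.mk_pow, QuotientGroup.eq_one_iff]
    exact hS.pow_mem g

theorem subgroupOf (hS : HS p H) (M : Subgroup G) (hM : ¬ M ≤ H) : HS p (H.subgroupOf M) := by
  haveI := hS.normal
  refine ⟨inferInstance, ?_, ?_⟩
  · intro h
    apply hM
    rw [Subgroup.subgroupOf_eq_top] at h
    exact h
  · intro g hg
    apply Subtype.ext
    rw [Subgroup.coe_pow]
    exact hS.pow_eq_one _ (fun h => hg (Subgroup.mem_subgroupOf.mpr h))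

theorem map_mk (hS : HS p H) (V : Subgroup G) [V.Normal] (hV : V ≤ H) :
    HS p (H.map (QuotientGroup.mk' V)) := by
  haveI := hS.normal
  refine ⟨Subgroup.Normal.map inferInstance _ (QuotientGroup.mk'_surjective V), ?_, ?_⟩
  · intro h
    apply hS.ne_top
    have h1 := QuotientGroup.comap_map_mk' V H
    rw [h, Subgroup.comap_top, sup_eq_right.mpr hV] at h1
    exact h1.symm
  · intro y hy
    induction y using QuotientGroup.induction_on with
    | H g =>
      have hg : g ∉ H := fun h => hy (Subgroup.mem_map_of_mem _ h)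
      change ((g : G ⧸ V)) ^ p = 1
      rw [← QuotientGroup.mk_pow, hS.pow_eq_one g hg]
      rfl

/-- If `H` is a `p`-group then so is `G`. -/
theorem isPGroup_of_isPGroup (hS : HS p H) (hH : IsPGroup p H) : IsPGroup p G := by
  intro g
  obtain ⟨k, hk⟩ := hH ⟨g ^ p, hS.pow_mem g⟩
  refine ⟨k + 1, ?_⟩
  have := congrArg Subtype.val hk
  rw [Subgroup.coe_pow, Subgroup.coe_one] at this
  rw [_root_.pow_succ', _root_.pow_mul]
  exact this

theorem p_dvd_index [Finite G] (hS : HS p H) (hp : p.Prime) : p ∣ H.index := by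
  haveI := hS.normal
  haveI : Fact p.Prime := ⟨hp⟩
  have hq : IsPGroup p (G ⧸ H) := by
    intro y
    exact ⟨1, by rw [pow_one]; exact hS.quotient_pow y⟩
  obtain ⟨k, hk⟩ := IsPGroup.iff_card.mp hq
  rw [Subgroup.index_eq_card, hk]
  apply dvd_pow_self
  intro hk0
  rw [hk0, pow_zero, ← Subgroup.index_eq_card, Subgroup.index_eq_one] at hk
  exact hS.ne_top hk

theorem exists_index_eq [Finite G] (hS : HS p H) (hp : p.Prime) : ∃ k : ℕ, H.index = p ^ k := by
  haveI := hS.normal
  haveI : Fact p.Prime := ⟨hp⟩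
  have hq : IsPGroup p (G ⧸ H) := by
    intro y
    exact ⟨1, by rw [pow_one]; exact hS.quotient_pow y⟩
  obtain ⟨k, hk⟩ := IsPGroup.iff_card.mp hq
  exact ⟨k, by rw [Subgroup.index_eq_card, hk]⟩

theorem not_sylow_le [Finite G] (hS : HS p H) [hp : Fact p.Prime] (P : Sylow p G) :
    ¬ (P : Subgroup G) ≤ H := by
  intro hle
  have h1 : H.index ∣ (P : Subgroup G).index := Subgroup.index_dvd_of_le hle
  exact P.not_dvd_index ((hS.p_dvd_index hp.out).trans h1)

/-- elements of order prime to `p` lie in `H` -/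
theorem mem_of_isPGroup [Finite G] (hS : HS p H) (hp : p.Prime) {q : ℕ} (hq : q.Prime)
    (hqp : q ≠ p) {Q : Subgroup G} (hQ : IsPGroup q Q) : Q ≤ H := by
  haveI := hS.normal
  intro g hg
  rw [← QuotientGroup.eq_one_iff]
  have h1 : ((g : G ⧸ H)) ^ p = 1 := hS.quotient_pow _
  obtain ⟨k, hk⟩ := hQ ⟨g, hg⟩
  have h2 : ((g : G ⧸ H)) ^ q ^ k = 1 := by
    have := congrArg Subtype.val hk
    rw [Subgroup.coe_pow, Subgroup.coe_one] at this
    rw [← QuotientGroup.mk_pow, this]
    rfl
  have hcop : Nat.Coprime p (q ^ k) :=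
    Nat.Coprime.pow_right k ((Nat.coprime_primes hp hq).mpr (Ne.symm hqp))
  have h3 := (pow_gcd_eq_one (a := (g : G ⧸ H))).mpr ⟨h1, h2⟩
  rwa [hcop.gcd_eq_one, pow_one] at h3

end HS

/-- An extension of a nilpotent group `Y` by an `r`-group which is centralised by all Sylow
`s`-subgroups for `s ≠ r` is nilpotent. -/
theorem nilpotent_of_surjective_of_centralize {X Y : Type*} [Group X] [Finite X] [Group Y]
    (f : X →* Y) (hf : Function.Surjective f) (hY : Group.IsNilpotent Y) {r : ℕ}
    [hr : Fact r.Prime] (hker : IsPGroup r f.ker)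
    (hcent : ∀ (s : ℕ) [Fact s.Prime], s ≠ r → ∀ S : Sylow s X,
      (S : Subgroup X) ≤ centralizer (f.ker : Set X)) : Group.IsNilpotent X := by
  haveI : Finite Y := Finite.of_surjective f hf
  apply ((Group.isNilpotent_of_finite_tfae (G := X)).out 0 3 rfl rfl).mpr
  intro s hs S
  haveI := hs
  have hbar : ((S.mapSurjective hf : Sylow s Y) : Subgroup Y).Normal :=
    ((Group.isNilpotent_of_finite_tfae (G := Y)).out 0 3 rfl rfl).mp hY s hs _
  rw [Sylow.coe_mapSurjective] at hbar
  have hSK : ((S : Subgroup X) ⊔ f.ker).Normal := by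
    rw [← Subgroup.comap_map_eq]
    exact hbar.comap _
  by_cases hsr : s = r
  · subst hsr
    have hle : f.ker ≤ (S : Subgroup X) := hker.le_sylow_of_normal S
    rwa [sup_eq_left.mpr hle] at hSK
  · have hc := hcent s hsr S
    have hle : (S : Subgroup X) ⊔ f.ker ≤ normalizer ((S : Subgroup X) : Set X) := by
      apply sup_le Subgroup.le_normalizer
      intro v hv
      rw [Subgroup.mem_normalizer_iff]
      intro a
      constructor
      · intro ha
        have := hc ha v hv
        -- v * a = a * v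
        have e : v * a * v⁻¹ = a := by rw [this]; group
        rw [e]; exact ha
      · intro ha
        have h1 := hc ha v⁻¹ (inv_mem hv)
        -- v⁻¹ * (v a v⁻¹) = (v a v⁻¹) * v⁻¹
        have e : a = v⁻¹ * (v * a * v⁻¹) * v := by group
        rw [e, h1]
        have e2 : v * a * v⁻¹ * v⁻¹ * v = v * a * v⁻¹ := by group
        rw [e2]; exact ha
    have h1 : normalizer ((S : Subgroup X) : Set X) ⊔ ((S : Subgroup X) ⊔ f.ker) = ⊤ :=
      Sylow.normalizer_sup_eq_top' S (le_sup_left : (S : Subgroup X) ≤ (S : Subgroup X) ⊔ f.ker)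
    rw [sup_eq_left.mpr hle] at h1
    exact Subgroup.normalizer_eq_top_iff.mp h1

end Cfsg.Agent.Helper1.Hughes
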