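import Mathlib
import Cfsg.Agent.Lib.Helper1.HughesBasic
import Cfsg.Agent.Lib.Helper1.HughesAction

/-!
# Hughes--Thompson: a proper Hughes subgroup of a non-`p`-group has index `p` (helper1)
-/

set_option autoImplicit false

namespace Cfsg.Agent.Helper1.Hughes

open Subgroup MonoidHom Cfsg.Agent.Helper1.Fpf

universe u

theorem index_eq {p : ℕ} (hp : p.Prime) {G : Type u} [Group G] [Finite G] (H : Subgroup G)
    (hS : HS p H) (hG : ¬ IsPGroup p G) : H.index = p := by
  haveI : Fact p.Prime := ⟨hp⟩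
  haveI := hS.normal
  -- a prime `q ≠ p` dividing `|G|`
  obtain ⟨q, hq, hqdvd, hqp⟩ : ∃ q : ℕ, q.Prime ∧ q ∣ Nat.card G ∧ q ≠ p := by
    by_contra hcon
    push Not at hcon
    apply hG
    have h1 : Nat.card G = p ^ (Nat.card G).primeFactorsList.length :=
      Nat.eq_prime_pow_of_unique_prime_dvd Nat.card_pos.ne' (fun {d} hd hdd => hcon d hd hdd)
    exact IsPGroup.of_card h1
  haveI : Fact q.Prime := ⟨hq⟩
  let Q : Sylow q G := default
  have hQ1 : (Q : Subgroup G) ≠ ⊥ := Q.ne_bot_of_dvd_card hqdvd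
  have hQH : (Q : Subgroup G) ≤ H := hS.mem_of_isPGroup hp hq hqp Q.2
  set N : Subgroup G := normalizer ((Q : Subgroup G) : Set G) with hN
  have hfrat : N ⊔ H = ⊤ := Sylow.normalizer_sup_eq_top' Q hQH
  have hQN : (Q : Subgroup G) ≤ N := Subgroup.le_normalizer
  -- work in `↥N`
  set HN : Subgroup ↥N := H.subgroupOf N with hHN
  set QN : Subgroup ↥N := (Q : Subgroup G).subgroupOf N with hQNdef
  haveI hHNn : HN.Normal := hS.normal.subgroupOf N
  haveI hQNn : QN.Normal := Subgroup.normal_in_normalizer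
  have hidx : HN.index = H.index := by
    change H.relIndex N = H.index
    rw [← Subgroup.relIndex_sup_right N H, hfrat, Subgroup.relIndex_top_right]
  let S : Sylow p ↥N := default
  have hsup : (S : Subgroup ↥N) ⊔ HN = ⊤ := by
    rw [← Subgroup.index_eq_one]
    have h1 : ((S : Subgroup ↥N) ⊔ HN).index ∣ (S : Subgroup ↥N).index :=
      Subgroup.index_dvd_of_le le_sup_left
    have h2 : ((S : Subgroup ↥N) ⊔ HN).index ∣ HN.index := Subgroup.index_dvd_of_le le_sup_right
    obtain ⟨k, hk⟩ := hS.exists_index_eq hp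
    rw [hidx, hk] at h2
    have h3 : ¬ p ∣ (S : Subgroup ↥N).index := S.not_dvd_index
    have hcop : Nat.Coprime ((S : Subgroup ↥N) ⊔ HN).index (p ^ k) := by
      apply Nat.Coprime.pow_right
      rw [Nat.coprime_comm]
      apply (Nat.Prime.coprime_iff_not_dvd hp).mpr
      intro h
      exact h3 (h.trans h1)
    exact Nat.Coprime.eq_one_of_dvd hcop h2
  have hHNtop : HN ≠ ⊤ := by
    intro h
    rw [← Subgroup.index_eq_one, hidx, Subgroup.index_eq_one] at h
    exact hS.ne_top h
  have hQNq : IsPGroup q QN := Q.2.comap_subtype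
  have hQN1 : QN ≠ ⊥ := by
    intro h
    rw [hQNdef, Subgroup.subgroupOf_eq_bot, disjoint_iff, inf_eq_left.mpr hQN] at h
    exact hQ1 h
  have hres := pgroup_action (G := ↥N) hqp (S : Subgroup ↥N) QN ((S : Subgroup ↥N) ⊓ HN) S.2
    hQNq hQN1 (by rw [Subgroup.normalizer_eq_top_iff.mpr hQNn]; exact le_top) inf_le_left
    (by
      intro g hg b hb
      obtain ⟨hb1, hb2⟩ := Subgroup.mem_inf.mp hb
      exact Subgroup.mem_inf.mpr ⟨mul_mem (mul_mem hg hb1) (inv_mem hg), hHNn.conj_mem b hb2 g⟩)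
    (by
      intro g hg hgB
      have hgH : (g : G) ∉ H := fun h =>
        hgB (Subgroup.mem_inf.mpr ⟨hg, Subgroup.mem_subgroupOf.mpr h⟩)
      refine ⟨Subtype.ext (by rw [Subgroup.coe_pow]; exact hS.pow_eq_one _ hgH), ?_⟩
      intro u hu hc
      have hu' : (u : G) ∈ (Q : Subgroup G) := Subgroup.mem_subgroupOf.mp hu
      have hc' : (g : G) * (u : G) = (u : G) * (g : G) := by
        have := congrArg Subtype.val hc
        simpa using this
      have h1 := hS.pow_eq_one_of_commute (hQH hu') hgH hc'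
      have h2 := no_torsion_of_isPGroup hp hq hqp Q.2 ⟨(u : G), hu'⟩
        (Subtype.ext (by rw [Subgroup.coe_pow]; exact h1))
      have h3 : (u : G) = 1 := congrArg Subtype.val h2
      exact Subtype.ext h3)
    (by
      by_contra hcon
      push Not at hcon
      have hle : (S : Subgroup ↥N) ≤ HN := fun g hg => (Subgroup.mem_inf.mp (hcon g hg)).2
      rw [sup_eq_right.mpr hle] at hsup
      exact hHNtop hsup)
  have h1 : HN.relIndex (S : Subgroup ↥N) = p := by
    rw [← Subgroup.inf_relIndex_left]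
    exact hres.2
  rw [← hidx, ← Subgroup.relIndex_top_right, ← hsup, Subgroup.relIndex_sup_right]
  exact h1

end Cfsg.Agent.Helper1.Hughes
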