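import Mathlib
import Cfsg.Agent.Lib.Helper1.FpfNorm

/-!
# Splitting automorphisms: coprime action (helper1)

A variant of `Fpf.trivial_of_fpf_coprime` where the automorphism of the abelian group is only
assumed to be *splitting* (`a * α a * ⋯ * α^(r-1) a = 1`).
-/

set_option autoImplicit false

namespace Cfsg.Agent.Helper1.Hughes

open Subgroup MonoidHom Cfsg.Agent.Helper1.Fpf

section Abstract

variable {A Z : Type*} [CommGroup A] [Finite A] [Group Z] [Finite Z]

/-- Abstract form: a finite group `Z` acting on a finite abelian group `A` of coprime order,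
with a compatible splitting automorphism of `A` and fixed-point-free automorphism of `Z`,
both of prime order `r`, acts trivially. -/
theorem trivial_of_split_coprime (ρ : Z →* MulAut A) (α : A ≃* A) (β : Z ≃* Z)
    (hαβ : ∀ z a, α (ρ z a) = ρ (β z) (α a)) {r : ℕ} (hr : r.Prime)
    (hsplit : ∀ a : A, ∏ i ∈ Finset.range r, (α ^ i) a = 1)
    (hβ : FixedPointFree β) (hβr : β ^ r = 1)
    (hcop : (Nat.card Z).Coprime (Nat.card A)) (z : Z) (a : A) : ρ z a = a := by
  classical
  haveI : Fintype Z := Fintype.ofFinite Z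
  have hpow : ∀ (i : ℕ) (z : Z) (a : A), (α ^ i) (ρ z a) = ρ ((β ^ i) z) ((α ^ i) a) := by
    intro i
    induction i with
    | zero => intro z a; simp
    | succ i ih =>
      intro z a
      rw [pow_apply_succ, pow_apply_succ, pow_apply_succ, ih, hαβ]
  let N : A →* A := MonoidHom.mk' (fun a => ∏ z : Z, ρ z a) (by
    intro a b
    simp only [map_mul]
    exact Finset.prod_mul_distrib)
  have hN : ∀ a, N a = ∏ z : Z, ρ z a := fun a => rfl
  have h1 : ∀ (w : Z) (a : A), ∏ i ∈ Finset.range r, ρ (w / (β ^ i) w) ((α ^ i) a) = 1 := by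
    intro w a
    have h := hsplit (ρ w⁻¹ a)
    have h' := congrArg (ρ w) h
    rw [map_prod, map_one] at h'
    rw [← h']
    apply Finset.prod_congr rfl
    intro i _
    rw [hpow, div_eq_mul_inv, map_mul, MulAut.mul_apply, map_inv, map_inv, map_inv]
  have h3 : ∀ i, ¬ r ∣ i → ∀ b, ∏ w : Z, ρ (w / (β ^ i) w) b = N b := by
    intro i hi b
    have hf := pow_fpf hβ hr hβr hi
    have hbij : Function.Bijective (commutatorMap (β ^ i)) :=
      ⟨hf.commutatorMap_injective, hf.commutatorMap_surjective⟩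
    exact Function.Bijective.prod_comp hbij (fun z => ρ z b)
  obtain ⟨r', rfl⟩ : ∃ r', r = r' + 1 := ⟨r - 1, by have := hr.two_le; omega⟩
  have hNpow : ∀ a : A, a ^ Nat.card Z = N a := by
    intro a
    have h2 : ∏ i ∈ Finset.range (r' + 1), ∏ w : Z, ρ (w / (β ^ i) w) ((α ^ i) a) = 1 := by
      rw [Finset.prod_comm]
      exact Finset.prod_eq_one (fun w _ => h1 w a)
    rw [Finset.prod_range_succ'] at h2
    have e0 : ∏ w : Z, ρ (w / (β ^ 0) w) ((α ^ 0) a) = a ^ Nat.card Z := by
      simp [Nat.card_eq_fintype_card]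
    have e1 : ∏ i ∈ Finset.range r', ∏ w : Z, ρ (w / (β ^ (i + 1)) w) ((α ^ (i + 1)) a)
        = ∏ i ∈ Finset.range r', N ((α ^ (i + 1)) a) := by
      apply Finset.prod_congr rfl
      intro i hi
      rw [Finset.mem_range] at hi
      exact h3 (i + 1) (Nat.not_dvd_of_pos_of_lt (Nat.succ_pos i) (by omega)) _
    rw [e0, e1] at h2
    have h5 := congrArg N (hsplit a)
    rw [map_prod, map_one, Finset.prod_range_succ'] at h5
    simp only [pow_zero, MulAut.one_apply] at h5
    exact mul_left_cancel (h2.trans h5.symm)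
  have hNz : N (ρ z a) = N a := by
    rw [hN, hN]
    have : ∀ w : Z, ρ w (ρ z a) = ρ (w * z) a := by
      intro w; rw [map_mul, MulAut.mul_apply]
    simp only [this]
    exact Equiv.prod_comp (Equiv.mulRight z) (fun w => ρ w a)
  have hc : (a⁻¹ * ρ z a) ^ Nat.card Z = 1 := by
    rw [hNpow, map_mul, map_inv, hNz, inv_mul_cancel]
  have hc' : (a⁻¹ * ρ z a) ^ Nat.card A = 1 := pow_card_eq_one'
  have h6 := (pow_gcd_eq_one (a := a⁻¹ * ρ z a)).mpr ⟨hc, hc'⟩
  rw [Nat.Coprime.gcd_eq_one hcop, pow_one] at h6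
  exact (inv_mul_eq_one.mp h6).symm

end Abstract

section Concrete

variable {G : Type*} [Group G] [Finite G]

/-- If `x ^ r = 1` and `(w * x) ^ r = 1` for all `w` in the abelian normal subgroup `W`, and `x`
normalises `Q` and centralises no nontrivial element of `Q`, `|Q|` prime to `|W|`, then
`Q` centralises `W`. -/
theorem le_centralizer_of_split {r : ℕ} (hr : r.Prime) (x : G) (hx : x ^ r = 1)
    (W : Subgroup G) [hWn : W.Normal] (hWc : ∀ a ∈ W, ∀ b ∈ W, a * b = b * a)
    (hsplit : ∀ w ∈ W, (w * x) ^ r = 1)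
    (Q : Subgroup G) (hxQ : x ∈ normalizer (Q : Set G))
    (hfix : ∀ u ∈ Q, x * u = u * x → u = 1)
    (hcop : (Nat.card Q).Coprime (Nat.card W)) : Q ≤ centralizer (W : Set G) := by
  letI : CommGroup W := { (inferInstance : Group W) with
    mul_comm := fun a b => Subtype.ext (hWc a a.2 b b.2) }
  let ρ : Q →* MulAut W := (MulAut.conjNormal (H := W)).comp Q.subtype
  let α : W ≃* W := MulAut.conjNormal x
  let β : Q ≃* Q := Subgroup.normalizerMonoidHom Q ⟨x, hxQ⟩
  have hβapp : ∀ u : Q, ((β u : Q) : G) = x * u * x⁻¹ := fun u => rfl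
  have hαpow : ∀ (i : ℕ) (w : W), (((α ^ i) w : W) : G) = x ^ i * w * (x ^ i)⁻¹ := by
    intro i w
    have : α ^ i = MulAut.conjNormal (x ^ i) := by rw [map_pow]
    rw [this, MulAut.conjNormal_apply]
  have hmp : ∀ (w : W) (n : ℕ),
      ((w : G) * x) ^ n = ((∏ i ∈ Finset.range n, (α ^ i) w : W) : G) * x ^ n := by
    intro w n
    induction n with
    | zero => simp
    | succ n ih =>
      rw [pow_succ, ih, Finset.prod_range_succ, Subgroup.coe_mul, hαpow, pow_succ]
      group
  have hsp : ∀ w : W, ∏ i ∈ Finset.range r, (α ^ i) w = 1 := by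
    intro w
    have h1 := hmp w r
    rw [hsplit w w.2, hx, mul_one] at h1
    exact Subtype.ext h1.symm
  have hβfpf : FixedPointFree β := by
    intro u hu
    apply Subtype.ext
    apply hfix u u.2
    have := congrArg Subtype.val hu
    rw [hβapp] at this
    calc x * (u : G) = (x * u * x⁻¹) * x := by group
      _ = u * x := by rw [this]
  have hβr : β ^ r = 1 := by
    change (Subgroup.normalizerMonoidHom Q ⟨x, hxQ⟩) ^ r = 1
    rw [← map_pow]
    have : (⟨x, hxQ⟩ : ↥(normalizer (Q : Set G))) ^ r = 1 := Subtype.ext (by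
      rw [Subgroup.coe_pow]; exact hx)
    rw [this, map_one]
  have key := trivial_of_split_coprime ρ α β
    (by
      intro z a
      apply Subtype.ext
      simp only [ρ, α, MonoidHom.comp_apply, Subgroup.coe_subtype, MulAut.conjNormal_apply, hβapp]
      group) hr hsp hβfpf hβr hcop
  intro z hz v hv
  have h := congrArg Subtype.val (key ⟨z, hz⟩ ⟨v, hv⟩)
  simp only [ρ, MonoidHom.comp_apply, Subgroup.coe_subtype, MulAut.conjNormal_apply] at h
  calc v * z = (z * v * z⁻¹) * z := by rw [h]
    _ = z * v := by group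

end Concrete

end Cfsg.Agent.Helper1.Hughes
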