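import Mathlib
import Cfsg.Agent.Lib.Helper1.HughesBasic
import Cfsg.Agent.Lib.Helper1.HughesAction
import Cfsg.Agent.Lib.Helper1.HughesSplit
import Cfsg.Agent.Lib.Helper1.FpfThompson

/-!
# Hughes--Thompson--Kegel: a proper Hughes subgroup is nilpotent (helper1)
-/

set_option autoImplicit false

namespace Cfsg.Agent.Helper1.Hughes

open Subgroup MonoidHom Cfsg.Agent.Helper1.Fpf
open scoped Pointwise

universe u

/-- Reduction step: if `H` contains a nontrivial abelian normal `r`-subgroup of `G` and the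
theorem holds for smaller groups, then `H` is nilpotent. -/
theorem nilpotent_of_normal_abelian {G : Type u} [Group G] [Finite G] {p : ℕ}
    [hp : Fact p.Prime] {H : Subgroup G} (hS : HS p H)
    (ih : ∀ (G' : Type u) [Group G'] [Finite G'], Nat.card G' < Nat.card G →
      ∀ H' : Subgroup G', HS p H' → Group.IsNilpotent H')
    {r : ℕ} [hr : Fact r.Prime] (V : Subgroup G) [hVn : V.Normal] (hVH : V ≤ H)
    (hVr : IsPGroup r V) (hVc : ∀ a ∈ V, ∀ b ∈ V, a * b = b * a) (hV1 : V ≠ ⊥) :
    Group.IsNilpotent H := by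
  haveI := hS.normal
  have hquot : Group.IsNilpotent ↥(H.map (QuotientGroup.mk' V)) := by
    apply ih (G ⧸ V) _ _ (hS.map_mk V hVH)
    rw [← Subgroup.index_eq_card, ← Subgroup.card_mul_index V]
    have h1 : 1 < Nat.card V := by
      rw [Subgroup.one_lt_card_iff_ne_bot]; exact hV1
    have h2 : 0 < V.index := Nat.pos_of_ne_zero Subgroup.index_ne_zero_of_finite
    nlinarith
  let f : ↥H →* ↥(H.map (QuotientGroup.mk' V)) := (QuotientGroup.mk' V).subgroupMap H
  have hf : Function.Surjective f := (QuotientGroup.mk' V).subgroupMap_surjective H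
  have hfa : ∀ a : ↥H, ((f a : ↥(H.map (QuotientGroup.mk' V))) : G ⧸ V) = ((a : G) : G ⧸ V) :=
    fun a => rfl
  have hker : ∀ a : ↥H, a ∈ f.ker ↔ (a : G) ∈ V := by
    intro a
    rw [MonoidHom.mem_ker, ← QuotientGroup.eq_one_iff, ← hfa]
    constructor
    · intro h; rw [h]; rfl
    · intro h; exact Subtype.ext h
  apply nilpotent_of_surjective_of_centralize f hf hquot (r := r)
  · rintro ⟨a, ha⟩
    obtain ⟨k, hk⟩ := hVr ⟨a, (hker a).mp ha⟩
    refine ⟨k, ?_⟩
    apply Subtype.ext
    apply Subtype.ext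
    have := congrArg Subtype.val hk
    simpa using this
  · intro s hs hsr S
    set SG : Subgroup G := (S : Subgroup ↥H).map H.subtype with hSGdef
    have hSG : IsPGroup s SG := S.2.map _
    have hSGH : SG ≤ H := Subgroup.map_subtype_le _
    have hcentG : SG ≤ centralizer (V : Set G) := by
      by_cases hsp : s = p
      · have hrp : r ≠ p := fun h => hsr (hsp.trans h.symm)
        have hSGp : IsPGroup p SG := by rw [← hsp]; exact hSG
        obtain ⟨P, hP⟩ := hSGp.exists_le_sylow
        have hPnot := hS.not_sylow_le P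
        have hres := pgroup_action hrp (P : Subgroup G) V ((P : Subgroup G) ⊓ H) P.2 hVr hV1
          (by rw [Subgroup.normalizer_eq_top_iff.mpr hVn]; exact le_top) inf_le_left
          (by
            intro g hg b hb
            obtain ⟨hb1, hb2⟩ := Subgroup.mem_inf.mp hb
            exact Subgroup.mem_inf.mpr ⟨mul_mem (mul_mem hg hb1) (inv_mem hg),
              hS.normal.conj_mem b hb2 g⟩)
          (by
            intro g hg hgB
            have hgH : g ∉ H := fun h => hgB (Subgroup.mem_inf.mpr ⟨hg, h⟩)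
            refine ⟨hS.pow_eq_one g hgH, ?_⟩
            intro u hu hc
            have h1 := hS.pow_eq_one_of_commute (hVH hu) hgH hc
            have h2 := no_torsion_of_isPGroup hp.out hr.out hrp hVr ⟨u, hu⟩
              (Subtype.ext (by rw [Subgroup.coe_pow]; exact h1))
            exact congrArg Subtype.val h2)
          (by
            by_contra hcon
            push Not at hcon
            exact hPnot (fun g hg => (Subgroup.mem_inf.mp (hcon g hg)).2))
        exact (le_inf hP hSGH).trans hres.1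
      · have hfrat : normalizer (SG : Set G) ⊔ H = ⊤ := Sylow.normalizer_sup_eq_top S
        obtain ⟨x, hxN, hxH⟩ : ∃ x ∈ normalizer (SG : Set G), x ∉ H := by
          by_contra hcon
          push Not at hcon
          have hle : normalizer (SG : Set G) ≤ H := hcon
          rw [sup_eq_right.mpr hle] at hfrat
          exact hS.ne_top hfrat
        refine le_centralizer_of_split hp.out x (hS.pow_eq_one x hxH) V hVc
          (fun w hw => hS.mul_pow (hVH hw) hxH) SG hxN ?_
          (IsPGroup.coprime_card_of_ne s r hsr SG V hSG hVr)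
        intro u hu hc
        have h1 := hS.pow_eq_one_of_commute (hSGH hu) hxH hc
        have h2 := no_torsion_of_isPGroup hp.out hs.out hsp hSG ⟨u, hu⟩
          (Subtype.ext (by rw [Subgroup.coe_pow]; exact h1))
        exact congrArg Subtype.val h2
    intro a ha v hv
    apply Subtype.ext
    have := hcentG (Subgroup.mem_map_of_mem H.subtype ha) (v : G) ((hker v).mp hv)
    simpa using this

theorem nilpotent_aux {p : ℕ} (hp : p.Prime) : ∀ (n : ℕ) (G : Type u) [Group G] [Finite G],
    Nat.card G = n → ∀ H : Subgroup G, HS p H → Group.IsNilpotent H := by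
  intro n
  induction n using Nat.strong_induction_on with
  | _ n ih =>
  intro G _ _ hcard H hS
  haveI : Fact p.Prime := ⟨hp⟩
  haveI := hS.normal
  have ih' : ∀ (G' : Type u) [Group G'] [Finite G'], Nat.card G' < Nat.card G →
      ∀ H' : Subgroup G', HS p H' → Group.IsNilpotent H' :=
    fun G' _ _ h H' hS' => ih (Nat.card G') (hcard ▸ h) G' rfl H' hS'
  obtain ⟨x, hx⟩ := hS.exists_not_mem
  have hxp : x ^ p = 1 := hS.pow_eq_one x hx
  -- the case `p = 2`
  by_cases hp2 : p = 2
  · have hx2 : x * x = 1 := by rw [← pow_two, ← hp2]; exact hxp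
    have hxinv : x⁻¹ = x := inv_eq_of_mul_eq_one_left hx2
    have hinv : ∀ h ∈ H, x * h * x⁻¹ = h⁻¹ := by
      intro h hh
      have h1 := hS.mul_pow hh hx
      rw [hp2, pow_two] at h1
      rw [hxinv]
      apply eq_inv_of_mul_eq_one_right
      rw [← h1]; group
    have hcomm : ∀ a b : ↥H, a * b = b * a := by
      intro a b
      apply Subtype.ext
      have h1 := hinv (a * b) (mul_mem a.2 b.2)
      have h2 : x * ((a : G) * b) * x⁻¹ = (x * a * x⁻¹) * (x * b * x⁻¹) := by group
      rw [h2, hinv a a.2, hinv b b.2] at h1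
      have h3 : ((a : G)⁻¹ * (b : G)⁻¹)⁻¹ = (((a : G) * b)⁻¹)⁻¹ := by rw [h1]
      rw [inv_inv, mul_inv_rev, inv_inv, inv_inv] at h3
      exact h3.symm
    letI : CommGroup ↥H := { (inferInstance : Group ↥H) with mul_comm := hcomm }
    exact CommGroup.isNilpotent
  -- the case `p ∤ |H|`
  by_cases hpdvd : p ∣ Nat.card H
  swap
  · let φ : ↥H ≃* ↥H := MulAut.conjNormal x
    have hφ : FixedPointFree φ := by
      intro u hu
      have h1 := congrArg Subtype.val hu
      rw [MulAut.conjNormal_apply] at h1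
      have hc : x * (u : G) = u * x := by
        calc x * (u : G) = (x * u * x⁻¹) * x := by group
          _ = u * x := by rw [h1]
      have h2 := hS.pow_eq_one_of_commute u.2 hx hc
      have h3 : u ^ p = 1 := Subtype.ext (by rw [Subgroup.coe_pow]; exact h2)
      have h4 : u ^ Nat.card H = 1 := pow_card_eq_one'
      have h5 := (pow_gcd_eq_one (a := u)).mpr ⟨h3, h4⟩
      have hcop : Nat.Coprime p (Nat.card H) := (Nat.Prime.coprime_iff_not_dvd hp).mpr hpdvd
      rwa [hcop.gcd_eq_one, pow_one] at h5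
    have hφp : φ ^ p = 1 := by
      change (MulAut.conjNormal x : MulAut ↥H) ^ p = 1
      rw [← map_pow, hxp, map_one]
    exact fpf_nilpotent φ hφ hp hφp
  -- the main case
  let P : Sylow p ↥H := default
  have hP1 : (P : Subgroup ↥H) ≠ ⊥ := P.ne_bot_of_dvd_card hpdvd
  set W : Subgroup ↥H := Cfsg.centerThompsonAOf (P : Subgroup ↥H) with hW
  have hW1 : W ≠ ⊥ := Cfsg.Agent.S0658.centerThompsonAOf_ne_bot (P : Subgroup ↥H) P.2 hP1
  have hWP : W ≤ (P : Subgroup ↥H) := (Cfsg.Agent.S0659.cfA hp2).le_self ↥H (P : Subgroup ↥H)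
  have hWp : IsPGroup p W := P.2.to_le hWP
  have hWc : ∀ a ∈ W, ∀ b ∈ W, a * b = b * a := by
    intro a ha b hb
    have h1 := (Subgroup.mem_inf.mp ha).2
    rw [Subgroup.mem_centralizer_iff] at h1
    exact (h1 b (Subgroup.mem_inf.mp hb).1).symm
  set WG : Subgroup G := W.map H.subtype with hWG
  set PG : Subgroup G := (P : Subgroup ↥H).map H.subtype with hPG
  have hfrat : normalizer (PG : Set G) ⊔ H = ⊤ := Sylow.normalizer_sup_eq_top P
  have hNN : normalizer (PG : Set G) ≤ normalizer (WG : Set G) := by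
    intro g hg
    let ψ : ↥H ≃* ↥H := MulAut.conjNormal g
    have hψP : Inv ψ (P : Subgroup ↥H) := by
      intro a ha
      have h1 : (a : G) ∈ PG := Subgroup.mem_map_of_mem H.subtype ha
      have h2 : g * a * g⁻¹ ∈ PG := (Subgroup.mem_normalizer_iff.mp hg _).mp h1
      obtain ⟨b, hb, hbe⟩ := h2
      have : ψ a = b := Subtype.ext (by rw [MulAut.conjNormal_apply]; exact hbe.symm)
      rw [this]; exact hb
    have h1 := Cfsg.Agent.Helper4.ZJ.centerThompsonAOf_map_of_injOn ψ.toMonoidHom
      (P : Subgroup ↥H) ψ.injective.injOn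
    rw [hψP.map_eq] at h1
    have hψW : Inv ψ W := by
      intro a ha
      rw [hW, h1]
      exact Subgroup.mem_map_of_mem _ ha
    apply Cfsg.Agent.S0087.mem_normalizer_of_forall
    rintro _ ⟨w, hw, rfl⟩
    exact ⟨ψ w, hψW w hw, by simp [ψ, MulAut.conjNormal_apply]⟩
  have hWGH : WG ≤ H := Subgroup.map_subtype_le _
  have hWGp : IsPGroup p WG := hWp.map _
  have hWG1 : WG ≠ ⊥ := by
    intro h
    apply hW1
    rwa [hWG, Subgroup.map_eq_bot_iff_of_injective _ H.subtype_injective] at h
  have hWGc : ∀ a ∈ WG, ∀ b ∈ WG, a * b = b * a := by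
    rintro _ ⟨a, ha, rfl⟩ _ ⟨b, hb, rfl⟩
    have := congrArg Subtype.val (hWc a ha b hb)
    simpa using this
  by_cases hM : normalizer (WG : Set G) = ⊤
  · haveI : WG.Normal := Subgroup.normalizer_eq_top_iff.mp hM
    exact nilpotent_of_normal_abelian hS ih' WG hWGH hWGp hWGc hWG1
  -- the normalizer of `WG` is proper
  set M : Subgroup G := normalizer (WG : Set G) with hMdef
  have hMH : ¬ M ≤ H := by
    intro hle
    have : normalizer (PG : Set G) ≤ H := hNN.trans hle
    rw [sup_eq_right.mpr this] at hfrat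
    exact hS.ne_top hfrat
  have hSM : HS p (H.subgroupOf M) := hS.subgroupOf M hMH
  have hnilM : Group.IsNilpotent ↥(H.subgroupOf M) :=
    ih' ↥M (card_lt_of_ne_top' hM) _ hSM
  have hmemM : ∀ n : ↥(normalizer (W : Set ↥H)), ((n : ↥H) : G) ∈ M := by
    intro n
    apply Cfsg.Agent.S0087.mem_normalizer_of_forall
    rintro _ ⟨w, hw, rfl⟩
    have h1 : (n : ↥H) * w * (n : ↥H)⁻¹ ∈ W := (Subgroup.mem_normalizer_iff.mp n.2 w).mp hw
    exact ⟨_, h1, by simp⟩
  let ι₁ : ↥(normalizer (W : Set ↥H)) →* ↥M :=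
    (H.subtype.comp (normalizer (W : Set ↥H)).subtype).codRestrict M hmemM
  let ι : ↥(normalizer (W : Set ↥H)) →* ↥(H.subgroupOf M) :=
    ι₁.codRestrict (H.subgroupOf M) (fun n => Subgroup.mem_subgroupOf.mpr (n : ↥H).2)
  have hι : Function.Injective ι := by
    intro a b hab
    apply Subtype.ext
    apply Subtype.ext
    have := congrArg (fun z : ↥(H.subgroupOf M) => ((z : ↥M) : G)) hab
    exact this
  have hnilN : Group.IsNilpotent ↥(normalizer (W : Set ↥H)) := by
    haveI := hnilM
    apply Subgroup.isNilpotent_of_ker_le_center ι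
    rw [(MonoidHom.ker_eq_bot_iff ι).mpr hι]
    exact bot_le
  have hnpcN : Cfsg.Agent.Helper10.NPC p ↥(normalizer (W : Set ↥H)) :=
    Cfsg.Agent.Helper3.exists_normal_compl_of_isNilpotent hnilN p
  obtain ⟨K, hKn, hKcop, k, hk⟩ : Cfsg.Agent.Helper10.NPC p ↥H :=
    Cfsg.Agent.Helper4.GT.gt (Cfsg.Agent.S0659.cfA hp2) hp2 P hnpcN
  haveI := hKn
  by_cases hKbot : K = ⊥
  · have hHp : IsPGroup p ↥H := IsPGroup.of_card (n := k) (by
      rw [← hk, hKbot, Subgroup.index_bot])
    exact hHp.isNilpotent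
  have hKinv : ∀ ψ : ↥H ≃* ↥H, Inv ψ K := by
    intro ψ a ha
    apply Cfsg.Agent.Helper3.mem_of_coprime_orderOf_of_index_pow K hk
    rw [MulEquiv.orderOf_eq]
    exact Nat.Coprime.coprime_dvd_left (Subgroup.orderOf_dvd_natCard K ha) hKcop
  set KG : Subgroup G := K.map H.subtype with hKG
  haveI hKGn : KG.Normal := by
    constructor
    rintro _ ⟨a, ha, rfl⟩ g
    exact ⟨(MulAut.conjNormal g : ↥H ≃* ↥H) a, hKinv _ a ha, by simp [MulAut.conjNormal_apply]⟩
  have hKGcard : Nat.card KG = Nat.card K := Subgroup.card_map_of_injective H.subtype_injective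
  have hKGcop : (Nat.card KG).Coprime p := by rw [hKGcard]; exact hKcop
  have hKGH : KG ≤ H := Subgroup.map_subtype_le _
  have hKG1 : KG ≠ ⊥ := by
    intro h
    apply hKbot
    rwa [hKG, Subgroup.map_eq_bot_iff_of_injective _ H.subtype_injective] at h
  have hKGnil : Group.IsNilpotent ↥KG := by
    let φ : ↥KG ≃* ↥KG := MulAut.conjNormal x
    have hφ : FixedPointFree φ := by
      intro u hu
      have h1 := congrArg Subtype.val hu
      rw [MulAut.conjNormal_apply] at h1
      have hc : x * (u : G) = u * x := by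
        calc x * (u : G) = (x * u * x⁻¹) * x := by group
          _ = u * x := by rw [h1]
      have h2 := hS.pow_eq_one_of_commute (hKGH u.2) hx hc
      have h3 : u ^ p = 1 := Subtype.ext (by rw [Subgroup.coe_pow]; exact h2)
      have h4 : u ^ Nat.card KG = 1 := pow_card_eq_one'
      have h5 := (pow_gcd_eq_one (a := u)).mpr ⟨h3, h4⟩
      rwa [hKGcop.symm.gcd_eq_one, pow_one] at h5
    have hφp : φ ^ p = 1 := by
      change (MulAut.conjNormal x : MulAut ↥KG) ^ p = 1
      rw [← map_pow, hxp, map_one]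
    exact fpf_nilpotent φ hφ hp hφp
  have hKGcard1 : Nat.card KG ≠ 1 := fun h => hKG1 (Subgroup.card_eq_one.mp h)
  obtain ⟨q, hq, hqdvd⟩ := Nat.exists_prime_and_dvd hKGcard1
  haveI : Fact q.Prime := ⟨hq⟩
  let S : Sylow q ↥KG := default
  haveI hSn : (S : Subgroup ↥KG).Normal :=
    ((Group.isNilpotent_of_finite_tfae (G := ↥KG)).out 0 3 rfl rfl).mp hKGnil q ⟨hq⟩ S
  haveI hSc : (S : Subgroup ↥KG).Characteristic := Sylow.characteristic_of_normal S hSn
  have hS1 : (S : Subgroup ↥KG) ≠ ⊥ := S.ne_bot_of_dvd_card hqdvd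
  set Q₀ : Subgroup G := (S : Subgroup ↥KG).map KG.subtype with hQ₀
  haveI hQ₀n : Q₀.Normal := normal_map_char KG (S : Subgroup ↥KG)
  have hQ₀q : IsPGroup q Q₀ := S.2.map KG.subtype
  have hQ₀1 : Q₀ ≠ ⊥ := by
    intro h
    apply hS1
    rwa [hQ₀, Subgroup.map_eq_bot_iff_of_injective _ KG.subtype_injective] at h
  have hQ₀H : Q₀ ≤ H := (Subgroup.map_subtype_le _).trans hKGH
  haveI : Nontrivial ↥Q₀ := (Subgroup.nontrivial_iff_ne_bot Q₀).mpr hQ₀1
  set V : Subgroup G := (Subgroup.center ↥Q₀).map Q₀.subtype with hV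
  haveI hVn : V.Normal := normal_map_char Q₀ (Subgroup.center ↥Q₀)
  have hVQ : V ≤ Q₀ := Subgroup.map_subtype_le _
  have hVq : IsPGroup q V := hQ₀q.to_le hVQ
  have hV1 : V ≠ ⊥ := by
    intro h
    rw [hV, Subgroup.map_eq_bot_iff_of_injective _ Q₀.subtype_injective] at h
    have h2 : IsPGroup q ↥Q₀ := hQ₀q
    have := h2.center_nontrivial
    rw [h] at this
    exact not_nontrivial _ this
  have hVc : ∀ a ∈ V, ∀ b ∈ V, a * b = b * a := by
    rintro _ ⟨a, ha, rfl⟩ _ ⟨b, hb, rfl⟩
    have := Subgroup.mem_center_iff.mp ha b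
    have h2 := congrArg Subtype.val this
    simpa using h2.symm
  exact nilpotent_of_normal_abelian hS ih' V (hVQ.trans hQ₀H) hVq hVc hV1

/-- **Hughes--Thompson--Kegel**: if `H` is a proper normal subgroup of the finite group `G` such
that all elements outside `H` have order `p`, then `H` is nilpotent. -/
theorem nilpotent {p : ℕ} (hp : p.Prime) {G : Type u} [Group G] [Finite G] (H : Subgroup G)
    (hS : HS p H) : Group.IsNilpotent H :=
  nilpotent_aux hp _ G rfl H hS

end Cfsg.Agent.Helper1.Hughes
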