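import Mathlib
import Cfsg.Agent.Lib.Helper3.J1ArithDefs

/-!
# S0448 piece FANOEQ (helper1): the arithmetic content of the FANO realization.
-/

set_option autoImplicit false
set_option linter.unusedSectionVars false
set_option linter.unusedVariables false

namespace Cfsg.Agent.Helper3.J1A

variable {ι : Type*} [Fintype ι]

theorem fanoeq_adm {τ e d t : ℤ} (he : e = 1 ∨ e = -1) (ht : t = e * τ) (hd : 0 < d)
    (h8 : (8 : ℤ) ∣ d - t) (h8a : t + 8 ≤ d) (h8b : 0 ≤ d + 7 * t) : Adm τ (e * d) := by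
  rcases he with rfl | rfl
  · simp only [one_mul] at ht ⊢; subst ht; exact ⟨h8, Or.inl ⟨hd, h8a, h8b⟩⟩
  · refine ⟨?_, Or.inr ⟨by linarith, by linarith, by linarith⟩⟩
    have : (-1 * d - τ) = -(d - t) := by rw [ht]; ring
    rw [this]; exact (dvd_neg).mpr h8

theorem fanoeq_sum4 {R : Type*} [AddCommMonoid R] (f : ι → R) (p0 p1 p2 p3 : ι) (h01 : p0 ≠ p1)
    (h02 : p0 ≠ p2) (h03 : p0 ≠ p3) (h12 : p1 ≠ p2) (h13 : p1 ≠ p3) (h23 : p2 ≠ p3)
    (hz : ∀ X, X ≠ p0 → X ≠ p1 → X ≠ p2 → X ≠ p3 → f X = 0) :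
    ∑ X, f X = f p0 + (f p1 + (f p2 + f p3)) := by
  classical
  rw [← Finset.sum_subset (Finset.subset_univ ({p0, p1, p2, p3} : Finset ι))]
  · rw [Finset.sum_insert, Finset.sum_insert, Finset.sum_insert, Finset.sum_singleton]
    · simp [h23]
    · simp [h12, h13]
    · simp [h01, h02, h03]
  · intro X _ hX
    simp only [Finset.mem_insert, Finset.mem_singleton, not_or] at hX
    exact hz X hX.1 hX.2.1 hX.2.2.1 hX.2.2.2

theorem fanoeq_div {e d : ℤ} (w : ℚ) (t : ℤ) (he : e = 1 ∨ e = -1) (ht : (t : ℚ) ^ 2 = w) :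
    (t : ℚ) ^ 2 * (e : ℚ) / (d : ℚ) = w / ((e * d : ℤ) : ℚ) := by
  rcases he with rfl | rfl
  · rw [ht]; push_cast; ring
  · rw [ht]; push_cast
    rw [neg_one_mul, div_neg, mul_neg_one, neg_div]

theorem fanoeq_sys {o : ι} {D f τ : ι → ℤ} {g : ℕ} {K : ℚ} (p1 p2 p3 : ι) (e1 e2 e3 : ℤ)
    (w1 w2 w3 : ℚ) (h01 : o ≠ p1) (h02 : o ≠ p2) (h03 : o ≠ p3) (h12 : p1 ≠ p2) (h13 : p1 ≠ p3)
    (h23 : p2 ≠ p3) (hfo : f o = 1) (hDo : D o = 1) (hτo : τ o = 1)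
    (hf1 : f p1 = e1) (hf2 : f p2 = e2) (hf3 : f p3 = e3)
    (hz : ∀ X, X ≠ o → X ≠ p1 → X ≠ p2 → X ≠ p3 → f X = 0)
    (he1 : e1 = 1 ∨ e1 = -1) (he2 : e2 = 1 ∨ e2 = -1) (he3 : e3 = 1 ∨ e3 = -1)
    (ht1 : ((τ p1 : ℤ) : ℚ) ^ 2 = w1) (ht2 : ((τ p2 : ℤ) : ℚ) ^ 2 = w2)
    (ht3 : ((τ p3 : ℤ) : ℚ) ^ 2 = w3)
    (hDf : ∑ X, D X * f X = 0) (hC : ∑ X, ((τ X : ℚ) ^ 2 * f X / D X) = K / g) :
    Sys w1 w2 w3 K g (e1 * D p1) (e2 * D p2) (e3 * D p3) := by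
  constructor
  · rw [fanoeq_sum4 (fun X => D X * f X) o p1 p2 p3 h01 h02 h03 h12 h13 h23
      (fun X a b c d => by simp only [hz X a b c d, mul_zero])] at hDf
    simp only [hfo, hDo, hf1, hf2, hf3] at hDf
    linarith
  · rw [fanoeq_sum4 (fun X => ((τ X : ℚ) ^ 2 * f X / D X)) o p1 p2 p3 h01 h02 h03 h12 h13 h23
      (fun X a b c d => by simp only [hz X a b c d, Int.cast_zero, mul_zero, zero_div])] at hC
    simp only [hfo, hDo, hτo, hf1, hf2, hf3] at hC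
    rw [fanoeq_div w1 (τ p1) he1 ht1, fanoeq_div w2 (τ p2) he2 ht2,
      fanoeq_div w3 (τ p3) he3 ht3] at hC
    rw [← hC]; push_cast; ring

theorem fanoeq_sq {e d : ℤ} (he : e = 1 ∨ e = -1) : (e * d) ^ 2 = d * d := by
  rcases he with rfl | rfl <;> ring

/-- PIECE FANOEQ: the arithmetic content of the FANO realization -/
theorem fano_sol {o : ι} {u a b c D : ι → ℤ} {g : ℕ} (h : Lat o u a b c D g) {y : Fin 8 → ι}
    {e : Fin 8 → ℤ} (hF : FanoCfg o u a b c y e) :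
    FanoSol g (fun i : Fin 6 => e (Fin.castLE (by norm_num) i) * D (y (Fin.castLE (by norm_num) i))) := by
  classical
  have hne : ∀ i j : Fin 8, i ≠ j → y i ≠ y j := fun i j hij => hF.inj.ne hij
  have hno : ∀ i, o ≠ y i := fun i => (hF.ne i).symm
  -- tau values
  have t0 : tau u a b c (y 0) = e 0 * 6 := by
    unfold tau; rw [hF.v0.1, hF.v0.2.1, hF.v0.2.2.1, hF.v0.2.2.2]; ring
  have t1 : tau u a b c (y 1) = e 1 * (-2) := by
    unfold tau; rw [hF.v1.1, hF.v1.2.1, hF.v1.2.2.1, hF.v1.2.2.2]; ring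
  have t2 : tau u a b c (y 2) = e 2 * (-2) := by
    unfold tau; rw [hF.v2.1, hF.v2.2.1, hF.v2.2.2.1, hF.v2.2.2.2]; ring
  have t3 : tau u a b c (y 3) = e 3 * 3 := by
    unfold tau; rw [hF.v3.1, hF.v3.2.1, hF.v3.2.2.1, hF.v3.2.2.2]; ring
  have t4 : tau u a b c (y 4) = e 4 * 3 := by
    unfold tau; rw [hF.v4.1, hF.v4.2.1, hF.v4.2.2.1, hF.v4.2.2.2]; ring
  have t5 : tau u a b c (y 5) = e 5 * (-5) := by
    unfold tau; rw [hF.v5.1, hF.v5.2.1, hF.v5.2.2.1, hF.v5.2.2.2]; ring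
  have tauo : tau u a b c o = 1 := by
    unfold tau; rw [h.ou, h.oa, h.ob, h.oc]; ring
  have sqe : ∀ i, ((e i : ℤ) : ℚ) ^ 2 = 1 := by
    intro i; rcases hF.sign i with h1 | h1 <;> rw [h1] <;> norm_num
  have q0 : ((tau u a b c (y 0) : ℤ) : ℚ) ^ 2 = 36 := by
    rw [t0]; push_cast; rw [mul_pow, sqe]; norm_num
  have q1 : ((tau u a b c (y 1) : ℤ) : ℚ) ^ 2 = 4 := by
    rw [t1]; push_cast; rw [mul_pow, sqe]; norm_num
  have q2 : ((tau u a b c (y 2) : ℤ) : ℚ) ^ 2 = 4 := by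
    rw [t2]; push_cast; rw [mul_pow, sqe]; norm_num
  have q3 : ((tau u a b c (y 3) : ℤ) : ℚ) ^ 2 = 9 := by
    rw [t3]; push_cast; rw [mul_pow, sqe]; norm_num
  have q4 : ((tau u a b c (y 4) : ℤ) : ℚ) ^ 2 = 9 := by
    rw [t4]; push_cast; rw [mul_pow, sqe]; norm_num
  have q5 : ((tau u a b c (y 5) : ℤ) : ℚ) ^ 2 = 25 := by
    rw [t5]; push_cast; rw [mul_pow, sqe]; norm_num
  -- supports
  have hza : ∀ X, X ≠ o → X ≠ y 0 → X ≠ y 1 → X ≠ y 3 → a X = 0 := by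
    intro X hXo h0 h1 h3
    by_cases hX : ∃ i, X = y i
    · obtain ⟨i, rfl⟩ := hX
      fin_cases i
      · exact absurd rfl h0
      · exact absurd rfl h1
      · exact hF.v2.2.1
      · exact absurd rfl h3
      · exact hF.v4.2.1
      · exact hF.v5.2.1
      · exact hF.v6.2.1
      · exact hF.v7.2.1
    · push_neg at hX; exact (hF.zero X hXo hX).2.1
  have hzb : ∀ X, X ≠ o → X ≠ y 0 → X ≠ y 2 → X ≠ y 4 → b X = 0 := by
    intro X hXo h0 h1 h3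
    by_cases hX : ∃ i, X = y i
    · obtain ⟨i, rfl⟩ := hX
      fin_cases i
      · exact absurd rfl h0
      · exact hF.v1.2.2.1
      · exact absurd rfl h1
      · exact hF.v3.2.2.1
      · exact absurd rfl h3
      · exact hF.v5.2.2.1
      · exact hF.v6.2.2.1
      · exact hF.v7.2.2.1
    · push_neg at hX; exact (hF.zero X hXo hX).2.2.1
  have hzc : ∀ X, X ≠ o → X ≠ y 1 → X ≠ y 2 → X ≠ y 5 → c X = 0 := by
    intro X hXo h0 h1 h3
    by_cases hX : ∃ i, X = y i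
    · obtain ⟨i, rfl⟩ := hX
      fin_cases i
      · exact hF.v0.2.2.2
      · exact absurd rfl h0
      · exact absurd rfl h1
      · exact hF.v3.2.2.2
      · exact hF.v4.2.2.2
      · exact absurd rfl h3
      · exact hF.v6.2.2.2
      · exact hF.v7.2.2.2
    · push_neg at hX; exact (hF.zero X hXo hX).2.2.2
  -- the bound
  have hbound : 1 + ∑ i : Fin 6, (e (Fin.castLE (by norm_num) i) * D (y (Fin.castLE (by norm_num) i))) ^ 2
      ≤ (g : ℤ) := by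
    rw [← h.dd]
    have hinj : Function.Injective (fun i : Fin 6 => y (Fin.castLE (by norm_num : 6 ≤ 8) i)) :=
      hF.inj.comp (Fin.castLE_injective _)
    have hnotin : o ∉ (Finset.univ : Finset (Fin 6)).image
        (fun i : Fin 6 => y (Fin.castLE (by norm_num : 6 ≤ 8) i)) := by
      simp only [Finset.mem_image, Finset.mem_univ, true_and, not_exists]
      intro i hi; exact hF.ne _ hi
    have hsub := Finset.sum_le_sum_of_subset_of_nonneg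
      (Finset.subset_univ (insert o ((Finset.univ : Finset (Fin 6)).image
        (fun i : Fin 6 => y (Fin.castLE (by norm_num : 6 ≤ 8) i)))))
      (f := fun X => D X * D X) (fun X _ _ => mul_self_nonneg _)
    rw [Finset.sum_insert hnotin, Finset.sum_image (fun i _ j _ hij => hinj hij), h.oD] at hsub
    have : ∑ i : Fin 6, (e (Fin.castLE (by norm_num : 6 ≤ 8) i) * D (y (Fin.castLE (by norm_num : 6 ≤ 8) i))) ^ 2
        = ∑ i : Fin 6, D (y (Fin.castLE (by norm_num : 6 ≤ 8) i)) * D (y (Fin.castLE (by norm_num : 6 ≤ 8) i)) :=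
      Finset.sum_congr rfl (fun i _ => fanoeq_sq (hF.sign _))
    rw [this]; linarith
  exact
    { a0 := fanoeq_adm (hF.sign 0) t0 (h.Dpos _) (h.e8 _) (h.e8a _ (hF.ne 0)) (h.e8b _)
      a1 := fanoeq_adm (hF.sign 1) t1 (h.Dpos _) (h.e8 _) (h.e8a _ (hF.ne 1)) (h.e8b _)
      a2 := fanoeq_adm (hF.sign 2) t2 (h.Dpos _) (h.e8 _) (h.e8a _ (hF.ne 2)) (h.e8b _)
      a3 := fanoeq_adm (hF.sign 3) t3 (h.Dpos _) (h.e8 _) (h.e8a _ (hF.ne 3)) (h.e8b _)
      a4 := fanoeq_adm (hF.sign 4) t4 (h.Dpos _) (h.e8 _) (h.e8a _ (hF.ne 4)) (h.e8b _)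
      a5 := fanoeq_adm (hF.sign 5) t5 (h.Dpos _) (h.e8 _) (h.e8a _ (hF.ne 5)) (h.e8b _)
      sa := fanoeq_sys (τ := tau u a b c) (y 0) (y 1) (y 3) (e 0) (e 1) (e 3) 36 4 9
        (hno 0) (hno 1) (hno 3) (hne 0 1 (by decide)) (hne 0 3 (by decide)) (hne 1 3 (by decide))
        h.oa h.oD tauo hF.v0.2.1 hF.v1.2.1 hF.v3.2.1 hza (hF.sign 0) (hF.sign 1) (hF.sign 3)
        q0 q1 q3 h.Da h.Ca
      sb := fanoeq_sys (τ := tau u a b c) (y 0) (y 2) (y 4) (e 0) (e 2) (e 4) 36 4 9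
        (hno 0) (hno 2) (hno 4) (hne 0 2 (by decide)) (hne 0 4 (by decide)) (hne 2 4 (by decide))
        h.ob h.oD tauo hF.v0.2.2.1 hF.v2.2.2.1 hF.v4.2.2.1 hzb (hF.sign 0) (hF.sign 2) (hF.sign 4)
        q0 q2 q4 h.Db h.Cb
      sc := fanoeq_sys (τ := tau u a b c) (y 1) (y 2) (y 5) (e 1) (e 2) (e 5) 4 4 25
        (hno 1) (hno 2) (hno 5) (hne 1 2 (by decide)) (hne 1 5 (by decide)) (hne 2 5 (by decide))
        h.oc h.oD tauo hF.v1.2.2.2 hF.v2.2.2.2 hF.v5.2.2.2 hzc (hF.sign 1) (hF.sign 2) (hF.sign 5)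
        q1 q2 q5 h.Dc h.Cc
      bound := hbound
      g8 := h.g8, g16 := h.g16, g120 := h.g120 }

end Cfsg.Agent.Helper3.J1A
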