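import Mathlib
import Cfsg.Agent.Lib.Lead.SylowTools
import Cfsg.Agent.Lib.Helper27.Ord840
import Cfsg.Agent.Lib.Helper24.GlaubPGroup
import Cfsg.Agent.Lib.Helper24.CharIntegral
import Cfsg.Agent.Lib.Helper24.CharComplete
import Cfsg.Agent.Lib.Helper17.BTRED
import Cfsg.Agent.S0992
import Cfsg.Agent.S0202
import Cfsg.Agent.S0203
import Cfsg.Agent.S0948
import Cfsg.Agent.S4479
import Cfsg.Agent.S4503

/-!
# S4274, piece KLEIN (helper1): Brauer's order formula for a simple group of order `4 g₀`, `g₀` odd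

S0992 (Klein four Sylow 2-subgroup `T`, `|N(T) : C(T)| = 3`), S0202 + S0203 (one class of involutions),
S0948 (the principal 2-block `{1, ζ₂, ζ₃, ζ₄}`), S4479 (the order formula, denominators cleared),
S4503 (degree bound for the primes dividing `|G|` exactly once).
-/

set_option autoImplicit false
set_option linter.unusedSectionVars false
set_option linter.unusedVariables false
set_option linter.style.haveILetI false
open Cfsg

universe u

namespace Cfsg.Agent.Helper10.J1Ord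

open Cfsg.Agent.Helper24

set_option maxHeartbeats 1000000 in
/-- piece KLEIN (shared by ORD7980 and ORD87780): the Brauer order formula for a simple group of
order `4 * g₀` (`g₀` odd), in integers, together with the degree bound from S4503. -/
theorem klein_formula {G : Type*} [Group G] [Finite G] [IsSimpleGroup G] (g₀ : ℕ) (hg₀ : Odd g₀)
    (h : Nat.card G = 4 * g₀) (hg1 : 1 < g₀) :
    ∃ (T : Sylow 2 G) (J : G) (x₁ x₂ x₃ : ℕ) (ε : ℤ),
      J ∈ (T : Subgroup G) ∧ orderOf J = 2 ∧ (ε = 1 ∨ ε = -1) ∧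
      Nat.card (Subgroup.normalizer ((T : Subgroup G) : Set G)) =
        3 * Nat.card (Subgroup.centralizer ((T : Subgroup G) : Set G)) ∧
      4 ∣ Nat.card (Subgroup.centralizer ((T : Subgroup G) : Set G)) ∧
      Nat.card (Subgroup.centralizer ((T : Subgroup G) : Set G)) ∣
        Nat.card (Subgroup.centralizer ({J} : Set G)) ∧
      x₁ ∣ Nat.card G ∧ x₂ ∣ Nat.card G ∧ x₃ ∣ Nat.card G ∧
      (4 : ℤ) ∣ (x₁ : ℤ) - 1 ∧ (4 : ℤ) ∣ (x₂ : ℤ) - ε ∧ (4 : ℤ) ∣ (x₃ : ℤ) + 1 ∧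
      (1 : ℤ) + x₁ + ε * x₂ - x₃ = 0 ∧
      (∀ p : ℕ, p.Prime → p ∣ Nat.card G → ¬ p ^ 2 ∣ Nat.card G →
        p ≤ 2 * x₁ + 1 ∧ p ≤ 2 * x₂ + 1 ∧ p ≤ 2 * x₃ + 1) ∧
      (Nat.card G : ℤ) * (Nat.card (Subgroup.centralizer ((T : Subgroup G) : Set G)) : ℤ) ^ 2 *
          (((x₁ : ℤ) + 1) * ((x₂ : ℤ) + ε) * ((x₃ : ℤ) - 1)) =
        8 * ((x₁ : ℤ) * x₂ * x₃) *
          (Nat.card (Subgroup.centralizer ({J} : Set G)) : ℤ) ^ 3 := by
  classical
  haveI : Fact (Nat.Prime 2) := ⟨by norm_num⟩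
  haveI : Fintype G := Fintype.ofFinite G
  have hnp : ¬ (Nat.card G).Prime := by
    rw [h]
    exact Nat.not_prime_mul (by norm_num) (by omega)
  have hG : ∃ x y : G, x * y ≠ y * x := Cfsg.Agent.Lead.nonabelian_of_not_prime hnp
  have hnc : ¬ IsMulCommutative G := fun hc => by
    obtain ⟨x, y, hxy⟩ := hG
    exact hxy (hc.is_comm.comm x y)
  have h2 : Even (Nat.card G) := by
    rw [h]; exact ⟨2 * g₀, by ring⟩
  have h8 : ¬ 8 ∣ Nat.card G := by
    rw [h]
    obtain ⟨k, hk⟩ := hg₀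
    omega
  have hcpos : 0 < Nat.card G := Nat.card_pos
  obtain ⟨T⟩ : Nonempty (Sylow 2 G) := inferInstance
  obtain ⟨hK, hrel⟩ := Cfsg.Agent.S0992.result hnc h2 h8 T
  haveI := hK
  have hT4 : Nat.card (T : Subgroup G) = 4 := IsKleinFour.card_four
  have hTle : (T : Subgroup G) ≤ Subgroup.centralizer ((T : Subgroup G) : Set G) := by
    intro x hx
    rw [Subgroup.mem_centralizer_iff]
    intro y hy
    have := (IsKleinFour.isMulCommutative (G := (T : Subgroup G))).is_comm.comm ⟨y, hy⟩ ⟨x, hx⟩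
    exact congrArg Subtype.val this
  have h4dvd : 4 ∣ Nat.card (Subgroup.centralizer ((T : Subgroup G) : Set G)) := by
    rw [← hT4]; exact Subgroup.card_dvd_of_le hTle
  have hN3 : Nat.card (Subgroup.normalizer ((T : Subgroup G) : Set G)) =
      3 * Nat.card (Subgroup.centralizer ((T : Subgroup G) : Set G)) := by
    have := Cfsg.Agent.Helper27.Ord.card_centralizer_mul_relIndex (T : Subgroup G)
    rw [hrel] at this
    omega
  -- an involution of `T`
  obtain ⟨j0, hj0⟩ := exists_prime_orderOf_dvd_card' (G := (T : Subgroup G)) 2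
    (by rw [hT4]; norm_num)
  have hJ2 : orderOf (j0 : G) = 2 := by rw [Subgroup.orderOf_coe]; exact hj0
  have hJ : (j0 : G) ∈ (T : Subgroup G) := j0.2
  generalize (j0 : G) = J at hJ2 hJ
  have hCdvd : Nat.card (Subgroup.centralizer ((T : Subgroup G) : Set G)) ∣
      Nat.card (Subgroup.centralizer ({J} : Set G)) :=
    Subgroup.card_dvd_of_le (Subgroup.centralizer_le (Set.singleton_subset_iff.2 hJ))
  -- one class of involutions
  have hcls : Nat.card {C : ConjClasses G // ∃ t : G, orderOf t = 2 ∧ ConjClasses.mk t = C} = 1 := by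
    rcases Cfsg.Agent.S0202.result T hK with h1 | h3
    · exact h1
    · exfalso
      obtain ⟨N, hN, hcompl⟩ := (Cfsg.Agent.S0203.result T hK).1 h3
      have hcard := hcompl.card_mul_card
      rcases hN.eq_bot_or_eq_top with rfl | rfl
      · rw [Subgroup.card_bot, hT4, h] at hcard; omega
      · rw [Subgroup.card_top, hT4, h] at hcard; omega
  have hone : ∀ s t : G, orderOf s = 2 → orderOf t = 2 → IsConj s t := by
    intro s t hs ht
    have hsub : Subsingleton {C : ConjClasses G // ∃ t : G, orderOf t = 2 ∧ ConjClasses.mk t = C} :=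
      (Nat.card_eq_one_iff_unique.1 hcls).1
    have := Subsingleton.elim
      (⟨ConjClasses.mk s, s, hs, rfl⟩ :
        {C : ConjClasses G // ∃ t : G, orderOf t = 2 ∧ ConjClasses.mk t = C})
      ⟨ConjClasses.mk t, t, ht, rfl⟩
    exact ConjClasses.mk_eq_mk_iff_isConj.1 (congrArg Subtype.val this)
  obtain ⟨M, hM⟩ := Cfsg.Agent.Helper24.Glaub.exists_isPModular (p := 2) (by norm_num)
  obtain ⟨ζ₂, ζ₃, ζ₄, ε, hε, hζ2, hζ3, h23, h24, h34, hB, hval, hm2, hm3, hm4, hrel1⟩ :=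
    Cfsg.Agent.S0948.result M hM T hK hone
  obtain ⟨hv2, hv3, hv4⟩ := hval J hJ2
  have hζ4 : (ζ₄ : G → ℂ) ≠ (fun _ => 1) := by
    intro hc
    rw [hc] at hv4
    norm_num at hv4
  have hncompl : ¬ ∃ N : Subgroup G, N.Normal ∧ Nat.card N = g₀ := by
    rintro ⟨N, hN, hNc⟩
    rcases hN.eq_bot_or_eq_top with rfl | rfl
    · rw [Subgroup.card_bot] at hNc; omega
    · rw [Subgroup.card_top, h] at hNc; omega
  have hform := Cfsg.Agent.S4479.result M hM g₀ hg₀ h hncompl T J hJ hJ2 ζ₂ ζ₃ ζ₄ 1 ε (-1) hB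
    ⟨hζ2, hζ3, hζ4, h23, h24, h34⟩ ⟨Or.inl rfl, hε, Or.inr rfl⟩
    ⟨by rw [hv2]; norm_num, hv3, by rw [hv4]; norm_num⟩
  refine ⟨T, J, charDegree (ζ₂ : G → ℂ), charDegree (ζ₃ : G → ℂ), charDegree (ζ₄ : G → ℂ), ε,
    hJ, hJ2, hε, hN3, h4dvd, hCdvd, charDegree_dvd_card ζ₂.2, charDegree_dvd_card ζ₃.2,
    charDegree_dvd_card ζ₄.2, hm2, hm3, hm4, ?_, ?_, ?_⟩
  · have h1 := hrel1 1 (by rw [orderOf_one]; exact odd_one)
    rw [irr_one_eq_charDegree ζ₂.2, irr_one_eq_charDegree ζ₃.2, irr_one_eq_charDegree ζ₄.2] at h1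
    exact_mod_cast h1
  · intro p hp hpd hpsq
    have hnn : ∀ H : Subgroup G, H.Normal → Nat.card H ≠ p := by
      intro H hH hc
      rcases hH.eq_bot_or_eq_top with rfl | rfl
      · rw [Subgroup.card_bot] at hc; exact hp.one_lt.ne hc
      · rw [Subgroup.card_top] at hc; exact hnp (hc ▸ hp)
    have key : ∀ ζ : IrrCharacter G, (ζ : G → ℂ) ≠ (fun _ => 1) →
        p ≤ 2 * charDegree (ζ : G → ℂ) + 1 := by
      intro ζ hζ
      apply Cfsg.Agent.S4503.result p hp hpd hpsq hnn (ζ : G → ℂ)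
        (isCharacter_of_isIrrCharacter ζ.2)
      intro g hg
      exact Cfsg.Agent.Helper21.BT.RED.faithful_of_simple ζ (fun he => hζ (by rw [he]; rfl)) g hg
    exact ⟨key ζ₂ hζ2, key ζ₃ hζ3, key ζ₄ hζ4⟩
  · set x1 := charDegree (ζ₂ : G → ℂ)
    set x2 := charDegree (ζ₃ : G → ℂ)
    set x3 := charDegree (ζ₄ : G → ℂ)
    set cP := Nat.card (Subgroup.centralizer ((T : Subgroup G) : Set G))
    set cJ := Nat.card (Subgroup.centralizer ({J} : Set G))
    have hcP : (cP : ℚ) ≠ 0 := by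
      have : 0 < cP := Nat.card_pos
      exact_mod_cast this.ne'
    have hNq : (Nat.card G : ℚ) ≠ 0 := by exact_mod_cast hcpos.ne'
    have hD : ((x1 : ℚ) + ((1 : ℤ) : ℚ)) * ((x2 : ℚ) + (ε : ℚ)) * ((x3 : ℚ) + ((-1 : ℤ) : ℚ)) ≠ 0 := by
      intro hD0
      rw [hD0] at hform
      apply hNq
      rw [hform]
      simp
    have hq : (Nat.card G : ℚ) * (cP : ℚ) ^ 2 *
        (((x1 : ℚ) + ((1 : ℤ) : ℚ)) * ((x2 : ℚ) + (ε : ℚ)) * ((x3 : ℚ) + ((-1 : ℤ) : ℚ))) =
        8 * ((x1 : ℚ) * x2 * x3) * (cJ : ℚ) ^ 3 := by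
      obtain ⟨hD12, hD3⟩ := mul_ne_zero_iff.1 hD
      obtain ⟨hD1, hD2⟩ := mul_ne_zero_iff.1 hD12
      rw [hform]
      field_simp
    have hz : (((Nat.card G : ℤ) * (cP : ℤ) ^ 2 *
        (((x1 : ℤ) + 1) * ((x2 : ℤ) + ε) * ((x3 : ℤ) - 1)) : ℤ) : ℚ) =
        ((8 * ((x1 : ℤ) * x2 * x3) * (cJ : ℤ) ^ 3 : ℤ) : ℚ) := by
      push_cast
      push_cast at hq
      linarith
    exact_mod_cast hz

end Cfsg.Agent.Helper10.J1Ord
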