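import Mathlib
import Cfsg.Agent.Lib.Helper3.J1ArithDefs

/-!
# S0448 piece LIN (helper1): lattice coordinates from the value data.
-/

set_option autoImplicit false
set_option linter.unusedSectionVars false
set_option linter.unusedVariables false

namespace Cfsg.Agent.Helper3.J1A

variable {ι : Type*} [Fintype ι]

/-- existence of the integral coordinates -/
theorem lin_coords {o : ι} {T U M N D : ι → ℤ} (h3 : ∀ X, (3 : ℤ) ∣ T X - U X)
    (h10 : ∀ X, (10 : ℤ) ∣ M X - 2 * T X - 5 * N X) :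
    ∃ u a b c : ι → ℤ, (∀ X, T X = tau u a b c X) ∧ (∀ X, U X = u X + c X) ∧
      (∀ X, M X = -2 * u X + a X + b X) ∧ (∀ X, N X = a X - b X) := by
  choose p hp using h3
  choose q hq using h10
  refine ⟨fun X => -p X - N X - 2 * q X, fun X => T X - p X + 2 * N X + 3 * q X,
    fun X => T X - p X + N X + 3 * q X, fun X => T X - 2 * p X + N X + 2 * q X, ?_, ?_, ?_, ?_⟩
  · intro X; unfold tau; simp only; ring
  · intro X; have := hp X; simp only; linarith
  · intro X; have := hq X; simp only; linarith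
  · intro X; simp only; ring

/-- PIECE LIN -/
theorem lat_of_vals {o : ι} {T U M N D : ι → ℤ} {g : ℕ} (h : Vals o T U M N D g) :
    ∃ u a b c : ι → ℤ, Lat o u a b c D g ∧
      (∀ X, T X = tau u a b c X) ∧ (∀ X, U X = u X + c X) ∧ (∀ X, M X = -2 * u X + a X + b X) ∧
      (∀ X, N X = a X - b X) := by
  obtain ⟨u, a, b, c, hT, hU, hM, hN⟩ := lin_coords (o := o) (D := D) h.cong.c3 h.cong.c10
  refine ⟨u, a, b, c, ?_, hT, hU, hM, hN⟩
  have O := h.ortho
  have C := h.cceq
  have hT' : ∀ X, tau u a b c X = T X := fun X => (hT X).symm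
  have g_uu : ∑ X, u X * u X = 2 := by
    have e : ∀ X, (225 : ℤ) * (u X * u X) = (1) * (T X * T X) + (25) * (U X * U X) + (9) * (M X * M X) + (0) * (N X * N X) + (10) * (T X * U X) + (-6) * (T X * M X) + (0) * (T X * N X) + (-30) * (U X * M X) + (0) * (U X * N X) + (0) * (M X * N X) := by
      intro X; rw [hT X, hU X, hM X, hN X]; unfold tau; ring
    have e2 : (225 : ℤ) * ∑ X, u X * u X = (1) * (∑ X, T X * T X) + (25) * (∑ X, U X * U X) + (9) * (∑ X, M X * M X) + (0) * (∑ X, N X * N X) + (10) * (∑ X, T X * U X) + (-6) * (∑ X, T X * M X) + (0) * (∑ X, T X * N X) + (-30) * (∑ X, U X * M X) + (0) * (∑ X, U X * N X) + (0) * (∑ X, M X * N X) := by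
      rw [Finset.mul_sum]; simp only [e, Finset.sum_add_distrib, Finset.mul_sum]
    have := O.tt; have := O.uu; have := O.mm; have := O.nn; have := O.tu; have := O.tm
    have := O.tn; have := O.um; have := O.un; have := O.mn
    linarith
  have g_aa : ∑ X, a X * a X = 4 := by
    have e : ∀ X, (900 : ℤ) * (a X * a X) = (4) * (T X * T X) + (100) * (U X * U X) + (81) * (M X * M X) + (225) * (N X * N X) + (40) * (T X * U X) + (36) * (T X * M X) + (60) * (T X * N X) + (180) * (U X * M X) + (300) * (U X * N X) + (270) * (M X * N X) := by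
      intro X; rw [hT X, hU X, hM X, hN X]; unfold tau; ring
    have e2 : (900 : ℤ) * ∑ X, a X * a X = (4) * (∑ X, T X * T X) + (100) * (∑ X, U X * U X) + (81) * (∑ X, M X * M X) + (225) * (∑ X, N X * N X) + (40) * (∑ X, T X * U X) + (36) * (∑ X, T X * M X) + (60) * (∑ X, T X * N X) + (180) * (∑ X, U X * M X) + (300) * (∑ X, U X * N X) + (270) * (∑ X, M X * N X) := by
      rw [Finset.mul_sum]; simp only [e, Finset.sum_add_distrib, Finset.mul_sum]
    have := O.tt; have := O.uu; have := O.mm; have := O.nn; have := O.tu; have := O.tm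
    have := O.tn; have := O.um; have := O.un; have := O.mn
    linarith
  have g_bb : ∑ X, b X * b X = 4 := by
    have e : ∀ X, (900 : ℤ) * (b X * b X) = (4) * (T X * T X) + (100) * (U X * U X) + (81) * (M X * M X) + (225) * (N X * N X) + (40) * (T X * U X) + (36) * (T X * M X) + (-60) * (T X * N X) + (180) * (U X * M X) + (-300) * (U X * N X) + (-270) * (M X * N X) := by
      intro X; rw [hT X, hU X, hM X, hN X]; unfold tau; ring
    have e2 : (900 : ℤ) * ∑ X, b X * b X = (4) * (∑ X, T X * T X) + (100) * (∑ X, U X * U X) + (81) * (∑ X, M X * M X) + (225) * (∑ X, N X * N X) + (40) * (∑ X, T X * U X) + (36) * (∑ X, T X * M X) + (-60) * (∑ X, T X * N X) + (180) * (∑ X, U X * M X) + (-300) * (∑ X, U X * N X) + (-270) * (∑ X, M X * N X) := by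
      rw [Finset.mul_sum]; simp only [e, Finset.sum_add_distrib, Finset.mul_sum]
    have := O.tt; have := O.uu; have := O.mm; have := O.nn; have := O.tu; have := O.tm
    have := O.tn; have := O.um; have := O.un; have := O.mn
    linarith
  have g_cc : ∑ X, c X * c X = 4 := by
    have e : ∀ X, (225 : ℤ) * (c X * c X) = (1) * (T X * T X) + (100) * (U X * U X) + (9) * (M X * M X) + (0) * (N X * N X) + (-20) * (T X * U X) + (-6) * (T X * M X) + (0) * (T X * N X) + (60) * (U X * M X) + (0) * (U X * N X) + (0) * (M X * N X) := by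
      intro X; rw [hT X, hU X, hM X, hN X]; unfold tau; ring
    have e2 : (225 : ℤ) * ∑ X, c X * c X = (1) * (∑ X, T X * T X) + (100) * (∑ X, U X * U X) + (9) * (∑ X, M X * M X) + (0) * (∑ X, N X * N X) + (-20) * (∑ X, T X * U X) + (-6) * (∑ X, T X * M X) + (0) * (∑ X, T X * N X) + (60) * (∑ X, U X * M X) + (0) * (∑ X, U X * N X) + (0) * (∑ X, M X * N X) := by
      rw [Finset.mul_sum]; simp only [e, Finset.sum_add_distrib, Finset.mul_sum]
    have := O.tt; have := O.uu; have := O.mm; have := O.nn; have := O.tu; have := O.tm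
    have := O.tn; have := O.um; have := O.un; have := O.mn
    linarith
  have g_ab : ∑ X, a X * b X = 2 := by
    have e : ∀ X, (900 : ℤ) * (a X * b X) = (4) * (T X * T X) + (100) * (U X * U X) + (81) * (M X * M X) + (-225) * (N X * N X) + (40) * (T X * U X) + (36) * (T X * M X) + (0) * (T X * N X) + (180) * (U X * M X) + (0) * (U X * N X) + (0) * (M X * N X) := by
      intro X; rw [hT X, hU X, hM X, hN X]; unfold tau; ring
    have e2 : (900 : ℤ) * ∑ X, a X * b X = (4) * (∑ X, T X * T X) + (100) * (∑ X, U X * U X) + (81) * (∑ X, M X * M X) + (-225) * (∑ X, N X * N X) + (40) * (∑ X, T X * U X) + (36) * (∑ X, T X * M X) + (0) * (∑ X, T X * N X) + (180) * (∑ X, U X * M X) + (0) * (∑ X, U X * N X) + (0) * (∑ X, M X * N X) := by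
      rw [Finset.mul_sum]; simp only [e, Finset.sum_add_distrib, Finset.mul_sum]
    have := O.tt; have := O.uu; have := O.mm; have := O.nn; have := O.tu; have := O.tm
    have := O.tn; have := O.um; have := O.un; have := O.mn
    linarith
  have g_ac : ∑ X, a X * c X = 2 := by
    have e : ∀ X, (450 : ℤ) * (a X * c X) = (-2) * (T X * T X) + (100) * (U X * U X) + (27) * (M X * M X) + (0) * (N X * N X) + (10) * (T X * U X) + (-3) * (T X * M X) + (-15) * (T X * N X) + (120) * (U X * M X) + (150) * (U X * N X) + (45) * (M X * N X) := by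
      intro X; rw [hT X, hU X, hM X, hN X]; unfold tau; ring
    have e2 : (450 : ℤ) * ∑ X, a X * c X = (-2) * (∑ X, T X * T X) + (100) * (∑ X, U X * U X) + (27) * (∑ X, M X * M X) + (0) * (∑ X, N X * N X) + (10) * (∑ X, T X * U X) + (-3) * (∑ X, T X * M X) + (-15) * (∑ X, T X * N X) + (120) * (∑ X, U X * M X) + (150) * (∑ X, U X * N X) + (45) * (∑ X, M X * N X) := by
      rw [Finset.mul_sum]; simp only [e, Finset.sum_add_distrib, Finset.mul_sum]
    have := O.tt; have := O.uu; have := O.mm; have := O.nn; have := O.tu; have := O.tm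
    have := O.tn; have := O.um; have := O.un; have := O.mn
    linarith
  have g_bc : ∑ X, b X * c X = 2 := by
    have e : ∀ X, (450 : ℤ) * (b X * c X) = (-2) * (T X * T X) + (100) * (U X * U X) + (27) * (M X * M X) + (0) * (N X * N X) + (10) * (T X * U X) + (-3) * (T X * M X) + (15) * (T X * N X) + (120) * (U X * M X) + (-150) * (U X * N X) + (-45) * (M X * N X) := by
      intro X; rw [hT X, hU X, hM X, hN X]; unfold tau; ring
    have e2 : (450 : ℤ) * ∑ X, b X * c X = (-2) * (∑ X, T X * T X) + (100) * (∑ X, U X * U X) + (27) * (∑ X, M X * M X) + (0) * (∑ X, N X * N X) + (10) * (∑ X, T X * U X) + (-3) * (∑ X, T X * M X) + (15) * (∑ X, T X * N X) + (120) * (∑ X, U X * M X) + (-150) * (∑ X, U X * N X) + (-45) * (∑ X, M X * N X) := by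
      rw [Finset.mul_sum]; simp only [e, Finset.sum_add_distrib, Finset.mul_sum]
    have := O.tt; have := O.uu; have := O.mm; have := O.nn; have := O.tu; have := O.tm
    have := O.tn; have := O.um; have := O.un; have := O.mn
    linarith
  have g_ua : ∑ X, u X * a X = 0 := by
    have e : ∀ X, (450 : ℤ) * (u X * a X) = (2) * (T X * T X) + (50) * (U X * U X) + (-27) * (M X * M X) + (0) * (N X * N X) + (20) * (T X * U X) + (3) * (T X * M X) + (15) * (T X * N X) + (15) * (U X * M X) + (75) * (U X * N X) + (-45) * (M X * N X) := by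
      intro X; rw [hT X, hU X, hM X, hN X]; unfold tau; ring
    have e2 : (450 : ℤ) * ∑ X, u X * a X = (2) * (∑ X, T X * T X) + (50) * (∑ X, U X * U X) + (-27) * (∑ X, M X * M X) + (0) * (∑ X, N X * N X) + (20) * (∑ X, T X * U X) + (3) * (∑ X, T X * M X) + (15) * (∑ X, T X * N X) + (15) * (∑ X, U X * M X) + (75) * (∑ X, U X * N X) + (-45) * (∑ X, M X * N X) := by
      rw [Finset.mul_sum]; simp only [e, Finset.sum_add_distrib, Finset.mul_sum]
    have := O.tt; have := O.uu; have := O.mm; have := O.nn; have := O.tu; have := O.tm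
    have := O.tn; have := O.um; have := O.un; have := O.mn
    linarith
  have g_ub : ∑ X, u X * b X = 0 := by
    have e : ∀ X, (450 : ℤ) * (u X * b X) = (2) * (T X * T X) + (50) * (U X * U X) + (-27) * (M X * M X) + (0) * (N X * N X) + (20) * (T X * U X) + (3) * (T X * M X) + (-15) * (T X * N X) + (15) * (U X * M X) + (-75) * (U X * N X) + (45) * (M X * N X) := by
      intro X; rw [hT X, hU X, hM X, hN X]; unfold tau; ring
    have e2 : (450 : ℤ) * ∑ X, u X * b X = (2) * (∑ X, T X * T X) + (50) * (∑ X, U X * U X) + (-27) * (∑ X, M X * M X) + (0) * (∑ X, N X * N X) + (20) * (∑ X, T X * U X) + (3) * (∑ X, T X * M X) + (-15) * (∑ X, T X * N X) + (15) * (∑ X, U X * M X) + (-75) * (∑ X, U X * N X) + (45) * (∑ X, M X * N X) := by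
      rw [Finset.mul_sum]; simp only [e, Finset.sum_add_distrib, Finset.mul_sum]
    have := O.tt; have := O.uu; have := O.mm; have := O.nn; have := O.tu; have := O.tm
    have := O.tn; have := O.um; have := O.un; have := O.mn
    linarith
  have g_uc : ∑ X, u X * c X = 0 := by
    have e : ∀ X, (225 : ℤ) * (u X * c X) = (-1) * (T X * T X) + (50) * (U X * U X) + (-9) * (M X * M X) + (0) * (N X * N X) + (5) * (T X * U X) + (6) * (T X * M X) + (0) * (T X * N X) + (-15) * (U X * M X) + (0) * (U X * N X) + (0) * (M X * N X) := by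
      intro X; rw [hT X, hU X, hM X, hN X]; unfold tau; ring
    have e2 : (225 : ℤ) * ∑ X, u X * c X = (-1) * (∑ X, T X * T X) + (50) * (∑ X, U X * U X) + (-9) * (∑ X, M X * M X) + (0) * (∑ X, N X * N X) + (5) * (∑ X, T X * U X) + (6) * (∑ X, T X * M X) + (0) * (∑ X, T X * N X) + (-15) * (∑ X, U X * M X) + (0) * (∑ X, U X * N X) + (0) * (∑ X, M X * N X) := by
      rw [Finset.mul_sum]; simp only [e, Finset.sum_add_distrib, Finset.mul_sum]
    have := O.tt; have := O.uu; have := O.mm; have := O.nn; have := O.tu; have := O.tm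
    have := O.tn; have := O.um; have := O.un; have := O.mn
    linarith
  have d_u : ∑ X, D X * u X = 0 := by
    have e : ∀ X, (15 : ℤ) * (D X * u X) = (1) * (D X * T X) + (5) * (D X * U X) + (-3) * (D X * M X) + (0) * (D X * N X) := by
      intro X; rw [hT X, hU X, hM X, hN X]; unfold tau; ring
    have e2 : (15 : ℤ) * ∑ X, D X * u X = (1) * (∑ X, D X * T X) + (5) * (∑ X, D X * U X) + (-3) * (∑ X, D X * M X) + (0) * (∑ X, D X * N X) := by
      rw [Finset.mul_sum]; simp only [e, Finset.sum_add_distrib, Finset.mul_sum]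
    have := O.dt; have := O.du; have := O.dm; have := O.dn
    linarith
  have d_a : ∑ X, D X * a X = 0 := by
    have e : ∀ X, (30 : ℤ) * (D X * a X) = (2) * (D X * T X) + (10) * (D X * U X) + (9) * (D X * M X) + (15) * (D X * N X) := by
      intro X; rw [hT X, hU X, hM X, hN X]; unfold tau; ring
    have e2 : (30 : ℤ) * ∑ X, D X * a X = (2) * (∑ X, D X * T X) + (10) * (∑ X, D X * U X) + (9) * (∑ X, D X * M X) + (15) * (∑ X, D X * N X) := by
      rw [Finset.mul_sum]; simp only [e, Finset.sum_add_distrib, Finset.mul_sum]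
    have := O.dt; have := O.du; have := O.dm; have := O.dn
    linarith
  have d_b : ∑ X, D X * b X = 0 := by
    have e : ∀ X, (30 : ℤ) * (D X * b X) = (2) * (D X * T X) + (10) * (D X * U X) + (9) * (D X * M X) + (-15) * (D X * N X) := by
      intro X; rw [hT X, hU X, hM X, hN X]; unfold tau; ring
    have e2 : (30 : ℤ) * ∑ X, D X * b X = (2) * (∑ X, D X * T X) + (10) * (∑ X, D X * U X) + (9) * (∑ X, D X * M X) + (-15) * (∑ X, D X * N X) := by
      rw [Finset.mul_sum]; simp only [e, Finset.sum_add_distrib, Finset.mul_sum]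
    have := O.dt; have := O.du; have := O.dm; have := O.dn
    linarith
  have d_c : ∑ X, D X * c X = 0 := by
    have e : ∀ X, (15 : ℤ) * (D X * c X) = (-1) * (D X * T X) + (10) * (D X * U X) + (3) * (D X * M X) + (0) * (D X * N X) := by
      intro X; rw [hT X, hU X, hM X, hN X]; unfold tau; ring
    have e2 : (15 : ℤ) * ∑ X, D X * c X = (-1) * (∑ X, D X * T X) + (10) * (∑ X, D X * U X) + (3) * (∑ X, D X * M X) + (0) * (∑ X, D X * N X) := by
      rw [Finset.mul_sum]; simp only [e, Finset.sum_add_distrib, Finset.mul_sum]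
    have := O.dt; have := O.du; have := O.dm; have := O.dn
    linarith
  have c_u : ∑ X, ((tau u a b c X : ℚ) ^ 2 * u X / D X) = 0 := by
    have e : ∀ X, (15 : ℚ) * ((tau u a b c X : ℚ) ^ 2 * u X / D X) = (1) * ((T X : ℚ) ^ 2 * T X / D X) + (5) * ((T X : ℚ) ^ 2 * U X / D X) + (-3) * ((T X : ℚ) ^ 2 * M X / D X) + (0) * ((T X : ℚ) ^ 2 * N X / D X) := by
      intro X; rw [hT' X, hU X, hM X, hN X, hT X]; unfold tau; push_cast; ring
    have e2 : (15 : ℚ) * ∑ X, ((tau u a b c X : ℚ) ^ 2 * u X / D X) = (1) * (∑ X, ((T X : ℚ) ^ 2 * T X / D X)) + (5) * (∑ X, ((T X : ℚ) ^ 2 * U X / D X)) + (-3) * (∑ X, ((T X : ℚ) ^ 2 * M X / D X)) + (0) * (∑ X, ((T X : ℚ) ^ 2 * N X / D X)) := by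
      rw [Finset.mul_sum]; simp only [e, Finset.sum_add_distrib, Finset.mul_sum]
    rw [C.t, C.u, C.m, C.n] at e2
    linear_combination (1 / 15 : ℚ) * e2
  have c_a : ∑ X, ((tau u a b c X : ℚ) ^ 2 * a X / D X) = 144000 / g := by
    have e : ∀ X, (30 : ℚ) * ((tau u a b c X : ℚ) ^ 2 * a X / D X) = (2) * ((T X : ℚ) ^ 2 * T X / D X) + (10) * ((T X : ℚ) ^ 2 * U X / D X) + (9) * ((T X : ℚ) ^ 2 * M X / D X) + (15) * ((T X : ℚ) ^ 2 * N X / D X) := by
      intro X; rw [hT' X, hU X, hM X, hN X, hT X]; unfold tau; push_cast; ring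
    have e2 : (30 : ℚ) * ∑ X, ((tau u a b c X : ℚ) ^ 2 * a X / D X) = (2) * (∑ X, ((T X : ℚ) ^ 2 * T X / D X)) + (10) * (∑ X, ((T X : ℚ) ^ 2 * U X / D X)) + (9) * (∑ X, ((T X : ℚ) ^ 2 * M X / D X)) + (15) * (∑ X, ((T X : ℚ) ^ 2 * N X / D X)) := by
      rw [Finset.mul_sum]; simp only [e, Finset.sum_add_distrib, Finset.mul_sum]
    rw [C.t, C.u, C.m, C.n] at e2
    linear_combination (1 / 30 : ℚ) * e2
  have c_b : ∑ X, ((tau u a b c X : ℚ) ^ 2 * b X / D X) = 144000 / g := by
    have e : ∀ X, (30 : ℚ) * ((tau u a b c X : ℚ) ^ 2 * b X / D X) = (2) * ((T X : ℚ) ^ 2 * T X / D X) + (10) * ((T X : ℚ) ^ 2 * U X / D X) + (9) * ((T X : ℚ) ^ 2 * M X / D X) + (-15) * ((T X : ℚ) ^ 2 * N X / D X) := by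
      intro X; rw [hT' X, hU X, hM X, hN X, hT X]; unfold tau; push_cast; ring
    have e2 : (30 : ℚ) * ∑ X, ((tau u a b c X : ℚ) ^ 2 * b X / D X) = (2) * (∑ X, ((T X : ℚ) ^ 2 * T X / D X)) + (10) * (∑ X, ((T X : ℚ) ^ 2 * U X / D X)) + (9) * (∑ X, ((T X : ℚ) ^ 2 * M X / D X)) + (-15) * (∑ X, ((T X : ℚ) ^ 2 * N X / D X)) := by
      rw [Finset.mul_sum]; simp only [e, Finset.sum_add_distrib, Finset.mul_sum]
    rw [C.t, C.u, C.m, C.n] at e2
    linear_combination (1 / 30 : ℚ) * e2
  have c_c : ∑ X, ((tau u a b c X : ℚ) ^ 2 * c X / D X) = 86400 / g := by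
    have e : ∀ X, (15 : ℚ) * ((tau u a b c X : ℚ) ^ 2 * c X / D X) = (-1) * ((T X : ℚ) ^ 2 * T X / D X) + (10) * ((T X : ℚ) ^ 2 * U X / D X) + (3) * ((T X : ℚ) ^ 2 * M X / D X) + (0) * ((T X : ℚ) ^ 2 * N X / D X) := by
      intro X; rw [hT' X, hU X, hM X, hN X, hT X]; unfold tau; push_cast; ring
    have e2 : (15 : ℚ) * ∑ X, ((tau u a b c X : ℚ) ^ 2 * c X / D X) = (-1) * (∑ X, ((T X : ℚ) ^ 2 * T X / D X)) + (10) * (∑ X, ((T X : ℚ) ^ 2 * U X / D X)) + (3) * (∑ X, ((T X : ℚ) ^ 2 * M X / D X)) + (0) * (∑ X, ((T X : ℚ) ^ 2 * N X / D X)) := by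
      rw [Finset.mul_sum]; simp only [e, Finset.sum_add_distrib, Finset.mul_sum]
    rw [C.t, C.u, C.m, C.n] at e2
    linear_combination (1 / 15 : ℚ) * e2
  have o_u : u o = 0 := by
    have := hT o; have := hU o; have := hM o; have := hN o
    rw [h.oT] at *; rw [h.oU] at *; rw [h.oM] at *; rw [h.oN] at *
    unfold tau at *; omega
  have o_a : a o = 1 := by
    have := hT o; have := hU o; have := hM o; have := hN o
    rw [h.oT] at *; rw [h.oU] at *; rw [h.oM] at *; rw [h.oN] at *
    unfold tau at *; omega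
  have o_b : b o = 1 := by
    have := hT o; have := hU o; have := hM o; have := hN o
    rw [h.oT] at *; rw [h.oU] at *; rw [h.oM] at *; rw [h.oN] at *
    unfold tau at *; omega
  have o_c : c o = 1 := by
    have := hT o; have := hU o; have := hM o; have := hN o
    rw [h.oT] at *; rw [h.oU] at *; rw [h.oM] at *; rw [h.oN] at *
    unfold tau at *; omega
  exact
    { ou := o_u, oa := o_a, ob := o_b, oc := o_c, oD := h.oD, Dpos := h.Dpos
      uu := g_uu, aa := g_aa, bb := g_bb, cc := g_cc, ab := g_ab, ac := g_ac, bc := g_bc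
      ua := g_ua, ub := g_ub, uc := g_uc
      Du := d_u, Da := d_a, Db := d_b, Dc := d_c
      Cu := c_u, Ca := c_a, Cb := c_b, Cc := c_c
      e8 := fun X => by rw [hT' X]; exact h.cong.e8 X
      e8a := fun X hX => by rw [hT' X]; exact h.cong.e8a X hX
      e8b := fun X => by rw [hT' X]; exact h.cong.e8b X
      dd := O.dd, g8 := h.g8, g16 := h.g16, g120 := h.g120 }

end Cfsg.Agent.Helper3.J1A
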