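import Mathlib
import Cfsg.Agent.Lib.Helper19.JCDefs

/-!
# S2946 piece W1 (helper1): `W = ⁅Ω₁Z(O₂(K)), K⁆` is inside `O₂(K)`, normalised by `X = K ⊔ J`,
and `C_W(K) = 1`.
-/

set_option autoImplicit false
set_option linter.unusedSectionVars false
set_option linter.unusedVariables false

namespace Cfsg.Agent.Helper19.JC

open Cfsg
open scoped commutatorElement

universe u

variable {G : Type u} [Group G] {K J : Subgroup G}

/-- a subgroup normalising `A` and `B` normalises `⁅A, B⁆` -/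
theorem w1_le_normalizer_commutator {L A B : Subgroup G}
    (hA : L ≤ Subgroup.normalizer (A : Set G)) (hB : L ≤ Subgroup.normalizer (B : Set G)) :
    L ≤ Subgroup.normalizer ((⁅A, B⁆ : Subgroup G) : Set G) := by
  apply le_normalizer_of_conj_mem
  intro l hl n hn
  have hle : ⁅A, B⁆ ≤ (⁅A, B⁆ : Subgroup G).comap (MulAut.conj l).toMonoidHom := by
    rw [Subgroup.commutator_le]
    intro a ha b hb
    rw [Subgroup.mem_comap, map_commutatorElement]
    apply Subgroup.commutator_mem_commutator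
    · simpa using conj_mem_of_le_normalizer hA hl ha
    · simpa using conj_mem_of_le_normalizer hB hl hb
  have := hle hn
  rw [Subgroup.mem_comap] at this
  simpa using this

/-- if `K` normalises `U` then `⁅U, K⁆ ≤ U` -/
theorem w1_commutator_le_left {U K : Subgroup G}
    (h : K ≤ Subgroup.normalizer (U : Set G)) : ⁅U, K⁆ ≤ U := by
  rw [Subgroup.commutator_le]
  intro u hu k hk
  rw [commutatorElement_def]
  have h1 : k * u⁻¹ * k⁻¹ ∈ U := conj_mem_of_le_normalizer h hk (U.inv_mem hu)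
  have : u * k * u⁻¹ * k⁻¹ = u * (k * u⁻¹ * k⁻¹) := by group
  rw [this]
  exact U.mul_mem hu h1

theorem Comp.K_le_normalizer_U (c : Comp K J) :
    K ≤ Subgroup.normalizer (omegaCenterOf (pCoreOf 2 K) : Set G) :=
  le_normalizer_omegaCenterOf (le_sup_left.trans c.le_normalizer_P0)

theorem Comp.W_le_U (c : Comp K J) : wOf K ≤ omegaCenterOf (pCoreOf 2 K) :=
  w1_commutator_le_left c.K_le_normalizer_U

theorem Comp.W_le_P0 (c : Comp K J) : wOf K ≤ pCoreOf 2 K :=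
  c.W_le_U.trans (omegaCenterOf_le _)

theorem Comp.le_normalizer_W (c : Comp K J) : K ⊔ J ≤ Subgroup.normalizer (wOf K : Set G) :=
  w1_le_normalizer_commutator (le_normalizer_omegaCenterOf c.le_normalizer_P0) c.le_normalizer_K

/-! ### the norm map -/

/-- rearranging six elements -/
theorem w1_six (a b c' a' b' c'' : G) (h1 : Commute a' b) (h2 : Commute a' c') (h3 : Commute b' c') :
    a * a' * (b * b') * (c' * c'') = a * b * c' * (a' * b' * c'') := by
  calc a * a' * (b * b') * (c' * c'') = a * (a' * b) * (b' * c') * c'' := by group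
    _ = a * (b * a') * (c' * b') * c'' := by rw [h1.eq, h3.eq]
    _ = a * b * (a' * c') * b' * c'' := by group
    _ = a * b * (c' * a') * b' * c'' := by rw [h2.eq]
    _ = a * b * c' * (a' * b' * c'') := by group

/-- the norm of `x` under conjugation by `d` (`d³` acting trivially) -/
def w1N (d x : G) : G := x * (d * x * d⁻¹) * (d * (d * x * d⁻¹) * d⁻¹)

theorem w1N_one (d : G) : w1N d 1 = 1 := by simp [w1N]

theorem w1N_mul {U : Subgroup G} (hU : ∀ x ∈ U, ∀ y ∈ U, x * y = y * x) {d : G}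
    (hd : ∀ x ∈ U, d * x * d⁻¹ ∈ U) {x y : G} (hx : x ∈ U) (hy : y ∈ U) :
    w1N d (x * y) = w1N d x * w1N d y := by
  unfold w1N
  have e1 : d * (x * y) * d⁻¹ = (d * x * d⁻¹) * (d * y * d⁻¹) := by group
  have e2 : d * ((d * x * d⁻¹) * (d * y * d⁻¹)) * d⁻¹ =
      (d * (d * x * d⁻¹) * d⁻¹) * (d * (d * y * d⁻¹) * d⁻¹) := by group
  rw [e1, e2]
  apply w1_six
  · exact hU _ hy _ (hd _ hx)
  · exact hU _ hy _ (hd _ (hd _ hx))
  · exact hU _ (hd _ hy) _ (hd _ (hd _ hx))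

/-- the norm is invariant under conjugation by `d` when `d³` centralises -/
theorem w1N_conj {U : Subgroup G} (hU : ∀ x ∈ U, ∀ y ∈ U, x * y = y * x) {d : G}
    (hd : ∀ x ∈ U, d * x * d⁻¹ ∈ U) (hd3 : ∀ x ∈ U, d ^ 3 * x = x * d ^ 3) {x : G} (hx : x ∈ U) :
    w1N d (d * x * d⁻¹) = w1N d x := by
  unfold w1N
  have e3 : d * (d * (d * x * d⁻¹) * d⁻¹) * d⁻¹ = x := by
    have h3 : d ^ 3 = d * d * d := by rw [pow_succ, pow_two]
    have := hd3 x hx
    rw [h3] at this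
    calc d * (d * (d * x * d⁻¹) * d⁻¹) * d⁻¹ = (d * d * d * x) * (d * d * d)⁻¹ := by group
      _ = x := by rw [this]; group
  rw [e3]
  have h1 := hU _ (hd _ hx) _ hx
  have h2 := hU _ (hd _ (hd _ hx)) _ hx
  calc d * x * d⁻¹ * (d * (d * x * d⁻¹) * d⁻¹) * x
      = d * x * d⁻¹ * ((d * (d * x * d⁻¹) * d⁻¹) * x) := by group
    _ = d * x * d⁻¹ * (x * (d * (d * x * d⁻¹) * d⁻¹)) := by rw [h2]
    _ = (d * x * d⁻¹ * x) * (d * (d * x * d⁻¹) * d⁻¹) := by group
    _ = (x * (d * x * d⁻¹)) * (d * (d * x * d⁻¹) * d⁻¹) := by rw [h1]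

variable [Finite G]

/-! ### private copies of the CUBE facts (so that this file does not wait for piece CUBE) -/

theorem Comp.w1_exists_d (c : Comp K J) : ∃ d ∈ K, d ∉ pCoreOf 2 K := by
  by_contra h
  push Not at h
  exact c.K_ne_P0 h

theorem Comp.w1_normal (c : Comp K J) : ((pCoreOf 2 K).subgroupOf K).Normal :=
  (Subgroup.normal_subgroupOf_iff_le_normalizer c.P0_le_K).mpr
    (le_sup_left.trans c.le_normalizer_P0)

theorem Comp.w1_cube_mem (c : Comp K J) {k : G} (hk : k ∈ K) : k ^ 3 ∈ pCoreOf 2 K := by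
  have hn := c.w1_normal
  have h := Subgroup.pow_index_mem ((pCoreOf 2 K).subgroupOf K) (⟨k, hk⟩ : K)
  have hi : ((pCoreOf 2 K).subgroupOf K).index = 3 := c.hidx
  rw [hi, Subgroup.mem_subgroupOf] at h
  simpa using h

theorem Comp.w1_coset_cases (c : Comp K J) {d : G} (hd : d ∈ K) (hd' : d ∉ pCoreOf 2 K) {k : G}
    (hk : k ∈ K) : k ∈ pCoreOf 2 K ∨ d⁻¹ * k ∈ pCoreOf 2 K ∨ d⁻¹ * d⁻¹ * k ∈ pCoreOf 2 K := by
  have hn := c.w1_normal
  have : Fact (Nat.Prime 3) := ⟨Nat.prime_three⟩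
  set N := (pCoreOf 2 K).subgroupOf K with hN
  have hcard : Nat.card (K ⧸ N) = 3 := by
    rw [← Subgroup.index_eq_card]
    exact c.hidx
  set d' : K := ⟨d, hd⟩
  set k' : K := ⟨k, hk⟩
  have hd1 : (d' : K ⧸ N) ≠ 1 := by
    intro h
    rw [QuotientGroup.eq_one_iff, hN, Subgroup.mem_subgroupOf] at h
    exact hd' h
  have hmem : ∀ x : K, (x : K ⧸ N) = 1 → (x : G) ∈ pCoreOf 2 K := by
    intro x hx
    rw [QuotientGroup.eq_one_iff, hN, Subgroup.mem_subgroupOf] at hx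
    exact hx
  obtain ⟨n, hn'⟩ := mem_powers_of_prime_card hcard hd1 (g' := (k' : K ⧸ N))
  have hd3 : (d' : K ⧸ N) ^ 3 = 1 := by
    rw [← hcard]
    exact pow_card_eq_one'
  have hn'' : (d' : K ⧸ N) ^ n = (k' : K ⧸ N) := hn'
  have hn3 : (d' : K ⧸ N) ^ (n % 3) = (k' : K ⧸ N) := by
    rw [← hn'']
    conv_rhs => rw [← Nat.div_add_mod n 3, pow_add, pow_mul, hd3, one_pow, one_mul]
  have hlt : n % 3 < 3 := Nat.mod_lt _ (by norm_num)
  interval_cases h : n % 3
  · left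
    apply hmem k'
    rw [← hn3]; simp
  · right; left
    have : ((d'⁻¹ * k' : K) : K ⧸ N) = 1 := by
      rw [QuotientGroup.mk_mul, QuotientGroup.mk_inv, ← hn3]; simp
    exact hmem _ this
  · right; right
    have : ((d'⁻¹ * d'⁻¹ * k' : K) : K ⧸ N) = 1 := by
      rw [QuotientGroup.mk_mul, QuotientGroup.mk_mul, QuotientGroup.mk_inv, ← hn3]
      rw [pow_two]; group
    exact hmem _ this

theorem Comp.W_fpf (c : Comp K J) : ∀ w ∈ wOf K, (∀ k ∈ K, k * w = w * k) → w = 1 := by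
  intro w hw hwK
  obtain ⟨d, hdK, hdP⟩ := c.w1_exists_d
  set U := omegaCenterOf (pCoreOf 2 K) with hUdef
  have hUmem : ∀ x ∈ U, x ∈ pCoreOf 2 K ∧ (∀ y ∈ pCoreOf 2 K, y * x = x * y) ∧ x ^ 2 = 1 :=
    fun x hx => (mem_omegaCenterOf_iff _ x).mp hx
  have hU : ∀ x ∈ U, ∀ y ∈ U, x * y = y * x := fun x hx y hy =>
    (hUmem y hy).2.1 x (hUmem x hx).1
  have hKU : ∀ k ∈ K, ∀ x ∈ U, k * x * k⁻¹ ∈ U := fun k hk x hx =>
    conj_mem_of_le_normalizer c.K_le_normalizer_U hk hx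
  have hd : ∀ x ∈ U, d * x * d⁻¹ ∈ U := hKU d hdK
  have hd3 : ∀ x ∈ U, d ^ 3 * x = x * d ^ 3 := fun x hx =>
    (hUmem x hx).2.1 _ (c.w1_cube_mem hdK)
  -- conjugation by an element of `P0` is trivial on `U`
  have hP : ∀ p ∈ pCoreOf 2 K, ∀ x ∈ U, p * x * p⁻¹ = x := by
    intro p hp x hx
    rw [(hUmem x hx).2.1 p hp]
    group
  -- the norm is `K`-invariant
  have hNK : ∀ k ∈ K, ∀ x ∈ U, w1N d (k * x * k⁻¹) = w1N d x := by
    intro k hk x hx
    rcases c.w1_coset_cases hdK hdP hk with h | h | h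
    · rw [hP k h x hx]
    · have e : k * x * k⁻¹ = d * ((d⁻¹ * k) * x * (d⁻¹ * k)⁻¹) * d⁻¹ := by group
      rw [e, hP _ h x hx, w1N_conj hU hd hd3 hx]
    · have e : k * x * k⁻¹ = d * (d * ((d⁻¹ * d⁻¹ * k) * x * (d⁻¹ * d⁻¹ * k)⁻¹) * d⁻¹) * d⁻¹ := by
        group
      rw [e, hP _ h x hx, w1N_conj hU hd hd3 (hd _ hx), w1N_conj hU hd hd3 hx]
  -- the norm vanishes on `W`
  have hW : wOf K ≤ U := c.W_le_U
  have hNW : ∀ x ∈ wOf K, x ∈ U ∧ w1N d x = 1 := by
    intro x hx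
    unfold wOf at hx
    induction hx using Subgroup.closure_induction with
    | mem y hy =>
      obtain ⟨u, hu, k, hk, rfl⟩ := hy
      have hu' : u ∈ U := hu
      have h1 : k * u⁻¹ * k⁻¹ ∈ U := hKU k hk _ (U.inv_mem hu')
      have e : ⁅u, k⁆ = u * (k * u⁻¹ * k⁻¹) := by rw [commutatorElement_def]; group
      refine ⟨by rw [e]; exact U.mul_mem hu' h1, ?_⟩
      rw [e, w1N_mul hU hd hu' h1, hNK k hk _ (U.inv_mem hu'),
        ← w1N_mul hU hd hu' (U.inv_mem hu'), mul_inv_cancel, w1N_one]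
    | one => exact ⟨U.one_mem, w1N_one d⟩
    | mul x y _ _ hx hy =>
      exact ⟨U.mul_mem hx.1 hy.1, by rw [w1N_mul hU hd hx.1 hy.1, hx.2, hy.2, one_mul]⟩
    | inv x _ hx =>
      have h2 : x ^ 2 = 1 := (hUmem x hx.1).2.2
      have : x⁻¹ = x := by
        rw [inv_eq_iff_mul_eq_one, ← pow_two, h2]
      rw [this]
      exact hx
  have h1 := (hNW w hw).2
  have h2 : w ^ 2 = 1 := (hUmem w (hW hw)).2.2
  have h3 : d * w * d⁻¹ = w := by rw [hwK d hdK]; group
  unfold w1N at h1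
  rw [h3, h3] at h1
  calc w = w * w * w * (w ^ 2)⁻¹ := by group
    _ = 1 := by rw [h1, h2]; simp

end Cfsg.Agent.Helper19.JC
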