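import Mathlib
import Cfsg.Agent.Lib.Helper19.JCDefs
import Cfsg.Agent.Lib.Helper19.PGroupBasic
import Cfsg.Agent.Lib.Helper1.JCW1

/-!
# S2946 piece W2 (helper1): `W` is an irreducible `K`-module and `W ≤ Ω₁Z(R)`.
-/

set_option autoImplicit false
set_option linter.unusedSectionVars false
set_option linter.unusedVariables false

namespace Cfsg.Agent.Helper19.JC

open Cfsg
open scoped commutatorElement

universe u

variable {G : Type u} [Group G] [Finite G] {K J : Subgroup G}

theorem Comp.W_irred (c : Comp K J) (I : Subgroup G) (hI : I ≤ wOf K)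
    (hK : K ≤ Subgroup.normalizer (I : Set G)) : I = ⊥ ∨ I = wOf K := by
  have hdvd : Nat.card I ∣ 4 := by
    rw [← c.hW4]
    exact Subgroup.card_dvd_of_le hI
  have hle : Nat.card I ≤ 4 := Nat.le_of_dvd (by norm_num) hdvd
  have hpos : 0 < Nat.card I := Nat.card_pos
  have h3 : Nat.card I ≠ 3 := by
    intro h
    rw [h] at hdvd
    norm_num at hdvd
  have hcases : Nat.card I = 1 ∨ Nat.card I = 2 ∨ Nat.card I = 4 := by omega
  rcases hcases with h | h | h
  · left
    exact Subgroup.card_eq_one.mp h
  · exfalso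
    -- `I = {1, w}` and `w` is fixed by `K`
    have hnt : Nontrivial I := by
      rw [← Finite.one_lt_card_iff_nontrivial, h]
      norm_num
    obtain ⟨⟨w, hwI⟩, hw1⟩ := exists_ne (1 : I)
    have hw1' : w ≠ 1 := fun h' => hw1 (Subtype.ext h')
    have hall : ∀ x ∈ I, x = 1 ∨ x = w := by
      intro x hx
      by_contra hcon
      rw [not_or] at hcon
      have : 3 ≤ Nat.card I := by
        have hinj : Function.Injective (fun i : Fin 3 =>
            (![⟨1, I.one_mem⟩, ⟨w, hwI⟩, ⟨x, hx⟩] i : I)) := by
          intro i j hij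
          fin_cases i <;> fin_cases j <;> simp_all [Subtype.ext_iff]
        have := Nat.card_le_card_of_injective _ hinj
        simpa using this
      omega
    have hfix : ∀ k ∈ K, k * w = w * k := by
      intro k hk
      have hmem : k * w * k⁻¹ ∈ I := conj_mem_of_le_normalizer hK hk hwI
      rcases hall _ hmem with h' | h'
      · exfalso
        apply hw1'
        have : w = k⁻¹ * (k * w * k⁻¹) * k := by group
        rw [this, h']
        group
      · calc k * w = (k * w * k⁻¹) * k := by group
          _ = w * k := by rw [h']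
    exact hw1' (c.W_fpf w (hI hwI) hfix)
  · right
    exact Subgroup.eq_of_le_of_card_ge hI (by rw [c.hW4, h])

theorem Comp.W_le_R (c : Comp K J) : wOf K ≤ RR K J := c.W_le_P0.trans c.P0_le_R

theorem Comp.W_le_V (c : Comp K J) : wOf K ≤ VV K J := by
  have : Fact (Nat.Prime 2) := ⟨Nat.prime_two⟩
  -- `W ⊓ C(R)` is `K`-invariant and nontrivial
  set R := RR K J with hR
  set I : Subgroup G := wOf K ⊓ Subgroup.centralizer (R : Set G) with hIdef
  have hXW := c.le_normalizer_W
  have hXR := c.le_normalizer_R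
  have hWR : wOf K ≤ R := c.W_le_R
  have hIK : K ≤ Subgroup.normalizer (I : Set G) := by
    apply le_normalizer_of_conj_mem
    intro k hk n hn
    have hkX : k ∈ K ⊔ J := Subgroup.mem_sup_left hk
    refine Subgroup.mem_inf.mpr ⟨conj_mem_of_le_normalizer hXW hkX hn.1, ?_⟩
    rw [Subgroup.mem_centralizer_iff]
    intro r hr
    have hr' : k⁻¹ * r * k ∈ R := conj_inv_mem_of_le_normalizer hXR hkX hr
    have h2 := (Subgroup.mem_centralizer_iff.mp hn.2) _ hr'
    calc r * (k * n * k⁻¹) = k * ((k⁻¹ * r * k) * n) * k⁻¹ := by group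
      _ = k * (n * (k⁻¹ * r * k)) * k⁻¹ := by rw [h2]
      _ = k * n * k⁻¹ * r := by group
  have hIne : I ≠ ⊥ := by
    -- inside the 2-group `R`
    have hN : ((wOf K).subgroupOf R).Normal :=
      (Subgroup.normal_subgroupOf_iff_le_normalizer hWR).mpr (c.R_le_X.trans hXW)
    have hne : (wOf K).subgroupOf R ≠ ⊥ := by
      intro h
      rw [Subgroup.subgroupOf_eq_bot, disjoint_iff, inf_eq_left.mpr hWR] at h
      have := c.hW4
      rw [h] at this
      simp at this
    have hRp : IsPGroup 2 R := c.isPGroup_R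
    have h1 := Cfsg.Agent.Helper19.normal_inf_center_ne_bot hRp ((wOf K).subgroupOf R) hne
    intro hbot
    apply h1
    rw [eq_bot_iff]
    rintro ⟨x, hxR⟩ hx
    obtain ⟨hxW, hxZ⟩ := Subgroup.mem_inf.mp hx
    rw [Subgroup.mem_subgroupOf] at hxW
    rw [Subgroup.mem_center_iff] at hxZ
    have hxI : x ∈ I := by
      refine Subgroup.mem_inf.mpr ⟨hxW, ?_⟩
      rw [Subgroup.mem_centralizer_iff]
      intro r hr
      have := hxZ ⟨r, hr⟩
      exact congrArg Subtype.val this
    rw [hbot, Subgroup.mem_bot] at hxI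
    rw [Subgroup.mem_bot]
    exact Subtype.ext hxI
  rcases c.W_irred I inf_le_left hIK with h | h
  · exact absurd h hIne
  · intro w hw
    have hwI : w ∈ I := by rw [h]; exact hw
    rw [mem_omegaCenterOf_iff]
    refine ⟨hWR hw, ?_, ?_⟩
    · intro y hy
      exact (Subgroup.mem_centralizer_iff.mp hwI.2) y hy
    · rw [pow_two]
      exact c.hW2 w hw

end Cfsg.Agent.Helper19.JC
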