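import Mathlib

/-!
# KS12c / S2951' piece ACT (helper1): the action on a group of order 4, and an index-two criterion

Pure group theory, exact signatures of `plans/KV_Skel.lean.txt`.
-/

set_option autoImplicit false
set_option linter.unusedVariables false
set_option linter.unusedSectionVars false
set_option linter.style.haveILetI false

namespace Cfsg.Agent.Helper27.KV

universe u

variable {G : Type u} [Group G] [Finite G]

set_option maxRecDepth 100000 in
/-- two non-trivial permutations of four points fixing the same two points are equal -/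
theorem kvact_perm4 : ∀ (a b : Fin 4) (σ τ : Equiv.Perm (Fin 4)), a ≠ b → σ a = a → σ b = b →
    τ a = a → τ b = b → σ ≠ 1 → τ ≠ 1 → σ = τ := by decide +kernel

/-- the permutation of a subgroup induced by an element of its normalizer -/
def kvactPerm (Z₀ : Subgroup G) (x : G) (hx : x ∈ Subgroup.normalizer (Z₀ : Set G)) :
    Equiv.Perm ↥Z₀ where
  toFun w := ⟨x * w * x⁻¹, (Subgroup.mem_normalizer_iff.1 hx w).1 w.2⟩
  invFun w := ⟨x⁻¹ * w * x, by
    have h := (Subgroup.mem_normalizer_iff.1 (inv_mem hx) w).1 w.2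
    rwa [inv_inv] at h⟩
  left_inv w := by
    apply Subtype.ext
    show x⁻¹ * (x * w * x⁻¹) * x = w
    group
  right_inv w := by
    apply Subtype.ext
    show x * (x⁻¹ * w * x) * x⁻¹ = w
    group

theorem kvactPerm_apply (Z₀ : Subgroup G) (x : G) (hx : x ∈ Subgroup.normalizer (Z₀ : Set G))
    (w : ↥Z₀) : ((kvactPerm Z₀ x hx w : ↥Z₀) : G) = x * w * x⁻¹ := rfl

theorem kvactPerm_ne_one (Z₀ : Subgroup G) (x : G) (hx : x ∈ Subgroup.normalizer (Z₀ : Set G))
    (hx' : x ∉ Subgroup.centralizer (Z₀ : Set G)) : kvactPerm Z₀ x hx ≠ 1 := by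
  intro h
  apply hx'
  rw [Subgroup.mem_centralizer_iff]
  intro w hw
  have h1 : kvactPerm Z₀ x hx ⟨w, hw⟩ = ⟨w, hw⟩ := by rw [h]; rfl
  have h2 : x * w * x⁻¹ = w := congrArg Subtype.val h1
  calc w * x = (x * w * x⁻¹) * x := by rw [h2]
    _ = x * w := by group

/-- ACT.  `Z₀` has four elements `1, z, d, d'`; an element normalizing `Z₀` and fixing `z` either
centralizes `Z₀` or swaps `d, d'`. -/
theorem act4 {Z₀ : Subgroup G} (h4 : Nat.card ↥Z₀ = 4) {z : G} (hz : z ∈ Z₀) (hz1 : z ≠ 1) {x y : G}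
    (hx : x ∈ Subgroup.normalizer (Z₀ : Set G)) (hy : y ∈ Subgroup.normalizer (Z₀ : Set G))
    (hxz : x * z = z * x) (hyz : y * z = z * y)
    (hx' : x ∉ Subgroup.centralizer (Z₀ : Set G)) (hy' : y ∉ Subgroup.centralizer (Z₀ : Set G)) :
    x * y⁻¹ ∈ Subgroup.centralizer (Z₀ : Set G) := by
  haveI : Finite ↥Z₀ := Nat.finite_of_card_ne_zero (by rw [h4]; norm_num)
  let e : ↥Z₀ ≃ Fin 4 := Finite.equivFinOfCardEq h4
  have hfix : ∀ (g : G) (hg : g ∈ Subgroup.normalizer (Z₀ : Set G)), g * z = z * g →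
      e.permCongr (kvactPerm Z₀ g hg) (e 1) = e 1 ∧
      e.permCongr (kvactPerm Z₀ g hg) (e ⟨z, hz⟩) = e ⟨z, hz⟩ := by
    intro g hg hgz
    constructor
    · rw [Equiv.permCongr_apply, Equiv.symm_apply_apply]
      congr 1
      apply Subtype.ext
      rw [kvactPerm_apply]
      simp
    · rw [Equiv.permCongr_apply, Equiv.symm_apply_apply]
      congr 1
      apply Subtype.ext
      rw [kvactPerm_apply]
      show g * z * g⁻¹ = z
      rw [hgz]
      group
  have hne : ∀ (g : G) (hg : g ∈ Subgroup.normalizer (Z₀ : Set G)),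
      g ∉ Subgroup.centralizer (Z₀ : Set G) → e.permCongr (kvactPerm Z₀ g hg) ≠ 1 := by
    intro g hg hg' h
    apply kvactPerm_ne_one Z₀ g hg hg'
    apply e.permCongr.injective
    rw [h]
    ext i
    simp [Equiv.permCongr_apply]
  have hab : e 1 ≠ e ⟨z, hz⟩ := by
    intro h
    apply hz1
    have := e.injective h
    exact (congrArg Subtype.val this).symm
  have key := kvact_perm4 (e 1) (e ⟨z, hz⟩) _ _ hab (hfix x hx hxz).1 (hfix x hx hxz).2
    (hfix y hy hyz).1 (hfix y hy hyz).2 (hne x hx hx') (hne y hy hy')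
  have key2 : kvactPerm Z₀ x hx = kvactPerm Z₀ y hy := e.permCongr.injective key
  rw [Subgroup.mem_centralizer_iff]
  intro w hw
  -- `w' = y⁻¹ w y`
  have hw' : y⁻¹ * w * y ∈ Z₀ := by
    have h := (Subgroup.mem_normalizer_iff.1 (inv_mem hy) w).1 hw
    rwa [inv_inv] at h
  have h1 : kvactPerm Z₀ x hx ⟨y⁻¹ * w * y, hw'⟩ = kvactPerm Z₀ y hy ⟨y⁻¹ * w * y, hw'⟩ := by
    rw [key2]
  have h2 : x * (y⁻¹ * w * y) * x⁻¹ = y * (y⁻¹ * w * y) * y⁻¹ := congrArg Subtype.val h1
  have h3 : x * (y⁻¹ * w * y) * x⁻¹ = w := by rw [h2]; group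
  calc w * (x * y⁻¹) = (x * (y⁻¹ * w * y) * x⁻¹) * (x * y⁻¹) := by rw [h3]
    _ = x * y⁻¹ * w := by group

/-- ACT (2).  Index two from the coset criterion. -/
theorem relIndex_eq_two {C N L : Subgroup G} (hCN : C ≤ N) (hCL : C ≤ L) {s : G} (hsN : s ∈ N)
    (hsC : s ∉ C) (h : ∀ x ∈ N, ∀ y ∈ N, x ∉ C → y ∉ C → x * y⁻¹ ∈ C) :
    (L ⊓ C).relIndex N = 2 := by
  rw [inf_eq_right.2 hCL]
  unfold Subgroup.relIndex
  rw [Subgroup.index_eq_two_iff]
  refine ⟨⟨s, hsN⟩, ?_⟩
  intro b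
  rw [Subgroup.mem_subgroupOf, Subgroup.mem_subgroupOf]
  show Xor ((b : G) * s ∈ C) ((b : G) ∈ C)
  by_cases hb : (b : G) ∈ C
  · right
    refine ⟨hb, ?_⟩
    intro hbs
    apply hsC
    have := C.mul_mem (C.inv_mem hb) hbs
    rwa [inv_mul_cancel_left] at this
  · left
    refine ⟨?_, hb⟩
    have hs' : s⁻¹ ∉ C := fun h' => hsC (by simpa using C.inv_mem h')
    have := h b b.2 s⁻¹ (N.inv_mem hsN) hb hs'
    rwa [inv_inv] at this

end Cfsg.Agent.Helper27.KV
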