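import Mathlib
import Cfsg.Agent.Lib.Helper18.LevDefs
import Cfsg.Agent.Lib.Helper22.SubspaceAvoid
import Cfsg.Agent.Lib.Helper22.AffineAvoid

/-!
# S2522 PIECE LEV-PHI (helper1): choice of the functional (`exists_phi3`, `exists_phi4`).

We work in the dual of `W = V ⧸ K u`: a functional `ψ` on `W` with `ψ (π e) ≠ 0` gives
`φ = (ψ (π e))⁻¹ • ψ ∘ π` with `φ e = 1`, `φ u = 0`; all conditions are "`ψ` avoids a proper subspace".
-/

set_option autoImplicit false

namespace Cfsg.Agent.Helper18.Lev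

open Module

universe u v

section pieces
variable {K : Type u} [Field K] {V : Type v} [AddCommGroup V] [Module K V]

/-- the functionals of `W` killing `w` -/
def phi_N {W : Type*} [AddCommGroup W] [Module K W] (w : W) : Submodule K (Dual K W) :=
  LinearMap.ker (Dual.eval K W w)

theorem phi_mem_N {W : Type*} [AddCommGroup W] [Module K W] (w : W) (ψ : Dual K W) :
    ψ ∈ phi_N w ↔ ψ w = 0 := by
  unfold phi_N
  rw [LinearMap.mem_ker, Dual.eval_apply]

theorem phi_N_ne_top {W : Type*} [AddCommGroup W] [Module K W] (w : W) (hw : w ≠ 0) :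
    phi_N (K := K) w ≠ ⊤ := by
  intro h
  apply hw
  rw [← forall_dual_apply_eq_zero_iff K w]
  intro ψ
  rw [← phi_mem_N, h]
  trivial

/-- the functionals `ψ` of `W` with `ψ ∘ π = ψ (π e) • φs` -/
def phi_S (u e : V) (φs : V →ₗ[K] K) : Submodule K (Dual K (V ⧸ Submodule.span K {u})) :=
  LinearMap.ker ((Submodule.span K {u}).mkQ.dualMap -
    (Dual.eval K _ ((Submodule.span K {u}).mkQ e)).smulRight φs)

theorem phi_mem_S (u e : V) (φs : V →ₗ[K] K) (ψ : Dual K (V ⧸ Submodule.span K {u})) :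
    ψ ∈ phi_S u e φs ↔ ψ.comp (Submodule.span K {u}).mkQ = ψ ((Submodule.span K {u}).mkQ e) • φs := by
  unfold phi_S
  rw [LinearMap.mem_ker, LinearMap.sub_apply, sub_eq_zero, LinearMap.smulRight_apply, Dual.eval_apply]
  rfl

/-- a nonzero functional killing a given small subspace -/
theorem phi_exists_kill [FiniteDimensional K V] {W : Type*} [AddCommGroup W] [Module K W]
    [FiniteDimensional K W] (s : Finset W) (hs : s.card < finrank K W) :
    ∃ δ : Dual K W, δ ≠ 0 ∧ ∀ w ∈ s, δ w = 0 := by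
  have hlt : Submodule.span K (s : Set W) < ⊤ := by
    rw [lt_top_iff_ne_top]
    intro h
    have h1 : finrank K ↥(Submodule.span K (s : Set W)) ≤ s.card := finrank_span_finset_le_card s
    rw [h, finrank_top] at h1
    omega
  obtain ⟨δ, hδ, hle⟩ := Submodule.exists_le_ker_of_lt_top _ hlt
  exact ⟨δ, hδ, fun w hw => LinearMap.mem_ker.1 (hle (Submodule.subset_span hw))⟩

theorem phi_S_ne_top [FiniteDimensional K V] (u e : V) (φs : V →ₗ[K] K)
    (h2 : 2 ≤ finrank K (V ⧸ Submodule.span K {u})) : phi_S u e φs ≠ ⊤ := by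
  classical
  intro h
  obtain ⟨δ, hδ, hk⟩ := phi_exists_kill (K := K) (V := V)
    ({(Submodule.span K {u}).mkQ e} : Finset (V ⧸ Submodule.span K {u}))
    (by rw [Finset.card_singleton]; omega)
  have hδe : δ ((Submodule.span K {u}).mkQ e) = 0 := hk _ (Finset.mem_singleton_self _)
  have hS : δ ∈ phi_S u e φs := by rw [h]; trivial
  rw [phi_mem_S, hδe, zero_smul] at hS
  apply hδ
  apply LinearMap.dualMap_injective_of_surjective (Submodule.mkQ_surjective (Submodule.span K {u}))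
  rw [map_zero]
  exact hS

/-- basic consequences of the independence of `e, u` -/
theorem phi_indep (e u : V) (hind : LinearIndependent K ![e, u]) :
    u ≠ 0 ∧ e ∉ Submodule.span K {u} := by
  rw [LinearIndependent.pair_iff] at hind
  constructor
  · intro hu
    have := hind 0 1 (by rw [hu]; simp)
    exact one_ne_zero this.2
  · intro he
    obtain ⟨c, hc⟩ := Submodule.mem_span_singleton.1 he
    have := hind 1 (-c) (by rw [← hc]; simp)
    exact one_ne_zero this.1

theorem phi_finrank_quot [FiniteDimensional K V] (u : V) (hu : u ≠ 0) :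
    finrank K (V ⧸ Submodule.span K {u}) + 1 = finrank K V := by
  have := Submodule.finrank_quotient_add_finrank (Submodule.span K {u})
  rwa [finrank_span_singleton hu] at this

/-- from a good functional on the quotient to the functional on `V` -/
theorem phi_of_psi (e u : V) (φs : V →ₗ[K] K) (ψ : Dual K (V ⧸ Submodule.span K {u}))
    (he : ψ ((Submodule.span K {u}).mkQ e) ≠ 0) (hS : ψ ∉ phi_S u e φs) :
    ∃ φ : V →ₗ[K] K, φ e = 1 ∧ φ u = 0 ∧ φ ≠ φs ∧
      ∀ z : V, ψ ((Submodule.span K {u}).mkQ z) ≠ 0 → φ z ≠ 0 := by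
  refine ⟨(ψ ((Submodule.span K {u}).mkQ e))⁻¹ • ψ.comp (Submodule.span K {u}).mkQ, ?_, ?_, ?_, ?_⟩
  · rw [LinearMap.smul_apply, LinearMap.comp_apply, smul_eq_mul, inv_mul_cancel₀ he]
  · have : (Submodule.span K {u}).mkQ u = 0 := by
      rw [Submodule.mkQ_apply, Submodule.Quotient.mk_eq_zero]
      exact Submodule.mem_span_singleton_self u
    rw [LinearMap.smul_apply, LinearMap.comp_apply, this, map_zero, smul_zero]
  · intro h
    apply hS
    rw [phi_mem_S, ← h, smul_smul, mul_inv_cancel₀ he, one_smul]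
  · intro z hz
    rw [LinearMap.smul_apply, LinearMap.comp_apply, smul_eq_mul]
    exact mul_ne_zero (inv_ne_zero he) hz

theorem phi_mkQ_ne (u z : V) (hz : z ∉ Submodule.span K {u}) :
    (Submodule.span K {u}).mkQ z ≠ 0 := by
  intro h
  rw [Submodule.mkQ_apply, Submodule.Quotient.mk_eq_zero] at h
  exact hz h

/-- PIECE LEV-PHI (1). -/
theorem exists_phi3 (hK : 4 ≤ Cardinal.mk K) [FiniteDimensional K V] (h3 : 3 ≤ finrank K V)
    (e u : V) (hind : LinearIndependent K ![e, u]) (z1 z2 : V)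
    (hz1 : z1 ∉ Submodule.span K {u}) (hz2 : z2 ∉ Submodule.span K {u}) (φs : V →ₗ[K] K) :
    ∃ φ : V →ₗ[K] K, φ e = 1 ∧ φ u = 0 ∧ φ z1 ≠ 0 ∧ φ z2 ≠ 0 ∧ φ ≠ φs := by
  obtain ⟨hu, he⟩ := phi_indep e u hind
  have hfr := phi_finrank_quot (K := K) u hu
  obtain ⟨ψ, h1, h2, h3', h4⟩ := Cfsg.Agent.Helper22.SubspaceAvoid.exists_notMem_four hK
    (phi_N ((Submodule.span K {u}).mkQ e)) (phi_N ((Submodule.span K {u}).mkQ z1))
    (phi_N ((Submodule.span K {u}).mkQ z2)) (phi_S u e φs)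
    (phi_N_ne_top _ (phi_mkQ_ne u e he)) (phi_N_ne_top _ (phi_mkQ_ne u z1 hz1))
    (phi_N_ne_top _ (phi_mkQ_ne u z2 hz2)) (phi_S_ne_top u e φs (by omega))
  rw [phi_mem_N] at h1 h2 h3'
  obtain ⟨φ, hφe, hφu, hφs, hφz⟩ := phi_of_psi e u φs ψ h1 h4
  exact ⟨φ, hφe, hφu, hφz z1 h2, hφz z2 h3', hφs⟩

/-- three values of a field with at least four elements can be avoided -/
theorem phi_avoid3 (hK : 4 ≤ Cardinal.mk K) (a b c : K) : ∃ s : K, s ≠ a ∧ s ≠ b ∧ s ≠ c := by
  classical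
  have hs : ((Finset.univ : Finset (Fin 3)).card : Cardinal) < Cardinal.mk K := by
    refine lt_of_lt_of_le ?_ hK
    rw [Finset.card_univ, Fintype.card_fin]
    exact_mod_cast (by norm_num : (3 : ℕ) < 4)
  obtain ⟨s, hs'⟩ := Cfsg.Agent.Helper22.AffineAvoid.exists_forall_sub_notMem (K := K) (V := K)
    (Finset.univ : Finset (Fin 3)) (fun _ => ⊥) ![a, b, c]
    (fun _ _ => bot_ne_top) hs
  refine ⟨s, ?_, ?_, ?_⟩
  · intro h
    apply hs' 0 (Finset.mem_univ _)
    rw [Submodule.mem_bot, h]; simp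
  · intro h
    apply hs' 1 (Finset.mem_univ _)
    rw [Submodule.mem_bot, h]; simp
  · intro h
    apply hs' 2 (Finset.mem_univ _)
    rw [Submodule.mem_bot, h]; simp

/-- PIECE LEV-PHI (2). -/
theorem exists_phi4 (hK : 4 ≤ Cardinal.mk K) [FiniteDimensional K V] (h4 : 4 ≤ finrank K V)
    (e u : V) (hind : LinearIndependent K ![e, u]) (z1 z2 z3 : V)
    (hz1 : z1 ∉ Submodule.span K {u}) (hz2 : z2 ∉ Submodule.span K {u})
    (hz3 : z3 ∉ Submodule.span K {u}) (φs : V →ₗ[K] K) :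
    ∃ φ : V →ₗ[K] K, φ e = 1 ∧ φ u = 0 ∧ φ z1 ≠ 0 ∧ φ z2 ≠ 0 ∧ φ z3 ≠ 0 ∧ φ ≠ φs := by
  classical
  obtain ⟨hu, he⟩ := phi_indep e u hind
  have hfr := phi_finrank_quot (K := K) u hu
  obtain ⟨ψ, h0, h1, h2, h3⟩ := Cfsg.Agent.Helper22.SubspaceAvoid.exists_notMem_four hK
    (phi_N ((Submodule.span K {u}).mkQ e)) (phi_N ((Submodule.span K {u}).mkQ z1))
    (phi_N ((Submodule.span K {u}).mkQ z2)) (phi_N ((Submodule.span K {u}).mkQ z3))
    (phi_N_ne_top _ (phi_mkQ_ne u e he)) (phi_N_ne_top _ (phi_mkQ_ne u z1 hz1))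
    (phi_N_ne_top _ (phi_mkQ_ne u z2 hz2)) (phi_N_ne_top _ (phi_mkQ_ne u z3 hz3))
  rw [phi_mem_N] at h0 h1 h2 h3
  by_cases hS : ψ ∈ phi_S u e φs
  · -- the line trick
    obtain ⟨δ, hδ, hk⟩ := phi_exists_kill (K := K) (V := V)
      ({(Submodule.span K {u}).mkQ e, (Submodule.span K {u}).mkQ z1} :
        Finset (V ⧸ Submodule.span K {u}))
      (lt_of_le_of_lt (Finset.card_le_two) (by omega))
    have hδe : δ ((Submodule.span K {u}).mkQ e) = 0 := hk _ (by simp)
    have hδ1 : δ ((Submodule.span K {u}).mkQ z1) = 0 := hk _ (by simp)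
    obtain ⟨s, hs0, hs2, hs3⟩ := phi_avoid3 hK 0
      (-(ψ ((Submodule.span K {u}).mkQ z2)) / δ ((Submodule.span K {u}).mkQ z2))
      (-(ψ ((Submodule.span K {u}).mkQ z3)) / δ ((Submodule.span K {u}).mkQ z3))
    have hline : ∀ z : V, ψ ((Submodule.span K {u}).mkQ z) ≠ 0 →
        s ≠ -(ψ ((Submodule.span K {u}).mkQ z)) / δ ((Submodule.span K {u}).mkQ z) →
        (ψ + s • δ) ((Submodule.span K {u}).mkQ z) ≠ 0 := by
      intro z hz hsz h
      rw [LinearMap.add_apply, LinearMap.smul_apply, smul_eq_mul] at h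
      by_cases hd : δ ((Submodule.span K {u}).mkQ z) = 0
      · rw [hd, mul_zero, add_zero] at h
        exact hz h
      · apply hsz
        field_simp
        linear_combination h
    have hSs : ψ + s • δ ∉ phi_S u e φs := by
      intro hmem
      have h5 : s • δ ∈ phi_S u e φs := by
        have := (phi_S u e φs).sub_mem hmem hS
        rwa [add_sub_cancel_left] at this
      have h6 : δ ∈ phi_S u e φs := by
        have := (phi_S u e φs).smul_mem s⁻¹ h5
        rwa [smul_smul, inv_mul_cancel₀ hs0, one_smul] at this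
      rw [phi_mem_S, hδe, zero_smul] at h6
      apply hδ
      apply LinearMap.dualMap_injective_of_surjective (Submodule.mkQ_surjective (Submodule.span K {u}))
      rw [map_zero]
      exact h6
    have he' : (ψ + s • δ) ((Submodule.span K {u}).mkQ e) ≠ 0 := by
      rw [LinearMap.add_apply, LinearMap.smul_apply, hδe, smul_zero, add_zero]
      exact h0
    have h1' : (ψ + s • δ) ((Submodule.span K {u}).mkQ z1) ≠ 0 := by
      rw [LinearMap.add_apply, LinearMap.smul_apply, hδ1, smul_zero, add_zero]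
      exact h1
    obtain ⟨φ, hφe, hφu, hφs, hφz⟩ := phi_of_psi e u φs (ψ + s • δ) he' hSs
    exact ⟨φ, hφe, hφu, hφz z1 h1', hφz z2 (hline z2 h2 hs2), hφz z3 (hline z3 h3 hs3), hφs⟩
  · obtain ⟨φ, hφe, hφu, hφs, hφz⟩ := phi_of_psi e u φs ψ h0 hS
    exact ⟨φ, hφe, hφu, hφz z1 h1, hφz z2 h2, hφz z3 h3, hφs⟩

end pieces

end Cfsg.Agent.Helper18.Lev
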