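import Mathlib
import Cfsg.Prelude.Def_Sporadic
import Cfsg.Prelude.Def_Spor_Mathieu

/-!
# M11Rec (S3413 + S3592), piece TRANSFER (helper1)

A bijection of the non-identity elements of two finite groups that preserves commuting
preserves the group order and the orders of centralizers.
-/

set_option autoImplicit false

universe u

namespace Cfsg.Agent.Helper6.M11Rec

namespace TRANSFER

/-- a subtype of a group containing `1` has one more element than its non-identity part -/
theorem card_subtype_one {Γ : Type*} [Group Γ] [Finite Γ] (P : Γ → Prop) (h1 : P 1) :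
    Nat.card {h : Γ // P h} = Nat.card {y : {h : Γ // h ≠ 1} // P y.1} + 1 := by
  classical
  let a : {h : Γ // P h} := ⟨1, h1⟩
  have e1 : Option {b : {h : Γ // P h} // b ≠ a} ≃ {h : Γ // P h} := Equiv.optionSubtypeNe a
  have e2 : {b : {h : Γ // P h} // b ≠ a} ≃ {y : {h : Γ // h ≠ 1} // P y.1} :=
    { toFun := fun b => ⟨⟨b.1.1, fun h => b.2 (Subtype.ext h)⟩, b.1.2⟩
      invFun := fun y => ⟨⟨y.1.1, y.2⟩, fun h => y.1.2 (congrArg Subtype.val h)⟩
      left_inv := fun b => rfl
      right_inv := fun y => rfl }
  rw [← Nat.card_congr e1, Finite.card_option, Nat.card_congr e2]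

theorem card_centralizer {Γ : Type*} [Group Γ] [Finite Γ] (z : Γ) :
    Nat.card (Subgroup.centralizer ({z} : Set Γ)) =
      Nat.card {y : {h : Γ // h ≠ 1} // z * y.1 = y.1 * z} + 1 := by
  rw [← card_subtype_one (fun h : Γ => z * h = h * z) (by simp)]
  apply Nat.card_congr
  exact Equiv.subtypeEquivRight (fun h => by
    rw [Subgroup.mem_centralizer_singleton_iff]
    exact eq_comm)

end TRANSFER

/-- PIECE TRANSFER. -/
theorem card_centralizer_transfer {H M : Type*} [Group H] [Finite H] [Group M] [Finite M]
    (f : {h : H // h ≠ 1} ≃ {g : M // g ≠ 1})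
    (hf : ∀ x y : {h : H // h ≠ 1}, (x : H) * y = y * x ↔ ((f x) : M) * (f y) = (f y) * (f x))
    (x : {h : H // h ≠ 1}) :
    Nat.card H = Nat.card M ∧
    Nat.card (Subgroup.centralizer ({(x : H)} : Set H)) =
      Nat.card (Subgroup.centralizer ({((f x) : M)} : Set M)) := by
  constructor
  · have hH := TRANSFER.card_subtype_one (Γ := H) (fun _ => True) trivial
    have hM := TRANSFER.card_subtype_one (Γ := M) (fun _ => True) trivial
    have e1 : Nat.card {h : H // True} = Nat.card H := Nat.card_congr (Equiv.subtypeUnivEquiv (fun _ => trivial))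
    have e2 : Nat.card {h : M // True} = Nat.card M := Nat.card_congr (Equiv.subtypeUnivEquiv (fun _ => trivial))
    have e3 : Nat.card {y : {h : H // h ≠ 1} // True} = Nat.card {y : {h : M // h ≠ 1} // True} :=
      Nat.card_congr (Equiv.subtypeEquiv f (fun _ => Iff.rfl))
    rw [← e1, ← e2, hH, hM, e3]
  · rw [TRANSFER.card_centralizer, TRANSFER.card_centralizer]
    congr 1
    exact Nat.card_congr (Equiv.subtypeEquiv f (fun y => hf x y))

end Cfsg.Agent.Helper6.M11Rec
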