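import Mathlib
import Cfsg.Prelude.Def_Blocks
import Cfsg.Agent.Lib.Helper24.DetTrace
import Cfsg.Agent.Lib.Helper24.CharComplete

/-!
# S0420, piece FIXVEC (helper1)

In the module `V = ℂ¹¹` of the irreducible character `α` of degree `11` (`α = 0` on elements of order `11`,
`1` on elements of order `5`, `3` on involutions) the space of `N(P)`-fixed vectors is nonzero
(`∑_{N(P)} α = 11 + #{elements of order 5} > 0`), and every `u`-fixed vector is fixed by an involution `t`
inverting `u` (`E_u (1 - T) / 2` is an idempotent of trace `(3 - 3) / 2 = 0`).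
-/

set_option autoImplicit false
set_option linter.unusedSectionVars false
set_option linter.unusedVariables false
set_option linter.style.haveILetI false

namespace Cfsg.Agent.Helper27.M11U

open Cfsg Cfsg.Agent.Helper24 Module

universe u v

namespace FIXVEC

/-- an idempotent endomorphism of trace zero vanishes -/
theorem eq_zero_of_idem_trace_zero {V : Type*} [AddCommGroup V] [Module ℂ V]
    [FiniteDimensional ℂ V] (F : V →ₗ[ℂ] V) (hF : IsIdempotentElem F)
    (htr : LinearMap.trace ℂ V F = 0) : F = 0 := by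
  have h := (LinearMap.IsIdempotentElem.isProj_range F hF).trace
  rw [htr] at h
  have h0 : finrank ℂ (LinearMap.range F) = 0 := by exact_mod_cast h.symm
  have hr : LinearMap.range F = ⊥ := Submodule.finrank_eq_zero.1 h0
  exact LinearMap.range_eq_bot.1 hr

/-- the dimension of the fixed space as an average of traces -/
theorem finrank_invariants {H V : Type*} [Group H] [Fintype H] [AddCommGroup V] [Module ℂ V]
    [FiniteDimensional ℂ V] (σ : Representation ℂ H V) [Invertible (Fintype.card H : ℂ)] :
    (finrank ℂ σ.invariants : ℂ) =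
      (⅟(Fintype.card H : ℂ)) * ∑ g : H, LinearMap.trace ℂ V (σ g) := by
  have h := (Representation.isProj_averageMap σ).trace
  rw [← h]
  have : σ.averageMap = (⅟(Fintype.card H : ℂ)) • ∑ g : H, σ g := by
    simp [Representation.averageMap, GroupAlgebra.average, map_smul, map_sum]
  rw [this, map_smul, map_sum, smul_eq_mul]

end FIXVEC

variable {G : Type u} [Group G] [Fintype G]

set_option maxHeartbeats 1600000 in
/-- PIECE FIXVEC: in the module of the degree-11 character the vector fixed by `N(P)` is fixed by `t`. -/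
theorem exists_fixed_vector (hG : Nat.card G = 7920) (P : Sylow 11 G)
    (hP : Nat.card (P : Subgroup G) = 11)
    (hC : Subgroup.centralizer ((P : Subgroup G) : Set G) = (P : Subgroup G))
    (hN : Nat.card (Subgroup.normalizer ((P : Subgroup G) : Set G)) = 55)
    (α : IrrCharacter G) (hdeg : charDegree (α : G → ℂ) = 11)
    (h11 : ∀ a : G, orderOf a = 11 → (α : G → ℂ) a = 0)
    (h5 : ∀ a : G, orderOf a = 5 → (α : G → ℂ) a = 1)
    (h2 : ∀ a : G, orderOf a = 2 → (α : G → ℂ) a = 3)
    {u t : G} (hu : orderOf u = 5) (huN : u ∈ Subgroup.normalizer ((P : Subgroup G) : Set G))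
    (ht : orderOf t = 2) (htu : t * u * t⁻¹ = u⁻¹) :
    ∃ (ρ : Representation ℂ G (Fin 11 → ℂ)), ρ.IsIrreducible ∧ ∃ v : Fin 11 → ℂ, v ≠ 0 ∧
      (∀ g ∈ Subgroup.normalizer ((P : Subgroup G) : Set G), ρ g v = v) ∧ ρ t v = v := by
  classical
  haveI : Fact (Nat.Prime 2) := ⟨by norm_num⟩
  obtain ⟨n, ρ, hirr, hchar⟩ := α.2
  have h1 := irr_one_eq_charDegree α.2
  have hn : n = 11 := by
    have h2' : ρ.character 1 = (n : ℂ) := by
      rw [Representation.char_one]; simp
    rw [hchar, h1, hdeg] at h2'
    exact_mod_cast h2'.symm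
  subst hn
  refine ⟨ρ, hirr, ?_⟩
  have hα : ∀ g : G, LinearMap.trace ℂ (Fin 11 → ℂ) (ρ g) = (α : G → ℂ) g := fun g => by
    rw [← hchar]; rfl
  have hα1 : (α : G → ℂ) 1 = 11 := by rw [h1, hdeg]; norm_num
  set N := Subgroup.normalizer ((P : Subgroup G) : Set G) with hNdef
  -- the orders of the elements of `N`
  have hord : ∀ g ∈ N, orderOf g = 1 ∨ orderOf g = 5 ∨ orderOf g = 11 := by
    intro g hg
    have hdvd : orderOf g ∣ 55 := by
      have := Subgroup.orderOf_dvd_natCard N hg
      rwa [hN] at this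
    have hcases : orderOf g = 1 ∨ orderOf g = 5 ∨ orderOf g = 11 ∨ orderOf g = 55 := by
      have hle : orderOf g ≤ 55 := Nat.le_of_dvd (by norm_num) hdvd
      have hpos : 0 < orderOf g := Nat.pos_of_dvd_of_pos hdvd (by norm_num)
      generalize orderOf g = m at hdvd hle hpos
      interval_cases m <;> omega
    rcases hcases with h | h | h | h
    · exact Or.inl h
    · exact Or.inr (Or.inl h)
    · exact Or.inr (Or.inr h)
    · exfalso
      have hy11 : orderOf (g ^ 5) = 11 := by
        rw [orderOf_pow' g (by norm_num : (5 : ℕ) ≠ 0), h]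
        rfl
      have hyN : g ^ 5 ∈ N := Subgroup.pow_mem _ hg 5
      have hpg : IsPGroup 11 (Subgroup.zpowers (g ^ 5)) := by
        apply IsPGroup.of_card (n := 1)
        rw [Nat.card_zpowers, hy11, pow_one]
      have hinf := hpg.inf_normalizer_sylow P
      have hyP : g ^ 5 ∈ (P : Subgroup G) := by
        have hmem : g ^ 5 ∈ Subgroup.zpowers (g ^ 5) ⊓
            Subgroup.normalizer ((P : Subgroup G) : Set G) :=
          ⟨Subgroup.mem_zpowers _, hyN⟩
        exact ((SetLike.ext_iff.1 hinf (g ^ 5)).1 hmem).2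
      have hPeq : (P : Subgroup G) = Subgroup.zpowers (g ^ 5) := by
        symm
        apply Subgroup.eq_of_le_of_card_ge (Subgroup.zpowers_le.2 hyP)
        rw [hP, Nat.card_zpowers, hy11]
      have hgC : g ∈ Subgroup.centralizer ((P : Subgroup G) : Set G) := by
        rw [Subgroup.mem_centralizer_iff]
        intro z hz
        rw [SetLike.mem_coe, hPeq] at hz
        obtain ⟨k, rfl⟩ := Subgroup.mem_zpowers_iff.1 hz
        exact (((Commute.refl g).pow_left 5).zpow_left k).eq
      rw [hC] at hgC
      have := Subgroup.orderOf_dvd_natCard _ hgC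
      rw [hP, h] at this
      norm_num at this
  -- a nonzero vector fixed by `N`
  haveI : Fintype N := Fintype.ofFinite N
  have hcardN : Fintype.card N = 55 := by rw [← Nat.card_eq_fintype_card]; exact hN
  haveI : Invertible (Fintype.card N : ℂ) := invertibleOfNonzero (by rw [hcardN]; norm_num)
  set σ : Representation ℂ N (Fin 11 → ℂ) := ρ.comp N.subtype with hσ
  have hσg : ∀ g : N, σ g = ρ (g : G) := fun g => rfl
  have hfin := FIXVEC.finrank_invariants σ
  have hterm : ∀ g : N, LinearMap.trace ℂ (Fin 11 → ℂ) (σ g) =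
      (if (g : G) = 1 then (11 : ℂ) else 0) + (if orderOf (g : G) = 5 then (1 : ℂ) else 0) := by
    intro g
    rw [hσg, hα]
    rcases hord g g.2 with h | h | h
    · have hg1 : (g : G) = 1 := orderOf_eq_one_iff.1 h
      rw [if_pos hg1, if_neg (by rw [h]; norm_num), hg1, hα1, add_zero]
    · have hg1 : (g : G) ≠ 1 := fun h' => by rw [h', orderOf_one] at h; norm_num at h
      rw [if_neg hg1, if_pos h, h5 _ h, zero_add]
    · have hg1 : (g : G) ≠ 1 := fun h' => by rw [h', orderOf_one] at h; norm_num at h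
      rw [if_neg hg1, if_neg (by rw [h]; norm_num), h11 _ h, zero_add]
  have hsum : ∑ g : N, LinearMap.trace ℂ (Fin 11 → ℂ) (σ g) =
      11 + ((Finset.univ.filter (fun g : N => orderOf (g : G) = 5)).card : ℂ) := by
    rw [Finset.sum_congr rfl (fun g _ => hterm g), Finset.sum_add_distrib]
    congr 1
    · rw [Finset.sum_ite, Finset.sum_const_zero, add_zero, Finset.sum_const]
      have : (Finset.univ.filter (fun g : N => (g : G) = 1)) = {(1 : N)} := by
        ext g
        simp only [Finset.mem_filter, Finset.mem_univ, true_and, Finset.mem_singleton]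
        constructor
        · intro h; exact Subtype.ext h
        · intro h; rw [h]; rfl
      rw [this, Finset.card_singleton, one_smul]
    · rw [Finset.sum_ite, Finset.sum_const_zero, add_zero, Finset.sum_const, nsmul_eq_mul, mul_one]
  have hinvne : σ.invariants ≠ ⊥ := by
    intro hbot
    have h0 : finrank ℂ σ.invariants = 0 := by rw [hbot]; exact finrank_bot ℂ _
    rw [h0, hsum, invOf_eq_inv, hcardN] at hfin
    have h55 : (((55 : ℕ) : ℂ))⁻¹ ≠ 0 := by
      norm_num
    have hz : (11 : ℂ) + ((Finset.univ.filter (fun g : N => orderOf (g : G) = 5)).card : ℂ) = 0 := by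
      rw [Nat.cast_zero] at hfin
      rcases mul_eq_zero.1 hfin.symm with h | h
      · exact absurd h h55
      · exact h
    have hz' : ((11 + (Finset.univ.filter (fun g : N => orderOf (g : G) = 5)).card : ℕ) : ℂ) = 0 := by
      push_cast; exact hz
    have := Nat.cast_eq_zero.1 hz'
    omega
  obtain ⟨v, hvmem, hv0⟩ := Submodule.exists_mem_ne_zero_of_ne_bot hinvne
  have hvfix : ∀ g ∈ N, ρ g v = v := by
    intro g hg
    have := (Representation.mem_invariants σ v).1 hvmem ⟨g, hg⟩
    exact this
  refine ⟨v, hv0, hvfix, ?_⟩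
  -- the operators
  set A : (Fin 11 → ℂ) →ₗ[ℂ] (Fin 11 → ℂ) := ρ u with hA
  set T : (Fin 11 → ℂ) →ₗ[ℂ] (Fin 11 → ℂ) := ρ t with hT
  have hu5 : u ^ 5 = 1 := by rw [← hu]; exact pow_orderOf_eq_one u
  have ht2 : t * t = 1 := by
    have := pow_orderOf_eq_one t
    rwa [ht, pow_two] at this
  have htinv : t⁻¹ = t := inv_eq_of_mul_eq_one_right ht2
  have hA5 : A ^ 5 = 1 := by rw [hA, ← map_pow, hu5, map_one]
  have hTT : T * T = 1 := by rw [hT, ← map_mul, ht2, map_one]
  have hApow : ∀ i : ℕ, A ^ i = ρ (u ^ i) := fun i => by rw [hA, map_pow]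
  set E : (Fin 11 → ℂ) →ₗ[ℂ] (Fin 11 → ℂ) := DetTrace.specIdem A 5 1 with hE
  have hEidem : IsIdempotentElem E :=
    DetTrace.isIdempotentElem_specIdem A (by norm_num) hA5 (one_pow 5)
  have hEexp : E = (5 : ℂ)⁻¹ • (1 + A + A ^ 2 + A ^ 3 + A ^ 4) := by
    rw [hE]
    unfold DetTrace.specIdem
    simp [Finset.sum_range_succ]
  -- `t u^i = u^{-i} t`
  have htui : ∀ i : ℕ, t * u ^ i = (u⁻¹) ^ i * t := by
    intro i
    have h : (t * u * t⁻¹) ^ i = (u⁻¹) ^ i := by rw [htu]
    rw [conj_pow] at h
    have : t * u ^ i = (t * u ^ i * t⁻¹) * t := by group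
    rw [this, h]
  have hinvol : ∀ i : ℕ, orderOf (u ^ i * t) = 2 := by
    intro i
    apply orderOf_eq_prime
    · rw [pow_two]
      have : u ^ i * t * (u ^ i * t) = u ^ i * (t * u ^ i) * t := by group
      rw [this, htui i]
      have : u ^ i * ((u⁻¹) ^ i * t) * t = (u ^ i * (u⁻¹) ^ i) * (t * t) := by group
      rw [this, ht2, mul_one, inv_pow, mul_inv_cancel]
    · intro h1
      have ht' : t = (u ^ i)⁻¹ := by
        have := mul_eq_one_iff_eq_inv'.1 h1
        exact this
      have hdvd : orderOf t ∣ 5 := by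
        rw [ht', orderOf_inv, ← hu]
        exact orderOf_pow_dvd i
      rw [ht] at hdvd
      norm_num at hdvd
  -- `T` commutes with `E`
  have huinv : u⁻¹ = u ^ 4 := inv_eq_of_mul_eq_one_right (by rw [← pow_succ', hu5])
  have hTA : ∀ i : ℕ, T * A ^ i = (A ^ 4) ^ i * T := by
    intro i
    rw [hApow, hT, ← map_mul, htui i, map_mul, huinv, map_pow, map_pow]
  have hA8 : (A ^ 4) ^ 2 = A ^ 3 := by
    rw [← pow_mul, show 4 * 2 = 5 + 3 from rfl, pow_add, hA5, one_mul]
  have hA12 : (A ^ 4) ^ 3 = A ^ 2 := by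
    rw [← pow_mul, show 4 * 3 = 5 + 5 + 2 from rfl, pow_add, pow_add, hA5, one_mul, one_mul]
  have hA16 : (A ^ 4) ^ 4 = A := by
    rw [← pow_mul, show 4 * 4 = 5 + 5 + 5 + 1 from rfl, pow_add, pow_add, pow_add, hA5, one_mul,
      one_mul, one_mul, pow_one]
  have hcomm : T * E = E * T := by
    rw [hEexp, mul_smul_comm, smul_mul_assoc]
    congr 1
    have e0 := hTA 0
    have e1 := hTA 1
    have e2 := hTA 2
    have e3 := hTA 3
    have e4 := hTA 4
    rw [pow_zero, pow_zero, one_mul] at e0
    rw [pow_one, pow_one] at e1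
    rw [hA8] at e2
    rw [hA12] at e3
    rw [hA16] at e4
    rw [mul_add, mul_add, mul_add, mul_add, e1, e2, e3, e4, add_mul, add_mul, add_mul, add_mul,
      mul_one, one_mul]
    abel
  -- traces
  have htrE : LinearMap.trace ℂ (Fin 11 → ℂ) E = 3 := by
    rw [hEexp, map_smul, map_add, map_add, map_add, map_add]
    have e0 : LinearMap.trace ℂ (Fin 11 → ℂ) 1 = 11 := by
      have := hα 1
      rw [map_one, hα1] at this
      exact this
    have ei : ∀ i : ℕ, Nat.Coprime 5 i → LinearMap.trace ℂ (Fin 11 → ℂ) (A ^ i) = 1 := by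
      intro i hi
      rw [hApow, hα]
      apply h5
      rw [← hu]
      exact Nat.Coprime.orderOf_pow (by rw [hu]; exact hi)
    have e1 := ei 1 (by norm_num)
    rw [pow_one] at e1
    rw [e0, e1, ei 2 (by norm_num), ei 3 (by norm_num), ei 4 (by norm_num)]
    norm_num
  have htrET : LinearMap.trace ℂ (Fin 11 → ℂ) (E * T) = 3 := by
    rw [hEexp, smul_mul_assoc, map_smul, add_mul, add_mul, add_mul, add_mul, map_add, map_add,
      map_add, map_add]
    have ei : ∀ i : ℕ, LinearMap.trace ℂ (Fin 11 → ℂ) (A ^ i * T) = 3 := by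
      intro i
      rw [hApow, hT, ← map_mul, hα]
      exact h2 _ (hinvol i)
    have e0 := ei 0
    have e1 := ei 1
    rw [pow_zero] at e0
    rw [pow_one] at e1
    rw [e0, e1, ei 2, ei 3, ei 4]
    norm_num
  -- the idempotent `F`
  set R : (Fin 11 → ℂ) →ₗ[ℂ] (Fin 11 → ℂ) := (2 : ℂ)⁻¹ • (1 - T) with hR
  have hRR : R * R = R := by
    rw [hR, smul_mul_smul_comm]
    have : (1 - T) * (1 - T) = (2 : ℂ) • (1 - T) := by
      rw [mul_sub, sub_mul, sub_mul, hTT, one_mul, mul_one, one_mul, two_smul]
      abel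
    rw [this, smul_smul]
    congr 1
    norm_num
  have hER : E * R = R * E := by
    rw [hR, mul_smul_comm, smul_mul_assoc, mul_sub, sub_mul, mul_one, one_mul, hcomm]
  have hFidem : IsIdempotentElem (E * R) := by
    unfold IsIdempotentElem
    calc E * R * (E * R) = E * (R * E) * R := by noncomm_ring
      _ = E * (E * R) * R := by rw [hER]
      _ = (E * E) * (R * R) := by noncomm_ring
      _ = E * R := by rw [hEidem.eq, hRR]
  have htrF : LinearMap.trace ℂ (Fin 11 → ℂ) (E * R) = 0 := by
    rw [hR, mul_smul_comm, map_smul, mul_sub, mul_one, map_sub, htrE, htrET]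
    simp
  have hF0 := FIXVEC.eq_zero_of_idem_trace_zero (E * R) hFidem htrF
  -- conclusion
  have hAv : A v = v := hvfix u huN
  have hEv : E v = v := by
    rw [hEexp]
    have hpow : ∀ i : ℕ, (A ^ i) v = v := by
      intro i
      induction i with
      | zero => simp
      | succ i ih => rw [pow_succ, Module.End.mul_apply, hAv, ih]
    simp only [LinearMap.smul_apply, LinearMap.add_apply, Module.End.one_apply, hpow, hAv]
    have h5v : v + v + v + v + v = (5 : ℂ) • v := by
      rw [show (5 : ℂ) = 1 + 1 + 1 + 1 + 1 by norm_num, add_smul, add_smul, add_smul, add_smul,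
        one_smul]
    rw [h5v, smul_smul]
    norm_num
  have hETv : E (T v) = T v := by
    have : (E * T) v = (T * E) v := by rw [hcomm]
    rw [Module.End.mul_apply, Module.End.mul_apply, hEv] at this
    exact this
  have hFv : (E * R) v = (2 : ℂ)⁻¹ • (v - T v) := by
    rw [Module.End.mul_apply, hR, LinearMap.smul_apply, LinearMap.sub_apply, Module.End.one_apply,
      map_smul, map_sub, hEv, hETv]
  rw [hF0, LinearMap.zero_apply] at hFv
  have h2ne : (2 : ℂ)⁻¹ ≠ 0 := by norm_num
  have := (smul_eq_zero.1 hFv.symm).resolve_left h2ne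
  exact (sub_eq_zero.1 this).symm

end Cfsg.Agent.Helper27.M11U
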