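import Mathlib
import Cfsg.Agent.Lib.Helper12.M11USYLCNT

/-!
# S0420, piece GEN (helper1): `x, u, s` generate a simple group of order `7920`

`L = ⟨x, u, s⟩ ≥ ⟨x, u⟩ = N(P)` (order `55`).  `L ∩ K ≥ N(P)` contains the involution `s ^ 2`, so has order
`660` (SYLCNT) and `K ≤ L`; `s ∉ K` so `L ≠ K`, and `L` has even order: `L = ⊤` (SYLCNT).
-/

set_option autoImplicit false
set_option linter.unusedSectionVars false
set_option linter.unusedVariables false

namespace Cfsg.Agent.Helper27.M11U

universe u v

variable {G : Type u} [Group G] [Fintype G]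

/-- PIECE GEN: `x, u, s` generate `G`. -/
theorem closure_eq_top (hG : Nat.card G = 7920) (P : Sylow 11 G) {x u s : G}
    (hPx : (P : Subgroup G) = Subgroup.zpowers x)
    (hN : Nat.card (Subgroup.normalizer ((P : Subgroup G) : Set G)) = 55)
    (hx : orderOf x = 11) (hu : orderOf u = 5) (hs4 : orderOf s = 4)
    (hux : u * x * u⁻¹ = x ^ 3)
    (K : Subgroup G) (hK : Nat.card K = 660)
    (hNK : Subgroup.normalizer ((P : Subgroup G) : Set G) ≤ K) (hsK : s ∉ K) (htK : s ^ 2 ∈ K) :
    Subgroup.closure {x, u, s} = ⊤ := by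
  classical
  set L : Subgroup G := Subgroup.closure {x, u, s} with hLdef
  have hxL : x ∈ L := Subgroup.subset_closure (by simp)
  have huL : u ∈ L := Subgroup.subset_closure (by simp)
  have hsL : s ∈ L := Subgroup.subset_closure (by simp)
  have hP : Nat.card (P : Subgroup G) = 11 := by
    rw [hPx, Nat.card_zpowers, hx]
  -- `u` normalizes `P`
  have huN : u ∈ Subgroup.normalizer ((P : Subgroup G) : Set G) := by
    have hconj : ∀ y : G, y ∈ (P : Subgroup G) → u * y * u⁻¹ ∈ (P : Subgroup G) := by
      intro y hy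
      rw [hPx] at hy ⊢
      obtain ⟨k, rfl⟩ := Subgroup.mem_zpowers_iff.1 hy
      have : u * x ^ k * u⁻¹ = (u * x * u⁻¹) ^ k := by
        rw [conj_zpow]
      rw [this, hux]
      exact Subgroup.zpow_mem _ (Subgroup.pow_mem _ (Subgroup.mem_zpowers x) 3) k
    have hconj' : ∀ y : G, y ∈ (P : Subgroup G) → u⁻¹ * y * u ∈ (P : Subgroup G) := by
      -- conjugation by `u` is an injective self-map of the finite set `P`, hence surjective
      intro y hy
      let f : ↥(P : Subgroup G) → ↥(P : Subgroup G) := fun z => ⟨u * (z : G) * u⁻¹, hconj z z.2⟩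
      have hf : Function.Injective f := by
        intro a b hab
        have := congrArg Subtype.val hab
        simp only [f] at this
        exact Subtype.ext (mul_left_cancel (mul_right_cancel this))
      obtain ⟨z, hz⟩ := (Finite.injective_iff_surjective.1 hf) ⟨y, hy⟩
      have hz' : u * (z : G) * u⁻¹ = y := congrArg Subtype.val hz
      rw [← hz']
      have : u⁻¹ * (u * (z : G) * u⁻¹) * u = z := by group
      rw [this]
      exact z.2
    rw [Subgroup.mem_normalizer_iff]
    intro y
    constructor
    · exact hconj y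
    · intro hy
      have := hconj' _ hy
      have h2 : u⁻¹ * (u * y * u⁻¹) * u = y := by group
      rwa [h2] at this
  -- `N(P) ≤ L`
  have hNL : Subgroup.normalizer ((P : Subgroup G) : Set G) ≤ L := by
    set M : Subgroup G := L ⊓ Subgroup.normalizer ((P : Subgroup G) : Set G) with hM
    have hxN : x ∈ Subgroup.normalizer ((P : Subgroup G) : Set G) :=
      Subgroup.le_normalizer (by rw [hPx]; exact Subgroup.mem_zpowers x)
    have hxM : x ∈ M := ⟨hxL, hxN⟩
    have huM : u ∈ M := ⟨huL, huN⟩
    have h11 : 11 ∣ Nat.card M := by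
      have := Subgroup.orderOf_dvd_natCard M hxM
      rwa [hx] at this
    have h5 : 5 ∣ Nat.card M := by
      have := Subgroup.orderOf_dvd_natCard M huM
      rwa [hu] at this
    have h55 : 55 ∣ Nat.card M :=
      Nat.Coprime.mul_dvd_of_dvd_of_dvd (by norm_num : Nat.Coprime 11 5) h11 h5
    have hle : M ≤ Subgroup.normalizer ((P : Subgroup G) : Set G) := inf_le_right
    have hMeq : M = Subgroup.normalizer ((P : Subgroup G) : Set G) := by
      apply Subgroup.eq_of_le_of_card_ge hle
      rw [hN]
      exact Nat.le_of_dvd Nat.card_pos h55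
    rw [← hMeq]
    exact inf_le_left
  -- the involution `s ^ 2`
  have ht2 : orderOf (s ^ 2) = 2 := by
    rw [orderOf_pow' s (by norm_num : (2 : ℕ) ≠ 0), hs4]
    rfl
  have htL : s ^ 2 ∈ L := Subgroup.pow_mem _ hsL 2
  -- `|L ∩ K| = 660`
  have hLK : Nat.card (L ⊓ K : Subgroup G) = 660 := by
    have h2 : 2 ∣ Nat.card (L ⊓ K : Subgroup G) := by
      have := Subgroup.orderOf_dvd_natCard (L ⊓ K) (⟨htL, htK⟩ : s ^ 2 ∈ L ⊓ K)
      rwa [ht2] at this
    rcases card_of_normalizer_le hG P hP hN (L ⊓ K) (le_inf hNL hNK) h2 with h | h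
    · exact h
    · exfalso
      have hKtop : K = ⊤ := by
        rw [eq_top_iff, ← h]
        exact inf_le_right
      rw [hKtop, Subgroup.card_top, hG] at hK
      norm_num at hK
  have hKL : K ≤ L := by
    have : L ⊓ K = K := by
      apply Subgroup.eq_of_le_of_card_ge inf_le_right
      rw [hLK, hK]
    rw [← this]
    exact inf_le_left
  -- `L = ⊤`
  have h2L : 2 ∣ Nat.card L := by
    have := Subgroup.orderOf_dvd_natCard L htL
    rwa [ht2] at this
  rcases card_of_normalizer_le hG P hP hN L hNL h2L with h | h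
  · exfalso
    have : K = L := by
      apply Subgroup.eq_of_le_of_card_ge hKL
      rw [h, hK]
    exact hsK (this ▸ hsL)
  · exact h

end Cfsg.Agent.Helper27.M11U
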