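import Mathlib
import Cfsg.Prelude.Def_Sporadic_a

/-!
# S0429 (helper1): uniqueness of the strongly regular graph with parameters (77, 16, 0, 4).
Basic definitions.  See plans/S0429_proof.md.
-/

set_option autoImplicit false

namespace Cfsg.Agent.Helper1.M22

open Finset

variable {V : Type*} [Fintype V] [DecidableEq V]

/-- `C` is a coclique of size 21 (a Hoffman coclique) of `G`. -/
def IsCoc (G : SimpleGraph V) (C : Finset V) : Prop :=
  C.card = 21 ∧ ∀ x ∈ C, ∀ y ∈ C, ¬ G.Adj x y

instance (G : SimpleGraph V) [DecidableRel G.Adj] (C : Finset V) : Decidable (IsCoc G C) := by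
  unfold IsCoc; infer_instance

/-- the cocliques of size 21 through `v` -/
def cocs (G : SimpleGraph V) [DecidableRel G.Adj] (v : V) : Finset (Finset V) :=
  univ.filter fun C => IsCoc G C ∧ v ∈ C

/-- The three local facts at every vertex. -/
structure Local (G : SimpleGraph V) [DecidableRel G.Adj] : Prop where
  /-- exactly six cocliques of size 21 through every vertex -/
  six : ∀ v : V, (cocs G v).card = 6
  /-- three different cocliques through `v` have only `v` in common -/
  three : ∀ (v w : V) (C₁ C₂ C₃ : Finset V), C₁ ∈ cocs G v → C₂ ∈ cocs G v → C₃ ∈ cocs G v →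
    C₁ ≠ C₂ → C₁ ≠ C₃ → C₂ ≠ C₃ → w ∈ C₁ → w ∈ C₂ → w ∈ C₃ → w = v
  /-- two non-adjacent vertices lie in a common coclique of size 21 -/
  joined : ∀ v w : V, v ≠ w → ¬ G.Adj v w → ∃ C ∈ cocs G v, w ∈ C

end Cfsg.Agent.Helper1.M22
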