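import Mathlib
import Cfsg.Agent.Lib.Helper1.M22Defs

/-!
# S0429 (helper1): definitions for the local analysis at a vertex `o` of an srg(77,16,0,4).
`nA` = the 16 neighbours, `nB` = the 60 non-neighbours, `blk b` = the 4 common neighbours of `b` and `o`,
`ii b c = |blk b ∩ blk c|`, `pp` = the entries of the projection `P = I/4 + J/12 - A_B/8 - K/16`,
`cls b` = the class of `b` (4 elements), `classes` (15 of them), `NearC` = the near relation on classes,
`cocOf Q` = `{o}` together with the union of the classes in `Q`.
-/

set_option autoImplicit false

namespace Cfsg.Agent.Helper1.M22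

open Finset

variable {V : Type*} [Fintype V] [DecidableEq V] (G : SimpleGraph V) [DecidableRel G.Adj] (o : V)

/-- the neighbours of `o` -/
def nA : Finset V := univ.filter fun x => G.Adj o x

/-- the non-neighbours of `o` (other than `o`) -/
def nB : Finset V := univ.filter fun x => x ≠ o ∧ ¬ G.Adj o x

/-- the block of `b`: the common neighbours of `o` and `b` -/
def blk (b : V) : Finset V := univ.filter fun a => G.Adj o a ∧ G.Adj b a

/-- the intersection number of two blocks -/
def ii (b c : V) : ℕ := (blk G o b ∩ blk G o c).card

/-- the entries of the projection onto the `(-6)`-eigenvectors supported on `nB` -/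
def pp (b c : V) : ℚ :=
  (if b = c then 1 / 4 else 0) + 1 / 12 - (if G.Adj b c then 1 / 8 else 0) - (ii G o b c : ℚ) / 16

/-- the class of `b` -/
def cls (b : V) : Finset V := (nB G o).filter fun c => pp G o b c = 1 / 12

/-- the 15 classes -/
def classes : Finset (Finset V) := (nB G o).image (cls G o)

/-- two classes are near -/
def NearC (X Y : Finset V) : Prop := ∃ b ∈ X, ∃ c ∈ Y, pp G o b c = 1 / 48

instance (X Y : Finset V) : Decidable (NearC G o X Y) := by
  unfold NearC; infer_instance

/-- `o` together with the union of a set of classes -/
def cocOf (Q : Finset (Finset V)) : Finset V := insert o (Q.biUnion id)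

/-- a 5-clique of the near graph on the classes -/
def IsFive (Q : Finset (Finset V)) : Prop :=
  Q ⊆ classes G o ∧ Q.card = 5 ∧ ∀ X ∈ Q, ∀ Y ∈ Q, X ≠ Y → NearC G o X Y

instance (Q : Finset (Finset V)) : Decidable (IsFive G o Q) := by
  unfold IsFive; infer_instance

/-- the 5-cliques -/
def fives : Finset (Finset (Finset V)) := (classes G o).powerset.filter fun Q => IsFive G o Q

end Cfsg.Agent.Helper1.M22
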