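import Mathlib
import Cfsg.Agent.Lib.Helper1.M22LocDefs
import Cfsg.Agent.Lib.Helper6.M22BASIC1
import Cfsg.Agent.Lib.Helper6.M22BASIC2
import Cfsg.Agent.Lib.Helper6.M22SUM1
import Cfsg.Agent.Lib.Helper6.M22SUM2
import Cfsg.Agent.Lib.Helper23.M22VAL1
import Cfsg.Agent.Lib.Helper23.M22VAL2

/-!
# S0429 LOCAL PIECE COUNT (helper1): the row distribution 4 / 32 / 24 of `pp`.
-/

set_option autoImplicit false
set_option linter.unusedSectionVars false
set_option linter.unusedVariables false

namespace Cfsg.Agent.Helper1.M22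

open Finset

variable {V : Type*} [Fintype V] [DecidableEq V] {G : SimpleGraph V} [DecidableRel G.Adj]
  (hG : G.IsSRGWith 77 16 0 4) (o : V)
include hG



omit hG in
theorem count_ii_comm (b c : V) : ii G o b c = ii G o c b := by
  unfold ii; rw [inter_comm]

theorem count_ii_self {b : V} (hb : b ∈ nB G o) : ii G o b b = 4 := by
  unfold ii; rw [inter_self]; exact card_blk hG o hb

/-- the pointwise identities -/
theorem count_pointwise {b c : V} (hb : b ∈ nB G o) (hc : c ∈ nB G o) :
    ((if pp G o b c = 1 / 12 then 1 else 0) + (if pp G o b c = 1 / 48 then 1 else 0) +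
        (if pp G o b c = -1 / 24 then 1 else 0) = 1) ∧
    (ii G o b c + 2 * (if G.Adj b c then 1 else 0) =
        4 * (if c = b then 1 else 0) + (if pp G o b c = 1 / 48 then 1 else 0) +
          2 * (if pp G o b c = -1 / 24 then 1 else 0)) ∧
    (ii G o b c * ii G o c b + 4 * (if G.Adj b c then 1 else 0) =
        16 * (if c = b then 1 else 0) + (if pp G o b c = 1 / 48 then 1 else 0) +
          4 * (if pp G o b c = -1 / 24 then 1 else 0)) := by
  rw [← count_ii_comm o b c]
  by_cases hcb : c = b
  · subst hcb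
    have h1 := pp_self hG o hc
    have h4 := count_ii_self hG o hc
    have hna : ¬ G.Adj c c := G.irrefl
    rw [h1, h4]
    norm_num [hna]
  · have hbc : b ≠ c := fun h => hcb h.symm
    rcases pp_values hG o hb hc hbc with ⟨hna, hi, hp⟩ | ⟨hna, hi, hp⟩ | ⟨hor, hp⟩
    · rw [hp, hi]; norm_num [hna, hcb]
    · rw [hp, hi]; norm_num [hna, hcb]
    · rcases hor with hadj | hi
      · have hi := ii_eq_zero_of_adj hG o hadj
        rw [hp, hi]; norm_num [hadj, hcb]
      · have hna : ¬ G.Adj b c := by
          intro hadj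
          have := ii_eq_zero_of_adj hG o hadj
          omega
        rw [hp, hi]; norm_num [hna, hcb]

theorem count_all {b : V} (hb : b ∈ nB G o) :
    ((nB G o).filter fun c => pp G o b c = 1 / 12).card = 4 ∧
    ((nB G o).filter fun c => pp G o b c = 1 / 48).card = 32 ∧
    ((nB G o).filter fun c => pp G o b c = -1 / 24).card = 24 := by
  set X := ((nB G o).filter fun c => pp G o b c = 1 / 12).card with hX
  set Y := ((nB G o).filter fun c => pp G o b c = 1 / 48).card with hY
  set Z := ((nB G o).filter fun c => pp G o b c = -1 / 24).card with hZ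
  have hXs : X = ∑ c ∈ nB G o, (if pp G o b c = 1 / 12 then 1 else 0) := by
    rw [hX, card_filter]
  have hYs : Y = ∑ c ∈ nB G o, (if pp G o b c = 1 / 48 then 1 else 0) := by
    rw [hY, card_filter]
  have hZs : Z = ∑ c ∈ nB G o, (if pp G o b c = -1 / 24 then 1 else 0) := by
    rw [hZ, card_filter]
  have hAs : (12 : ℕ) = ∑ c ∈ nB G o, (if G.Adj b c then 1 else 0) := by
    rw [← card_filter, card_nbr_B hG o hb]
  have hBs : (1 : ℕ) = ∑ c ∈ nB G o, (if c = b then 1 else 0) := by
    rw [sum_ite_eq' (nB G o) b (fun _ => (1 : ℕ)), if_pos hb]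
  have e1 : X + Y + Z = 60 := by
    rw [hXs, hYs, hZs, ← sum_add_distrib, ← sum_add_distrib, ← card_nB hG o, card_eq_sum_ones]
    exact sum_congr rfl fun c hc => (count_pointwise hG o hb hc).1
  have e2 : 60 + 2 * 12 = 4 * 1 + Y + 2 * Z := by
    conv_lhs => rw [← sum_ii hG o hb, hAs, mul_sum, ← sum_add_distrib]
    conv_rhs => rw [hBs, hYs, hZs, mul_sum, mul_sum, ← sum_add_distrib, ← sum_add_distrib]
    exact sum_congr rfl fun c hc => (count_pointwise hG o hb hc).2.1
  have e3 : 96 + 4 * 12 = 16 * 1 + Y + 4 * Z := by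
    have h96 : ∑ c ∈ nB G o, ii G o b c * ii G o c b = 96 := by
      rw [sum_ii_ii hG o hb hb, count_ii_self hG o hb]
    conv_lhs => rw [← h96, hAs, mul_sum, ← sum_add_distrib]
    conv_rhs => rw [hBs, hYs, hZs, mul_sum, mul_sum, ← sum_add_distrib, ← sum_add_distrib]
    exact sum_congr rfl fun c hc => (count_pointwise hG o hb hc).2.2
  omega

/-- PIECE COUNT -/
theorem card_cls {b : V} (hb : b ∈ nB G o) : (cls G o b).card = 4 :=
  (count_all hG o hb).1

/-- PIECE COUNT -/
theorem card_near {b : V} (hb : b ∈ nB G o) :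
    ((nB G o).filter fun c => pp G o b c = 1 / 48).card = 32 :=
  (count_all hG o hb).2.1

/-- PIECE COUNT -/
theorem card_far {b : V} (hb : b ∈ nB G o) :
    ((nB G o).filter fun c => pp G o b c = -1 / 24).card = 24 :=
  (count_all hG o hb).2.2

end Cfsg.Agent.Helper1.M22
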