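import Mathlib
import Cfsg.Agent.Lib.Helper1.M22LocDefs
import Cfsg.Agent.Lib.Helper6.M22BASIC1
import Cfsg.Agent.Lib.Helper23.M22VAL1
import Cfsg.Agent.Lib.Helper1.M22COUNT

/-!
# S0429 LOCAL PIECE CLS (helper1): the 15 classes of size 4.
-/

set_option autoImplicit false
set_option linter.unusedSectionVars false
set_option linter.unusedVariables false

namespace Cfsg.Agent.Helper1.M22

open Finset

variable {V : Type*} [Fintype V] [DecidableEq V] {G : SimpleGraph V} [DecidableRel G.Adj]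
  (hG : G.IsSRGWith 77 16 0 4) (o : V)
include hG



omit hG in
theorem cls_mem_iff {b c : V} : c ∈ cls G o b ↔ c ∈ nB G o ∧ pp G o b c = 1 / 12 := by
  unfold cls; rw [mem_filter]

/-- PIECE CLS -/
theorem mem_cls_self {b : V} (hb : b ∈ nB G o) : b ∈ cls G o b :=
  (cls_mem_iff o).mpr ⟨hb, pp_self hG o hb⟩

/-- PIECE CLS (`pp_rows`) -/
theorem cls_eq {b b' : V} (hb : b ∈ nB G o) (hb' : b' ∈ nB G o) (h : pp G o b b' = 1 / 12) :
    cls G o b = cls G o b' := by
  ext c
  rw [cls_mem_iff, cls_mem_iff]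
  constructor
  · rintro ⟨hc, hp⟩
    exact ⟨hc, by rw [← pp_rows hG o hb hb' h c hc]; exact hp⟩
  · rintro ⟨hc, hp⟩
    exact ⟨hc, by rw [pp_rows hG o hb hb' h c hc]; exact hp⟩

/-- PIECE CLS -/
theorem cls_disjoint {b b' : V} (hb : b ∈ nB G o) (hb' : b' ∈ nB G o) (h : pp G o b b' ≠ 1 / 12) :
    Disjoint (cls G o b) (cls G o b') := by
  rw [disjoint_left]
  intro c hc hc'
  obtain ⟨hcB, h1⟩ := (cls_mem_iff o).mp hc
  obtain ⟨_, h2⟩ := (cls_mem_iff o).mp hc'
  apply h
  rw [pp_rows hG o hb hcB h1 b' hb', pp_symm o c b']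
  exact h2

/-- the members of `nB` with a given class are the elements of that class -/
theorem cls_fiber {b : V} (hb : b ∈ nB G o) :
    ((nB G o).filter fun a => cls G o a = cls G o b) = cls G o b := by
  ext a
  rw [mem_filter]
  constructor
  · rintro ⟨ha, h⟩
    rw [← h]; exact mem_cls_self hG o ha
  · intro ha
    obtain ⟨haB, hp⟩ := (cls_mem_iff o).mp ha
    exact ⟨haB, (cls_eq hG o hb haB hp).symm⟩

/-- PIECE CLS: `60 = ∑ X ∈ classes, |X| = 4 * |classes|` -/
theorem card_classes : (classes G o).card = 15 := by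
  have h := card_eq_sum_card_image (cls G o) (nB G o)
  rw [card_nB hG o] at h
  have h2 : ∑ X ∈ (nB G o).image (cls G o), ((nB G o).filter fun a => cls G o a = X).card =
      ∑ X ∈ (nB G o).image (cls G o), 4 := by
    apply sum_congr rfl
    intro X hX
    rw [mem_image] at hX
    obtain ⟨b, hb, rfl⟩ := hX
    rw [cls_fiber hG o hb, card_cls hG o hb]
  rw [h2, sum_const, smul_eq_mul] at h
  unfold classes
  omega

/-- PIECE CLS -/
theorem nearC_iff {b c : V} (hb : b ∈ nB G o) (hc : c ∈ nB G o) :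
    NearC G o (cls G o b) (cls G o c) ↔ pp G o b c = 1 / 48 := by
  constructor
  · rintro ⟨b1, hb1, c1, hc1, h⟩
    obtain ⟨hb1B, hpb⟩ := (cls_mem_iff o).mp hb1
    obtain ⟨hc1B, hpc⟩ := (cls_mem_iff o).mp hc1
    -- pp b c1 = pp b1 c1
    have e1 : pp G o b c1 = pp G o b1 c1 := pp_rows hG o hb hb1B hpb c1 hc1B
    -- pp c b = pp c1 b
    have e2 : pp G o c b = pp G o c1 b := pp_rows hG o hc hc1B hpc b hb
    rw [pp_symm o b c, e2, pp_symm o c1 b, e1, h]
  · intro h
    exact ⟨b, mem_cls_self hG o hb, c, mem_cls_self hG o hc, h⟩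

end Cfsg.Agent.Helper1.M22
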