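import Mathlib
import Cfsg.Agent.Lib.Helper1.M22LocDefs
import Cfsg.Agent.Lib.Helper1.M22COUNT
import Cfsg.Agent.Lib.Helper1.M22CLS

/-!
# S0429 LOCAL PIECE SRG1 (helper1): every class is near to exactly 8 classes (`32 = 4 * 8`).
Also the generic fibre lemma `srg1_fiber`: a subset of `nB` cut out by a property of the class has
`4 *` (the number of classes with the property) elements.
-/

set_option autoImplicit false
set_option linter.unusedSectionVars false
set_option linter.unusedVariables false

namespace Cfsg.Agent.Helper1.M22

open Finset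

variable {V : Type*} [Fintype V] [DecidableEq V] {G : SimpleGraph V} [DecidableRel G.Adj]
  (hG : G.IsSRGWith 77 16 0 4) (o : V)
include hG

/-- a subset of `nB` cut out by a property of the class: `4 *` the number of such classes -/
theorem srg1_fiber (R : Finset V → Prop) [DecidablePred R] :
    ((nB G o).filter fun c => R (cls G o c)).card = 4 * ((classes G o).filter R).card := by
  have hmaps : ∀ c ∈ (nB G o).filter fun c => R (cls G o c), cls G o c ∈ (classes G o).filter R := by
    intro c hc
    rw [mem_filter] at hc ⊢
    exact ⟨by unfold classes; exact mem_image_of_mem _ hc.1, hc.2⟩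
  rw [card_eq_sum_card_fiberwise hmaps]
  have h4 : ∀ Z ∈ (classes G o).filter R,
      (((nB G o).filter fun c => R (cls G o c)).filter fun c => cls G o c = Z).card = 4 := by
    intro Z hZ
    rw [mem_filter] at hZ
    obtain ⟨hZc, hRZ⟩ := hZ
    unfold classes at hZc
    rw [mem_image] at hZc
    obtain ⟨b, hb, rfl⟩ := hZc
    have : (((nB G o).filter fun c => R (cls G o c)).filter fun c => cls G o c = cls G o b) =
        (nB G o).filter fun a => cls G o a = cls G o b := by
      ext c
      simp only [mem_filter]
      constructor
      · rintro ⟨⟨hc, _⟩, h⟩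
        exact ⟨hc, h⟩
      · rintro ⟨hc, h⟩
        exact ⟨⟨hc, h ▸ hRZ⟩, h⟩
    rw [this, cls_fiber hG o hb, card_cls hG o hb]
  rw [sum_congr rfl h4, sum_const, smul_eq_mul, mul_comm]

/-- PIECE SRG1: `32 = 4 * 8` -/
theorem card_nearC {X : Finset V} (hX : X ∈ classes G o) :
    ((classes G o).filter fun Y => NearC G o X Y).card = 8 := by
  have hX' := hX
  unfold classes at hX'
  rw [mem_image] at hX'
  obtain ⟨b, hb, rfl⟩ := hX'
  have h := srg1_fiber hG o (fun Y => NearC G o (cls G o b) Y)
  have h32 : ((nB G o).filter fun c => NearC G o (cls G o b) (cls G o c)).card = 32 := by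
    rw [← card_near hG o hb]
    congr 1
    apply filter_congr
    intro c hc
    exact nearC_iff hG o hb hc
  rw [h32] at h
  omega

end Cfsg.Agent.Helper1.M22
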