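import Mathlib
import Cfsg.Agent.Lib.Helper1.M22LocDefs
import Cfsg.Agent.Lib.Helper23.M22VAL1
import Cfsg.Agent.Lib.Helper1.M22CLS
import Cfsg.Agent.Lib.Helper1.M22SRG1
import Cfsg.Agent.Lib.Helper6.M22SRG2

/-!
# S0429 LOCAL PIECE SRG3 (helper1): two distinct classes have exactly 4 common near classes (`16 = 4 * 4`).
-/

set_option autoImplicit false
set_option linter.unusedSectionVars false
set_option linter.unusedVariables false

namespace Cfsg.Agent.Helper1.M22

open Finset

variable {V : Type*} [Fintype V] [DecidableEq V] {G : SimpleGraph V} [DecidableRel G.Adj]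
  (hG : G.IsSRGWith 77 16 0 4) (o : V)
include hG

/-- PIECE SRG3: `16 = 4 * 4` -/
theorem card_common_nearC {X Y : Finset V} (hX : X ∈ classes G o) (hY : Y ∈ classes G o) (hne : X ≠ Y) :
    ((classes G o).filter fun Z => NearC G o X Z ∧ NearC G o Y Z).card = 4 := by
  have hX' := hX
  have hY' := hY
  unfold classes at hX' hY'
  rw [mem_image] at hX' hY'
  obtain ⟨b, hb, rfl⟩ := hX'
  obtain ⟨b', hb', rfl⟩ := hY'
  have hpp : pp G o b b' ≠ 1 / 12 := fun h => hne (cls_eq hG o hb hb' h)
  have h := srg1_fiber hG o (fun Z => NearC G o (cls G o b) Z ∧ NearC G o (cls G o b') Z)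
  have h16 : ((nB G o).filter fun c =>
      NearC G o (cls G o b) (cls G o c) ∧ NearC G o (cls G o b') (cls G o c)).card = 16 := by
    rw [← common_near hG o hb hb' hpp]
    congr 1
    apply filter_congr
    intro c hc
    rw [nearC_iff hG o hb hc, nearC_iff hG o hb' hc, pp_symm o b' c]
  rw [h16] at h
  omega

end Cfsg.Agent.Helper1.M22
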