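import Mathlib
import Cfsg.Agent.Lib.Helper1.M22LocDefs
import Cfsg.Agent.Lib.Helper1.M22CLS
import Cfsg.Agent.Lib.Helper14.M22FIVE1
import Cfsg.Agent.Lib.Helper14.M22FIVE2
import Cfsg.Agent.Lib.Helper15.M22COC3
import Cfsg.Agent.Lib.Helper15.M22COC4

/-!
# S0429 LOCAL assembly (helper1): the three local facts `Local G` of an srg(77,16,0,4).
-/

set_option autoImplicit false
set_option linter.unusedSectionVars false
set_option linter.unusedVariables false

namespace Cfsg.Agent.Helper1.M22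

open Finset

section

variable {V : Type*} [Fintype V] [DecidableEq V] {G : SimpleGraph V} [DecidableRel G.Adj]
  (hG : G.IsSRGWith 77 16 0 4) (o : V)
include hG

/-! ## the three local facts (helper1) -/

omit hG in
theorem mem_fives {Q : Finset (Finset V)} : Q ∈ fives G o ↔ IsFive G o Q := by
  unfold fives
  rw [mem_filter, mem_powerset]
  exact ⟨fun h => h.2, fun h => ⟨h.1, h⟩⟩

omit hG in
theorem mem_cocOf {Q : Finset (Finset V)} {w : V} : w ∈ cocOf o Q ↔ w = o ∨ ∃ X ∈ Q, w ∈ X := by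
  unfold cocOf
  rw [mem_insert, mem_biUnion]
  rfl

/-- a class containing `w ∈ nB` is the class of `w` -/
theorem class_eq_of_mem {X : Finset V} (hX : X ∈ classes G o) {w : V} (hw : w ∈ X) :
    w ∈ nB G o ∧ X = cls G o w := by
  unfold classes at hX
  rw [mem_image] at hX
  obtain ⟨b, hb, rfl⟩ := hX
  have hw' := hw
  unfold cls at hw'
  rw [mem_filter] at hw'
  exact ⟨hw'.1, cls_eq hG o hb hw'.1 hw'.2⟩

theorem local_six : (cocs G o).card = 6 := by
  rw [← card_fives hG o]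
  symm
  apply Finset.card_bij (fun Q _ => cocOf o Q)
  · intro Q hQ
    exact five_to_coc hG o ((mem_fives o).mp hQ)
  · intro Q hQ Q' hQ' h
    exact cocOf_inj hG o ((mem_fives o).mp hQ).1 ((mem_fives o).mp hQ').1 h
  · intro C hC
    obtain ⟨Q, hQ, rfl⟩ := coc_to_five hG o hC
    exact ⟨Q, (mem_fives o).mpr hQ, rfl⟩

theorem local_three (w : V) (C₁ C₂ C₃ : Finset V) (h1 : C₁ ∈ cocs G o) (h2 : C₂ ∈ cocs G o)
    (h3 : C₃ ∈ cocs G o) (h12 : C₁ ≠ C₂) (h13 : C₁ ≠ C₃) (h23 : C₂ ≠ C₃) (hw1 : w ∈ C₁) (hw2 : w ∈ C₂)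
    (hw3 : w ∈ C₃) : w = o := by
  by_contra hwo
  obtain ⟨Q₁, hQ₁, rfl⟩ := coc_to_five hG o h1
  obtain ⟨Q₂, hQ₂, rfl⟩ := coc_to_five hG o h2
  obtain ⟨Q₃, hQ₃, rfl⟩ := coc_to_five hG o h3
  have key : ∀ Q : Finset (Finset V), IsFive G o Q → w ∈ cocOf o Q → w ∈ nB G o ∧ cls G o w ∈ Q := by
    intro Q hQ hw
    rcases (mem_cocOf o).mp hw with h | ⟨X, hXQ, hwX⟩
    · exact absurd h hwo
    · obtain ⟨hwB, hX⟩ := class_eq_of_mem hG o (hQ.1 hXQ) hwX
      exact ⟨hwB, hX ▸ hXQ⟩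
  obtain ⟨hwB, hm1⟩ := key Q₁ hQ₁ hw1
  obtain ⟨_, hm2⟩ := key Q₂ hQ₂ hw2
  obtain ⟨_, hm3⟩ := key Q₃ hQ₃ hw3
  have hX : cls G o w ∈ classes G o := by
    unfold classes; exact mem_image_of_mem _ hwB
  have h2 := card_fives_through hG o hX
  have hsub : ({Q₁, Q₂, Q₃} : Finset (Finset (Finset V))) ⊆
      (fives G o).filter fun Q => cls G o w ∈ Q := by
    intro Q hQ
    simp only [mem_insert, mem_singleton] at hQ
    rw [mem_filter]
    rcases hQ with rfl | rfl | rfl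
    · exact ⟨(mem_fives o).mpr hQ₁, hm1⟩
    · exact ⟨(mem_fives o).mpr hQ₂, hm2⟩
    · exact ⟨(mem_fives o).mpr hQ₃, hm3⟩
  have hne12 : Q₁ ≠ Q₂ := fun h => h12 (by rw [h])
  have hne13 : Q₁ ≠ Q₃ := fun h => h13 (by rw [h])
  have hne23 : Q₂ ≠ Q₃ := fun h => h23 (by rw [h])
  have h3' : ({Q₁, Q₂, Q₃} : Finset (Finset (Finset V))).card = 3 := by
    rw [card_insert_of_notMem, card_insert_of_notMem, card_singleton]
    · simpa using hne23
    · simp only [mem_insert, mem_singleton, not_or]; exact ⟨hne12, hne13⟩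
  have := card_le_card hsub
  omega

theorem local_joined (w : V) (hne : o ≠ w) (hna : ¬ G.Adj o w) : ∃ C ∈ cocs G o, w ∈ C := by
  have hwB : w ∈ nB G o := by
    unfold nB; rw [mem_filter]; exact ⟨mem_univ _, hne.symm, hna⟩
  have hX : cls G o w ∈ classes G o := by
    unfold classes; exact mem_image_of_mem _ hwB
  have h2 := card_fives_through hG o hX
  have hpos : 0 < ((fives G o).filter fun Q => cls G o w ∈ Q).card := by omega
  obtain ⟨Q, hQ⟩ := card_pos.mp hpos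
  rw [mem_filter] at hQ
  refine ⟨cocOf o Q, five_to_coc hG o ((mem_fives o).mp hQ.1), ?_⟩
  exact (mem_cocOf o).mpr (Or.inr ⟨cls G o w, hQ.2, mem_cls_self hG o hwB⟩)

/-- the local facts at every vertex -/
theorem local_of_srg' : Local G where
  six := fun v => local_six hG v
  three := fun v w C₁ C₂ C₃ h1 h2 h3 h12 h13 h23 hw1 hw2 hw3 =>
    local_three hG v w C₁ C₂ C₃ h1 h2 h3 h12 h13 h23 hw1 hw2 hw3
  joined := fun v w hne hna => local_joined hG v w hne hna

end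

/-- PIECE LOCAL -/
theorem local_of_srg {V : Type*} [Fintype V] [DecidableEq V] (G : SimpleGraph V) [DecidableRel G.Adj]
    (hG : G.IsSRGWith 77 16 0 4) : Local G :=
  local_of_srg' hG

end Cfsg.Agent.Helper1.M22
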