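import Mathlib
import Cfsg.Agent.Lib.Helper1.M22Defs
import Cfsg.Agent.Lib.Helper1.M22Local
import Cfsg.Agent.Lib.Helper9.M22STEINER
import Cfsg.Agent.Lib.Helper27.HSGraph
import Cfsg.Agent.S0410

/-!
# S0429 (helper1): uniqueness of srg(77,16,0,4).
`local_of_srg` (the three local facts) + `exists_steiner` (helper9: the graph is the block graph of an S(3,6,22))
+ `S0410` (uniqueness of S(3,6,22)).
-/

set_option autoImplicit false

namespace Cfsg.Agent.Helper1.M22

open Finset

section Congr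

variable {α β : Type*} [DecidableEq α] [DecidableEq β]

/-- Isomorphic families have isomorphic block graphs. -/
theorem blockGraph_congr {B : Set (Finset α)} {B' : Set (Finset β)} (h : Cfsg.SetSystemIso B B') :
    Nonempty (Cfsg.blockGraph B ≃g Cfsg.blockGraph B') := by
  obtain ⟨e, he⟩ := h
  refine ⟨⟨Cfsg.Agent.Helper27.HSGraph.blockEquiv e he, ?_⟩⟩
  intro b c
  rw [Cfsg.blockGraph, Cfsg.blockGraph, SimpleGraph.fromRel_adj, SimpleGraph.fromRel_adj,
    (Cfsg.Agent.Helper27.HSGraph.blockEquiv e he).injective.ne_iff,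
    Cfsg.Agent.Helper27.HSGraph.blockEquiv_val, Cfsg.Agent.Helper27.HSGraph.blockEquiv_val,
    Finset.disjoint_image e.injective, Finset.disjoint_image e.injective]

end Congr

theorem main {V W : Type*} [Fintype V] [Fintype W] {G : SimpleGraph V} {H : SimpleGraph W}
    [DecidableRel G.Adj] [DecidableRel H.Adj] (hG : G.IsSRGWith 77 16 0 4)
    (hH : H.IsSRGWith 77 16 0 4) : Nonempty (G ≃g H) := by
  classical
  obtain ⟨B, hα, hB, ⟨e1⟩⟩ := exists_steiner G hG.card (local_of_srg G hG)
  obtain ⟨B', hβ, hB', ⟨e2⟩⟩ := exists_steiner H hH.card (local_of_srg H hH)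
  have hiso := Cfsg.Agent.S0410.result hα hβ hB hB'
  obtain ⟨e3⟩ := blockGraph_congr hiso
  exact ⟨e1.trans (e3.trans e2.symm)⟩

end Cfsg.Agent.Helper1.M22
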