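import Mathlib
import Cfsg.Agent.Lib.Helper26.MHDefs
import Cfsg.Agent.Lib.Helper25.MHINV1

/-!
# S4221 piece STAR (helper1): the relation (*) — two orbit counts in `C_G(t) ∩ G_x`

`star` with the exact name and signature of `plans/MH_Skel.lean.txt`; auxiliary lemmas in the namespace
`Cfsg.Agent.Helper26.MH.STAR`.

`K = G_x ∩ C_G(t)` is transitive on the ordered pairs of distinct fixed points of `t` (point stabilizer
`cen (St4 x (t•x) f₁ f₂) t`) and on the moved points outside `{x, t•x}` (point stabilizer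
`cen (St4 x (t•x) y (t•y)) t`).
-/

set_option autoImplicit false
set_option linter.unusedVariables false
set_option linter.unusedSectionVars false
set_option linter.style.haveILetI false

namespace Cfsg.Agent.Helper26.MH

open MulAction Cfsg.Agent.Helper22.SharpFour

variable {G : Type*} [Group G] [Finite G] {α : Type*} [Fintype α] [DecidableEq α] [MulAction G α]

namespace STAR

theorem card_eq_card_mul_relIndex {Γ : Type*} [Group Γ] {H K : Subgroup Γ} (hHK : H ≤ K) :
    Nat.card K = Nat.card H * H.relIndex K := by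
  have := Subgroup.relIndex_mul_relIndex ⊥ H K bot_le hHK
  rw [Subgroup.relIndex_bot_left, Subgroup.relIndex_bot_left] at this
  exact this.symm

theorem stabilizer_subgroup_eq {Γ : Type*} [Group Γ] {V : Type*} [MulAction Γ V] (H : Subgroup Γ) (v : V) :
    MulAction.stabilizer H v = (MulAction.stabilizer Γ v).subgroupOf H := by
  ext x
  simp [MulAction.mem_stabilizer_iff, Subgroup.mem_subgroupOf, Subgroup.smul_def]

/-- orbit-stabilizer for a subgroup `H` acting on `V` -/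
theorem relIndex_stabilizer_eq_ncard {Γ : Type*} [Group Γ] {V : Type*} [MulAction Γ V] (H : Subgroup Γ) (v : V)
    (S : Set V) (hS : ∀ w, w ∈ S ↔ ∃ g ∈ H, g • v = w) :
    (MulAction.stabilizer Γ v).relIndex H = S.ncard := by
  rw [Subgroup.relIndex, ← stabilizer_subgroup_eq, MulAction.index_stabilizer]
  congr 1
  ext w
  rw [hS, MulAction.mem_orbit_iff]
  constructor
  · rintro ⟨g, rfl⟩
    exact ⟨g, g.2, rfl⟩
  · rintro ⟨g, hg, rfl⟩
    exact ⟨⟨g, hg⟩, rfl⟩

/-- orbit-stabilizer: `|K| = |K ∩ Γ_v| · |orbit|` -/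
theorem card_eq_card_inf_mul {Γ : Type*} [Group Γ] {V : Type*} [MulAction Γ V] (K : Subgroup Γ) (v : V)
    (S : Set V) (hS : ∀ w, w ∈ S ↔ ∃ g ∈ K, g • v = w) :
    Nat.card K = Nat.card (K ⊓ MulAction.stabilizer Γ v : Subgroup Γ) * S.ncard := by
  rw [card_eq_card_mul_relIndex (inf_le_left : K ⊓ MulAction.stabilizer Γ v ≤ K),
    Subgroup.inf_relIndex_left, relIndex_stabilizer_eq_ncard K v S hS]

/-- conjugation of an involution -/
theorem isInv_conj {t : G} (ht : IsInv t) (g : G) : IsInv (g * t * g⁻¹) := by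
  refine ⟨?_, ?_⟩
  · have : g * t * g⁻¹ * (g * t * g⁻¹) = g * (t * t) * g⁻¹ := by group
    rw [this, ht.1, mul_one, mul_inv_cancel]
  · intro e
    apply ht.2
    have : t = g⁻¹ * (g * t * g⁻¹) * g := by group
    rw [this, e, mul_one, inv_mul_cancel]

/-- an element commuting with `t` and fixing `x` fixes `t • x` -/
theorem smul_t_of_comm {t g : G} {x : α} (hc : g * t = t * g) (hx : g • x = x) : g • t • x = t • x := by
  rw [← mul_smul, hc, mul_smul, hx]

/-- `G_x ∩ C(t)` is transitive on the ordered pairs of distinct fixed points of `t` -/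
theorem exists_A (h : Hall G α) {t : G} (ht : IsInv t) {x a b a' b' : α} (hx : t • x ≠ x)
    (ha : t • a = a) (hb : t • b = b) (hab : a ≠ b) (ha' : t • a' = a') (hb' : t • b' = b')
    (hab' : a' ≠ b') :
    ∃ c : G, c * t = t * c ∧ c • x = x ∧ c • a = a' ∧ c • b = b' := by
  have htt : ∀ z : α, t • t • z = z := fun z => by rw [← mul_smul, ht.1, one_smul]
  have hD : D4 x (t • x) a b := by
    refine ⟨fun e => hx e.symm, ?_, ?_, ?_, ?_, hab⟩
    · rintro rfl; exact hx ha
    · rintro rfl; exact hx hb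
    · intro e; apply hx; have e' : x = a := by rw [← htt x, e, ha]
      rw [e]; exact e'.symm
    · intro e; apply hx; have e' : x = b := by rw [← htt x, e, hb]
      rw [e]; exact e'.symm
  have hD' : D4 x (t • x) a' b' := by
    refine ⟨fun e => hx e.symm, ?_, ?_, ?_, ?_, hab'⟩
    · rintro rfl; exact hx ha'
    · rintro rfl; exact hx hb'
    · intro e; apply hx; have e' : x = a' := by rw [← htt x, e, ha']
      rw [e]; exact e'.symm
    · intro e; apply hx; have e' : x = b' := by rw [← htt x, e, hb']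
      rw [e]; exact e'.symm
  obtain ⟨g, g1, g2, g3, g4⟩ := h.tr _ _ _ _ _ _ _ _ hD hD'
  have e1 : g⁻¹ • x = x := by rw [inv_smul_eq_iff, g1]
  have e2 : g⁻¹ • (t • x) = t • x := by rw [inv_smul_eq_iff, g2]
  have e3 : g⁻¹ • a' = a := by rw [inv_smul_eq_iff, g3]
  have e4 : g⁻¹ • b' = b := by rw [inv_smul_eq_iff, g4]
  have hA : TyA t x (t • x) a' b' := ⟨rfl, htt _, ha', hb'⟩
  have hA' : TyA (g * t * g⁻¹) x (t • x) a' b' := by
    refine ⟨?_, ?_, ?_, ?_⟩
    · rw [mul_smul, mul_smul, e1, g2]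
    · rw [mul_smul, mul_smul, e2, htt, g1]
    · rw [mul_smul, mul_smul, e3, ha, g3]
    · rw [mul_smul, mul_smul, e4, hb, g4]
  obtain ⟨y0, hy0, hy0c⟩ := conj_tyA h hD' ht (isInv_conj ht g) hA hA'
  rw [mem_St4] at hy0
  refine ⟨y0 * g, ?_, ?_, ?_, ?_⟩
  · have : y0 * g * t = (y0 * (g * t * g⁻¹) * y0⁻¹) * (y0 * g) := by group
    rw [this, hy0c]
  · rw [mul_smul, g1, hy0.1]
  · rw [mul_smul, g3, hy0.2.2.1]
  · rw [mul_smul, g4, hy0.2.2.2]

/-- `G_x ∩ C(t)` is transitive on the moved points outside `{x, t • x}` -/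
theorem exists_C (h : Hall G α) {t : G} (ht : IsInv t) {x y y' : α} (hx : t • x ≠ x)
    (hy : t • y ≠ y) (hyx : y ≠ x) (hyx' : y ≠ t • x) (hy' : t • y' ≠ y') (hyx2 : y' ≠ x)
    (hyx2' : y' ≠ t • x) :
    ∃ c : G, c * t = t * c ∧ c • x = x ∧ c • y = y' := by
  have htt : ∀ z : α, t • t • z = z := fun z => by rw [← mul_smul, ht.1, one_smul]
  have hD : D4 x (t • x) y (t • y) := by
    refine ⟨fun e => hx e.symm, fun e => hyx e.symm, ?_, fun e => hyx' e.symm, ?_, fun e => hy e.symm⟩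
    · intro e; apply hyx'; rw [e, htt]
    · intro e; exact hyx (smul_left_cancel t e).symm
  have hD' : D4 x (t • x) y' (t • y') := by
    refine ⟨fun e => hx e.symm, fun e => hyx2 e.symm, ?_, fun e => hyx2' e.symm, ?_,
      fun e => hy' e.symm⟩
    · intro e; apply hyx2'; rw [e, htt]
    · intro e; exact hyx2 (smul_left_cancel t e).symm
  obtain ⟨g, g1, g2, g3, g4⟩ := h.tr _ _ _ _ _ _ _ _ hD hD'
  have e1 : g⁻¹ • x = x := by rw [inv_smul_eq_iff, g1]
  have e2 : g⁻¹ • (t • x) = t • x := by rw [inv_smul_eq_iff, g2]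
  have e3 : g⁻¹ • y' = y := by rw [inv_smul_eq_iff, g3]
  have e4 : g⁻¹ • (t • y') = t • y := by rw [inv_smul_eq_iff, g4]
  have hC : TyC t x (t • x) y' (t • y') := ⟨rfl, htt _, rfl, htt _⟩
  have hC' : TyC (g * t * g⁻¹) x (t • x) y' (t • y') := by
    refine ⟨?_, ?_, ?_, ?_⟩
    · rw [mul_smul, mul_smul, e1, g2]
    · rw [mul_smul, mul_smul, e2, htt, g1]
    · rw [mul_smul, mul_smul, e3, g4]
    · rw [mul_smul, mul_smul, e4, htt, g3]
  obtain ⟨y0, hy0, hy0c⟩ := conj_tyC h hD' ht (isInv_conj ht g) hC hC'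
  rw [mem_St4] at hy0
  refine ⟨y0 * g, ?_, ?_, ?_⟩
  · have : y0 * g * t = (y0 * (g * t * g⁻¹) * y0⁻¹) * (y0 * g) := by group
    rw [this, hy0c]
  · rw [mul_smul, g1, hy0.1]
  · rw [mul_smul, g3, hy0.2.2.1]

end STAR

theorem star (h : Hall G α) (h8 : 8 ≤ Fintype.card α) {t : G} (ht : IsInv t) {f₁ f₂ x y : α}
    (hf₁ : t • f₁ = f₁) (hf₂ : t • f₂ = f₂) (hf : f₁ ≠ f₂) (hx : t • x ≠ x) (hy : t • y ≠ y)
    (hyx : y ≠ x) (hyx' : y ≠ t • x) :
    (fixF α t).card * ((fixF α t).card - 1) * Nat.card (cen (St4 G x (t • x) f₁ f₂) t) =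
      (Fintype.card α - (fixF α t).card - 2) * Nat.card (cen (St4 G x (t • x) y (t • y)) t) := by
  have htt : ∀ z : α, t • t • z = z := fun z => by rw [← mul_smul, ht.1, one_smul]
  -- the group `K = G_x ∩ C(t)`
  set K : Subgroup G := cen (MulAction.stabilizer G x) t with hK
  have memK : ∀ g : G, g ∈ K ↔ g • x = x ∧ g * t = t * g := fun g => by
    rw [hK, mem_cen, MulAction.mem_stabilizer_iff]
  -- first count
  have hS1 : ∀ w : α × α, w ∈ ((fixF α t).offDiag : Set (α × α)) ↔ ∃ g ∈ K, g • (f₁, f₂) = w := by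
    rintro ⟨a', b'⟩
    rw [Finset.mem_coe, Finset.mem_offDiag, mem_fixF, mem_fixF]
    constructor
    · rintro ⟨ha', hb', hab'⟩
      obtain ⟨c, c1, c2, c3, c4⟩ := STAR.exists_A h ht hx hf₁ hf₂ hf ha' hb' hab'
      exact ⟨c, (memK c).2 ⟨c2, c1⟩, by rw [Prod.smul_mk, c3, c4]⟩
    · rintro ⟨g, hg, hgw⟩
      rw [memK] at hg
      rw [Prod.smul_mk, Prod.mk.injEq] at hgw
      obtain ⟨rfl, rfl⟩ := hgw
      refine ⟨?_, ?_, ?_⟩
      · rw [← mul_smul, ← hg.2, mul_smul, hf₁]
      · rw [← mul_smul, ← hg.2, mul_smul, hf₂]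
      · intro e; exact hf (smul_left_cancel g e)
  have c1 := STAR.card_eq_card_inf_mul K ((f₁, f₂) : α × α) _ hS1
  have hst1 : K ⊓ MulAction.stabilizer G ((f₁, f₂) : α × α) = cen (St4 G x (t • x) f₁ f₂) t := by
    ext g
    rw [Subgroup.mem_inf, memK, MulAction.mem_stabilizer_iff, mem_cen, mem_St4, Prod.smul_mk,
      Prod.mk.injEq]
    constructor
    · rintro ⟨⟨g1, g2⟩, g3, g4⟩
      exact ⟨⟨g1, STAR.smul_t_of_comm g2 g1, g3, g4⟩, g2⟩
    · rintro ⟨⟨g1, -, g3, g4⟩, g2⟩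
      exact ⟨⟨g1, g2⟩, g3, g4⟩
  rw [hst1, Set.ncard_coe_finset, Finset.offDiag_card] at c1
  -- second count
  have hS2 : ∀ w : α, w ∈ (((fixF α t)ᶜ \ {x, t • x} : Finset α) : Set α) ↔ ∃ g ∈ K, g • y = w := by
    intro w
    rw [Finset.mem_coe, Finset.mem_sdiff, Finset.mem_compl, mem_fixF, Finset.mem_insert,
      Finset.mem_singleton]
    constructor
    · rintro ⟨hw, hwx⟩
      push Not at hwx
      obtain ⟨c, c1, c2, c3⟩ := STAR.exists_C h ht hx hy hyx hyx' hw hwx.1 hwx.2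
      exact ⟨c, (memK c).2 ⟨c2, c1⟩, c3⟩
    · rintro ⟨g, hg, rfl⟩
      rw [memK] at hg
      refine ⟨?_, ?_⟩
      · intro e
        apply hy
        rw [← mul_smul, ← hg.2, mul_smul] at e
        exact smul_left_cancel g e
      · rintro (e | e)
        · apply hyx
          rw [← hg.1] at e
          exact smul_left_cancel g e
        · apply hyx'
          rw [← STAR.smul_t_of_comm hg.2 hg.1] at e
          exact smul_left_cancel g e
  have c2 := STAR.card_eq_card_inf_mul K y _ hS2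
  have hst2 : K ⊓ MulAction.stabilizer G y = cen (St4 G x (t • x) y (t • y)) t := by
    ext g
    rw [Subgroup.mem_inf, memK, MulAction.mem_stabilizer_iff, mem_cen, mem_St4]
    constructor
    · rintro ⟨⟨g1, g2⟩, g3⟩
      exact ⟨⟨g1, STAR.smul_t_of_comm g2 g1, g3, STAR.smul_t_of_comm g2 g3⟩, g2⟩
    · rintro ⟨⟨g1, -, g3, -⟩, g2⟩
      exact ⟨⟨g1, g2⟩, g3⟩
  have hsub : ({x, t • x} : Finset α) ⊆ (fixF α t)ᶜ := by
    intro z hz
    rw [Finset.mem_insert, Finset.mem_singleton] at hz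
    rw [Finset.mem_compl, mem_fixF]
    rcases hz with rfl | rfl
    · exact hx
    · rw [htt]; exact fun e => hx e.symm
  rw [hst2, Set.ncard_coe_finset, Finset.card_sdiff_of_subset hsub, Finset.card_compl,
    Finset.card_pair (fun e => hx e.symm)] at c2
  have hphi : (fixF α t).card * (fixF α t).card - (fixF α t).card =
      (fixF α t).card * ((fixF α t).card - 1) := by
    rw [Nat.mul_sub_one]
  rw [hphi] at c1
  rw [mul_comm _ (Nat.card _), ← c1, c2, mul_comm]

end Cfsg.Agent.Helper26.MH
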