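import Mathlib
import Cfsg.Agent.Lib.Helper26.MHDefs
import Cfsg.Agent.Lib.Helper22.SharpK
import Cfsg.Agent.Lib.Helper25.MHINV1

/-!
# S4221 piece WITT (helper1): the fixed points `Phi α H` of a 4-point stabilizer `H`

`St4_eq_of_fixed`, `card_Phi_eq`, `card_Phi`, `card_fix_in_eq` with the exact names and signatures of
`plans/MH_Skel.lean.txt`; auxiliary lemmas in the namespace `Cfsg.Agent.Helper26.MH.WITT`.
-/

set_option autoImplicit false
set_option linter.unusedVariables false
set_option linter.unusedSectionVars false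
set_option linter.style.haveILetI false

namespace Cfsg.Agent.Helper26.MH

open MulAction Cfsg.Agent.Helper22.SharpFour

variable {G : Type*} [Group G] [Finite G] {α : Type*} [Fintype α] [DecidableEq α] [MulAction G α]

namespace WITT

/-- conjugation of 4-point stabilizers -/
theorem mem_St4_smul {a b c d : α} {g x : G} :
    x ∈ St4 G (g • a) (g • b) (g • c) (g • d) ↔ g⁻¹ * x * g ∈ St4 G a b c d := by
  have key : ∀ y : α, x • g • y = g • y ↔ (g⁻¹ * x * g) • y = y := by
    intro y
    rw [mul_smul, mul_smul]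
    constructor
    · intro h; rw [h, inv_smul_smul]
    · intro h
      have := congrArg (fun z => g • z) h
      simpa using this
  rw [mem_St4, mem_St4, key, key, key, key]

/-- 4-point stabilizers of translated points have the same order -/
theorem card_St4_smul (a b c d : α) (g : G) :
    Nat.card (St4 G (g • a) (g • b) (g • c) (g • d)) = Nat.card (St4 G a b c d) := by
  have e : St4 G (g • a) (g • b) (g • c) (g • d) =
      (St4 G a b c d).map (MulAut.conj g).toMonoidHom := by
    ext x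
    rw [mem_St4_smul, Subgroup.mem_map_equiv]
    rfl
  rw [e]
  exact Nat.card_congr
    ((St4 G a b c d).equivMapOfInjective _ (MulAut.conj g).injective).symm.toEquiv

/-- all 4-point stabilizers have the same order -/
theorem card_St4_eq (h : Hall G α) {p q r s p' q' r' s' : α} (hd : D4 p q r s) (hd' : D4 p' q' r' s') :
    Nat.card (St4 G p' q' r' s') = Nat.card (St4 G p q r s) := by
  obtain ⟨g, rfl, rfl, rfl, rfl⟩ := h.tr p q r s p' q' r' s' hd hd'
  exact card_St4_smul p q r s g

/-- an element carrying a 4-subset of `Phi α H` to another one normalizes `H` -/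
theorem mem_normalizer_of_smul (h : Hall G α) {p q r s : α} (hd : D4 p q r s)
    (hfix : ∀ {a b c d : α}, D4 a b c d → a ∈ Phi α (St4 G p q r s) → b ∈ Phi α (St4 G p q r s) →
      c ∈ Phi α (St4 G p q r s) → d ∈ Phi α (St4 G p q r s) → St4 G a b c d = St4 G p q r s)
    {a b c d : α} (hD : D4 a b c d) (ha : a ∈ Phi α (St4 G p q r s))
    (hb : b ∈ Phi α (St4 G p q r s)) (hc : c ∈ Phi α (St4 G p q r s)) (hdd : d ∈ Phi α (St4 G p q r s))
    {g : G} (hD' : D4 (g • a) (g • b) (g • c) (g • d)) (ha' : g • a ∈ Phi α (St4 G p q r s))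
    (hb' : g • b ∈ Phi α (St4 G p q r s)) (hc' : g • c ∈ Phi α (St4 G p q r s))
    (hd' : g • d ∈ Phi α (St4 G p q r s)) :
    g ∈ Subgroup.normalizer (St4 G p q r s : Set G) := by
  rw [Subgroup.mem_normalizer_iff]
  intro x
  have e1 := hfix hD ha hb hc hdd
  have e2 := hfix hD' ha' hb' hc' hd'
  have key : g * x * g⁻¹ ∈ St4 G (g • a) (g • b) (g • c) (g • d) ↔ x ∈ St4 G a b c d := by
    rw [mem_St4_smul]
    have : g⁻¹ * (g * x * g⁻¹) * g = x := by group
    rw [this]
  rw [e1, e2] at key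
  exact key.symm

/-- the normalizer of `H` permutes `Phi α H` -/
theorem smul_mem_Phi {H : Subgroup G} {n : G} (hn : n ∈ Subgroup.normalizer (H : Set G)) {x : α}
    (hx : x ∈ Phi α H) : n • x ∈ Phi α H := by
  intro g hg
  have h1 : n⁻¹ * g * n ∈ H := by
    have := (Subgroup.mem_normalizer_iff.1 (inv_mem hn) g).1 hg
    rwa [inv_inv] at this
  have h2 := hx _ h1
  rw [mul_smul, mul_smul] at h2
  have := congrArg (fun z => n • z) h2
  simpa using this

end WITT

/-- four fixed points of `H = St4 p q r s` have the same stabilizer (same order, contains `H`) -/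
theorem St4_eq_of_fixed (h : Hall G α) {p q r s p' q' r' s' : α} (hd : D4 p q r s) (hd' : D4 p' q' r' s')
    (hp : p' ∈ Phi α (St4 G p q r s)) (hq : q' ∈ Phi α (St4 G p q r s))
    (hr : r' ∈ Phi α (St4 G p q r s)) (hs : s' ∈ Phi α (St4 G p q r s)) :
    St4 G p' q' r' s' = St4 G p q r s := by
  have hle : St4 G p q r s ≤ St4 G p' q' r' s' := by
    intro g hg
    rw [mem_St4]
    exact ⟨hp g hg, hq g hg, hr g hg, hs g hg⟩
  exact (Subgroup.eq_of_le_of_card_ge hle (WITT.card_St4_eq h hd hd').le).symm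

/-- all 4-point stabilizers are conjugate: same number of fixed points -/
theorem card_Phi_eq (h : Hall G α) {p q r s p' q' r' s' : α} (hd : D4 p q r s) (hd' : D4 p' q' r' s') :
    Nat.card (Phi α (St4 G p q r s)) = Nat.card (Phi α (St4 G p' q' r' s')) := by
  obtain ⟨g, rfl, rfl, rfl, rfl⟩ := h.tr p q r s p' q' r' s' hd hd'
  apply Nat.card_congr
  refine Equiv.subtypeEquiv (MulAction.toPerm g) ?_
  intro x
  show x ∈ Phi α (St4 G p q r s) ↔ g • x ∈ Phi α (St4 G (g • p) (g • q) (g • r) (g • s))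
  constructor
  · intro hx y hy
    have h1 := hx _ (WITT.mem_St4_smul.1 hy)
    rw [mul_smul, mul_smul] at h1
    have := congrArg (fun z => g • z) h1
    simpa using this
  · intro hx y hy
    have h2 : g * y * g⁻¹ ∈ St4 G (g • p) (g • q) (g • r) (g • s) := by
      rw [WITT.mem_St4_smul]
      have : g⁻¹ * (g * y * g⁻¹) * g = y := by group
      rwa [this]
    have h1 := hx _ h2
    rw [mul_smul, mul_smul, inv_smul_smul] at h1
    have := congrArg (fun z => g⁻¹ • z) h1
    simpa using this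

namespace WITT

/-- an element carrying a 4-subset of `Phi α H` to another one normalizes `H` (final form) -/
theorem mem_normalizer_of_smul' (h : Hall G α) {p q r s : α} (hd : D4 p q r s)
    {a b c d : α} (hD : D4 a b c d) (ha : a ∈ Phi α (St4 G p q r s))
    (hb : b ∈ Phi α (St4 G p q r s)) (hc : c ∈ Phi α (St4 G p q r s)) (hdd : d ∈ Phi α (St4 G p q r s))
    {g : G} {a' b' c' d' : α} (ga : g • a = a') (gb : g • b = b') (gc : g • c = c') (gd : g • d = d')
    (hD' : D4 a' b' c' d') (ha' : a' ∈ Phi α (St4 G p q r s))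
    (hb' : b' ∈ Phi α (St4 G p q r s)) (hc' : c' ∈ Phi α (St4 G p q r s))
    (hd' : d' ∈ Phi α (St4 G p q r s)) :
    g ∈ Subgroup.normalizer (St4 G p q r s : Set G) := by
  subst ga gb gc gd
  exact mem_normalizer_of_smul h hd
    (fun hD0 h1 h2 h3 h4 => St4_eq_of_fixed h hd hD0 h1 h2 h3 h4) hD ha hb hc hdd hD' ha' hb' hc' hd'

/-- the permutation representation of the normalizer of `H` on `Phi α H` -/
noncomputable def permHom (α : Type*) {G : Type*} [Group G] [MulAction G α] (H : Subgroup G) :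
    (Subgroup.normalizer (H : Set G)) →* Equiv.Perm (Phi α H) where
  toFun n :=
    { toFun := fun x => ⟨(n : G) • (x : α), fun g hg => by
        have hn := n.2
        have h1 : (n : G)⁻¹ * g * (n : G) ∈ H := by
          have := (Subgroup.mem_normalizer_iff.1 (inv_mem hn) g).1 hg
          rwa [inv_inv] at this
        have h2 := x.2 _ h1
        rw [mul_smul, mul_smul] at h2
        have := congrArg (fun z => (n : G) • z) h2
        simpa using this⟩
      invFun := fun x => ⟨(n : G)⁻¹ • (x : α), fun g hg => by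
        have hn := n.2
        have h1 : (n : G) * g * (n : G)⁻¹ ∈ H := (Subgroup.mem_normalizer_iff.1 hn g).1 hg
        have h2 := x.2 _ h1
        rw [mul_smul, mul_smul] at h2
        have := congrArg (fun z => (n : G)⁻¹ • z) h2
        simpa using this⟩
      left_inv := fun x => Subtype.ext (inv_smul_smul _ _)
      right_inv := fun x => Subtype.ext (smul_inv_smul _ _) }
  map_one' := by
    ext x
    simp
  map_mul' := fun a b => by
    ext x
    simp [mul_smul]

theorem permHom_apply (H : Subgroup G) (n : Subgroup.normalizer (H : Set G)) (x : Phi α H) :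
    ((permHom α H n) x : α) = (n : G) • (x : α) := rfl

theorem d4_val {S : Set α} {a b c d : S} (hD : D4 a b c d) : D4 (a : α) b c d :=
  ⟨fun e => hD.ab (Subtype.ext e), fun e => hD.ac (Subtype.ext e), fun e => hD.ad (Subtype.ext e),
    fun e => hD.bc (Subtype.ext e), fun e => hD.bd (Subtype.ext e), fun e => hD.cd (Subtype.ext e)⟩

theorem tr4_range (h : Hall G α) {p q r s : α} (hd : D4 p q r s) :
    Tr4 (permHom α (St4 G p q r s)).range (Phi α (St4 G p q r s)) := by
  intro a b c d a' b' c' d' hD hD'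
  have hDα := d4_val hD
  have hDα' := d4_val hD'
  obtain ⟨g, ha, hb, hc, hdd⟩ := h.tr a b c d a' b' c' d' hDα hDα'
  have hgN : g ∈ Subgroup.normalizer (St4 G p q r s : Set G) :=
    mem_normalizer_of_smul' h hd hDα a.2 b.2 c.2 d.2 ha hb hc hdd hDα' a'.2 b'.2 c'.2 d'.2
  refine ⟨⟨permHom α _ ⟨g, hgN⟩, ⟨_, rfl⟩⟩, ?_, ?_, ?_, ?_⟩
  · exact Subtype.ext ha
  · exact Subtype.ext hb
  · exact Subtype.ext hc
  · exact Subtype.ext hdd

theorem uq4_range (h : Hall G α) {p q r s : α} (hd : D4 p q r s) :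
    Uq4 (permHom α (St4 G p q r s)).range (Phi α (St4 G p q r s)) := by
  rintro ⟨σ, n, rfl⟩ a b c d hD ha hb hc hdd
  have hDα := d4_val hD
  have ha' : (n : G) • (a : α) = a := congrArg Subtype.val ha
  have hb' : (n : G) • (b : α) = b := congrArg Subtype.val hb
  have hc' : (n : G) • (c : α) = c := congrArg Subtype.val hc
  have hd' : (n : G) • (d : α) = d := congrArg Subtype.val hdd
  have hn : (n : G) ∈ St4 G (a : α) b c d := mem_St4.2 ⟨ha', hb', hc', hd'⟩
  rw [St4_eq_of_fixed h hd hDα a.2 b.2 c.2 d.2] at hn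
  apply Subtype.ext
  show permHom α _ n = 1
  ext x
  exact x.2 _ hn

end WITT

/-- Witt + Jordan: the image of `N_G(H)` in `Perm (Phi α H)` is sharply 4-transitive -/
theorem card_Phi (h : Hall G α) {p q r s : α} (hd : D4 p q r s) :
    Nat.card (Phi α (St4 G p q r s)) = 4 ∨ Nat.card (Phi α (St4 G p q r s)) = 5 ∨
      Nat.card (Phi α (St4 G p q r s)) = 6 ∨ Nat.card (Phi α (St4 G p q r s)) = 11 := by
  classical
  haveI : Fintype (Phi α (St4 G p q r s)) := Fintype.ofFinite _
  rw [Nat.card_eq_fintype_card]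
  have hT := WITT.tr4_range h hd
  have hU := WITT.uq4_range h hd
  have hp : p ∈ Phi α (St4 G p q r s) := fun g hg => (mem_St4.1 hg).1
  have hq : q ∈ Phi α (St4 G p q r s) := fun g hg => (mem_St4.1 hg).2.1
  have hr : r ∈ Phi α (St4 G p q r s) := fun g hg => (mem_St4.1 hg).2.2.1
  have hs : s ∈ Phi α (St4 G p q r s) := fun g hg => (mem_St4.1 hg).2.2.2
  have hD : D4 (⟨p, hp⟩ : Phi α (St4 G p q r s)) ⟨q, hq⟩ ⟨r, hr⟩ ⟨s, hs⟩ :=
    ⟨fun e => hd.ab (congrArg Subtype.val e), fun e => hd.ac (congrArg Subtype.val e),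
      fun e => hd.ad (congrArg Subtype.val e), fun e => hd.bc (congrArg Subtype.val e),
      fun e => hd.bd (congrArg Subtype.val e), fun e => hd.cd (congrArg Subtype.val e)⟩
  have h4 : 4 ≤ Fintype.card (Phi α (St4 G p q r s)) := by
    have := Fintype.card_le_of_injective _
      (Cfsg.Agent.Helper22.injective_vec4 hD.ab hD.ac hD.ad hD.bc hD.bd hD.cd)
    simpa using this
  by_cases h6 : Fintype.card (Phi α (St4 G p q r s)) ≤ 6
  · omega
  · push Not at h6
    rcases Nat.even_or_odd (Fintype.card (Phi α (St4 G p q r s))) with heven | hodd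
    · exact absurd (even_false hT hU heven hD (by omega)) id
    · right; right; right
      exact odd_card hT hU hodd hD (by omega)

namespace WITT

/-- an involution of the normalizer has two 2-cycles inside `Phi α H` when `Phi α H` has at least 8 points -/
theorem exists_two_cycles (h : Hall G α) {H : Subgroup G} (h8 : 8 ≤ Nat.card (Phi α H)) {t : G}
    (ht : IsInv t) (htN : t ∈ Subgroup.normalizer (H : Set G)) :
    ∃ x y : α, x ∈ Phi α H ∧ t • x ∈ Phi α H ∧ y ∈ Phi α H ∧ t • y ∈ Phi α H ∧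
      D4 x (t • x) y (t • y) := by
  classical
  have h3 := card_fixF_le_three h ht
  set S : Finset α := Finset.univ.filter (fun x => x ∈ Phi α H) with hS
  have hScard : Nat.card (Phi α H) = S.card := by
    rw [← Nat.card_eq_finsetCard S]
    apply Nat.card_congr
    exact Equiv.subtypeEquivRight (fun x => by simp [hS])
  have hM : 5 ≤ (S \ fixF α t).card := by
    have := Finset.le_card_sdiff (fixF α t) S
    omega
  obtain ⟨x, hxM⟩ : (S \ fixF α t).Nonempty := Finset.card_pos.1 (by omega)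
  have hM' : 3 ≤ ((S \ fixF α t) \ {x, t • x}).card := by
    have := Finset.le_card_sdiff ({x, t • x} : Finset α) (S \ fixF α t)
    have h2 : ({x, t • x} : Finset α).card ≤ 2 := Finset.card_le_two
    omega
  obtain ⟨y, hyM⟩ : ((S \ fixF α t) \ {x, t • x}).Nonempty := Finset.card_pos.1 (by omega)
  rw [Finset.mem_sdiff, mem_fixF] at hxM
  rw [Finset.mem_sdiff, Finset.mem_sdiff, mem_fixF, Finset.mem_insert, Finset.mem_singleton] at hyM
  have hxΦ : x ∈ Phi α H := by
    have := hxM.1
    rw [hS, Finset.mem_filter] at this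
    exact this.2
  have hyΦ : y ∈ Phi α H := by
    have := hyM.1.1
    rw [hS, Finset.mem_filter] at this
    exact this.2
  have htt : ∀ z : α, t • t • z = z := fun z => by rw [← mul_smul, ht.1, one_smul]
  refine ⟨x, y, hxΦ, smul_mem_Phi htN hxΦ, hyΦ, smul_mem_Phi htN hyΦ, ?_⟩
  refine ⟨fun e => hxM.2 e.symm, fun e => hyM.2 (Or.inl e.symm), ?_, fun e => hyM.2 (Or.inr e.symm), ?_,
    fun e => hyM.1.2 e.symm⟩
  · intro e
    apply hyM.2
    right
    rw [e, htt]
  · intro e
    apply hyM.2
    left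
    exact (smul_left_cancel t e).symm

end WITT

/-- (I5) inside `N_G(H)` acting on `Phi α H` (at least 8 points) -/
theorem card_fix_in_eq (h : Hall G α) {p q r s : α} (hd : D4 p q r s)
    (h8 : 8 ≤ Nat.card (Phi α (St4 G p q r s))) {t t' : G} (ht : IsInv t) (ht' : IsInv t')
    (htN : t ∈ Subgroup.normalizer (St4 G p q r s : Set G))
    (ht'N : t' ∈ Subgroup.normalizer (St4 G p q r s : Set G)) :
    Nat.card {x : α // t • x = x ∧ x ∈ Phi α (St4 G p q r s)} =
      Nat.card {x : α // t' • x = x ∧ x ∈ Phi α (St4 G p q r s)} := by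
  obtain ⟨x, y, hx, htx, hy, hty, hD⟩ := WITT.exists_two_cycles h h8 ht htN
  obtain ⟨x', y', hx', htx', hy', hty', hD'⟩ := WITT.exists_two_cycles h h8 ht' ht'N
  obtain ⟨g, g1, g2, g3, g4⟩ := h.tr _ _ _ _ _ _ _ _ hD hD'
  have hgN : g ∈ Subgroup.normalizer (St4 G p q r s : Set G) :=
    WITT.mem_normalizer_of_smul' h hd hD hx htx hy hty g1 g2 g3 g4 hD' hx' htx' hy' hty'
  have htt : ∀ z : α, t • t • z = z := fun z => by rw [← mul_smul, ht.1, one_smul]
  have htt' : ∀ z : α, t' • t' • z = z := fun z => by rw [← mul_smul, ht'.1, one_smul]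
  have e1 : g⁻¹ • x' = x := by rw [inv_smul_eq_iff, g1]
  have e2 : g⁻¹ • (t' • x') = t • x := by rw [inv_smul_eq_iff, g2]
  have e3 : g⁻¹ • y' = y := by rw [inv_smul_eq_iff, g3]
  have e4 : g⁻¹ • (t' • y') = t • y := by rw [inv_smul_eq_iff, g4]
  have ht'' : IsInv (g * t * g⁻¹) := by
    refine ⟨?_, ?_⟩
    · have : g * t * g⁻¹ * (g * t * g⁻¹) = g * (t * t) * g⁻¹ := by group
      rw [this, ht.1, mul_one, mul_inv_cancel]
    · intro e
      apply ht.2
      have : t = g⁻¹ * (g * t * g⁻¹) * g := by group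
      rw [this, e, mul_one, inv_mul_cancel]
  have hC' : TyC t' x' (t' • x') y' (t' • y') := ⟨rfl, htt' _, rfl, htt' _⟩
  have hC'' : TyC (g * t * g⁻¹) x' (t' • x') y' (t' • y') := by
    refine ⟨?_, ?_, ?_, ?_⟩
    · rw [mul_smul, mul_smul, e1, g2]
    · rw [mul_smul, mul_smul, e2, htt, g1]
    · rw [mul_smul, mul_smul, e3, g4]
    · rw [mul_smul, mul_smul, e4, htt, g3]
  obtain ⟨y0, hy0, hy0c⟩ := conj_tyC h hD' ht' ht'' hC' hC''
  rw [St4_eq_of_fixed h hd hD' hx' htx' hy' hty'] at hy0
  have hmN : y0 * g ∈ Subgroup.normalizer (St4 G p q r s : Set G) :=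
    mul_mem (Subgroup.le_normalizer hy0) hgN
  have hm : (y0 * g) * t * (y0 * g)⁻¹ = t' := by
    rw [← hy0c]; group
  have hm' : (y0 * g)⁻¹ * t' * (y0 * g) = t := by
    rw [← hm]; group
  apply Nat.card_congr
  refine Equiv.subtypeEquiv (MulAction.toPerm (y0 * g)) ?_
  intro z
  show (t • z = z ∧ z ∈ Phi α (St4 G p q r s)) ↔
    (t' • ((y0 * g) • z) = (y0 * g) • z ∧ (y0 * g) • z ∈ Phi α (St4 G p q r s))
  constructor
  · rintro ⟨hz1, hz2⟩
    refine ⟨?_, WITT.smul_mem_Phi hmN hz2⟩
    rw [← hm, mul_smul, mul_smul, inv_smul_smul, hz1]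
  · rintro ⟨hz1, hz2⟩
    refine ⟨?_, ?_⟩
    · rw [← hm', mul_smul, mul_smul, hz1, inv_smul_smul]
    · have := WITT.smul_mem_Phi (Subgroup.inv_mem _ hmN) hz2
      rwa [inv_smul_smul] at this

end Cfsg.Agent.Helper26.MH
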