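import Mathlib
import Cfsg.Agent.Lib.Helper21.N9KDefs

/-!
# S3702 GROUP piece KCONJE (helper1 for helper21): the classes of `t1^i t2^j t3^k s^l`, `i + j ≠ 0`.
-/

set_option autoImplicit false

namespace Cfsg.Agent.Helper21.N9

open Cfsg Cfsg.Agent.Helper16

theorem kconje_idx : ∀ (i j k : Fin 3) (l : Fin 2), i + j ≠ 0 →
    ∃ q : Idx, Wk q * (CK.wJ i j k * CK.s ^ (l : ℕ)) = CK.z (TC648.clsE i j k l) * Wk q := by
  decide +kernel

/-- PIECE S3702-GR-KCONJE -/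
theorem conjE_K0 : ∀ (i j k : Fin 3) (l : Fin 2), i + j ≠ 0 →
    IsConj (CK.wJ i j k * CK.s ^ (l : ℕ)) (CK.z (TC648.clsE i j k l)) := by
  intro i j k l h
  obtain ⟨q, hq⟩ := kconje_idx i j k l h
  rw [isConj_iff]
  refine ⟨Wk q, ?_⟩
  rw [hq, mul_inv_cancel_right]

end Cfsg.Agent.Helper21.N9
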