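import Mathlib
import Cfsg.Agent.Lib.Lead.NC2Defs

/-!
# S3894 (n = 2) piece N2-CEN (helper1): the projection `pr : GL₂ → PGL₂` and scalars.
-/

set_option autoImplicit false

namespace Cfsg.Agent.Lead.NC2

open Matrix

variable {F : Type*} [Field F]

/-! ### N2-CEN -/

theorem pr_eq_one_iff (g : GL (Fin 2) F) :
    pr g = 1 ↔ IsScalar (g : Matrix (Fin 2) (Fin 2) F) := by
  unfold pr IsScalar
  rw [QuotientGroup.mk'_apply, QuotientGroup.eq_one_iff,
    Matrix.GeneralLinearGroup.mem_center_iff_val_mem_range_scalar]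
  constructor
  · rintro ⟨c, hc⟩
    refine ⟨c, ?_⟩
    rw [← hc, Matrix.scalar_apply, Matrix.smul_one_eq_diagonal]
  · rintro ⟨c, hc⟩
    refine ⟨c, ?_⟩
    rw [Matrix.scalar_apply, ← Matrix.smul_one_eq_diagonal]
    exact hc.symm

theorem nc2_cen_val_ne_zero (g : GL (Fin 2) F) : (g : Matrix (Fin 2) (Fin 2) F) ≠ 0 := by
  intro h
  have h1 : (g : Matrix (Fin 2) (Fin 2) F) * ((g⁻¹ : GL (Fin 2) F) : Matrix (Fin 2) (Fin 2) F) = 1 := by
    rw [← Units.val_mul, mul_inv_cancel, Units.val_one]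
  rw [h, zero_mul] at h1
  exact zero_ne_one h1

theorem pr_eq_pr_iff (g h : GL (Fin 2) F) :
    pr g = pr h ↔ ∃ c : F, c ≠ 0 ∧
      (g : Matrix (Fin 2) (Fin 2) F) = c • (h : Matrix (Fin 2) (Fin 2) F) := by
  have h0 : pr g = pr h ↔ pr (g * h⁻¹) = 1 := by
    rw [map_mul, map_inv, mul_inv_eq_one]
  rw [h0, pr_eq_one_iff]
  unfold IsScalar
  constructor
  · rintro ⟨c, hc⟩
    have h1 : (g : Matrix (Fin 2) (Fin 2) F) = c • (h : Matrix (Fin 2) (Fin 2) F) := by
      have h2 : (g : Matrix (Fin 2) (Fin 2) F) =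
          ((g * h⁻¹ : GL (Fin 2) F) : Matrix (Fin 2) (Fin 2) F) * (h : Matrix (Fin 2) (Fin 2) F) := by
        rw [← Units.val_mul, inv_mul_cancel_right]
      rw [h2, hc, smul_mul_assoc, one_mul]
    refine ⟨c, ?_, h1⟩
    rintro rfl
    rw [zero_smul] at h1
    exact nc2_cen_val_ne_zero g h1
  · rintro ⟨c, _, hc⟩
    refine ⟨c, ?_⟩
    rw [Units.val_mul, hc, smul_mul_assoc, ← Units.val_mul, mul_inv_cancel, Units.val_one]

theorem pr_surjective : Function.Surjective (pr : GL (Fin 2) F → PGL2 F) :=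
  QuotientGroup.mk'_surjective _

theorem pr_mem_T_iff (x g : GL (Fin 2) F) : pr g ∈ T x ↔ g * x = x * g := by
  unfold T
  rw [Subgroup.mem_map]
  constructor
  · rintro ⟨h, hh, hpr⟩
    obtain ⟨c, hc0, hc⟩ := (pr_eq_pr_iff h g).1 hpr
    have hcomm : x * h = h * x := Subgroup.mem_centralizer_iff.1 hh x (Set.mem_singleton x)
    have h1 : (x : Matrix (Fin 2) (Fin 2) F) * (h : Matrix (Fin 2) (Fin 2) F) =
        (h : Matrix (Fin 2) (Fin 2) F) * (x : Matrix (Fin 2) (Fin 2) F) := by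
      rw [← Units.val_mul, hcomm, Units.val_mul]
    rw [hc, mul_smul_comm, smul_mul_assoc] at h1
    have h2 : (x : Matrix (Fin 2) (Fin 2) F) * (g : Matrix (Fin 2) (Fin 2) F) =
        (g : Matrix (Fin 2) (Fin 2) F) * (x : Matrix (Fin 2) (Fin 2) F) :=
      smul_right_injective _ hc0 h1
    apply Units.ext
    rw [Units.val_mul, Units.val_mul, h2]
  · intro h
    refine ⟨g, ?_, rfl⟩
    rw [Subgroup.mem_centralizer_iff]
    intro y hy
    rw [Set.mem_singleton_iff] at hy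
    rw [hy, h]

theorem pr_mem_slImage_of_det {g : GL (Fin 2) F}
    (h : (g : Matrix (Fin 2) (Fin 2) F).det = 1) : pr g ∈ (slImage : Subgroup (PGL2 F)) := by
  unfold slImage pr
  refine Subgroup.mem_map.2 ⟨g, ⟨⟨(g : Matrix (Fin 2) (Fin 2) F), h⟩, ?_⟩, rfl⟩
  apply Units.ext
  rfl

end Cfsg.Agent.Lead.NC2
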