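import Mathlib
import Cfsg.Agent.Lib.Lead.NC2Defs

/-!
# S3894 (n = 2) piece N2-COUNT (helper1): the abstract counting lemma.
-/

set_option autoImplicit false

namespace Cfsg.Agent.Lead.NC2

open Matrix

variable {F : Type*} [Field F]

section fin

variable [Fintype F]

/-- the image in `P` of a nilpotent subgroup of `↥G` is nilpotent -/
theorem nc2_count_map_nilpotent {P : Type*} [Group P] (G : Subgroup P) (B : Subgroup ↥G)
    (hB : Group.IsNilpotent ↥B) : Group.IsNilpotent ↥(B.map G.subtype) :=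
  @Group.nilpotent_of_mulEquiv _ _ _ _ hB
    (B.equivMapOfInjective G.subtype (Subgroup.subtype_injective G))

/-! ### N2-COUNT -/

theorem card_lt_of_nilpotent_cover {P : Type*} [Group P] (G : Subgroup P)
    (I : Finset (Subgroup P)) (wit : Subgroup P → P → Prop)
    (hwit : ∀ A ∈ I, ∃ w ∈ G, wit A w)
    (hsep : ∀ H : Subgroup P, Group.IsNilpotent H → ∀ A A' : Subgroup P, ∀ w w' : P,
      wit A w → wit A' w' → w ∈ H → w' ∈ H → A = A')
    (hextra : ∃ t ∈ G, ∀ H : Subgroup P, Group.IsNilpotent H → t ∈ H →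
      ∀ A ∈ I, ∀ w : P, wit A w → w ∉ H)
    (𝓐 : Finset (Subgroup ↥G)) (hcov : ∀ g : ↥G, ∃ A ∈ 𝓐, g ∈ A)
    (hnil : ∀ A ∈ 𝓐, Group.IsNilpotent ↥A) : I.card < 𝓐.card := by
  classical
  obtain ⟨t, htG, hext⟩ := hextra
  have hw : ∀ A : {A // A ∈ I}, ∃ w : P, ∃ hwG : w ∈ G, wit A.1 w ∧
      ∃ B ∈ 𝓐, (⟨w, hwG⟩ : ↥G) ∈ B := by
    rintro ⟨A, hA⟩
    obtain ⟨w, hwG, hw⟩ := hwit A hA
    obtain ⟨B, hB, hmem⟩ := hcov ⟨w, hwG⟩
    exact ⟨w, hwG, hw, B, hB, hmem⟩
  choose w hwG hwit' h hh𝓐 hmem using hw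
  -- membership of the witnesses in the images
  have hwmem : ∀ A : {A // A ∈ I}, w A ∈ (h A).map G.subtype := fun A =>
    Subgroup.mem_map.2 ⟨⟨w A, hwG A⟩, hmem A, rfl⟩
  -- injectivity
  have hinj : Function.Injective h := by
    intro A A' hAA'
    apply Subtype.ext
    refine hsep ((h A).map G.subtype) (nc2_count_map_nilpotent G (h A) (hnil _ (hh𝓐 A)))
      A.1 A'.1 (w A) (w A') (hwit' A) (hwit' A') (hwmem A) ?_
    rw [hAA']
    exact hwmem A'
  -- the member containing `t`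
  obtain ⟨B₀, hB₀, htB₀⟩ := hcov ⟨t, htG⟩
  have htmem : t ∈ B₀.map G.subtype := Subgroup.mem_map.2 ⟨⟨t, htG⟩, htB₀, rfl⟩
  have hB₀not : ∀ A : {A // A ∈ I}, h A ≠ B₀ := by
    intro A hA
    refine hext (B₀.map G.subtype) (nc2_count_map_nilpotent G B₀ (hnil _ hB₀)) htmem A.1 A.2
      (w A) (hwit' A) ?_
    rw [← hA]
    exact hwmem A
  have hsub : (Finset.univ.image h) ⊆ 𝓐.erase B₀ := by
    intro B hB
    obtain ⟨A, _, rfl⟩ := Finset.mem_image.1 hB
    exact Finset.mem_erase.2 ⟨hB₀not A, hh𝓐 A⟩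
  calc I.card = Fintype.card {A // A ∈ I} := (Fintype.card_coe I).symm
    _ = (Finset.univ.image h).card := by
        rw [Finset.card_image_of_injective _ hinj, Finset.card_univ]
    _ ≤ (𝓐.erase B₀).card := Finset.card_le_card hsub
    _ < 𝓐.card := Finset.card_erase_lt_of_mem hB₀

end fin

end Cfsg.Agent.Lead.NC2
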