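import Mathlib
import Cfsg.Agent.Lib.Lead.NC2Defs
import Cfsg.Agent.Lib.Helper1.NC2CEN

/-!
# S3894 (n = 2) piece N2-PROPNS (helper1): a non-split piece does not contain `slImage`.
-/

set_option autoImplicit false

namespace Cfsg.Agent.Lead.NC2

open Matrix

variable {F : Type*} [Field F]

theorem nc2_propns_e12_sq : (!![0, 1; 0, 0] : Matrix (Fin 2) (Fin 2) F) * !![0, 1; 0, 0] = 0 := by
  ext i j; fin_cases i <;> fin_cases j <;> simp [Matrix.mul_apply, Fin.sum_univ_two]

/-! ### N2-PROPNS -/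

theorem exists_slImage_not_mem_T {x : GL (Fin 2) F} (hx : NoEig x) :
    ∃ s ∈ (slImage : Subgroup (PGL2 F)), s ∉ T x := by
  refine ⟨pr (uni _ (nc2_propns_e12_sq (F := F))),
    pr_mem_slImage_of_det (by rw [uni_val]; simp [Matrix.det_fin_two]), ?_⟩
  rw [pr_mem_T_iff]
  intro h
  have h1 : (1 + !![0, 1; 0, 0]) * (x : Matrix (Fin 2) (Fin 2) F) =
      (x : Matrix (Fin 2) (Fin 2) F) * (1 + !![0, 1; 0, 0]) := congrArg Units.val h
  have h00 := congrFun (congrFun h1 0) 0
  have h01 := congrFun (congrFun h1 0) 1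
  simp [Matrix.mul_apply, Fin.sum_univ_two, Matrix.one_apply] at h00 h01
  refine hx ![1, 0] ((x : Matrix (Fin 2) (Fin 2) F) 0 0) ?_ ?_
  · intro h0
    have := congrFun h0 0
    simp at this
  · ext i
    fin_cases i
    · simp [Matrix.mulVec, dotProduct, Fin.sum_univ_two]
    · simp [Matrix.mulVec, dotProduct, Fin.sum_univ_two, h00]

end Cfsg.Agent.Lead.NC2
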