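import Mathlib
import Cfsg.Agent.Lib.Lead.NC2Defs
import Cfsg.Agent.Lib.Helper1.NC2CEN

/-!
# S3894 (n = 2) piece N2-PROPU (helper1): the normaliser of a unipotent piece does not contain `slImage`.
-/

set_option autoImplicit false

namespace Cfsg.Agent.Lead.NC2

open Matrix

variable {F : Type*} [Field F]

theorem nc2_propu_e12_sq : (!![0, 1; 0, 0] : Matrix (Fin 2) (Fin 2) F) * !![0, 1; 0, 0] = 0 := by
  ext i j; fin_cases i <;> fin_cases j <;> simp [Matrix.mul_apply, Fin.sum_univ_two]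

theorem nc2_propu_e21_sq : (!![0, 0; 1, 0] : Matrix (Fin 2) (Fin 2) F) * !![0, 0; 1, 0] = 0 := by
  ext i j; fin_cases i <;> fin_cases j <;> simp [Matrix.mul_apply, Fin.sum_univ_two]

theorem nc2_propu_comm {e N : Matrix (Fin 2) (Fin 2) F} (he : e * e = 0) (hN : N * N = 0)
    (h : pr (uni e he) ∈ Subgroup.normalizer ((T (uni N hN) : Subgroup (PGL2 F)) : Set (PGL2 F))) :
    (1 + e) * (1 + N) * (1 - e) * (1 + N) = (1 + N) * ((1 + e) * (1 + N) * (1 - e)) := by
  have h1 : pr (uni N hN) ∈ T (uni N hN) := (pr_mem_T_iff _ _).2 rfl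
  have h2 := (Subgroup.mem_normalizer_iff.1 h (pr (uni N hN))).1 h1
  rw [← map_inv, ← map_mul, ← map_mul, pr_mem_T_iff] at h2
  exact congrArg Units.val h2

theorem nc2_propu_c12 (a b c : F) (h0 : a * a + b * c = 0)
    (h : (1 + !![0, 1; 0, 0]) * (1 + !![a, b; c, -a]) * (1 - !![0, 1; 0, 0]) * (1 + !![a, b; c, -a]) =
      (1 + !![a, b; c, -a]) * ((1 + !![0, 1; 0, 0]) * (1 + !![a, b; c, -a]) * (1 - !![0, 1; 0, 0]))) :
    c = 0 ∧ a = 0 := by
  have h00 := congrFun (congrFun h 0) 0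
  have h10 := congrFun (congrFun h 1) 0
  simp [Matrix.mul_apply, Fin.sum_univ_two, Matrix.one_apply] at h00 h10
  have hc3 : c ^ 3 = 0 := by linear_combination (-c) * h00 + a * h10
  have hc : c = 0 := by simpa using hc3
  refine ⟨hc, ?_⟩
  rw [hc, mul_zero, add_zero] at h0
  simpa using h0

theorem nc2_propu_c21 (a b c : F)
    (h : (1 + !![0, 0; 1, 0]) * (1 + !![a, b; c, -a]) * (1 - !![0, 0; 1, 0]) * (1 + !![a, b; c, -a]) =
      (1 + !![a, b; c, -a]) * ((1 + !![0, 0; 1, 0]) * (1 + !![a, b; c, -a]) * (1 - !![0, 0; 1, 0]))) :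
    b = 0 := by
  have h11 := congrFun (congrFun h 1) 1
  have h01 := congrFun (congrFun h 0) 1
  simp [Matrix.mul_apply, Fin.sum_univ_two, Matrix.one_apply] at h11 h01
  have hb3 : b ^ 3 = 0 := by linear_combination (-b) * h11 + (-a) * h01
  simpa using hb3

theorem nc2_propu_core (N : Matrix (Fin 2) (Fin 2) F) (hN : N * N = 0)
    (hc1 : (1 + !![0, 1; 0, 0]) * (1 + N) * (1 - !![0, 1; 0, 0]) * (1 + N) =
      (1 + N) * ((1 + !![0, 1; 0, 0]) * (1 + N) * (1 - !![0, 1; 0, 0])))
    (hc2 : (1 + !![0, 0; 1, 0]) * (1 + N) * (1 - !![0, 0; 1, 0]) * (1 + N) =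
      (1 + N) * ((1 + !![0, 0; 1, 0]) * (1 + N) * (1 - !![0, 0; 1, 0]))) : N = 0 := by
  obtain ⟨a, b, c, d, rfl⟩ : ∃ a b c d : F, N = !![a, b; c, d] :=
    ⟨N 0 0, N 0 1, N 1 0, N 1 1, Matrix.eta_fin_two N⟩
  have h00 := congrFun (congrFun hN 0) 0
  have h01 := congrFun (congrFun hN 0) 1
  have h10 := congrFun (congrFun hN 1) 0
  have h11 := congrFun (congrFun hN 1) 1
  simp [Matrix.mul_apply, Fin.sum_univ_two] at h00 h01 h10 h11
  have hd : d = -a := by
    by_contra hne
    have hne' : a + d ≠ 0 := fun h => hne (by linear_combination h)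
    have hb : b = 0 := by
      have : b * (a + d) = 0 := by linear_combination h01
      rcases mul_eq_zero.1 this with h | h
      · exact h
      · exact absurd h hne'
    have hc : c = 0 := by
      have : c * (a + d) = 0 := by linear_combination h10
      rcases mul_eq_zero.1 this with h | h
      · exact h
      · exact absurd h hne'
    have ha : a = 0 := by
      have : a * a = 0 := by rw [hb] at h00; linear_combination h00
      simpa using this
    have hd0 : d = 0 := by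
      have : d * d = 0 := by rw [hb] at h11; linear_combination h11
      simpa using this
    exact hne' (by rw [ha, hd0, add_zero])
  subst hd
  obtain ⟨hc0, ha0⟩ := nc2_propu_c12 a b c h00 hc1
  have hb0 := nc2_propu_c21 a b c hc2
  subst hc0 ha0 hb0
  ext i j
  fin_cases i <;> fin_cases j <;> simp

/-! ### N2-PROPU -/

theorem exists_slImage_not_mem_normalizer (N : Matrix (Fin 2) (Fin 2) F) (hN : N * N = 0)
    (hN0 : N ≠ 0) :
    ∃ s ∈ (slImage : Subgroup (PGL2 F)),
      s ∉ Subgroup.normalizer ((T (uni N hN) : Subgroup (PGL2 F)) : Set (PGL2 F)) := by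
  by_contra hcon
  push_neg at hcon
  have hE1 := hcon (pr (uni _ (nc2_propu_e12_sq (F := F))))
    (pr_mem_slImage_of_det (by rw [uni_val]; simp [Matrix.det_fin_two]))
  have hE2 := hcon (pr (uni _ (nc2_propu_e21_sq (F := F))))
    (pr_mem_slImage_of_det (by rw [uni_val]; simp [Matrix.det_fin_two]))
  exact hN0 (nc2_propu_core N hN (nc2_propu_comm _ hN hE1) (nc2_propu_comm _ hN hE2))

end Cfsg.Agent.Lead.NC2
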