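import Mathlib

/-!
# S4146: groups with class sizes `{1, n, m, nm}`, `n`, `m` coprime — definitions

`Cz g` is the centralizer of an element, `ix g` its index (the class size), `IsPrimary p g`
says that `g` has `p`-power order, `Cfg G n m` is the hypothesis of S4146 and `AB G n m` says
that no primary element of index `n` (resp. `m`) has its prime dividing `n` (resp. `m`).
-/

namespace Cfsg.Agent.Helper1.NM

open Subgroup

variable {G : Type*} [Group G]

/-- centralizer of an element -/
abbrev Cz (g : G) : Subgroup G := centralizer ({g} : Set G)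

/-- class size, as the index of the centralizer -/
noncomputable abbrev ix (g : G) : ℕ := (centralizer ({g} : Set G)).index

/-- `g` has order a power of `p` -/
def IsPrimary (p : ℕ) (g : G) : Prop := ∃ k : ℕ, orderOf g = p ^ k

/-- `[G, M]`, the subgroup generated by the `g * b * g⁻¹ * b⁻¹`, `b ∈ M` -/
abbrev TM (M : Subgroup G) : Subgroup G := ⁅(⊤ : Subgroup G), M⁆

theorem mem_Cz {x g : G} : g ∈ Cz x ↔ x * g = g * x := by
  simp [Cz, Subgroup.mem_centralizer_iff]

theorem mem_Cz_comm {x g : G} : g ∈ Cz x ↔ x ∈ Cz g := by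
  rw [mem_Cz, mem_Cz, eq_comm]

theorem self_mem_Cz (x : G) : x ∈ Cz x := mem_Cz.2 rfl

/-- the class sizes of `G` are exactly `1, n, m, nm` with `n, m > 1` coprime -/
structure Cfg (G : Type*) [Group G] (n m : ℕ) : Prop where
  one_lt_n : 1 < n
  one_lt_m : 1 < m
  cop : n.Coprime m
  cases : ∀ g : G, ix g = 1 ∨ ix g = n ∨ ix g = m ∨ ix g = n * m
  exn : ∃ g : G, ix g = n
  exm : ∃ g : G, ix g = m
  exnm : ∃ g : G, ix g = n * m

theorem Cfg.symm {n m : ℕ} (c : Cfg G n m) : Cfg G m n where
  one_lt_n := c.one_lt_m
  one_lt_m := c.one_lt_n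
  cop := c.cop.symm
  cases := fun g => by
    rcases c.cases g with h | h | h | h
    · exact Or.inl h
    · exact Or.inr (Or.inr (Or.inl h))
    · exact Or.inr (Or.inl h)
    · exact Or.inr (Or.inr (Or.inr (by rw [h, mul_comm])))
  exn := c.exm
  exm := c.exn
  exnm := by
    obtain ⟨g, hg⟩ := c.exnm
    exact ⟨g, by rw [hg, mul_comm]⟩

theorem Cfg.of_range {n m : ℕ} (hn : 1 < n) (hm : 1 < m) (hcop : n.Coprime m)
    (h : Set.range (fun x : G => (Subgroup.centralizer ({x} : Set G)).index)
      = ({1, n, m, n * m} : Set ℕ)) : Cfg G n m where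
  one_lt_n := hn
  one_lt_m := hm
  cop := hcop
  cases := fun g => by
    have : ix g ∈ Set.range (fun x : G => (Subgroup.centralizer ({x} : Set G)).index) := ⟨g, rfl⟩
    rw [h] at this
    simpa using this
  exn := by
    have : n ∈ Set.range (fun x : G => (Subgroup.centralizer ({x} : Set G)).index) := by
      rw [h]; simp
    exact this
  exm := by
    have : m ∈ Set.range (fun x : G => (Subgroup.centralizer ({x} : Set G)).index) := by
      rw [h]; simp
    exact this
  exnm := by
    have : n * m ∈ Set.range (fun x : G => (Subgroup.centralizer ({x} : Set G)).index) := by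
      rw [h]; simp
    exact this

theorem Cfg.ne {n m : ℕ} (c : Cfg G n m) : n ≠ m := by
  intro h
  have := c.cop
  rw [h, Nat.coprime_self] at this
  have := c.one_lt_m
  omega

/-- "no good elements": every primary element of index `n` has its prime dividing `m`, and every
primary element of index `m` has its prime dividing `n`. -/
def AB (G : Type*) [Group G] (n m : ℕ) : Prop :=
  (∀ (p : ℕ) (a : G), p.Prime → ix a = n → IsPrimary p a → p ∣ m) ∧
  (∀ (q : ℕ) (b : G), q.Prime → ix b = m → IsPrimary q b → q ∣ n)

theorem AB.symm {n m : ℕ} (h : AB G n m) : AB G m n := ⟨h.2, h.1⟩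

end Cfsg.Agent.Helper1.NM
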