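import Mathlib
import Cfsg.Agent.Lib.Helper1.NMDefs
import Cfsg.Agent.Lib.Helper21.ClassSize
import Cfsg.Agent.Lib.Helper19.ClassSize
import Cfsg.Agent.Lib.Helper19.MaxCentA
import Cfsg.Agent.Lib.Helper16.TwoIdxA

/-!
# S4146, piece BAS1: basic facts on centralizers and class sizes
-/

namespace Cfsg.Agent.Helper1.NM

open Subgroup

variable {G : Type*} [Group G] [Finite G] {n m : ℕ}

/-- coprime class sizes: if `a`, `b` commute then all their conjugates commute. -/
theorem commute_conj {a b : G} (hcop : (ix a).Coprime (ix b)) (hab : a * b = b * a) (g h : G) :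
    (g * a * g⁻¹) * (h * b * h⁻¹) = (h * b * h⁻¹) * (g * a * g⁻¹) := by
  obtain ⟨u, hu, v, hv, huv⟩ :=
    Helper21.ClassSize.exists_mul_of_coprime_index (Cz a) (Cz b) hcop (g⁻¹ * h)
  rw [mem_Cz] at hu hv
  have hh : h = g * u * v := by rw [mul_assoc, ← huv]; group
  have e1 : g * a * g⁻¹ = (g * u) * a * (g * u)⁻¹ := by
    have : (g * u) * a * (g * u)⁻¹ = g * (u * a) * u⁻¹ * g⁻¹ := by group
    rw [this, ← hu]; group
  have e2 : h * b * h⁻¹ = (g * u) * b * (g * u)⁻¹ := by
    rw [hh]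
    have : g * u * v * b * (g * u * v)⁻¹ = g * u * (v * b) * v⁻¹ * (g * u)⁻¹ := by group
    rw [this, ← hv]; group
  rw [e1, e2]
  have e3 : g * u * a * (g * u)⁻¹ * (g * u * b * (g * u)⁻¹) = g * u * (a * b) * (g * u)⁻¹ := by
    group
  have e4 : g * u * b * (g * u)⁻¹ * (g * u * a * (g * u)⁻¹) = g * u * (b * a) * (g * u)⁻¹ := by
    group
  rw [e3, e4, hab]

theorem ix_conj (g a : G) : ix (a * g * a⁻¹) = ix g :=
  Helper21.ClassSize.idx_conj g a

theorem ix_dvd_of_le {x y : G} (h : Cz x ≤ Cz y) : ix y ∣ ix x :=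
  Subgroup.index_dvd_of_le h

theorem Cz_eq_of_le_of_ix {x y : G} (h : Cz x ≤ Cz y) (hi : ix x = ix y) : Cz x = Cz y := by
  have h1 : (Cz x).relIndex (Cz y) * (Cz y).index = (Cz x).index :=
    Subgroup.relIndex_mul_index h
  have h2 : (Cz y).index ≠ 0 := Subgroup.index_ne_zero_of_finite
  have h3 : (Cz x).relIndex (Cz y) = 1 := by
    have hi' : (Cz x).index = (Cz y).index := hi
    rw [hi'] at h1
    have : (Cz x).relIndex (Cz y) * (Cz y).index = 1 * (Cz y).index := by rw [h1, one_mul]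
    exact Nat.eq_of_mul_eq_mul_right (Nat.pos_of_ne_zero h2) this
  exact le_antisymm h (Subgroup.relIndex_eq_one.1 h3)

theorem Cz_le_of_mem_zpowers {x y : G} (h : y ∈ zpowers x) : Cz x ≤ Cz y :=
  Helper16.TwoIdx.K_le_of_mem_zpowers h

theorem ix_eq_one_iff {g : G} : ix g = 1 ↔ g ∈ center G :=
  Helper21.ClassSize.idx_eq_one_iff

theorem Cz_mul_of_coprime {x y : G} (hc : x * y = y * x)
    (hxy : (orderOf x).Coprime (orderOf y)) : Cz (x * y) = Cz x ⊓ Cz y :=
  Helper19.ClassSize.Cz_mul_of_coprime hc hxy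

/-- every class size is at most `n * m` -/
theorem Cfg.ix_le (c : Cfg G n m) (g : G) : ix g ≤ n * m := by
  have h1 := c.one_lt_n
  have h2 := c.one_lt_m
  rcases c.cases g with h | h | h | h <;> rw [h]
  · nlinarith
  · nlinarith
  · nlinarith

/-- a divisor of `n` among the class sizes is `1` or `n` -/
theorem Cfg.eq_of_dvd_n (c : Cfg G n m) {g : G} (h : ix g ∣ n) : ix g = 1 ∨ ix g = n := by
  have h1 := c.one_lt_n
  have h2 := c.one_lt_m
  rcases c.cases g with h' | h' | h' | h'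
  · exact Or.inl h'
  · exact Or.inr h'
  · exfalso
    rw [h'] at h
    have := Nat.eq_one_of_dvd_coprimes c.cop h (dvd_refl m)
    omega
  · exfalso
    rw [h'] at h
    have hm : m ∣ n := dvd_trans (dvd_mul_left m n) h
    have := Nat.eq_one_of_dvd_coprimes c.cop hm (dvd_refl m)
    omega

/-- an element of index `n` has a primary power with the same centralizer. -/
theorem Cfg.exists_primary (c : Cfg G n m) {a : G} (ha : ix a = n) :
    ∃ (p : ℕ) (a' : G), p.Prime ∧ IsPrimary p a' ∧ a' ∈ zpowers a ∧ Cz a' = Cz a := by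
  have hn := c.one_lt_n
  have haZ : a ∉ center G := by
    intro h
    have := ix_eq_one_iff.2 h
    omega
  by_contra hcon
  apply haZ
  apply Helper19.MaxCent.mem_of_primary_parts (center G) a
  intro q hq k hk
  by_contra hnot
  apply hcon
  have hz : a ^ k ∈ zpowers a := Subgroup.pow_mem _ (Subgroup.mem_zpowers a) k
  have hle : Cz a ≤ Cz (a ^ k) := Cz_le_of_mem_zpowers hz
  have hd : ix (a ^ k) ∣ n := by
    have := ix_dvd_of_le hle
    rwa [ha] at this
  have hix : ix (a ^ k) = n := by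
    rcases c.eq_of_dvd_n hd with h | h
    · exact absurd (ix_eq_one_iff.1 h) hnot
    · exact h
  exact ⟨q, a ^ k, hq, hk, hz, (Cz_eq_of_le_of_ix hle (by rw [ha, hix])).symm⟩

/-- (L3) if `i(w) = nm`, `g ∈ C(w)` of order coprime to that of `w`, then `C(w) ≤ C(g)`. -/
theorem Cfg.Cz_le_of_nm (c : Cfg G n m) {w g : G} (hw : ix w = n * m) (hg : g ∈ Cz w)
    (hcop : (orderOf w).Coprime (orderOf g)) : Cz w ≤ Cz g := by
  have hc : w * g = g * w := mem_Cz.1 hg
  have h1 : Cz (w * g) = Cz w ⊓ Cz g := Cz_mul_of_coprime hc hcop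
  have hle : Cz (w * g) ≤ Cz w := by rw [h1]; exact inf_le_left
  have hd : ix w ∣ ix (w * g) := ix_dvd_of_le hle
  have hle2 := c.ix_le (w * g)
  have hpos : 0 < ix (w * g) := Nat.pos_of_ne_zero Subgroup.index_ne_zero_of_finite
  have heq : ix (w * g) = ix w := by
    have := Nat.le_of_dvd hpos hd
    rw [hw] at this ⊢
    omega
  have h2 : Cz (w * g) = Cz w := Cz_eq_of_le_of_ix hle heq
  rw [← h2, h1]
  exact inf_le_right

theorem factorization_card_Cz (g : G) (r : ℕ) :
    (Nat.card (Cz g)).factorization r + (ix g).factorization r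
      = (Nat.card G).factorization r := by
  have h1 : Nat.card (Cz g) * (Cz g).index = Nat.card G := Subgroup.card_mul_index (Cz g)
  have h2 : Nat.card (Cz g) ≠ 0 := Nat.card_pos.ne'
  have h3 : (Cz g).index ≠ 0 := Subgroup.index_ne_zero_of_finite
  rw [← h1, Nat.factorization_mul h2 h3]
  rfl

end Cfsg.Agent.Helper1.NM
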