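import Mathlib
import Cfsg.Agent.Lib.Helper1.NMDefs
import Cfsg.Agent.S4127

/-!
# S4146, piece FIN1: normal `p`-complement from S4127
-/

namespace Cfsg.Agent.Helper1.NM

open Subgroup

variable {G : Type*} [Group G] [Finite G] {n m : ℕ}

theorem Cfg.exists_compl (c : Cfg G n m) {p : ℕ} (hp : p.Prime) (hn : ∃ e : ℕ, n = p ^ e) {a : G}
    (ha : ix a = n) (hap : IsPrimary p a) :
    ∃ N : Subgroup G, N.Normal ∧ (Nat.card N).Coprime p ∧ ∃ k : ℕ, N.index = p ^ k := by
  haveI : Fact p.Prime := ⟨hp⟩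
  obtain ⟨e, he⟩ := hn
  have hn1 := c.one_lt_n
  have he0 : e ≠ 0 := by
    rintro rfl
    simp at he; omega
  have hpn : p ∣ n := by rw [he]; exact dvd_pow_self p he0
  have hpm : ¬ p ∣ m := fun h => hp.one_lt.ne' (Nat.eq_one_of_dvd_coprimes c.cop hpn h)
  have hmax : ∀ y : G, ¬ p ^ (e + 1) ∣ (Subgroup.centralizer ({y} : Set G)).index := by
    intro y hy
    have hy' : p ^ (e + 1) ∣ ix y := hy
    rcases c.cases y with h | h | h | h
    · rw [h] at hy'
      have := Nat.le_of_dvd one_pos hy'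
      have h2 : 1 < p ^ (e + 1) := Nat.one_lt_pow (by omega) hp.one_lt
      omega
    · rw [h, he] at hy'
      have := (Nat.pow_dvd_pow_iff_le_right hp.one_lt).1 hy'
      omega
    · rw [h] at hy'
      exact hpm (dvd_trans (dvd_pow_self p (by omega)) hy')
    · rw [h, he, pow_succ] at hy'
      have := Nat.dvd_of_mul_dvd_mul_left (pow_pos hp.pos e) hy'
      exact hpm this
  have hx : ∃ x : G, (∃ k : ℕ, orderOf x = p ^ k) ∧
      (Subgroup.centralizer ({x} : Set G)).index = p ^ e := by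
    refine ⟨a, hap, ?_⟩
    rw [← he]; exact ha
  obtain ⟨P, N, hN, hcompl⟩ := Cfsg.Agent.S4127.result p e hmax hx
  refine ⟨N, hN, ?_, ?_⟩
  · have h1 : (P : Subgroup G).index = Nat.card N := hcompl.index_eq_card
    rw [← h1]
    exact (Nat.Coprime.symm ((Nat.Prime.coprime_iff_not_dvd hp).2 P.not_dvd_index))
  · have h1 : N.index = Nat.card (P : Subgroup G) := hcompl.symm.index_eq_card
    rw [h1]
    exact (IsPGroup.iff_card.1 P.isPGroup')
    
end Cfsg.Agent.Helper1.NM
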