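import Mathlib
import Cfsg.Agent.Lib.Helper1.NMDefs
import Cfsg.Agent.Lib.Helper1.NMBAS1
import Cfsg.Agent.Lib.Helper16.NMBAS2

/-!
# S4146, piece KC2: the final contradiction in the AB branch
-/

namespace Cfsg.Agent.Helper1.NM

open Subgroup

variable {G : Type*} [Group G] [Finite G] {n m : ℕ}

theorem kc2_isPrimary_of_mem {r : ℕ} (hr : r.Prime) {R : Subgroup G} (hR : IsPGroup r R)
    {y : G} (hy : y ∈ R) : IsPrimary r y := by
  obtain ⟨k, hk⟩ := hR ⟨y, hy⟩
  have hk' : y ^ r ^ k = 1 := by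
    have := congrArg Subtype.val hk
    simpa using this
  obtain ⟨j, -, hj⟩ := (Nat.dvd_prime_pow hr).1 (orderOf_dvd_of_pow_eq_one hk')
  exact ⟨j, hj⟩

theorem kc2_coprime_orderOf {p r : ℕ} (hp : p.Prime) (hr : r.Prime) (hpr : p ≠ r)
    {x y : G} (hx : IsPrimary p x) (hy : IsPrimary r y) : (orderOf x).Coprime (orderOf y) := by
  obtain ⟨i, hi⟩ := hx
  obtain ⟨j, hj⟩ := hy
  rw [hi, hj]
  exact Nat.Coprime.pow _ _ ((Nat.coprime_primes hp hr).2 hpr)

theorem Cfg.typeC_false (c : Cfg G n m) (hAB : AB G n m) (M : Subgroup G) [M.Normal]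
    (hM : ∀ g : G, g ∈ M ↔ (ix g = 1 ∨ ix g = m)) (hMc : ∀ x ∈ M, ∀ y ∈ M, x * y = y * x)
    (hcent : ∀ a : G, ix a = n → ∀ b ∈ M, a * b = b * a)
    {p r : ℕ} (hp : p.Prime) (hr : r.Prime) (hpm : p ∣ m) (hrn : r ∣ n) {a x b' : G}
    (ha : ix a = n) (hap : IsPrimary p a) (hxp : IsPrimary p x) (hx : ix x = n * m)
    (hax : a * x = x * a) (hb'M : b' ∈ M) (hb'r : IsPrimary r b') (hxb' : x * b' ≠ b' * x) :
    False := by
  have hn1 := c.one_lt_n
  have hm1 := c.one_lt_m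
  have hrm : ¬ r ∣ m := fun h => hr.one_lt.ne' (Nat.eq_one_of_dvd_coprimes c.cop hrn h)
  have hpr : p ≠ r := by
    rintro rfl
    exact hrm hpm
  -- the `r`-part of `M`
  set Mr : Subgroup G := Helper19.MaxCent.qTors M hMc r with hMr
  have hMrn : Mr.Normal := Helper19.MaxCent.qTors_normal M hMc r
  have hMrP : IsPGroup r Mr := by
    rintro ⟨y, hy⟩
    obtain ⟨k, hk⟩ := (Helper19.MaxCent.mem_qTors.1 hy).2
    exact ⟨k, Subtype.ext (by simpa using hk)⟩
  have hb'Mr : b' ∈ Mr := by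
    obtain ⟨k, hk⟩ := hb'r
    exact Helper19.MaxCent.mem_qTors.2 ⟨hb'M, k, by rw [← hk]; exact pow_orderOf_eq_one b'⟩
  have hMra : Mr ≤ Cz a := by
    intro y hy
    exact mem_Cz.2 (hcent a ha y (Helper19.MaxCent.mem_qTors.1 hy).1)
  -- the `r`-parts of `|C(x)|` and `|C(a)|` agree
  have hfac : (Nat.card (Cz x)).factorization r = (Nat.card (Cz a)).factorization r := by
    have h1 := factorization_card_Cz x r
    have h2 := factorization_card_Cz a r
    have h3 : (ix x).factorization r = (ix a).factorization r := by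
      rw [hx, ha, Nat.factorization_mul (by omega) (by omega)]
      have : m.factorization r = 0 := Nat.factorization_eq_zero_of_not_dvd hrm
      simp [this]
    omega
  -- Sylow `r`-subgroup of `C(x)`
  obtain ⟨Rx, -, hRx, hRxP, hRxc⟩ := exists_sylow_in hr (Cz x) ⊥ IsPGroup.of_bot bot_le
  -- some element of `Rx` has index `nm`
  have hex : ∃ y ∈ Rx, ix y = n * m := by
    by_contra hcon
    push Not at hcon
    have hle : Rx ≤ Mr ⊓ Cz x := by
      intro y hy
      have hyr : IsPrimary r y := kc2_isPrimary_of_mem hr hRxP hy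
      have hyM : y ∈ M := by
        rw [hM]
        rcases c.cases y with h | h | h | h
        · exact Or.inl h
        · exact absurd (hAB.1 r y hr h hyr) hrm
        · exact Or.inr h
        · exact absurd h (hcon y hy)
      obtain ⟨k, hk⟩ := hyr
      exact Subgroup.mem_inf.2 ⟨Helper19.MaxCent.mem_qTors.2
        ⟨hyM, k, by rw [← hk]; exact pow_orderOf_eq_one y⟩, hRx hy⟩
    have hlt : Mr ⊓ Cz x < Mr := by
      refine lt_of_le_of_ne inf_le_left ?_
      intro h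
      have : b' ∈ Mr ⊓ Cz x := by rw [h]; exact hb'Mr
      exact hxb' (mem_Cz.1 (Subgroup.mem_inf.1 this).2)
    have h1 : Nat.card Rx ≤ Nat.card (Mr ⊓ Cz x : Subgroup G) := Subgroup.card_le_of_le hle
    have h2 : Nat.card (Mr ⊓ Cz x : Subgroup G) < Nat.card Mr := by
      apply lt_of_le_of_ne (Subgroup.card_le_of_le hlt.le)
      intro h
      exact hlt.ne (Subgroup.eq_of_le_of_card_ge hlt.le h.ge)
    obtain ⟨R', hMrR', -, -, hR'c⟩ := exists_sylow_in hr (Cz a) Mr hMrP hMra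
    have h3 : Nat.card Mr ≤ Nat.card R' := Subgroup.card_le_of_le hMrR'
    rw [hR'c, ← hfac, ← hRxc] at h3
    omega
  obtain ⟨y, hyR, hy⟩ := hex
  have hyr : IsPrimary r y := kc2_isPrimary_of_mem hr hRxP hyR
  have hyx : y ∈ Cz x := hRx hyR
  have hxy : x ∈ Cz y := mem_Cz_comm.1 hyx
  have hcop : (orderOf x).Coprime (orderOf y) := kc2_coprime_orderOf hp hr hpr hxp hyr
  have hW1 : Cz x ≤ Cz y := c.Cz_le_of_nm hx hyx hcop
  -- `C(x) ≤ C(a)`
  have hWa : Cz x ≤ Cz a := by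
    intro g hg
    have hay : a ∈ Cz y := hW1 (mem_Cz.2 hax.symm)
    obtain ⟨i, j, hdec, hpi, hcj, -⟩ := Helper19.ClassSize.exists_pow_decomp g p hp
    have hgi : g ^ i ∈ Cz x := Subgroup.pow_mem _ hg i
    have hgj : g ^ j ∈ Cz x := Subgroup.pow_mem _ hg j
    -- the `p'`-part
    have h1 : Cz x ≤ Cz (g ^ j) := by
      apply c.Cz_le_of_nm hx hgj
      obtain ⟨k, hk⟩ := hxp
      rw [hk]
      exact Nat.Coprime.pow_left _ hcj.symm
    -- the `p`-part
    have h2 : Cz y ≤ Cz (g ^ i) := by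
      apply c.Cz_le_of_nm hy (hW1 hgi)
      exact (kc2_coprime_orderOf hp hr hpr hpi hyr).symm
    have e1 : (g ^ j) * a = a * (g ^ j) := mem_Cz.1 (h1 (mem_Cz.2 hax.symm))
    have e2 : (g ^ i) * a = a * (g ^ i) := mem_Cz.1 (h2 hay)
    rw [mem_Cz, hdec]
    calc a * (g ^ i * g ^ j) = (a * g ^ i) * g ^ j := by group
      _ = (g ^ i * a) * g ^ j := by rw [e2]
      _ = g ^ i * (a * g ^ j) := by group
      _ = g ^ i * (g ^ j * a) := by rw [e1]
      _ = g ^ i * g ^ j * a := by group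
  -- `Rx` is a Sylow `r`-subgroup of `C(a)` and contains `Mr`
  have hle : Mr ≤ Rx := by
    apply le_of_normal_pgroup hr (Cz a) Rx Mr (hRx.trans hWa) hRxP (by rw [hRxc, hfac]) hMrP hMra
    intro h _ z hz
    exact hMrn.conj_mem z hz h
  exact hxb' (mem_Cz.1 (hRx (hle hb'Mr)))

end Cfsg.Agent.Helper1.NM
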