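import Mathlib
import Cfsg.Agent.Lib.Helper1.NMDefs
import Cfsg.Agent.Lib.Helper1.NMBAS1
import Cfsg.Agent.Lib.Helper1.NMFIN1
import Cfsg.Agent.Lib.Helper1.NMKC2
import Cfsg.Agent.Lib.Helper16.NMBAS2
import Cfsg.Agent.Lib.Helper16.NMFIN2
import Cfsg.Agent.Lib.Helper16.NMMSUB
import Cfsg.Agent.Lib.Helper16.NMMAB
import Cfsg.Agent.Lib.Helper16.NMGOOD1a
import Cfsg.Agent.Lib.Helper16.NMGOOD1b
import Cfsg.Agent.Lib.Helper16.NMGOOD2
import Cfsg.Agent.Lib.Helper17.NMCLSPROD
import Cfsg.Agent.Lib.Helper17.NMSTAB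
import Cfsg.Agent.Lib.Helper17.NMCARDT
import Cfsg.Agent.Lib.Helper17.NMSPLIT
import Cfsg.Agent.Lib.Helper6.NMKC1
import Cfsg.Agent.Lib.Helper6.NMKF1
import Cfsg.Agent.Lib.Helper6.NMKF2

/-!
# S4146: assembly
-/

namespace Cfsg.Agent.Helper1.NM

open Subgroup

variable {G : Type*} [Group G] [Finite G] {n m : ℕ}

theorem Cfg.type_dichotomy (c : Cfg G n m) (hlt : m < n) (M : Subgroup G) [M.Normal]
    (hM : ∀ g : G, g ∈ M ↔ (ix g = 1 ∨ ix g = m)) (hMc : ∀ x ∈ M, ∀ y ∈ M, x * y = y * x)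
    {p : ℕ} (hp : p.Prime) (hpm : p ∣ m) {a : G} (ha : ix a = n) (hap : IsPrimary p a) :
    (∀ b ∈ M, a * b = b * a) ∨
      (Nat.card (TM M) ∣ n ∧ M ⊓ Cz a = center G ∧
        TM M ⊓ center G = ⊥ ∧
        ∀ b ∈ M, ∃ z ∈ center G, ∃ t ∈ TM M, b = z * t) := by
  by_cases hcomm : ∀ b ∈ M, a * b = b * a
  · exact Or.inl hcomm
  · right
    push Not at hcomm
    have hstab := c.comm_stab hlt M hM hMc ha hcomm
    have hcard : Nat.card (TM M) ∣ n := by
      have := card_dvd_ix_of_stab (TM M) a hstab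
      rwa [ha] at this
    obtain ⟨h1, h2, h3⟩ := c.typeF_structure M hM hMc hp hpm ha hap hstab hcard
    exact ⟨hcard, h1, h2, h3⟩

theorem Cfg.AB_false (c : Cfg G n m) (hlt : m < n) (hAB : AB G n m) : False := by
  obtain ⟨M, hMn, hM⟩ := c.exists_M hlt
  have hMc := c.M_comm hAB.2 M hM
  have hcent : ∀ a : G, ix a = n → ∀ b ∈ M, a * b = b * a := by
    intro a0 ha0
    obtain ⟨p, a, hp, hap, haz, hCz⟩ := c.exists_primary ha0
    have ha : ix a = n := by
      show (Cz a).index = n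
      rw [hCz]; exact ha0
    have hpm : p ∣ m := hAB.1 p a hp ha hap
    rcases c.type_dichotomy hlt M hM hMc hp hpm ha hap with h | ⟨hcard, hCM, hTZ, hMZT⟩
    · intro b hb
      have hb' : b ∈ Cz a := mem_Cz.2 (h b hb)
      rw [hCz] at hb'
      exact mem_Cz.1 hb'
    · exfalso
      set T := TM M with hT
      have hTM : T ≤ M := Subgroup.commutator_le_right ⊤ M
      have hT1 : T ≠ ⊥ := by
        intro hbot
        -- then M ≤ Z, contradicting the existence of an element of index m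
        obtain ⟨b, hb⟩ := c.exm
        have hbM : b ∈ M := (hM b).2 (Or.inr hb)
        obtain ⟨z, hz, t, ht, hbzt⟩ := hMZT b hbM
        rw [hbot, Subgroup.mem_bot] at ht
        have hbz : b ∈ center G := by rw [hbzt, ht, mul_one]; exact hz
        have h1 : ix b = 1 := ix_eq_one_iff.2 hbz
        have := c.one_lt_m
        omega
      obtain ⟨r, hr, hrT⟩ : ∃ r : ℕ, r.Prime ∧ r ∣ Nat.card T := by
        apply Nat.exists_prime_and_dvd
        intro h1
        exact hT1 (Subgroup.card_eq_one.1 h1)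
      have hcen := c.typeF_sylow_central hAB.1 M hM hp hpm ha hap T hTM hcard hTZ hCM hr hrT
      exact c.typeF_false M hM hMc ha T hTM hcard hTZ hMZT hr hrT hcen
  obtain ⟨p, r, a, x, b', hp, hr, hpm, hrn, ha, hap, hxp, hx, hax, hb'M, hb'r, hxb'⟩ :=
    c.typeC_data hAB M hM hMc hcent
  exact c.typeC_false hAB M hM hMc hcent hp hr hpm hrn ha hap hxp hx hax hb'M hb'r hxb'

theorem Cfg.good_step (c : Cfg G n m) {q : ℕ} (hq : q.Prime) (hqn : ¬ q ∣ n) {b : G}
    (hb : ix b = m) (hbq : IsPrimary q b) :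
    ∃ (p : ℕ) (a : G), p.Prime ∧ (∃ e : ℕ, n = p ^ e) ∧ ix a = n ∧ IsPrimary p a := by
  obtain ⟨Q, K, hQb, hKb, hQ, hK, hQK, hprod, hcs⟩ := c.good_split hq hqn hb hbq
  exact c.good_finish hq hqn hb hbq (fun a ha => c.mem_Cz_of_good hq hqn hb hbq ha)
    Q K hQb hKb hQ hK hQK hprod hcs

theorem Cfg.finish (c : Cfg G n m) {p q : ℕ} (hp : p.Prime) (hq : q.Prime)
    (hn : ∃ e : ℕ, n = p ^ e) (hm : ∃ f : ℕ, m = q ^ f) {a b : G} (ha : ix a = n)
    (hap : IsPrimary p a) (hb : ix b = m) (hbq : IsPrimary q b) :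
    Group.IsNilpotent G ∧ IsPrimePow n ∧ IsPrimePow m := by
  obtain ⟨N₁, hN₁, hc1, hi1⟩ := c.exists_compl hp hn ha hap
  obtain ⟨N₂, hN₂, hc2, hi2⟩ := c.symm.exists_compl hq hm hb hbq
  obtain ⟨e, he⟩ := hn
  obtain ⟨f, hf⟩ := hm
  have he0 : e ≠ 0 := by
    rintro rfl
    have := c.one_lt_n
    simp at he; omega
  have hf0 : f ≠ 0 := by
    rintro rfl
    have := c.one_lt_m
    simp at hf; omega
  refine ⟨?_, ?_, ?_⟩
  · apply nilpotent_of_compl hp hq N₁ N₂ hi1 hi2
    intro g hg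
    apply c.central_of_coprime
    have h1 : orderOf g ∣ Nat.card N₁ := by
      have := Subgroup.orderOf_dvd_natCard N₁ (Subgroup.mem_inf.1 hg).1
      exact this
    have h2 : orderOf g ∣ Nat.card N₂ := by
      have := Subgroup.orderOf_dvd_natCard N₂ (Subgroup.mem_inf.1 hg).2
      exact this
    rw [he, hf]
    apply Nat.Coprime.mul_right
    · exact Nat.Coprime.pow_right _ (Nat.Coprime.coprime_dvd_left h1 hc1)
    · exact Nat.Coprime.pow_right _ (Nat.Coprime.coprime_dvd_left h2 hc2)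
  · rw [he]
    exact hp.isPrimePow.pow he0
  · rw [hf]
    exact hq.isPrimePow.pow hf0

theorem Cfg.main (c : Cfg G n m) : Group.IsNilpotent G ∧ IsPrimePow n ∧ IsPrimePow m := by
  by_cases hAB : AB G n m
  · exfalso
    rcases lt_or_gt_of_ne c.ne with hlt | hlt
    · exact c.symm.AB_false hlt hAB.symm
    · exact c.AB_false hlt hAB
  · -- a good element exists
    have hgood : (∃ (p : ℕ) (a : G), p.Prime ∧ ix a = n ∧ IsPrimary p a ∧ ¬ p ∣ m) ∨
        (∃ (q : ℕ) (b : G), q.Prime ∧ ix b = m ∧ IsPrimary q b ∧ ¬ q ∣ n) := by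
      by_contra hcon
      push Not at hcon
      exact hAB ⟨fun p a hp ha hap => hcon.1 p a hp ha hap, fun q b hq hb hbq => hcon.2 q b hq hb hbq⟩
    rcases hgood with ⟨p, a, hp, ha, hap, hpm⟩ | ⟨q, b, hq, hb, hbq, hqn⟩
    · -- good a: get m = q^f and a q-element b of index m, which is good; then n = p'^e
      obtain ⟨q, b, hq, hm, hb, hbq⟩ := c.symm.good_step hp hpm ha hap
      have hqn : ¬ q ∣ n := by
        obtain ⟨f, hf⟩ := hm
        intro hqn
        have hf0 : f ≠ 0 := by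
          rintro rfl
          have := c.one_lt_m
          simp at hf; omega
        have hqm : q ∣ m := by rw [hf]; exact dvd_pow_self q hf0
        have := Nat.eq_one_of_dvd_coprimes c.cop hqn hqm
        exact hq.one_lt.ne' this
      obtain ⟨p', a', hp', hn, ha', hap'⟩ := c.good_step hq hqn hb hbq
      exact c.finish hp' hq hn hm ha' hap' hb hbq
    · obtain ⟨p, a, hp, hn, ha, hap⟩ := c.good_step hq hqn hb hbq
      have hpm : ¬ p ∣ m := by
        obtain ⟨e, he⟩ := hn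
        intro hpm
        have he0 : e ≠ 0 := by
          rintro rfl
          have := c.one_lt_n
          simp at he; omega
        have hpn : p ∣ n := by rw [he]; exact dvd_pow_self p he0
        have := Nat.eq_one_of_dvd_coprimes c.cop hpn hpm
        exact hp.one_lt.ne' this
      obtain ⟨q', b', hq', hm, hb', hbq'⟩ := c.symm.good_step hp hpm ha hap
      exact c.finish hp hq' hn hm ha hap hb' hbq'

end Cfsg.Agent.Helper1.NM
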