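import Mathlib
import Cfsg.Prelude.Def_LocalStructure

/-!
# S3875 piece NS1 (helper1), core: a minimal non-`p`-closed non-simple group is `P N` with `N` a minimal normal
`r`-subgroup.  The piece SUP enters as the hypothesis `hsup`.
-/

set_option autoImplicit false
set_option linter.style.haveILetI false
set_option linter.unusedVariables false
open Cfsg
open scoped Pointwise

namespace Cfsg.Agent.Helper15.NPC

namespace NS1

/-- a normal Sylow `p`-subgroup makes the group `p`-closed -/
theorem isPClosed_of_normal {G : Type*} [Group G] [Finite G] {p : ℕ} [Fact p.Prime] (P : Sylow p G)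
    (h : (P : Subgroup G).Normal) : IsPClosed p G := by
  intro Q
  haveI : Subsingleton (Sylow p G) := (Sylow.unique_of_normal P h).instSubsingleton
  have : Q = P := Subsingleton.elim Q P
  rw [this]
  exact h

theorem core {G : Type*} [Group G] [Finite G] {p : ℕ} [Fact p.Prime]
    (hnc : ¬ IsPClosed p G) (hsub : ∀ H : Subgroup G, H ≠ ⊤ → IsPClosed p ↥H)
    (hsup : ∀ (N : Subgroup G) [N.Normal], N ≠ ⊥ → ∀ P : Sylow p G, (P : Subgroup G) ⊔ N = ⊤)
    (hns : ¬ IsSimpleGroup G) (P : Sylow p G) :
    ∃ (N : Subgroup G) (r : ℕ), N.Normal ∧ r.Prime ∧ r ≠ p ∧ IsPGroup r ↥N ∧ N ≠ ⊥ ∧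
      (P : Subgroup G) ⊔ N = ⊤ ∧ ∀ K : Subgroup G, K.Normal → K ≤ N → K = ⊥ ∨ K = N := by
  classical
  -- `G` is nontrivial
  have hnt : Nontrivial G := by
    by_contra hcon
    rw [not_nontrivial_iff_subsingleton] at hcon
    apply hnc
    intro Q
    have : (Q : Subgroup G) = ⊤ := Subsingleton.elim _ _
    rw [this]
    infer_instance
  -- a proper nontrivial normal subgroup
  have hex : ∃ N : Subgroup G, N.Normal ∧ N ≠ ⊥ ∧ N ≠ ⊤ := by
    by_contra hcon
    push Not at hcon
    apply hns
    refine ⟨fun H hH => ?_⟩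
    by_cases h : H = ⊥
    · left; exact h
    · right; exact hcon H hH h
  -- one of least order
  obtain ⟨N, ⟨hNn, hN1, hNT⟩, hNmin⟩ :=
    Set.exists_min_image {N : Subgroup G | N.Normal ∧ N ≠ ⊥ ∧ N ≠ ⊤} (fun N => Nat.card N)
      (Set.toFinite _) hex
  haveI := hNn
  have hmin : ∀ K : Subgroup G, K.Normal → K ≤ N → K = ⊥ ∨ K = N := by
    intro K hK hKN
    by_cases hK1 : K = ⊥
    · left; exact hK1
    · right
      have hKT : K ≠ ⊤ := by
        rintro rfl
        exact hNT (top_le_iff.1 hKN)
      exact Subgroup.eq_of_le_of_card_ge hKN (hNmin K ⟨hK, hK1, hKT⟩)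
  have hPN := hsup N hN1 P
  have hPnn : ¬ (P : Subgroup G).Normal := fun h => hnc (isPClosed_of_normal P h)
  -- `p` does not divide `|N|`
  have hpN : ¬ p ∣ Nat.card N := by
    intro hdvd
    have hcl := hsub N hNT
    obtain ⟨Q⟩ : Nonempty (Sylow p N) := inferInstance
    have hQn : (Q : Subgroup N).Normal := hcl Q
    haveI hQc : (Q : Subgroup N).Characteristic := Sylow.characteristic_of_normal Q hQn
    have hDn : ((Q : Subgroup N).map N.subtype).Normal := inferInstance
    have hD1 : (Q : Subgroup N).map N.subtype ≠ ⊥ := by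
      rw [Ne, Subgroup.map_eq_bot_iff_of_injective _ N.subtype_injective]
      exact Q.ne_bot_of_dvd_card hdvd
    have hDN : (Q : Subgroup N).map N.subtype = N :=
      (hmin _ hDn (Subgroup.map_subtype_le _)).resolve_left hD1
    have hNp : IsPGroup p N := by
      have : IsPGroup p ((Q : Subgroup N).map N.subtype) := Q.isPGroup'.map _
      rwa [hDN] at this
    have hGp : IsPGroup p (⊤ : Subgroup G) := by
      rw [← hPN]
      exact P.isPGroup'.to_sup_of_normal_right hNp
    have hPT : (P : Subgroup G) = ⊤ := (P.is_maximal' hGp le_top).symm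
    apply hPnn
    rw [hPT]
    infer_instance
  -- `N` does not normalize `P`
  have hNle : ¬ N ≤ Subgroup.normalizer (P : Set G) := by
    intro hle
    apply hPnn
    rw [← Subgroup.normalizer_eq_top_iff, eq_top_iff, ← hPN]
    exact sup_le Subgroup.le_normalizer hle
  have hrel : (Subgroup.normalizer (P : Set G)).relIndex N ≠ 1 := by
    rw [Ne, Subgroup.relIndex_eq_one]
    exact hNle
  obtain ⟨r, hr, hrdvd⟩ := Nat.exists_prime_and_dvd hrel
  haveI : Fact r.Prime := ⟨hr⟩
  have hrN : r ∣ Nat.card N := hrdvd.trans (Subgroup.relIndex_dvd_card _ _)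
  -- a `P`-invariant Sylow `r`-subgroup of `N`
  let Pm : Subgroup (MulAut N) := (P : Subgroup G).map (MulAut.conjNormal (H := N))
  have hPm : IsPGroup p Pm := P.isPGroup'.map _
  have hcard : ¬ p ∣ Nat.card (Sylow r N) := by
    intro hd
    obtain ⟨R0⟩ : Nonempty (Sylow r N) := inferInstance
    exact hpN ((hd.trans R0.card_dvd_index).trans (Subgroup.index_dvd_card _))
  obtain ⟨R, hR⟩ := hPm.nonempty_fixed_point_of_prime_not_dvd_card (Sylow r N) hcard
  rw [MulAction.mem_fixedPoints] at hR
  set R' : Subgroup G := (R : Subgroup N).map N.subtype with hR'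
  have hR'N : R' ≤ N := Subgroup.map_subtype_le _
  have hconj : ∀ x ∈ (P : Subgroup G), ∀ y ∈ R', x * y * x⁻¹ ∈ R' := by
    rintro x hx y ⟨n, hn, rfl⟩
    have hg : MulAut.conjNormal (H := N) x ∈ Pm := Subgroup.mem_map_of_mem _ hx
    have h1 := hR ⟨_, hg⟩
    have h2 : (MulAut.conjNormal (H := N) x) • n ∈
        (MulAut.conjNormal (H := N) x) • (R : Subgroup N) :=
      Subgroup.smul_mem_pointwise_smul n _ _ hn
    have h3 : (MulAut.conjNormal (H := N) x) • (R : Subgroup N) = (R : Subgroup N) := by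
      have := congrArg (fun S : Sylow r N => (S : Subgroup N)) h1
      exact this
    rw [h3] at h2
    refine ⟨_, h2, ?_⟩
    rw [MulAut.smul_def]
    exact MulAut.conjNormal_apply x n
  have hPnorm : (P : Subgroup G) ≤ Subgroup.normalizer (R' : Set G) := by
    intro x hx
    rw [Subgroup.mem_normalizer_iff]
    intro y
    constructor
    · exact hconj x hx y
    · intro hy
      have := hconj x⁻¹ (inv_mem hx) _ hy
      have e : x⁻¹ * (x * y * x⁻¹) * x⁻¹⁻¹ = y := by group
      rwa [e] at this
  -- `R'` is not inside the normalizer of `P`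
  have hRnot : ¬ R' ≤ Subgroup.normalizer (P : Set G) := by
    intro hle
    have h1 : (R : Subgroup N) ≤ (Subgroup.normalizer (P : Set G)).subgroupOf N := by
      intro n hn
      rw [Subgroup.mem_subgroupOf]
      exact hle ⟨n, hn, rfl⟩
    have h2 := Subgroup.index_dvd_of_le h1
    have h3 : r ∣ (R : Subgroup N).index := hrdvd.trans h2
    exact R.not_dvd_index h3
  -- `P ⊔ R' = ⊤`
  have hH : (P : Subgroup G) ⊔ R' = ⊤ := by
    by_contra hne
    have hcl := hsub _ hne
    have hPle : (P : Subgroup G) ≤ (P : Subgroup G) ⊔ R' := le_sup_left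
    have := hcl (P.subtype hPle)
    rw [Sylow.coe_subtype, Subgroup.normal_subgroupOf_iff_le_normalizer hPle] at this
    exact hRnot (le_sup_right.trans this)
  have hR'n : R'.Normal := by
    rw [← Subgroup.normalizer_eq_top_iff, eq_top_iff, ← hH]
    exact sup_le hPnorm Subgroup.le_normalizer
  have hR'1 : R' ≠ ⊥ := by
    rw [hR', Ne, Subgroup.map_eq_bot_iff_of_injective _ N.subtype_injective]
    exact R.ne_bot_of_dvd_card hrN
  have hR'eq : R' = N := (hmin R' hR'n hR'N).resolve_left hR'1
  have hNr : IsPGroup r N := by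
    have : IsPGroup r R' := R.isPGroup'.map _
    rwa [hR'eq] at this
  have hrp : r ≠ p := by
    rintro rfl
    exact hpN hrN
  exact ⟨N, r, hNn, hr, hrp, hNr, hN1, hPN, hmin⟩

end NS1

end Cfsg.Agent.Helper15.NPC
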