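import Mathlib
import Cfsg.Prelude.Def_LocalStructure
import Cfsg.Agent.Lib.Helper25.NPCSUP
import Cfsg.Agent.Lib.Helper1.NPCNS1Core

/-!
# S3875 piece NS1 (helper1): `exists_normal_complement` with the exact signature of `plans/S3875_Skel.lean.txt`
-/

set_option autoImplicit false
set_option linter.style.haveILetI false
open Cfsg

namespace Cfsg.Agent.Helper15.NPC

theorem exists_normal_complement {G : Type*} [Group G] [Finite G] {p : ℕ} [Fact p.Prime]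
    (hnc : ¬ IsPClosed p G) (hsub : ∀ H : Subgroup G, H ≠ ⊤ → IsPClosed p ↥H)
    (hquo : ∀ (N : Subgroup G) [N.Normal], N ≠ ⊥ → IsPClosed p (G ⧸ N))
    (hns : ¬ IsSimpleGroup G) (P : Sylow p G) :
    ∃ (N : Subgroup G) (r : ℕ), N.Normal ∧ r.Prime ∧ r ≠ p ∧ IsPGroup r ↥N ∧ N ≠ ⊥ ∧
      (P : Subgroup G) ⊔ N = ⊤ ∧ ∀ K : Subgroup G, K.Normal → K ≤ N → K = ⊥ ∨ K = N :=
  NS1.core hnc hsub (fun N _ hN1 Q => sup_eq_top hnc hsub N (hquo N hN1) Q) hns P

end Cfsg.Agent.Helper15.NPC
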