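import Mathlib
import Cfsg.Agent.Lib.Helper28.O5040STEP3
import Cfsg.Agent.Lib.Helper10.BrSieve
import Cfsg.Agent.Lib.Helper10.BR996Asm
import Cfsg.Agent.Lib.Helper24.GlaubPGroup
import Cfsg.Agent.Lib.Helper23.BlockIdem
import Cfsg.Agent.Lib.Helper17.BTRED
import Cfsg.Agent.S4441

/-!
# S0978 (no simple group of order 5040), piece B2 (helper1)

Case B2: `|N(P) : C(P)| = 3`, `|C(P)| = 14` for a Sylow 7-subgroup `P`.  S4441 (`p = 7`, `e = 3`) gives
`B₀ = X ∪ Y`, `X = {1, χ₂, χ₃}`, `Y = {θ, θ'}`; STEP3 with an involution `t ∈ C(P)` forces the degrees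
`15, 20` (signs `+, -`), `θ(1) = 4`, `ε = -1`, `χ₁₅(t) = -13`, `χ₂₀(t) = -8`, hence `θ(t) = 4 = θ(1)`:
`t` is in the kernel of the nonprincipal `θ`, a contradiction.
-/

set_option autoImplicit false
set_option linter.unusedSectionVars false
set_option linter.unusedVariables false
set_option linter.style.haveILetI false
open Cfsg

namespace Cfsg.Agent.Helper28.Ord5040

namespace B2

/-- divisors of `5040` up to `70` -/
theorem small_divisor {d : ℕ} (hd : d ∣ 5040) (hle : d ≤ 70) :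
    d = 1 ∨ d = 2 ∨ d = 3 ∨ d = 4 ∨ d = 5 ∨ d = 6 ∨ d = 7 ∨ d = 8 ∨ d = 9 ∨ d = 10 ∨ d = 12 ∨
      d = 14 ∨ d = 15 ∨ d = 16 ∨ d = 18 ∨ d = 20 ∨ d = 21 ∨ d = 24 ∨ d = 28 ∨ d = 30 ∨ d = 35 ∨
      d = 36 ∨ d = 40 ∨ d = 42 ∨ d = 45 ∨ d = 48 ∨ d = 56 ∨ d = 60 ∨ d = 63 ∨ d = 70 := by
  have h0 : 0 < d := Nat.pos_of_dvd_of_pos hd (by norm_num)
  interval_cases d <;> omega

/-- the possible degrees of a nonprincipal member of `X` -/
theorem deg_list {c : ℕ} {e : ℤ} (he : e = 1 ∨ e = -1) (hd : c ∣ 5040) (hsq : c ^ 2 ≤ 5040)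
    (h14 : 14 ≤ c) (hmod : (7 : ℤ) ∣ e - c) :
    (e = 1 ∧ (c = 15 ∨ c = 36)) ∨ (e = -1 ∧ (c = 20 ∨ c = 48)) := by
  have h70 : c ≤ 70 := by nlinarith
  have hl := small_divisor hd h70
  rcases he with rfl | rfl <;> omega

/-- the arithmetic of case B2 -/
theorem arith (c2 c3 y j2 j3 : ℕ) (e2 e3 e : ℤ) (he2 : e2 = 1 ∨ e2 = -1)
    (he3 : e3 = 1 ∨ e3 = -1) (he : e = 1 ∨ e = -1)
    (hd2 : c2 ∣ 5040) (hd3 : c3 ∣ 5040) (hdy : y ∣ 5040)
    (hsq2 : c2 ^ 2 ≤ 5040) (hsq3 : c3 ^ 2 ≤ 5040) (hsqy : y ^ 2 ≤ 5040)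
    (hm2 : (7 : ℤ) ∣ e2 - c2) (hm3 : (7 : ℤ) ∣ e3 - c3)
    (hj2 : 1 ≤ j2) (hj3 : 1 ≤ j3) (hb2 : 14 * j2 ≤ c2) (hb3 : 14 * j3 ≤ c3)
    (hrel : e * y = 1 + e2 * c2 + e3 * c3) :
    e * (1 + e2 * ((c2 : ℤ) - 28 * j2) + e3 * ((c3 : ℤ) - 28 * j3)) = y := by
  have h2 := deg_list he2 hd2 hsq2 (by omega) hm2
  have h3 := deg_list he3 hd3 hsq3 (by omega) hm3
  have hy70 : y ≤ 70 := by nlinarith
  have hyl := small_divisor hdy hy70
  rcases h2 with ⟨rfl, rfl | rfl⟩ | ⟨rfl, rfl | rfl⟩ <;>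
    rcases h3 with ⟨rfl, rfl | rfl⟩ | ⟨rfl, rfl | rfl⟩ <;>
    rcases he with rfl | rfl <;> omega

end B2

open Cfsg.Agent.Helper24 Cfsg.Agent.Helper10

variable {G : Type*} [Group G] [Finite G] [IsSimpleGroup G]

theorem case_B2 (h : Nat.card G = 5040) (hG : ∃ x y : G, x * y ≠ y * x) (P : Sylow 7 G)
    (hP : Nat.card (P : Subgroup G) = 7)
    (hk : (Subgroup.centralizer ((P : Subgroup G) : Set G)).relIndex
      (Subgroup.normalizer ((P : Subgroup G) : Set G)) = 3)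
    (hc : Nat.card (Subgroup.centralizer ((P : Subgroup G) : Set G)) = 14) : False := by
  classical
  haveI : Fact (Nat.Prime 7) := ⟨by norm_num⟩
  haveI : Fact (Nat.Prime 2) := ⟨by norm_num⟩
  haveI : Fintype G := Fintype.ofFinite G
  haveI : Fintype (IrrCharacter G) := Cfsg.Agent.Helper24.irrFintype
  obtain ⟨M, hM⟩ := Cfsg.Agent.Helper24.Glaub.exists_isPModular (p := 7) (by norm_num)
  haveI hMp : M.IsPrime := hM.2.1.isPrime
  obtain ⟨X, Y, hB, hdisj, hcX, hcY, εX, ε, hX, hε, hYdeg, hYreg, hYeq⟩ :=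
    Cfsg.Agent.S4441.result 7 M hM (by norm_num) P hP 3 hk
  -- an involution `t ∈ C(P)`
  obtain ⟨t0, ht0⟩ := exists_prime_orderOf_dvd_card' (G :=
    Subgroup.centralizer ((P : Subgroup G) : Set G)) 2 (by rw [hc]; norm_num)
  have ht : orderOf (t0 : G) = 2 := by rw [Subgroup.orderOf_coe]; exact ht0
  have htC : (t0 : G) ∈ Subgroup.centralizer ((P : Subgroup G) : Set G) := t0.2
  generalize (t0 : G) = t at ht htC
  have hsq := sum_charDegree_sq (G := G)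
  rw [h] at hsq
  have hdvd : ∀ χ : IrrCharacter G, charDegree (χ : G → ℂ) ∣ 5040 := fun χ => by
    rw [← h]; exact charDegree_dvd_card χ.2
  have hsqle : ∀ χ : IrrCharacter G, charDegree (χ : G → ℂ) ^ 2 ≤ 5040 := fun χ => by
    rw [← hsq]
    exact Finset.single_le_sum (f := fun χ : IrrCharacter G => charDegree (χ : G → ℂ) ^ 2)
      (fun _ _ => Nat.zero_le _) (Finset.mem_univ χ)
  have h1reg : ¬ 7 ∣ orderOf (1 : G) := by
    rw [orderOf_one]; norm_num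
  have htreg : ¬ 7 ∣ orderOf t := by
    rw [ht]; norm_num
  -- `Y` is nonempty
  have hcY2 : Y.ncard = 2 := by
    rw [← Nat.card_coe_set_eq, hcY]
  have hYfin : Y.Finite := Set.finite_of_ncard_ne_zero (by rw [hcY2]; norm_num)
  obtain ⟨θ, hθ⟩ : Y.Nonempty := by
    rw [← Set.ncard_pos hYfin, hcY2]; norm_num
  set y := charDegree (θ : G → ℂ) with hy
  -- the principal character is in `X`
  have hprinc : principalChar G ∈ principalBlock M G :=
    Cfsg.Agent.Helper23.Blk.mem_blockOf_self (principalChar G)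
  rw [hB] at hprinc
  have hpX : principalChar G ∈ X := by
    rcases hprinc with hp | hp
    · exact hp
    · exfalso
      have hm := (hYdeg _ hp).dvd
      rw [BR996.Asm.charDegree_principal] at hm
      push_cast at hm
      rcases hε with he | he <;> rw [he] at hm <;> omega
  have hθne : θ ≠ principalChar G := by
    intro he
    rw [he] at hθ
    exact Set.disjoint_left.1 hdisj hpX hθ
  -- `X = {1, χ₂, χ₃}`
  have hcX3 : X.ncard = 3 := by
    rw [← Nat.card_coe_set_eq, hcX]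
  obtain ⟨u, v, w, huv, huw, hvw, hXuvw⟩ := Set.ncard_eq_three.1 hcX3
  obtain ⟨χ2, χ3, hχ2, hχ3, hχ23, hXeq⟩ : ∃ χ2 χ3 : IrrCharacter G, χ2 ≠ principalChar G ∧
      χ3 ≠ principalChar G ∧ χ2 ≠ χ3 ∧ X = {principalChar G, χ2, χ3} := by
    rw [hXuvw] at hpX
    rcases hpX with hp | hp | hp
    · exact ⟨v, w, fun hv => huv (hp.symm.trans hv.symm), fun hw => huw (hp.symm.trans hw.symm), hvw,
        by rw [hXuvw, hp]⟩
    · refine ⟨u, w, fun hu => huv (hu.trans hp), fun hw => hvw (hp.symm.trans hw.symm), huw, ?_⟩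
      rw [hXuvw, hp]
      ext z
      simp only [Set.mem_insert_iff, Set.mem_singleton_iff]
      tauto
    · rw [Set.mem_singleton_iff] at hp
      refine ⟨u, v, fun hu => huw (hu.trans hp), fun hv => hvw (hv.trans hp), huv, ?_⟩
      rw [hXuvw, hp]
      ext z
      simp only [Set.mem_insert_iff, Set.mem_singleton_iff]
      tauto
  have hχ2X : χ2 ∈ X := by rw [hXeq]; simp
  have hχ3X : χ3 ∈ X := by rw [hXeq]; simp
  have hsum : ∀ f : IrrCharacter G → ℂ, ∑ᶠ χ ∈ X, f χ = f (principalChar G) + f χ2 + f χ3 := by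
    intro f
    rw [hXeq, finsum_mem_insert f (by simp [Ne.symm hχ2, Ne.symm hχ3]) (Set.toFinite _),
      finsum_mem_pair hχ23, add_assoc]
  obtain ⟨hε1, hm1, -⟩ := hX _ hpX
  obtain ⟨he2, hm2, hv2⟩ := hX _ hχ2X
  obtain ⟨he3, hm3, hv3⟩ := hX _ hχ3X
  rw [BR996.Asm.charDegree_principal] at hm1
  have hε1' : εX (principalChar G) = 1 := by
    have hm := hm1.dvd
    push_cast at hm
    rcases hε1 with h1 | h1
    · exact h1
    · exfalso
      rw [h1] at hm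
      omega
  have hp1 : ∀ g : G, ((principalChar G : IrrCharacter G) : G → ℂ) g = 1 := fun _ => rfl
  -- STEP3 for `χ₂`, `χ₃`
  have hnp : ∀ χ : IrrCharacter G, χ ≠ principalChar G → ∃ g : G, (χ : G → ℂ) g ≠ 1 := by
    intro χ hχ
    by_contra hcon
    push_neg at hcon
    exact hχ (Subtype.ext (funext fun g => by rw [hcon g, hp1 g]))
  obtain ⟨j2, hj2, hχ2t, hb2⟩ := step3 hG 7 (by norm_num) P hP t ht htC χ2 (hnp χ2 hχ2) (εX χ2) hv2
  obtain ⟨j3, hj3, hχ3t, hb3⟩ := step3 hG 7 (by norm_num) P hP t ht htC χ3 (hnp χ3 hχ3) (εX χ3) hv3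
  -- relations at `1` and at `t`
  have heq1 := hYeq θ hθ 1 h1reg
  have heqt := hYeq θ hθ t htreg
  rw [hsum, hε1', hp1, irr_one_eq_charDegree θ.2, irr_one_eq_charDegree χ2.2,
    irr_one_eq_charDegree χ3.2] at heq1
  rw [hsum, hε1', hp1, hχ2t, hχ3t] at heqt
  have heqZ : ε * (y : ℤ) = 1 + εX χ2 * (charDegree (χ2 : G → ℂ) : ℤ) +
      εX χ3 * (charDegree (χ3 : G → ℂ) : ℤ) := by
    have : ((ε * (y : ℤ) : ℤ) : ℂ) = ((1 + εX χ2 * (charDegree (χ2 : G → ℂ) : ℤ) +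
        εX χ3 * (charDegree (χ3 : G → ℂ) : ℤ) : ℤ) : ℂ) := by
      push_cast
      rw [heq1]
      ring
    exact_mod_cast this
  have hm2' := hm2.dvd
  have hm3' := hm3.dvd
  push_cast at hm2' hm3'
  have hfin := B2.arith (charDegree (χ2 : G → ℂ)) (charDegree (χ3 : G → ℂ)) y j2 j3 (εX χ2) (εX χ3) ε
    he2 he3 hε (hdvd χ2) (hdvd χ3) (hdvd θ) (hsqle χ2) (hsqle χ3) (hsqle θ) hm2' hm3' hj2 hj3
    (by omega) (by omega) heqZ
  -- `θ(t) = θ(1)`
  have hεsq : (ε : ℂ) * (ε : ℂ) = 1 := by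
    rcases hε with he | he <;> rw [he] <;> push_cast <;> ring
  have hθt : (θ : G → ℂ) t = (θ : G → ℂ) 1 := by
    rw [irr_one_eq_charDegree θ.2]
    have h1 : (θ : G → ℂ) t = (ε : ℂ) * ((ε : ℂ) * (θ : G → ℂ) t) := by
      rw [← mul_assoc, hεsq, one_mul]
    rw [h1, heqt]
    have h2 : ((ε * (1 + εX χ2 * ((charDegree (χ2 : G → ℂ) : ℤ) - 28 * j2) +
        εX χ3 * ((charDegree (χ3 : G → ℂ) : ℤ) - 28 * j3)) : ℤ) : ℂ) = ((y : ℤ) : ℂ) := by
      rw [hfin]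
    push_cast at h2
    rw [← h2]
    ring
  have ht1 := Cfsg.Agent.Helper21.BT.RED.faithful_of_simple θ hθne t hθt
  rw [ht1, orderOf_one] at ht
  omega

end Cfsg.Agent.Helper28.Ord5040
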