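import Mathlib
import Cfsg.Agent.Lib.Helper5.BRP0
import Cfsg.Agent.Lib.Helper24.CharComplete
import Cfsg.Agent.S0189

/-!
# S0978 (no simple group of order 5040), piece B3DEG (helper1)

Case B3 (`C(P) = P`, `|N(P) : P| = 6` for a Sylow 7-subgroup): Brauer's theorem (`brauer_interface`,
`p = 7`, `w = 6`) shows that every irreducible degree is `0, 1` or `6` modulo `7`, and that a character of
degree `6` has the value `-1` on `P ∖ 1`.
-/

set_option autoImplicit false
set_option linter.unusedSectionVars false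
set_option linter.unusedVariables false
open Cfsg

namespace Cfsg.Agent.Helper28.Ord5040

variable {G : Type*} [Group G] [Finite G] [IsSimpleGroup G]

/-- B3, step (i): allowed degrees from Brauer at `p = 7`. -/
theorem b3_degrees (h : Nat.card G = 5040) (P : Sylow 7 G)
    (hP : Nat.card (P : Subgroup G) = 7)
    (hk : (Subgroup.centralizer ((P : Subgroup G) : Set G)).relIndex
      (Subgroup.normalizer ((P : Subgroup G) : Set G)) = 6)
    (hc : Nat.card (Subgroup.centralizer ((P : Subgroup G) : Set G)) = 7)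
    (χ : IrrCharacter G) :
    (charDegree (χ : G → ℂ) % 7 = 0 ∨ charDegree (χ : G → ℂ) % 7 = 1 ∨
      charDegree (χ : G → ℂ) % 7 = 6) ∧
    (charDegree (χ : G → ℂ) = 6 → ∀ a : G, a ∈ (P : Subgroup G) → a ≠ 1 →
      (χ : G → ℂ) a = -1) := by
  classical
  haveI : Fact (Nat.Prime 7) := ⟨by norm_num⟩
  haveI : Fintype G := Fintype.ofFinite G
  -- `C(P) = P`
  have hPle : (P : Subgroup G) ≤ Subgroup.centralizer ((P : Subgroup G) : Set G) := by
    haveI : IsCyclic (P : Subgroup G) := isCyclic_of_prime_card (p := 7) hP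
    intro x hx
    rw [Subgroup.mem_centralizer_iff]
    intro y hy
    have := (IsCyclic.isMulCommutative (α := (P : Subgroup G))).is_comm.comm ⟨y, hy⟩ ⟨x, hx⟩
    exact congrArg Subtype.val this
  have hC : Subgroup.centralizer ((P : Subgroup G) : Set G) = (P : Subgroup G) := by
    symm
    apply Subgroup.eq_of_le_of_card_ge hPle
    rw [hc, hP]
  obtain ⟨-, -, X, Y, δ, δ₀, O, hdisj, hXc, hYc, hX, -, hvan, hδ₀, hY, -, -, hYsum, -, -⟩ :=
    Cfsg.Agent.Helper5.BRP0.brauer_interface 7 P hP hC 6 hk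
  have hdeg1 := Cfsg.Agent.Helper24.irr_one_eq_charDegree χ.2
  by_cases hχX : χ ∈ X
  · obtain ⟨hδ, hval, hmod⟩ := hX χ hχX
    have hdvd := hmod.dvd
    push_cast at hdvd
    rcases hδ with hd | hd
    · rw [hd] at hdvd
      refine ⟨Or.inr (Or.inl (by omega)), fun h6 => ?_⟩
      exfalso; omega
    · rw [hd] at hdvd
      refine ⟨Or.inr (Or.inr (by omega)), fun _ a ha ha1 => ?_⟩
      rw [hval a ha ha1, hd]; push_cast; ring
  by_cases hχY : χ ∈ Y
  · obtain ⟨-, -, -, hmod⟩ := hY χ hχY
    have hdvd := hmod.dvd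
    push_cast at hdvd
    have hY1 : Y = {χ} := by
      have hcard : Y.card = 1 := by rw [hYc]
      obtain ⟨θ, hθ⟩ := Finset.card_eq_one.1 hcard
      rw [hθ] at hχY ⊢
      rw [Finset.mem_singleton] at hχY
      rw [hχY]
    rcases hδ₀ with hd | hd
    · rw [hd] at hdvd
      refine ⟨Or.inr (Or.inl (by omega)), fun h6 => ?_⟩
      exfalso; omega
    · rw [hd] at hdvd
      refine ⟨Or.inr (Or.inr (by omega)), fun _ a ha ha1 => ?_⟩
      have := hYsum a ha ha1
      rw [hY1, Finset.sum_singleton, hd] at this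
      rw [this]; push_cast; ring
  · have hv : ∀ g : G, g ∈ P → g ≠ 1 → (χ : G → ℂ) g = 0 := fun g hg hg1 =>
      hvan χ hχX hχY g hg hg1
    obtain ⟨k, hk7⟩ := Cfsg.Agent.S0189.result 7 P (χ : G → ℂ)
      (Cfsg.Agent.Helper24.isCharacter_of_isIrrCharacter χ.2) hv
    rw [hdeg1] at hk7
    have hP' : Nat.card P = 7 := hP
    rw [hP'] at hk7
    have hk7' : charDegree (χ : G → ℂ) = 7 * k := by exact_mod_cast hk7
    refine ⟨Or.inl (by omega), fun h6 => ?_⟩
    exfalso; omega

end Cfsg.Agent.Helper28.Ord5040
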