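import Mathlib
import Cfsg.Agent.Lib.Helper11.OGDefs

/-!
# S2413-S2415 (OG farm-out), piece BASE (helper1): basic identities for Eichler transformations and
the additive groups `KS H z`.
-/

set_option autoImplicit false
set_option linter.unusedSectionVars false
set_option linter.unusedVariables false

namespace Cfsg.Agent.Helper11.OG

open QuadraticMap Matrix Cfsg.Agent.Helper2.Orth Cfsg.Agent.Helper28.WittQuad

variable {F : Type*} [Field F] {ι : Type} [Fintype ι] [DecidableEq ι]
variable {Q : QuadraticForm F (ι → F)}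

/-- antisymmetry of the Eichler transformations in two singular orthogonal vectors -/
theorem eichG_swap {z b : ι → F} (hz : Q z = 0) (hb : Q b = 0) (hzb : polar Q z b = 0) :
    eichG Q z b = eichG Q b (-z) := by
  apply ext_smul
  intro x
  rw [eichG_smul hz hzb, eichG_smul hb (by rw [polar_neg_right, polar_comm, hzb, neg_zero]),
    eich_apply, eich_apply, hb, QuadraticMap.map_neg, hz, polar_neg_left]
  module

/-- powers of Eichler transformations -/
theorem eichG_pow {z b : ι → F} (hz : Q z = 0) (hzb : polar Q z b = 0) (n : ℕ) :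
    (eichG Q z b) ^ n = eichG Q z (n • b) := by
  induction n with
  | zero => rw [pow_zero, zero_smul, eichG_zero]
  | succ n ih =>
    have h1 : polar Q z (n • b) = 0 := by
      rw [← Nat.cast_smul_eq_nsmul F, polar_smul_right, hzb, smul_zero]
    rw [pow_succ, ih, eichG_mul hz h1 hzb, succ_nsmul]

/-- Eichler transformations are `p`-elements -/
theorem eichG_pow_char (p : ℕ) [CharP F p] {z b : ι → F} (hz : Q z = 0) (hzb : polar Q z b = 0) :
    (eichG Q z b) ^ p = 1 := by
  rw [eichG_pow hz hzb, ← Nat.cast_smul_eq_nsmul F, CharP.cast_eq_zero, zero_smul, eichG_zero]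

/-- the commutator of two Eichler transformations with orthogonal singular centres and
transverse parts orthogonal to both centres -/
theorem eichG_comm_perp {z z' b b' : ι → F} (hz : Q z = 0) (hz' : Q z' = 0)
    (hzz' : polar Q z z' = 0) (hzb : polar Q z b = 0) (hz'b : polar Q z' b = 0)
    (hzb' : polar Q z b' = 0) (hz'b' : polar Q z' b' = 0) :
    eichG Q z b * eichG Q z' b' * (eichG Q z b)⁻¹ * (eichG Q z' b')⁻¹
      = eichG Q z ((-(polar Q b b')) • z') := by
  have hbz' : polar Q b z' = 0 := by rw [polar_comm]; exact hz'b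
  have h1 : eichG Q z b • z' = z' := eichG_fix hz hzb hzz' hbz'
  have h2 : eichG Q z b • b' = b' + polar Q b b' • z := by
    rw [eichG_apply hz hzb, hzb']
    simp
  have hz'z : polar Q z' z = 0 := by rw [polar_comm]; exact hzz'
  have h3 : polar Q z' (b' + polar Q b b' • z) = 0 := by
    rw [polar_add_right, polar_smul_right, hz'b', hz'z, smul_zero, add_zero]
  have h4 : polar Q z' (polar Q b b' • z) = 0 := by
    rw [polar_smul_right, hz'z, smul_zero]
  have hQcz : Q (polar Q b b' • z) = 0 := by
    rw [QuadraticMap.map_smul, hz, smul_zero]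
  rw [eichG_conj _ hz' hz'b', h1, h2, eichG_inv hz' hz'b',
    eichG_mul hz' h3 (by rw [polar_neg_right, hz'b', neg_zero])]
  have h5 : b' + polar Q b b' • z + -b' = polar Q b b' • z := by abel
  rw [h5, eichG_swap hz' hQcz h4,
    eichG_smul_left hz (by rw [polar_neg_right, hzz', neg_zero]) (polar Q b b')]
  congr 1
  rw [smul_neg, neg_smul]

/-- two Eichler transformations whose four vectors are mutually orthogonal commute -/
theorem eichG_commute {z z' b b' : ι → F} (hz : Q z = 0) (hz' : Q z' = 0)
    (hzz' : polar Q z z' = 0) (hzb : polar Q z b = 0) (hz'b : polar Q z' b = 0)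
    (hzb' : polar Q z b' = 0) (hz'b' : polar Q z' b' = 0) (hbb' : polar Q b b' = 0) :
    Commute (eichG Q z b) (eichG Q z' b') := by
  have h := eichG_comm_perp hz hz' hzz' hzb hz'b hzb' hz'b'
  rw [hbb', neg_zero, zero_smul, eichG_zero] at h
  show eichG Q z b * eichG Q z' b' = eichG Q z' b' * eichG Q z b
  calc eichG Q z b * eichG Q z' b'
      = (eichG Q z b * eichG Q z' b' * (eichG Q z b)⁻¹ * (eichG Q z' b')⁻¹)
          * (eichG Q z' b' * eichG Q z b) := by group
    _ = eichG Q z' b' * eichG Q z b := by rw [h, one_mul]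

/-- an isometry fixing `z` and `b` commutes with the Eichler transformation -/
theorem commute_eichG_of_fix (g : Cfsg.isometryGroup F (⇑Q)) {z b : ι → F} (hz : Q z = 0)
    (hzb : polar Q z b = 0) (hgz : g • z = z) (hgb : g • b = b) : Commute g (eichG Q z b) := by
  have h := eichG_conj g hz hzb
  rw [hgz, hgb] at h
  show g * eichG Q z b = eichG Q z b * g
  calc g * eichG Q z b = (g * eichG Q z b * g⁻¹) * g := by group
    _ = eichG Q z b * g := by rw [h]

section KS
variable {H : Subgroup (Cfsg.isometryGroup F (⇑Q))}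

theorem KS_self_smul {z : ι → F} (hz : Q z = 0) (c : F) : c • z ∈ KS H z hz := by
  rw [mem_KS]
  refine ⟨by rw [polar_smul_right, polar_self_of_singular Q hz, smul_zero], ?_⟩
  rw [eichG_self_smul hz]
  exact H.one_mem

/-- transport along an element of `H` -/
theorem KS_map_mem {z : ι → F} {hz : Q z = 0} {g : Cfsg.isometryGroup F (⇑Q)} (hg : g ∈ H)
    {b : ι → F} (hb : b ∈ KS H z hz) :
    g • b ∈ KS H (g • z) (by rw [Q_smul Q, hz]) := by
  rw [mem_KS] at hb ⊢
  refine ⟨by rw [polar_smul_smul Q, hb.1], ?_⟩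
  rw [← eichG_conj g hz hb.1]
  exact H.mul_mem (H.mul_mem hg hb.2) (H.inv_mem hg)

/-- invariance under the stabiliser of `z` in `H` -/
theorem KS_smul_mem {z : ι → F} {hz : Q z = 0} {g : Cfsg.isometryGroup F (⇑Q)} (hg : g ∈ H)
    (hgz : g • z = z) {b : ι → F} (hb : b ∈ KS H z hz) : g • b ∈ KS H z hz := by
  rw [mem_KS] at hb ⊢
  constructor
  · have := polar_smul_smul Q g z b
    rw [hgz] at this
    rw [this, hb.1]
  · have h := eichG_conj g hz hb.1
    rw [hgz] at h
    rw [← h]
    exact H.mul_mem (H.mul_mem hg hb.2) (H.inv_mem hg)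

/-- scaled invariance under the elements of `H` normalising the line of `z` -/
theorem KS_scale_mem {z : ι → F} {hz : Q z = 0} {g : Cfsg.isometryGroup F (⇑Q)} (hg : g ∈ H)
    {t : F} (hgz : g • z = t • z) {b : ι → F} (hb : b ∈ KS H z hz) :
    t • (g • b) ∈ KS H z hz := by
  by_cases ht : t = 0
  · rw [ht, zero_smul]
    exact (KS H z hz).zero_mem
  rw [mem_KS] at hb ⊢
  have h0 : polar Q z (g • b) = 0 := by
    have h1 := polar_smul_smul Q g z b
    rw [hgz, polar_smul_left, hb.1, smul_eq_mul] at h1
    rcases mul_eq_zero.mp h1 with h2 | h2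
    · exact absurd h2 ht
    · exact h2
  constructor
  · rw [polar_smul_right, h0, smul_zero]
  · have h := eichG_conj g hz hb.1
    rw [hgz, eichG_smul_left hz h0 t] at h
    rw [← h]
    exact H.mul_mem (H.mul_mem hg hb.2) (H.inv_mem hg)

/-- symmetry in two singular vectors -/
theorem KS_symm {z b : ι → F} {hz : Q z = 0} (hb : Q b = 0) (h : b ∈ KS H z hz) :
    z ∈ KS H b hb := by
  rw [mem_KS] at h ⊢
  have hbz : polar Q b z = 0 := by rw [polar_comm]; exact h.1
  refine ⟨hbz, ?_⟩
  have h1 := eichG_swap hz hb h.1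
  have h2 : eichG Q b (-z) ∈ H := by rw [← h1]; exact h.2
  have h3 := eichG_inv hb (show polar Q b (-z) = 0 by rw [polar_neg_right, hbz, neg_zero])
  rw [neg_neg] at h3
  rw [← h3]
  exact H.inv_mem h2

end KS

end Cfsg.Agent.Helper11.OG
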