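import Mathlib
import Cfsg.Agent.Lib.Helper11.OGDefs
import Cfsg.Agent.Lib.Helper1.OGBASE

/-!
# S2413-S2415 (OG farm-out), piece CRIT (helper1): the generation criterion `eichGroup_le_of_KS`.
`crit_generic` and `crit_eich_hyp` are copies of helper25's `st_generic` / `ol_eich_hyp`.
-/

set_option autoImplicit false
set_option linter.unusedSectionVars false
set_option linter.unusedVariables false

namespace Cfsg.Agent.Helper11.OG

open QuadraticMap Matrix Cfsg.Agent.Helper2.Orth Cfsg.Agent.Helper28.WittQuad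

section abstract
variable {F V : Type*} [Field F] [AddCommGroup V] [Module F V]

/-- the Eichler transformation moving `f` to a prescribed singular vector `z` with `f(e, z) = 1` -/
theorem crit_eich_hyp (Q : QuadraticForm F V) {e f z : V} (he : Q e = 0) (hf : Q f = 0)
    (hef : polar Q e f = 1) (hz : Q z = 0) (hez : polar Q e z = 1) :
    polar Q e (f - z) = 0 ∧ eich Q e (f - z) f = z := by
  constructor
  · rw [polar_sub_right, hef, hez, sub_self]
  · have h1 : polar Q (f - z) f = - polar Q z f := by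
      rw [polar_sub_left, polar_self, hf]; simp
    have h2 : Q (f - z) = - polar Q f z := by
      have := Q_add' Q f (-z)
      rw [← sub_eq_add_neg, QuadraticMap.map_neg, polar_neg_right, hf, hz] at this
      rw [this]; ring
    rw [eich_apply, h1, h2, hef, polar_comm Q z f]
    module

end abstract

variable {F : Type*} [Field F] {ι : Type} [Fintype ι] [DecidableEq ι]

/-- the generic generation argument: a subgroup containing the root group of `e0`, moving `e0` to
`f0` and moving every singular vector off `e0^⊥` contains all Eichler transformations -/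
theorem crit_generic (Q : QuadraticForm F (ι → F)) (K : Subgroup (Cfsg.isometryGroup F (⇑Q)))
    (e0 f0 : ι → F) (qe0 : Q e0 = 0) (qf0 : Q f0 = 0) (hef : polar Q e0 f0 = 1)
    (hA : ∀ b : ι → F, polar Q e0 b = 0 → eichG Q e0 b ∈ K)
    (hM : ∀ z : ι → F, Q z = 0 → z ≠ 0 → ∃ k1 ∈ K, polar Q e0 (k1 • z) ≠ 0)
    (hM0 : ∃ k0 ∈ K, ∃ c : F, c ≠ 0 ∧ k0 • e0 = c • f0) :
    eichGroup Q ≤ K := by
  classical
  have hsm : ∀ (g : Cfsg.isometryGroup F (⇑Q)) (c : F) (v : ι → F),
      g • (c • v) = c • (g • v) := fun g c v => smul_smul_vec g c v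
  have hT : ∀ z : ι → F, Q z = 0 → z ≠ 0 →
      ∃ kk ∈ K, ∃ c : F, c ≠ 0 ∧ kk • e0 = c • z := by
    intro z hz hz0
    obtain ⟨k1, hk1, h1⟩ := hM z hz hz0
    obtain ⟨k0, hk0, c0, hc0, h0⟩ := hM0
    set y := k1 • z with hy
    have hyQ : Q y = 0 := by rw [hy, Q_smul Q, hz]
    set t := polar Q e0 y with ht
    have ht0 : t ≠ 0 := h1
    set z' := t⁻¹ • y with hz'
    have hz'Q : Q z' = 0 := by rw [hz', QuadraticMap.map_smul, hyQ, smul_zero]
    have hez' : polar Q e0 z' = 1 := by
      rw [hz', polar_smul_right, ← ht, smul_eq_mul, inv_mul_cancel₀ ht0]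
    obtain ⟨hb, heich⟩ := crit_eich_hyp Q qe0 qf0 hef hz'Q hez'
    have hg := hA _ hb
    refine ⟨k1⁻¹ * (eichG Q e0 (f0 - z') * k0), K.mul_mem (K.inv_mem hk1) (K.mul_mem hg hk0),
      c0 * t⁻¹, mul_ne_zero hc0 (inv_ne_zero ht0), ?_⟩
    rw [mul_smul, mul_smul, h0, hsm, eichG_smul qe0 hb, heich, hz', hsm, hsm, hy, inv_smul_smul,
      smul_smul]
  unfold eichGroup
  rw [Subgroup.closure_le]
  rintro g ⟨z, b, hz, hzb, rfl⟩
  by_cases hz0 : z = 0
  · rw [hz0, eichG_zero_left]
    exact K.one_mem
  obtain ⟨kk, hkk, c, hc, hkc⟩ := hT z hz hz0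
  have hz1 : z = kk • (c⁻¹ • e0) := by
    rw [hsm, hkc, smul_smul, inv_mul_cancel₀ hc, one_smul]
  have hb1 : b = kk • (kk⁻¹ • b) := by rw [smul_inv_smul]
  have hq1 : Q (c⁻¹ • e0) = 0 := by rw [QuadraticMap.map_smul, qe0, smul_zero]
  have hp0 : polar Q e0 (kk⁻¹ • b) = 0 := by
    have h1 := polar_smul_smul Q kk e0 (kk⁻¹ • b)
    rw [smul_inv_smul, hkc, polar_smul_left, hzb, smul_zero] at h1
    exact h1.symm
  have hp1 : polar Q (c⁻¹ • e0) (kk⁻¹ • b) = 0 := by
    rw [polar_smul_left, hp0, smul_zero]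
  have hconj := eichG_conj kk hq1 hp1
  rw [← hz1, ← hb1] at hconj
  rw [← hconj, eichG_smul_left qe0 hp0]
  refine K.mul_mem (K.mul_mem hkk (hA _ ?_)) (K.inv_mem hkk)
  rw [polar_smul_right, hp0, smul_zero]

variable {Q : QuadraticForm F (ι → F)}

/-- **The generation criterion.**  If `H` contains all `eichG Q e0 b`, `b ⊥ e0, f0`, and some
element of `H` moves `e0` off `e0^⊥`, then `H` contains all Eichler transformations. -/
theorem eichGroup_le_of_KS (hQ : (polarBilin Q).Nondegenerate)
    (H : Subgroup (Cfsg.isometryGroup F (⇑Q))) {e0 f0 : ι → F} (qe0 : Q e0 = 0) (qf0 : Q f0 = 0)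
    (hef : polar Q e0 f0 = 1)
    (hK : ∀ b : ι → F, polar Q e0 b = 0 → polar Q f0 b = 0 → b ∈ KS H e0 qe0)
    (hg : ∃ g ∈ H, polar Q e0 (g • e0) ≠ 0) : eichGroup Q ≤ H := by
  have hfe : polar Q f0 e0 = 1 := by rw [polar_comm]; exact hef
  have hee : polar Q e0 e0 = 0 := polar_self_of_singular Q qe0
  have hff : polar Q f0 f0 = 0 := polar_self_of_singular Q qf0
  -- the whole root group of `e0`
  have hA : ∀ b : ι → F, polar Q e0 b = 0 → eichG Q e0 b ∈ H := by
    intro b hb
    have h1 : b - polar Q f0 b • e0 ∈ KS H e0 qe0 := by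
      apply hK
      · rw [polar_sub_right, polar_smul_right, hb, hee, smul_zero, sub_zero]
      · rw [polar_sub_right, polar_smul_right, hfe, smul_eq_mul, mul_one, sub_self]
    have h2 : polar Q f0 b • e0 ∈ KS H e0 qe0 := KS_self_smul qe0 _
    have h3 := (KS H e0 qe0).add_mem h1 h2
    rw [sub_add_cancel] at h3
    exact (mem_KS.mp h3).2
  obtain ⟨g, hgH, hgt⟩ := hg
  -- an element of `H` moving `e0` to a multiple of `f0`
  have hM0 : ∃ k0 ∈ H, ∃ c : F, c ≠ 0 ∧ k0 • e0 = c • f0 := by
    set t := polar Q e0 (g • e0) with ht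
    set f' := t⁻¹ • (g • e0) with hf'
    have hf'Q : Q f' = 0 := by rw [hf', QuadraticMap.map_smul, Q_smul Q, qe0, smul_zero]
    have hef' : polar Q e0 f' = 1 := by
      rw [hf', polar_smul_right, ← ht, smul_eq_mul, inv_mul_cancel₀ hgt]
    obtain ⟨hb, heich⟩ := crit_eich_hyp Q qe0 qf0 hef hf'Q hef'
    have hE := hA _ hb
    refine ⟨(eichG Q e0 (f0 - f'))⁻¹ * g, H.mul_mem (H.inv_mem hE) hgH, t, hgt, ?_⟩
    have h1 : g • e0 = t • f' := by
      rw [hf', smul_smul, mul_inv_cancel₀ hgt, one_smul]
    have h2 : eichG Q e0 (f0 - f') • f0 = f' := by rw [eichG_smul qe0 hb, heich]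
    rw [mul_smul, h1, smul_smul_vec]
    congr 1
    rw [inv_smul_eq_iff, h2]
  obtain ⟨k0, hk0, t, ht, hk0e⟩ := hM0
  -- the root group of `f0`, transverse part orthogonal to `e0`, `f0`
  have hB : ∀ b : ι → F, polar Q e0 b = 0 → polar Q f0 b = 0 → eichG Q f0 b ∈ H := by
    intro b hb1 hb2
    set y := t⁻¹ • (k0⁻¹ • b) with hy
    have hk0y : k0 • y = t⁻¹ • b := by rw [hy, smul_smul_vec, smul_inv_smul]
    have hey : polar Q e0 y = 0 := by
      have h1 := polar_smul_smul Q k0 e0 y
      rw [hk0e, hk0y, polar_smul_left, polar_smul_right, hb2, smul_zero, smul_zero] at h1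
      exact h1.symm
    have hE := hA y hey
    have hconj := eichG_conj k0 qe0 hey
    rw [hk0e, hk0y, eichG_smul_left qf0 (by rw [polar_smul_right, hb2, smul_zero]) t, smul_smul,
      mul_inv_cancel₀ ht, one_smul] at hconj
    rw [← hconj]
    exact H.mul_mem (H.mul_mem hk0 hE) (H.inv_mem hk0)
  apply crit_generic Q H e0 f0 qe0 qf0 hef hA _ ⟨k0, hk0, t, ht, hk0e⟩
  intro z hz hz0
  by_cases hβ : polar Q e0 z = 0
  swap
  · exact ⟨1, H.one_mem, by rw [one_smul]; exact hβ⟩
  set α := polar Q f0 z with hα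
  set v := z - α • e0 with hv
  have hzv : z = α • e0 + v := by rw [hv]; abel
  have hev : polar Q e0 v = 0 := by
    rw [hv, polar_sub_right, polar_smul_right, hβ, hee, smul_zero, sub_zero]
  have hfv : polar Q f0 v = 0 := by
    rw [hv, polar_sub_right, polar_smul_right, hfe, ← hα, smul_eq_mul, mul_one, sub_self]
  by_cases hv0 : v = 0
  · -- `z = α e0`
    have hz' : z = α • e0 := by rw [hzv, hv0, add_zero]
    have hα0 : α ≠ 0 := by
      intro h
      apply hz0
      rw [hz', h, zero_smul]
    refine ⟨g, hgH, ?_⟩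
    rw [hz', smul_smul_vec, polar_smul_right, smul_eq_mul]
    exact mul_ne_zero hα0 hgt
  · -- a vector `b' ⊥ e0, f0` with `B(b', v) ≠ 0`
    have hex : ∃ x : ι → F, polar Q v x ≠ 0 := by
      by_contra hcon
      push Not at hcon
      apply hv0
      apply hQ.1
      intro w
      rw [polarBilin_apply_apply]
      exact hcon w
    obtain ⟨x, hx⟩ := hex
    set b' := x - polar Q f0 x • e0 - polar Q e0 x • f0 with hb'
    have hve : polar Q v e0 = 0 := by rw [polar_comm]; exact hev
    have hvf : polar Q v f0 = 0 := by rw [polar_comm]; exact hfv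
    have hb'v : polar Q b' v ≠ 0 := by
      rw [polar_comm, hb', polar_sub_right, polar_sub_right, polar_smul_right, polar_smul_right,
        hve, hvf, smul_zero, smul_zero, sub_zero, sub_zero]
      exact hx
    have heb' : polar Q e0 b' = 0 := by
      rw [hb', polar_sub_right, polar_sub_right, polar_smul_right, polar_smul_right, hee, hef,
        smul_zero, smul_eq_mul, mul_one, sub_zero, sub_self]
    have hfb' : polar Q f0 b' = 0 := by
      rw [hb', polar_sub_right, polar_sub_right, polar_smul_right, polar_smul_right, hfe, hff,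
        smul_zero, smul_eq_mul, mul_one, sub_zero, sub_self]
    have hQv : Q v = 0 := by
      have h1 : Q z = Q (α • e0) + Q v + polar Q (α • e0) v := by
        conv_lhs => rw [hzv]
        exact Q_add' Q _ _
      rw [hz, QuadraticMap.map_smul, qe0, smul_zero, polar_smul_left, hev, smul_zero, zero_add,
        add_zero] at h1
      exact h1.symm
    -- the value of `B(e0, E(f0,b) z)`
    have hval : ∀ b : ι → F, polar Q e0 b = 0 → polar Q f0 b = 0 →
        polar Q e0 (eichG Q f0 b • z) = polar Q b v - α * Q b := by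
      intro b hb1 hb2
      have hbe : polar Q b e0 = 0 := by rw [polar_comm]; exact hb1
      rw [eichG_apply qf0 hb2, ← hα]
      have h1 : polar Q b z = polar Q b v := by
        conv_lhs => rw [hzv]
        rw [polar_add_right, polar_smul_right, hbe, smul_zero, zero_add]
      rw [h1, polar_add_right, polar_sub_right, polar_sub_right, polar_smul_right,
        polar_smul_right, polar_smul_right, polar_smul_right, hβ, hef, hb1]
      simp only [smul_eq_mul]
      ring
    by_cases h1 : polar Q b' v - α * Q b' = 0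
    · -- use `b' + v`
      refine ⟨eichG Q f0 (b' + v), hB _ (by rw [polar_add_right, heb', hev, add_zero])
        (by rw [polar_add_right, hfb', hfv, add_zero]), ?_⟩
      rw [hval _ (by rw [polar_add_right, heb', hev, add_zero])
        (by rw [polar_add_right, hfb', hfv, add_zero])]
      rw [polar_add_left, polar_self_of_singular Q hQv, add_zero, Q_add', hQv, add_zero]
      intro h2
      have h3 : α * polar Q b' v = 0 := by
        have : polar Q b' v - α * (Q b' + polar Q b' v)
            = (polar Q b' v - α * Q b') - α * polar Q b' v := by ring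
        rw [this, h1, zero_sub, neg_eq_zero] at h2
        exact h2
      rcases mul_eq_zero.mp h3 with h4 | h4
      · rw [h4, zero_mul, sub_zero] at h1
        exact hb'v h1
      · exact hb'v h4
    · exact ⟨eichG Q f0 b', hB _ heb' hfb', by rw [hval _ heb' hfb']; exact h1⟩

end Cfsg.Agent.Helper11.OG
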