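import Mathlib
import Cfsg.Agent.Lib.Helper11.OGDefs

/-!
# S2413-S2415 (OG farm-out), piece FRAME (helper1): coordinates with respect to a hyperbolic frame.
-/

set_option autoImplicit false
set_option linter.unusedSectionVars false
set_option linter.unusedVariables false

namespace Cfsg.Agent.Helper11.OG

open QuadraticMap Matrix Cfsg.Agent.Helper2.Orth Cfsg.Agent.Helper28.WittQuad

variable {F : Type*} [Field F] {ι : Type} [Fintype ι] [DecidableEq ι]
variable {Q : QuadraticForm F (ι → F)}

theorem frame_polar_sum_right {κ : Type*} (s : Finset κ) (x : ι → F) (g : κ → (ι → F)) :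
    polar Q x (∑ i ∈ s, g i) = ∑ i ∈ s, polar Q x (g i) := by
  have := map_sum (polarBilin Q x) g s
  simp only [polarBilin_apply_apply] at this
  exact this

theorem frame_polar_sum_left {κ : Type*} (s : Finset κ) (x : ι → F) (g : κ → (ι → F)) :
    polar Q (∑ i ∈ s, g i) x = ∑ i ∈ s, polar Q (g i) x := by
  rw [polar_comm, frame_polar_sum_right]
  exact Finset.sum_congr rfl (fun i _ => polar_comm _ _ _)

/-- a sum of pairwise orthogonal singular vectors is singular -/
theorem frame_Q_sum_zero {κ : Type*} (s : Finset κ) (g : κ → (ι → F)) (h0 : ∀ i, Q (g i) = 0)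
    (h1 : ∀ i j, polar Q (g i) (g j) = 0) : Q (∑ i ∈ s, g i) = 0 := by
  classical
  induction s using Finset.induction_on with
  | empty => simp
  | insert a s ha ih =>
    rw [Finset.sum_insert ha, Q_add', h0, ih, frame_polar_sum_right]
    simp [h1]

section frame
variable {r : ℕ} {e f : Fin r → (ι → F)}

theorem perp_wpart (fr : HypFrame Q e f) (x : ι → F) : Perp Q e f (wpart Q e f x) := by
  intro k
  unfold wpart
  constructor
  · rw [polar_sub_right, polar_sub_right, frame_polar_sum_right, frame_polar_sum_right]
    simp [polar_smul_right, fr.ee, fr.ef]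
  · rw [polar_sub_right, polar_sub_right, frame_polar_sum_right, frame_polar_sum_right]
    simp [polar_smul_right, fr.ff, fr.fe]

/-- the value of `Q` in frame coordinates -/
theorem Q_decomp (fr : HypFrame Q e f) (x : ι → F) :
    Q x = ∑ i, polar Q (f i) x * polar Q (e i) x + Q (wpart Q e f x) := by
  set u : ι → F := ∑ i, polar Q (f i) x • e i with hu
  set v : ι → F := ∑ i, polar Q (e i) x • f i with hv
  set w : ι → F := wpart Q e f x with hw
  have hx : x = u + v + w := decomp Q e f x
  have hperp := perp_wpart fr x
  have hQu : Q u = 0 := by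
    apply frame_Q_sum_zero
    · intro i
      rw [QuadraticMap.map_smul, fr.qe, smul_zero]
    · intro i j
      rw [polar_smul_left, polar_smul_right, fr.ee, smul_zero, smul_zero]
  have hQv : Q v = 0 := by
    apply frame_Q_sum_zero
    · intro i
      rw [QuadraticMap.map_smul, fr.qf, smul_zero]
    · intro i j
      rw [polar_smul_left, polar_smul_right, fr.ff, smul_zero, smul_zero]
  have huw : polar Q u w = 0 := by
    rw [hu, frame_polar_sum_left]
    apply Finset.sum_eq_zero
    intro i _
    rw [polar_smul_left, (hperp i).1, smul_zero]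
  have hvw : polar Q v w = 0 := by
    rw [hv, frame_polar_sum_left]
    apply Finset.sum_eq_zero
    intro i _
    rw [polar_smul_left, (hperp i).2, smul_zero]
  have huv : polar Q u v = ∑ i, polar Q (f i) x * polar Q (e i) x := by
    rw [hu, frame_polar_sum_left]
    apply Finset.sum_congr rfl
    intro i _
    rw [polar_smul_left, hv, frame_polar_sum_right]
    simp [polar_smul_right, fr.ef]
  conv_lhs => rw [hx]
  rw [Q_add', Q_add', hQu, hQv, polar_add_left, huw, hvw, huv]
  ring

/-- two isometries agreeing on the frame and on its orthogonal complement are equal -/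
theorem ext_frame (fr : HypFrame Q e f) {g h : Cfsg.isometryGroup F (⇑Q)}
    (he : ∀ i, g • e i = h • e i) (hf : ∀ i, g • f i = h • f i)
    (hw : ∀ x, Perp Q e f x → g • x = h • x) : g = h := by
  apply ext_smul
  intro x
  conv_lhs => rw [decomp Q e f x]
  conv_rhs => rw [decomp Q e f x]
  rw [smul_add_vec, smul_add_vec, smul_add_vec, smul_add_vec, smul_sum_vec, smul_sum_vec,
    smul_sum_vec, smul_sum_vec, hw _ (perp_wpart fr x)]
  congr 2
  · apply Finset.sum_congr rfl
    intro i _
    rw [smul_smul_vec, smul_smul_vec, he]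
  · apply Finset.sum_congr rfl
    intro i _
    rw [smul_smul_vec, smul_smul_vec, hf]

/-- membership in `KS` can be checked on the frame vectors `≠ i0` and on the complement -/
theorem KS_of_frame (fr : HypFrame Q e f) (H : Subgroup (Cfsg.isometryGroup F (⇑Q))) (i0 : Fin r)
    (he : ∀ j, j ≠ i0 → ∀ c : F, c • e j ∈ KS H (e i0) (fr.qe i0))
    (hf : ∀ j, j ≠ i0 → ∀ c : F, c • f j ∈ KS H (e i0) (fr.qe i0))
    (hw : ∀ x, Perp Q e f x → x ∈ KS H (e i0) (fr.qe i0)) :
    ∀ b : ι → F, polar Q (e i0) b = 0 → polar Q (f i0) b = 0 → b ∈ KS H (e i0) (fr.qe i0) := by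
  intro b hb1 hb2
  rw [decomp Q e f b]
  apply AddSubgroup.add_mem
  · apply AddSubgroup.add_mem
    · apply AddSubgroup.sum_mem
      intro j _
      by_cases hj : j = i0
      · rw [hj, hb2, zero_smul]
        exact AddSubgroup.zero_mem _
      · exact he j hj _
    · apply AddSubgroup.sum_mem
      intro j _
      by_cases hj : j = i0
      · rw [hj, hb1, zero_smul]
        exact AddSubgroup.zero_mem _
      · exact hf j hj _
  · exact hw _ (perp_wpart fr b)

end frame

end Cfsg.Agent.Helper11.OG
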