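import Mathlib
import Cfsg.Agent.Lib.Helper13.OInvDefs

/-!
# ODDINV piece CHI (helper1): the character values of the diagonal involution `T(signC I)`.
-/

set_option autoImplicit false
set_option linter.unusedSectionVars false
set_option linter.unusedVariables false

namespace Cfsg.Agent.Helper13.OInv

open Cfsg Cfsg.Lie Cfsg.Agent.Lead.Chev Cfsg.Agent.Lead.Tw

variable {F : Type*} [Field F] {D : ChevalleyDatum}

theorem chi_neg_one_zpow (z : ℤ) : (-1 : F) ^ z = if decide (z % 2 ≠ 0) then -1 else 1 := by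
  rcases Int.even_or_odd z with h | h
  · rw [h.neg_one_zpow]
    have : z % 2 = 0 := Int.even_iff.1 h
    simp [this]
  · rw [h.neg_one_zpow]
    have : z % 2 = 1 := Int.odd_iff.1 h
    simp [this]

theorem chi_prod_list (a : ℕ → ℤ) (I : List ℕ) :
    (I.map fun i => (-1 : F) ^ a i).prod = (-1 : F) ^ (I.map a).sum := by
  induction I with
  | nil => simp
  | cons i I ih =>
    rw [List.map_cons, List.prod_cons, List.map_cons, List.sum_cons, ih,
      zpow_add₀ (neg_ne_zero.2 (one_ne_zero : (1 : F) ≠ 0))]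

theorem chi_prod_range (a : ℕ → ℤ) (n : ℕ) (I : List ℕ) (hI1 : I.Nodup) (hI2 : ∀ i ∈ I, i < n) :
    ((List.range n).map fun i => (if i ∈ I then (-1 : F) else 1) ^ a i).prod =
      (-1 : F) ^ (I.map a).sum := by
  classical
  rw [← List.prod_toFinset _ List.nodup_range, List.toFinset_range, ← chi_prod_list,
    ← List.prod_toFinset _ hI1]
  have h1 : ∀ i ∈ Finset.range n, (if i ∈ I then (-1 : F) else 1) ^ a i =
      if i ∈ I.toFinset then (-1 : F) ^ a i else 1 := by
    intro i _
    by_cases hi : i ∈ I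
    · rw [if_pos hi, if_pos (List.mem_toFinset.2 hi)]
    · rw [if_neg hi, if_neg (fun h => hi (List.mem_toFinset.1 h)), one_zpow]
  rw [Finset.prod_congr rfl h1, ← Finset.prod_filter]
  congr 1
  ext i
  rw [Finset.mem_filter, Finset.mem_range, List.mem_toFinset]
  exact ⟨fun h => h.2, fun h => ⟨hI2 i h, h⟩⟩

/-- PIECE OINV-CHI -/
theorem chi_signC (I : List ℕ) (hI1 : I.Nodup) (hI2 : ∀ i ∈ I, i < D.rank) (r : ℕ) (hr : r < D.nroots) :
    chi D (signC F I) r = if chiOf (chiList D I) r then -1 else 1 := by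
  have h1 : chiOf (chiList D I) r = decide ((I.map fun i => D.cartan i r).sum % 2 ≠ 0) := by
    unfold chiOf chiList
    rw [List.getD_eq_getElem?_getD, List.getElem?_map, List.getElem?_range hr]
    rfl
  rw [h1]
  unfold chi signC
  rw [chi_prod_range (fun i => D.cartan i r) D.rank I hI1 hI2]
  exact chi_neg_one_zpow _

end Cfsg.Agent.Helper13.OInv
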