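import Mathlib
import Cfsg.Agent.Lib.Helper13.OInvDefs
import Cfsg.Agent.Lib.Lead.WeylSum

/-!
# ODDINV piece REL (helper1): relative factorisation of the Poincaré sum of the stabilizer of a sign vector.
-/

set_option autoImplicit false
set_option linter.unusedSectionVars false
set_option linter.unusedSimpArgs false
set_option linter.unusedVariables false

namespace Cfsg.Agent.Helper13.OInv

open Cfsg Cfsg.Lie Cfsg.Agent.Lead.Chev Cfsg.Agent.Lead.Tw

variable {F : Type*} [Field F] {D : ChevalleyDatum}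

/-- words of `K` fix the sign vector -/
theorem rel_chiFix_word (hF : ChevFacts D F) (K : Set ℕ) (chiB : ℕ → Bool)
    (hK : ∀ k ∈ K, k < D.rank → ∀ r < D.nroots, chiB (D.reflectRoot k r) = chiB r)
    (y : List ℕ) (hy : WordIn D K y) : ChiFix D chiB y := by
  induction y with
  | nil => intro r _; rfl
  | cons i y ih =>
    have hy' : WordIn D K y := fun j hj => hy j (List.mem_cons_of_mem _ hj)
    have hi := hy i List.mem_cons_self
    intro r hr
    simp only [reflWord]
    rw [hK i hi.2 hi.1 _ (hF.rlt y hy'.valid r hr)]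
    exact ih hy' r hr

theorem rel_chiFixF_actF (hF : ChevFacts D F) (chiB : ℕ → Bool) (w : List ℕ)
    (hw : ∀ i ∈ w, i < D.rank) : ChiFixF D chiB (actF D w) ↔ ChiFix D chiB w := by
  constructor
  · intro h r hr
    have := h ⟨r, hr⟩
    rwa [actF_val D (etaOf D) hF.facts w hw] at this
  · intro h r
    rw [actF_val D (etaOf D) hF.facts w hw]
    exact h r.val r.2

theorem rel_nNegChi_actF (hF : ChevFacts D F) (chiB : ℕ → Bool) (w : List ℕ)
    (hw : ∀ i ∈ w, i < D.rank) : nNegChi D chiB (actF D w) = (negSetChi D chiB w).card := by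
  unfold nNegChi negSetChi
  rw [← Finset.card_map Fin.valEmbedding]
  congr 1
  ext r
  rw [Finset.mem_map, Finset.mem_filter, mem_negSet]
  constructor
  · rintro ⟨a, ha, rfl⟩
    rw [Finset.mem_filter] at ha
    have := ha.2
    rw [actF_val D (etaOf D) hF.facts w hw] at this
    exact ⟨⟨this.1, this.2.1⟩, this.2.2⟩
  · intro h
    refine ⟨⟨r, h.1.1.1⟩, ?_, rfl⟩
    rw [Finset.mem_filter]
    refine ⟨Finset.mem_univ _, ?_⟩
    rw [actF_val D (etaOf D) hF.facts w hw]
    exact ⟨h.1.1, h.1.2, h.2⟩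

/-- the sign-filtered additivity of the number of positive roots made negative -/
theorem rel_card_negSetChi_append (hF : ChevFacts D F) (hS : CorSize D) (K : Set ℕ) (chiB : ℕ → Bool)
    (hK : ∀ k ∈ K, k < D.rank → ∀ r < D.nroots, chiB (D.reflectRoot k r) = chiB r)
    (hspan : ∀ r < D.nroots, InSpan D K r → chiB r = false)
    (x y : List ℕ) (hx : ∀ i ∈ x, i < D.rank)
    (hxK : KPos D K x) (hy : WordIn D K y) :
    (negSetChi D chiB (x ++ y)).card = (negSetChi D chiB x).card + (negSet D y).card := by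
  classical
  have hyv := hy.valid
  have hry := hy.reverse
  have hfy := rel_chiFix_word hF K chiB hK y hy
  have hfyr := rel_chiFix_word hF K chiB hK y.reverse hry
  -- the part in the span of `K`
  have hA : (negSetChi D chiB (x ++ y)).filter (fun r => InSpan D K r) = negSet D y := by
    ext r
    unfold negSetChi
    rw [Finset.mem_filter, Finset.mem_filter, mem_negSet, mem_negSet, reflWord_append]
    constructor
    · rintro ⟨⟨⟨hr, hneg⟩, _⟩, hs⟩
      refine ⟨hr, ?_⟩
      rcases hF.sign.pos_or_neg _ (hF.rlt y hyv r hr.1) with h1 | h1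
      · exact absurd hneg (hF.sign.not_both _
          (hF.pos_of_inSpan hS K x hx hxK _ h1 ((hF.inSpan_reflWord K y hy r hr.1).2 hs)))
      · exact h1
    · rintro ⟨hr, hneg⟩
      have hs : InSpan D K r := by
        by_contra hns
        exact hF.sign.not_both _ (hF.pos_of_not_inSpan K y hy r hr hns) hneg
      exact ⟨⟨⟨hr, hF.neg_of_inSpan hS K x hx hxK _ hneg ((hF.inSpan_reflWord K y hy r hr.1).2 hs)⟩,
        hspan r hr.1 hs⟩, hs⟩
  -- the part outside the span of `K`
  have hB : ((negSetChi D chiB (x ++ y)).filter (fun r => ¬ InSpan D K r)).image (reflWord D y) =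
      negSetChi D chiB x := by
    ext s
    unfold negSetChi
    rw [Finset.mem_image, Finset.mem_filter, mem_negSet]
    constructor
    · rintro ⟨r, hr, rfl⟩
      rw [Finset.mem_filter, Finset.mem_filter, mem_negSet, reflWord_append] at hr
      refine ⟨⟨hF.pos_of_not_inSpan K y hy r hr.1.1.1 hr.2, hr.1.1.2⟩, ?_⟩
      rw [hfy r hr.1.1.1.1]
      exact hr.1.2
    · rintro ⟨⟨hs, hneg⟩, hchi⟩
      have hns : ¬ InSpan D K s := fun h =>
        hF.sign.not_both _ (hF.pos_of_inSpan hS K x hx hxK s hs h) hneg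
      have hc := reflWord_reverse_cancel D (etaOf D) hF.facts y hyv s hs.1
      refine ⟨reflWord D y.reverse s, ?_, hc⟩
      rw [Finset.mem_filter, Finset.mem_filter, mem_negSet, reflWord_append, hc]
      refine ⟨⟨⟨hF.pos_of_not_inSpan K y.reverse hry s hs hns, hneg⟩, ?_⟩, ?_⟩
      · rw [hfyr s hs.1]
        exact hchi
      · rw [hF.inSpan_reflWord K y.reverse hry s hs.1]
        exact hns
  have hinj : Set.InjOn (reflWord D y)
      ((negSetChi D chiB (x ++ y)).filter (fun r => ¬ InSpan D K r) : Set ℕ) := by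
    intro a ha b hb hab
    have ha1 : a ∈ negSet D (x ++ y) := (Finset.mem_filter.1 (Finset.mem_filter.1 ha).1).1
    have hb1 : b ∈ negSet D (x ++ y) := (Finset.mem_filter.1 (Finset.mem_filter.1 hb).1).1
    have ha' := ((mem_negSet D _ a).1 ha1).1.1
    have hb' := ((mem_negSet D _ b).1 hb1).1.1
    rw [← reflWord_reverse_cancel' D (etaOf D) hF.facts y hyv a ha',
      ← reflWord_reverse_cancel' D (etaOf D) hF.facts y hyv b hb', hab]
  rw [← Finset.card_filter_add_card_filter_not (s := negSetChi D chiB (x ++ y)) (fun r => InSpan D K r), hA,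
    ← Finset.card_image_of_injOn hinj, hB, add_comm]

/-- PIECE OINV-REL -/
theorem sum_weylSetChi_factor (hF : ChevFacts D F) (hS : CorSize D) (K : Set ℕ) (chiB : ℕ → Bool)
    (hK : ∀ k ∈ K, k < D.rank → ∀ r < D.nroots, chiB (D.reflectRoot k r) = chiB r)
    (hspan : ∀ r < D.nroots, InSpan D K r → chiB r = false) (q : ℕ) :
    ∑ f ∈ weylSetChi D chiB, q ^ nNegChi D chiB f =
      (∑ f ∈ weylSetPosChi D K chiB, q ^ nNegChi D chiB f) * ∑ g ∈ weylSet D K, q ^ nNeg D g := by
  classical
  have hKJ : K ⊆ (Set.univ : Set ℕ) := Set.subset_univ K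
  rw [Finset.sum_mul_sum, ← Finset.sum_product']
  symm
  apply Finset.sum_bij (fun p _ => p.1 ∘ p.2)
  · rintro ⟨f, g⟩ hp
    rw [Finset.mem_product] at hp
    have hp1 := hp.1
    unfold weylSetPosChi at hp1
    rw [Finset.mem_filter] at hp1
    obtain ⟨⟨x, hx, hxK, rfl⟩, hfx⟩ := (mem_weylSetPos D Set.univ K f).1 hp1.1, hp1.2
    obtain ⟨y, hy, rfl⟩ := (mem_weylSet D K g).1 hp.2
    have hy' : WordIn D K y := hy
    unfold weylSetChi
    rw [Finset.mem_filter, mem_weylSet]
    refine ⟨⟨x ++ y, hx.append (hy'.mono hKJ), hF.actF_append x y hx.valid hy'.valid⟩, ?_⟩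
    have hfy := (rel_chiFixF_actF hF chiB y hy'.valid).2 (rel_chiFix_word hF K chiB hK y hy')
    intro r
    simp only [Function.comp_apply]
    rw [hfx, hfy]
  · rintro ⟨f, g⟩ hp ⟨f', g'⟩ hp' heq
    rw [Finset.mem_product] at hp hp'
    have hp1 := hp.1
    have hp1' := hp'.1
    unfold weylSetPosChi at hp1 hp1'
    rw [Finset.mem_filter] at hp1 hp1'
    obtain ⟨x, hx, hxK, rfl⟩ := (mem_weylSetPos D Set.univ K f).1 hp1.1
    obtain ⟨y, hy, rfl⟩ := (mem_weylSet D K g).1 hp.2
    obtain ⟨x', hx', hxK', rfl⟩ := (mem_weylSetPos D Set.univ K f').1 hp1'.1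
    obtain ⟨y', hy', rfl⟩ := (mem_weylSet D K g').1 hp'.2
    have hyK : WordIn D K y := hy
    have hyK' : WordIn D K y' := hy'
    simp only at heq
    rw [← hF.actF_append x y hx.valid hyK.valid, ← hF.actF_append x' y' hx'.valid hyK'.valid] at heq
    have h1 := (actF_eq_iff D (etaOf D) hF.facts _ _ (hx.append (hyK.mono hKJ)).valid
      (hx'.append (hyK'.mono hKJ)).valid).1 heq
    obtain ⟨h2, h3⟩ := hF.factor_unique hS K x x' y y' hx.valid hx'.valid hxK hxK' hyK hyK' h1
    exact Prod.ext ((actF_eq_iff D (etaOf D) hF.facts _ _ hx.valid hx'.valid).2 h2)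
      ((actF_eq_iff D (etaOf D) hF.facts _ _ hyK.valid hyK'.valid).2 h3)
  · intro f hf
    unfold weylSetChi at hf
    rw [Finset.mem_filter] at hf
    obtain ⟨w, hw, rfl⟩ := (mem_weylSet D Set.univ f).1 hf.1
    have hfw := hf.2
    obtain ⟨x, y, hx, hxK, hy, hxy⟩ := hF.exists_factor Set.univ K hKJ w hw
    have hwxy : actF D w = actF D (x ++ y) :=
      (actF_eq_iff D (etaOf D) hF.facts _ _ (WordIn.valid hw) (hx.append (hy.mono hKJ)).valid).2 hxy
    have hfy := rel_chiFix_word hF K chiB hK y hy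
    have hfyr := rel_chiFix_word hF K chiB hK y.reverse hy.reverse
    have hfxy : ChiFix D chiB (x ++ y) := by
      rw [hwxy] at hfw
      exact (rel_chiFixF_actF hF chiB (x ++ y) (hx.append (hy.mono hKJ)).valid).1 hfw
    have hfx : ChiFix D chiB x := by
      intro s hs
      have hc := reflWord_reverse_cancel D (etaOf D) hF.facts y hy.valid s hs
      have hlt := hF.rlt y.reverse hy.reverse.valid s hs
      have h1 := hfxy _ hlt
      rw [reflWord_append, hc] at h1
      rw [h1, hfyr s hs]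
    refine ⟨(actF D x, actF D y), ?_, ?_⟩
    · rw [Finset.mem_product]
      refine ⟨?_, (mem_weylSet D K _).2 ⟨y, hy, rfl⟩⟩
      unfold weylSetPosChi
      rw [Finset.mem_filter]
      exact ⟨(mem_weylSetPos D Set.univ K _).2 ⟨x, hx, hxK, rfl⟩,
        (rel_chiFixF_actF hF chiB x hx.valid).2 hfx⟩
    · simp only
      rw [← hF.actF_append x y hx.valid hy.valid]
      exact hwxy.symm
  · rintro ⟨f, g⟩ hp
    rw [Finset.mem_product] at hp
    have hp1 := hp.1
    unfold weylSetPosChi at hp1
    rw [Finset.mem_filter] at hp1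
    obtain ⟨x, hx, hxK, rfl⟩ := (mem_weylSetPos D Set.univ K f).1 hp1.1
    obtain ⟨y, hy, rfl⟩ := (mem_weylSet D K g).1 hp.2
    have hyK : WordIn D K y := hy
    simp only
    rw [← hF.actF_append x y hx.valid hyK.valid, rel_nNegChi_actF hF chiB _ hx.valid,
      nNeg_actF D (etaOf D) hF.facts _ hyK.valid,
      rel_nNegChi_actF hF chiB _ (hx.append (hyK.mono hKJ)).valid,
      rel_card_negSetChi_append hF hS K chiB hK hspan x y hx.valid hxK hyK, pow_add]

end Cfsg.Agent.Helper13.OInv
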