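import Mathlib
import Cfsg.Agent.Lib.Helper12.Ord5460Syl
import Cfsg.Agent.Lib.Helper10.Ord83BR
import Cfsg.Agent.Lib.Helper28.O5040STEP3
import Cfsg.Agent.Lib.Helper10.BrSieve
import Cfsg.Agent.Lib.Helper10.BR996Asm
import Cfsg.Agent.Lib.Helper24.GlaubPGroup
import Cfsg.Agent.Lib.Helper23.BlockIdem
import Cfsg.Agent.S4441

/-!
# S4274, piece ORD15960 (helper1): no simple group of order `15960 = 2³·3·5·7·19`

`n₁₉ ∈ {20, 210}`; `20 = 1 + 19` dies by `s4700_filter`; `n₁₉ = 210`: `|N(P)| = 76`, `|N : C| = 2`,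
`|C(P)| = 38`, an involution `t ∈ C(P)`.  S4441 (`p = 19`, `e = 2`): `X = {1, χ}`, `θ ∈ Y`;
`step3`: `χ(1) ≥ 38`, so `χ(1) = 56`, sign `-1`, `θ(1) = 55`, which does not divide `15960`.
-/

set_option autoImplicit false
set_option linter.unusedSectionVars false
set_option linter.unusedVariables false
set_option linter.style.haveILetI false
set_option linter.unreachableTactic false
set_option linter.unusedTactic false
open Cfsg

namespace Cfsg.Agent.Helper3.SmallOrd

namespace O15960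

/-- the arithmetic of the character-theoretic part -/
theorem arith (x y : ℕ) (e1 e : ℤ) (he1 : e1 = 1 ∨ e1 = -1) (he : e = 1 ∨ e = -1)
    (hdx : x ∣ 15960) (hdy : y ∣ 15960) (hsqx : x ^ 2 ≤ 15960) (hmx : (19 : ℤ) ∣ e1 - x)
    (h38 : 38 ≤ x) (hrel : e * y = 1 + e1 * x) : False := by
  have h126 : x ≤ 126 := by nlinarith
  have hx : e1 = -1 ∧ x = 56 := by
    rcases he1 with rfl | rfl <;> interval_cases x <;> omega
  obtain ⟨rfl, rfl⟩ := hx
  have hy : y = 55 := by
    rcases he with rfl | rfl <;> omega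
  subst hy
  omega

end O15960

open Cfsg.Agent.Helper24 Cfsg.Agent.Helper10

variable {G : Type*} [Group G] [Finite G] [IsSimpleGroup G]

theorem no_simple_15960 (h : Nat.card G = 15960) : False := by
  classical
  have hG : ∃ x y : G, x * y ≠ y * x :=
    Cfsg.Agent.Lead.nonabelian_of_not_prime (by rw [h]; norm_num)
  have hG2 : 2 < Nat.card G := by rw [h]; norm_num
  haveI : Fact (Nat.Prime 19) := ⟨by norm_num⟩
  haveI : Fact (Nat.Prime 2) := ⟨by norm_num⟩
  haveI : Fintype G := Fintype.ofFinite G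
  haveI : Fintype (IrrCharacter G) := Cfsg.Agent.Helper24.irrFintype
  obtain ⟨P⟩ : Nonempty (Sylow 19 G) := inferInstance
  obtain ⟨hd, hm, hf, hP, hN, hk, hk', hck, -⟩ :=
    O5460.sylow_data hG hG2 (p := 19) (m := 840) (by rw [h]) (by norm_num) P
  -- the Sylow numerics
  have hkc : (Subgroup.centralizer ((P : Subgroup G) : Set G)).relIndex
        (Subgroup.normalizer ((P : Subgroup G) : Set G)) = 2 ∧
      Nat.card (Subgroup.centralizer ((P : Subgroup G) : Set G)) = 38 := by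
    have hs := Cfsg.Agent.Helper10.Ord83.s4700_filter hG 19 P hP
    obtain ⟨n, hn⟩ : ∃ n, n = Nat.card (Sylow 19 G) := ⟨_, rfl⟩
    obtain ⟨N, hNe⟩ : ∃ n, n = Nat.card (Subgroup.normalizer ((P : Subgroup G) : Set G)) :=
      ⟨_, rfl⟩
    obtain ⟨k, hke⟩ : ∃ n, n = (Subgroup.centralizer ((P : Subgroup G) : Set G)).relIndex
        (Subgroup.normalizer ((P : Subgroup G) : Set G)) := ⟨_, rfl⟩
    obtain ⟨c, hce⟩ : ∃ n, n = Nat.card (Subgroup.centralizer ((P : Subgroup G) : Set G)) :=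
      ⟨_, rfl⟩
    rw [← hn, ← hNe] at hN
    rw [← hn] at hd hm hf hs
    rw [← hke] at hk hk' hck ⊢
    rw [← hNe, ← hce] at hck
    rw [← hce]
    rw [h] at hN hf hs
    have hnc : n = 20 ∨ n = 210 := by
      have hmem : n ∈ Nat.divisors 840 := Nat.mem_divisors.2 ⟨hd, by norm_num⟩
      simp only [Nat.divisors_ofNat] at hmem
      simp only [Finset.mem_insert, Finset.mem_singleton] at hmem
      have h1 : n ≠ 1 := by
        rintro rfl
        norm_num at hf
      omega
    rcases hnc with rfl | rfl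
    · exfalso
      rcases hs 1 (by norm_num) with h1 | ⟨m, hm1, -⟩ | ⟨a, u, ha, hu, hau⟩
      · norm_num at h1
      · rcases Nat.lt_or_ge m 5 with hm5 | hm5
        · interval_cases m <;> omega
        · have := Nat.pow_le_pow_right (n := 2) (by norm_num) hm5
          omega
      · have : 1 ≤ a * u := Nat.mul_pos ha hu
        nlinarith
    · have hNv : N = 76 := by omega
      subst hNv
      have hkle : k ≤ 18 := Nat.le_of_dvd (by norm_num) hk
      interval_cases k <;> omega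
  obtain ⟨hk2, hc⟩ := hkc
  obtain ⟨M, hM⟩ := Cfsg.Agent.Helper24.Glaub.exists_isPModular (p := 19) (by norm_num)
  haveI hMp : M.IsPrime := hM.2.1.isPrime
  obtain ⟨X, Y, hB, hdisj, hcX, hcY, εX, ε, hX, hε, hYdeg, hYreg, hYeq⟩ :=
    Cfsg.Agent.S4441.result 19 M hM (by norm_num) P hP 2 hk2
  -- an involution `t ∈ C(P)`
  obtain ⟨t0, ht0⟩ := exists_prime_orderOf_dvd_card' (G :=
    Subgroup.centralizer ((P : Subgroup G) : Set G)) 2 (by rw [hc]; norm_num)
  have ht : orderOf (t0 : G) = 2 := by rw [Subgroup.orderOf_coe]; exact ht0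
  have htC : (t0 : G) ∈ Subgroup.centralizer ((P : Subgroup G) : Set G) := t0.2
  generalize (t0 : G) = t at ht htC
  have hsq := sum_charDegree_sq (G := G)
  rw [h] at hsq
  have hdvd : ∀ χ : IrrCharacter G, charDegree (χ : G → ℂ) ∣ 15960 := fun χ => by
    rw [← h]; exact charDegree_dvd_card χ.2
  have hsqle : ∀ χ : IrrCharacter G, charDegree (χ : G → ℂ) ^ 2 ≤ 15960 := fun χ => by
    rw [← hsq]
    exact Finset.single_le_sum (f := fun χ : IrrCharacter G => charDegree (χ : G → ℂ) ^ 2)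
      (fun _ _ => Nat.zero_le _) (Finset.mem_univ χ)
  have h1reg : ¬ 19 ∣ orderOf (1 : G) := by
    rw [orderOf_one]; norm_num
  -- `Y` is nonempty
  have hcY9 : Y.ncard = 9 := by
    rw [← Nat.card_coe_set_eq, hcY]
  have hYfin : Y.Finite := Set.finite_of_ncard_ne_zero (by rw [hcY9]; norm_num)
  obtain ⟨θ, hθ⟩ : Y.Nonempty := by
    rw [← Set.ncard_pos hYfin, hcY9]; norm_num
  -- the principal character is in `X`
  have hprinc : principalChar G ∈ principalBlock M G :=
    Cfsg.Agent.Helper23.Blk.mem_blockOf_self (principalChar G)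
  rw [hB] at hprinc
  have hpX : principalChar G ∈ X := by
    rcases hprinc with hp | hp
    · exact hp
    · exfalso
      have hm := (hYdeg _ hp).dvd
      rw [BR996.Asm.charDegree_principal] at hm
      push_cast at hm
      rcases hε with he | he <;> rw [he] at hm <;> omega
  -- `X = {1, χ}`
  have hcX2 : X.ncard = 2 := by
    rw [← Nat.card_coe_set_eq, hcX]
  obtain ⟨u, v, huv, hXuv⟩ := Set.ncard_eq_two.1 hcX2
  obtain ⟨χ1, hχ1, hXeq⟩ : ∃ χ1 : IrrCharacter G, χ1 ≠ principalChar G ∧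
      X = {principalChar G, χ1} := by
    rw [hXuv] at hpX
    rcases hpX with hp | hp
    · exact ⟨v, fun hv => huv (by rw [← hp, hv]), by rw [hXuv, hp]⟩
    · rw [Set.mem_singleton_iff] at hp
      exact ⟨u, fun hu => huv (by rw [hu, ← hp]), by rw [hXuv, hp, Set.pair_comm]⟩
  have hχ1X : χ1 ∈ X := by rw [hXeq]; simp
  obtain ⟨hε1, hm1, -⟩ := hX _ hpX
  obtain ⟨he1, hmχ, hv1⟩ := hX _ hχ1X
  rw [BR996.Asm.charDegree_principal] at hm1
  have hε1' : εX (principalChar G) = 1 := by
    have hm := hm1.dvd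
    push_cast at hm
    rcases hε1 with h1 | h1
    · exact h1
    · exfalso
      rw [h1] at hm
      omega
  have hp1 : ∀ g : G, ((principalChar G : IrrCharacter G) : G → ℂ) g = 1 := fun _ => rfl
  have hnp : ∃ g : G, (χ1 : G → ℂ) g ≠ 1 := by
    by_contra hcon
    push_neg at hcon
    exact hχ1 (Subtype.ext (funext fun g => by rw [hcon g, hp1 g]))
  obtain ⟨j, hj, -, hb⟩ := Cfsg.Agent.Helper28.Ord5040.step3 hG 19 (by norm_num) P hP t ht htC χ1
    hnp (εX χ1) hv1
  -- the relation at `1`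
  have heq1 := hYeq θ hθ 1 h1reg
  rw [hXeq, finsum_mem_pair (Ne.symm hχ1), hε1', hp1, irr_one_eq_charDegree θ.2,
    irr_one_eq_charDegree χ1.2] at heq1
  have heqZ : ε * (charDegree (θ : G → ℂ) : ℤ) =
      1 + εX χ1 * (charDegree (χ1 : G → ℂ) : ℤ) := by
    have : ((ε * (charDegree (θ : G → ℂ) : ℤ) : ℤ) : ℂ) =
        ((1 + εX χ1 * (charDegree (χ1 : G → ℂ) : ℤ) : ℤ) : ℂ) := by
      push_cast
      rw [heq1]
      ring
    exact_mod_cast this
  have hmχ' := hmχ.dvd
  push_cast at hmχ'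
  exact O15960.arith (charDegree (χ1 : G → ℂ)) (charDegree (θ : G → ℂ)) (εX χ1) ε he1 hε
    (hdvd χ1) (hdvd θ) (hsqle χ1) hmχ' (by omega) heqZ

end Cfsg.Agent.Helper3.SmallOrd
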