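import Mathlib
import Cfsg.Agent.Lib.Lead.SylowTools
import Cfsg.Agent.Lib.Lead.SimpleTools

set_option autoImplicit false

namespace Cfsg.Agent.Helper3.SmallOrd

/-- A2 (pure group theory): a group of order 36 with a central subgroup of order 3 and more than one
Sylow 3-subgroup has exactly one Sylow 2-subgroup.  (Proof: `n_3 = 4`, so `N(P) = P` is abelian and
Burnside's transfer theorem gives a normal 3-complement of order 4.) -/
theorem sylow2_unique_of_card_36 {C : Type*} [Group C] [Finite C] (hC : Nat.card C = 36)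
    (D : Subgroup C) (hD : Nat.card D = 3) (hDc : D ≤ Subgroup.center C)
    (hn : ∃ P R : Sylow 3 C, P ≠ R) : ∀ S T : Sylow 2 C, S = T := by
  have : Fact (Nat.Prime 3) := ⟨by norm_num⟩
  have : Fact (Nat.Prime 2) := ⟨by norm_num⟩
  obtain ⟨P, R, hPR⟩ := hn
  have hcard3 : Nat.card C = 3 ^ 2 * 4 := by rw [hC]; norm_num
  have hcard2 : Nat.card C = 2 ^ 2 * 9 := by rw [hC]; norm_num
  obtain ⟨h3card, h3dvd, h3mod⟩ := Cfsg.Agent.Lead.sylow_facts (p := 3) hcard3 (by norm_num)
  obtain ⟨h2card, -, -⟩ := Cfsg.Agent.Lead.sylow_facts (p := 2) hcard2 (by norm_num)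
  -- n_3 = 4
  have hn3 : Nat.card (Sylow 3 C) = 4 := by
    have h2 : 2 ≤ Nat.card (Sylow 3 C) := by
      rw [Nat.succ_le_iff, Finite.one_lt_card_iff_nontrivial]
      exact ⟨⟨P, R, hPR⟩⟩
    have hle : Nat.card (Sylow 3 C) ≤ 4 := Nat.le_of_dvd (by norm_num) h3dvd
    interval_cases h : Nat.card (Sylow 3 C) <;> omega
  -- |N(P)| = 9
  have hNP : Nat.card (Subgroup.normalizer ((P : Subgroup C) : Set C)) = 9 := by
    have := Cfsg.Agent.Lead.card_sylow_mul_card_normalizer P
    rw [hn3, hC] at this
    omega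
  have hP9 : Nat.card (P : Subgroup C) = 9 := by rw [h3card P]; norm_num
  have hNeq : Subgroup.normalizer ((P : Subgroup C) : Set C) = (P : Subgroup C) := by
    symm
    apply Subgroup.eq_of_le_of_card_ge Subgroup.le_normalizer
    rw [hNP, hP9]
  -- P is abelian
  have hcomm : ∀ a b : (P : Subgroup C), a * b = b * a := by
    have hmc : IsMulCommutative (P : Subgroup C) :=
      IsPGroup.isMulCommutative_of_card_eq_prime_sq (p := 3) (by rw [hP9]; norm_num)
    exact fun a b => hmc.is_comm.comm a b
  have hNC : Subgroup.normalizer ((P : Subgroup C) : Set C) ≤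
      Subgroup.centralizer ((P : Subgroup C) : Set C) := by
    rw [hNeq]
    intro x hx
    rw [Subgroup.mem_centralizer_iff]
    intro y hy
    have := hcomm ⟨y, hy⟩ ⟨x, hx⟩
    exact congrArg Subtype.val this
  -- Burnside transfer
  have hcompl := MonoidHom.ker_transferSylow_isComplement' P hNC
  set K : Subgroup C := (MonoidHom.transferSylow P hNC).ker with hK
  have hKcard : Nat.card K = 4 := by
    have := hcompl.card_mul_card
    rw [hP9, hC] at this
    omega
  have hKn : K.Normal := by rw [hK]; infer_instance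
  have hKp : IsPGroup 2 K := IsPGroup.of_card (n := 2) (by rw [hKcard]; norm_num)
  obtain ⟨Q, hQ⟩ := hKp.exists_le_sylow
  have hKQ : K = (Q : Subgroup C) := by
    apply Subgroup.eq_of_le_of_card_ge hQ
    rw [h2card Q, hKcard]; norm_num
  have hQn : (Q : Subgroup C).Normal := hKQ ▸ hKn
  have huniq := Sylow.unique_of_normal Q hQn
  intro S T
  exact (huniq.eq_default S).trans (huniq.eq_default T).symm

end Cfsg.Agent.Helper3.SmallOrd
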