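import Mathlib
import Cfsg.Agent.Lib.Helper3.SmallOrd

set_option autoImplicit false

namespace Cfsg.Agent.Helper3.SmallOrd

variable {G : Type*} [Group G] [Finite G] [IsSimpleGroup G]

theorem c720_nonab (h : Nat.card G = 720) : ∃ x y : G, x * y ≠ y * x :=
  Cfsg.Agent.Lead.nonabelian_of_not_prime (by rw [h]; norm_num)

/-- F1: a proper subgroup has order at most 90. -/
theorem c720_card_le (h : Nat.card G = 720) (H : Subgroup G) (hH : H ≠ ⊤) : Nat.card H ≤ 90 := by
  have hdvd := two_mul_card_dvd_factorial_index (c720_nonab h) H hH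
  rw [h] at hdvd
  have hmul : Nat.card H * H.index = 720 := by rw [Subgroup.card_mul_index, h]
  by_contra hcon
  push Not at hcon
  have hidx : H.index < 8 := by
    by_contra h8
    push Not at h8
    have : 90 * 8 < Nat.card H * H.index := by
      calc 90 * 8 < Nat.card H * 8 := by omega
        _ ≤ Nat.card H * H.index := Nat.mul_le_mul_left _ h8
    omega
  have h7 : (H.index).factorial ∣ (7).factorial := Nat.factorial_dvd_factorial (by omega)
  have := hdvd.trans h7
  revert this
  decide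

/-- F2: anything commuting with an element of order 5 is a power of it. -/
theorem c720_commute_five (h : Nat.card G = 720) {x y : G} (hx : orderOf x = 5)
    (hxy : Commute x y) : y ∈ Subgroup.zpowers x := by
  have : Fact (Nat.Prime 5) := ⟨by norm_num⟩
  have hcard5 : Nat.card G = 5 ^ 1 * 144 := by rw [h]; norm_num
  obtain ⟨h5card, -, -⟩ := Cfsg.Agent.Lead.sylow_facts (p := 5) hcard5 (by norm_num)
  have hz : Nat.card (Subgroup.zpowers x) = 5 := by rw [Nat.card_zpowers, hx]
  have hzp : IsPGroup 5 (Subgroup.zpowers x) := IsPGroup.of_card (n := 1) (by rw [hz]; norm_num)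
  obtain ⟨Q, hQ⟩ := hzp.exists_le_sylow
  have hzQ : Subgroup.zpowers x = (Q : Subgroup G) := by
    apply Subgroup.eq_of_le_of_card_ge hQ
    rw [h5card Q, hz]; norm_num
  have hC : Subgroup.centralizer ((Q : Subgroup G) : Set G) = (Q : Subgroup G) :=
    Cfsg.Agent.S0904.result 2 3 5 4 2 (by norm_num) (by norm_num) (by norm_num) (by norm_num)
      (by norm_num) (by rw [h]; norm_num) Q
  rw [hzQ, ← hC, ← hzQ, Subgroup.mem_centralizer_iff]
  intro g hg
  rw [SetLike.mem_coe, Subgroup.mem_zpowers_iff] at hg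
  obtain ⟨k, rfl⟩ := hg
  exact (hxy.zpow_left k).eq

/-- F3: 5 does not divide the order of the normalizer of a subgroup of order 2, 3, 4, 8 or 9. -/
theorem c720_not_five_dvd (h : Nat.card G = 720) (X : Subgroup G)
    (hX : Nat.card X = 2 ∨ Nat.card X = 3 ∨ Nat.card X = 4 ∨ Nat.card X = 8 ∨ Nat.card X = 9) :
    ¬ 5 ∣ Nat.card (Subgroup.normalizer (X : Set G)) := by
  have : Fact (Nat.Prime 5) := ⟨by norm_num⟩
  intro hdvd
  obtain ⟨x, hx⟩ := exists_prime_orderOf_dvd_card' 5 hdvd
  have hx' : orderOf (x : G) = 5 := by rw [Subgroup.orderOf_coe, hx]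
  have hz : Nat.card (Subgroup.zpowers (x : G)) = 5 := by rw [Nat.card_zpowers, hx']
  have hzp : IsPGroup 5 (Subgroup.zpowers (x : G)) :=
    IsPGroup.of_card (n := 1) (by rw [hz]; norm_num)
  have hzN : Subgroup.zpowers (x : G) ≤ Subgroup.normalizer (X : Set G) := by
    rw [Subgroup.zpowers_le]
    exact x.2
  have hmod : Nat.card X % 5 ≠ 1 % 5 := by
    rcases hX with h1 | h1 | h1 | h1 | h1 <;> rw [h1] <;> norm_num
  obtain ⟨t, htX, ht1, htc⟩ :=
    Cfsg.Agent.Lead.exists_ne_one_fixed_of_pgroup (Subgroup.zpowers (x : G)) X hzp hzN hmod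
  have hcomm : Commute (x : G) t := htc _ (Subgroup.mem_zpowers _)
  have htz : t ∈ Subgroup.zpowers (x : G) := c720_commute_five h hx' hcomm
  have hot : orderOf t ∣ 5 := by
    have := Subgroup.orderOf_dvd_natCard (Subgroup.zpowers (x : G)) htz
    rwa [hz] at this
  have hot5 : orderOf t = 5 := by
    rcases (Nat.dvd_prime (by norm_num : Nat.Prime 5)).1 hot with h1 | h1
    · exact absurd (orderOf_eq_one_iff.1 h1) ht1
    · exact h1
  have h5X : 5 ∣ Nat.card X := by
    rw [← hot5]
    exact Subgroup.orderOf_dvd_natCard X htX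
  rcases hX with h1 | h1 | h1 | h1 | h1 <;> rw [h1] at h5X <;> omega

end Cfsg.Agent.Helper3.SmallOrd
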