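import Mathlib
import Cfsg.Prelude.Def_KGroupFacts

set_option autoImplicit false

namespace Cfsg.Agent.Helper1.OutPrime

/-- A finite group all of whose elements of odd order lie in the image of a solvable group is
solvable. -/
theorem isSolvable_of_odd_mem_range {X Y : Type*} [Group X] [Finite X] [Group Y]
    [Group.IsSolvable Y] (f : Y →* X) (h : ∀ x : X, Odd (orderOf x) → x ∈ f.range) :
    Group.IsSolvable X := by
  classical
  obtain ⟨O, hO⟩ : ∃ O : Subgroup X, O = Subgroup.normalClosure {x | Odd (orderOf x)} := ⟨_, rfl⟩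
  haveI hOn : O.Normal := by rw [hO]; exact Subgroup.normalClosure_normal
  have hOle : O ≤ f.range := by
    rw [hO]
    show Subgroup.closure (Group.conjugatesOfSet _) ≤ _
    rw [Subgroup.closure_le]
    intro y hy
    obtain ⟨x, hx, hxy⟩ := Group.mem_conjugatesOfSet_iff.mp hy
    apply h
    obtain ⟨c, hc⟩ := isConj_iff.mp hxy
    rw [← hc]
    have h1 : orderOf (c * x * c⁻¹) = orderOf x := by
      have := MulEquiv.orderOf_eq (MulAut.conj c) x
      simpa using this
    rw [h1]; exact hx
  haveI : Group.IsSolvable f.range := Group.isSolvable_of_surjective f.rangeRestrict_surjective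
  haveI : Group.IsSolvable O :=
    Group.isSolvable_of_isSolvable_injective (Subgroup.inclusion_injective hOle)
  have h2 : IsPGroup 2 (X ⧸ O) := by
    intro xbar
    obtain ⟨x, rfl⟩ := QuotientGroup.mk_surjective xbar
    have hpos : orderOf x ≠ 0 := (orderOf_pos x).ne'
    obtain ⟨a, u, hu, hau⟩ := Nat.exists_eq_two_pow_mul_odd hpos
    refine ⟨a, ?_⟩
    rw [← QuotientGroup.mk_pow, QuotientGroup.eq_one_iff, hO]
    apply Subgroup.subset_normalClosure
    show Odd (orderOf (x ^ 2 ^ a))
    rw [orderOf_pow_of_dvd (pow_ne_zero _ two_ne_zero) ⟨u, hau⟩, hau,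
      Nat.mul_div_cancel_left _ (pow_pos two_pos a)]
    exact hu
  haveI : Fact (Nat.Prime 2) := ⟨Nat.prime_two⟩
  haveI : Group.IsNilpotent (X ⧸ O) := h2.isNilpotent
  haveI : Group.IsSolvable (X ⧸ O) := inferInstance
  exact (Group.isSolvable_iff_subgroup_quotient O).mpr ⟨inferInstance, inferInstance⟩

/-- Transport of solvability of the outer automorphism group along an isomorphism. -/
theorem out_isSolvable_of_mulEquiv {G Γ : Type*} [Group G] [Group Γ] (e : G ≃* Γ)
    [h : Group.IsSolvable (Cfsg.Out Γ)] : Group.IsSolvable (Cfsg.Out G) := by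
  have hle : Cfsg.Inn Γ ≤ (Cfsg.Inn G).comap (MulAut.congr e.symm).toMonoidHom := by
    rintro _ ⟨γ, rfl⟩
    rw [Subgroup.mem_comap]
    refine ⟨e.symm γ, ?_⟩
    ext x
    simp [MulAut.congr]
  let F : Cfsg.Out Γ →* Cfsg.Out G :=
    QuotientGroup.map (Cfsg.Inn Γ) (Cfsg.Inn G) (MulAut.congr e.symm).toMonoidHom hle
  have hsurj : Function.Surjective F := by
    intro ybar
    obtain ⟨y, rfl⟩ := QuotientGroup.mk_surjective ybar
    obtain ⟨y', rfl⟩ := (MulAut.congr e.symm).surjective y
    exact ⟨QuotientGroup.mk y', rfl⟩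
  exact Group.isSolvable_of_surjective hsurj

/-- The outer automorphism group of a cyclic group is solvable. -/
theorem out_isSolvable_of_isCyclic {G : Type*} [Group G] [IsCyclic G] :
    Group.IsSolvable (Cfsg.Out G) := by
  haveI : Group.IsSolvable (MulAut G) := by
    apply Group.isSolvable_of_comm
    intro a b
    apply (IsCyclic.mulAutMulEquiv G).injective
    rw [map_mul, map_mul, mul_comm]
  infer_instance

end Cfsg.Agent.Helper1.OutPrime
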