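import Mathlib

set_option autoImplicit false

namespace Cfsg.Agent.Helper1.TwoTransAut

/-- Arithmetic core of the odd-order automorphism argument for doubly transitive groups. -/
theorem arith (n k lam c b : ℤ) (m : ℕ) (hm : Odd m) (hn : 2 ≤ n) (hk1 : 1 ≤ k) (hkn : k ≤ n)
    (hcop : IsCoprime k n) (hl0 : 0 ≤ lam) (hlk : lam ≤ k)
    (h1 : (k - lam) + n * lam = k ^ 2) (h2 : c ^ 2 = (k - lam) ^ m) (h3 : c + n * b = k ^ m) :
    k = 1 ∨ k = n - 1 := by
  obtain ⟨t, rfl⟩ := hm
  have hkn' : k ≠ n := by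
    rintro rfl
    have hu : IsUnit k := isCoprime_self.mp hcop
    rcases Int.isUnit_iff.mp hu with h | h <;> omega
  have hklt : k < n := lt_of_le_of_ne hkn hkn'
  obtain ⟨e, he⟩ : ∃ e, e = k - lam := ⟨_, rfl⟩
  rw [← he] at h1 h2
  have he0 : 0 ≤ e := by omega
  have hene : e ≠ 0 := by
    intro h0
    have hlam : lam = k := by omega
    rw [h0, hlam] at h1
    have : k * (n - k) = 0 := by linear_combination h1
    rcases mul_eq_zero.mp this with h | h <;> omega
  have hepos : 0 < e := lt_of_le_of_ne he0 (Ne.symm hene)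
  have hetne : e ^ t ≠ 0 := pow_ne_zero _ hene
  -- e^t divides c
  have hdvd : e ^ t ∣ c := by
    rw [← Int.pow_dvd_pow_iff (two_ne_zero)]
    exact ⟨e, by rw [h2]; ring⟩
  obtain ⟨d, hd⟩ := hdvd
  have hde : d ^ 2 = e := by
    have : (e ^ t) ^ 2 * d ^ 2 = (e ^ t) ^ 2 * e := by
      rw [← mul_pow, ← hd, h2]; ring
    exact mul_left_cancel₀ (pow_ne_zero 2 hetne) this
  have hcd : c = d ^ (2 * t + 1) := by
    rw [hd, ← hde]; ring
  -- n divides k^2 - d^2
  have hdiv2 : n ∣ k ^ 2 - d ^ 2 := ⟨lam, by rw [hde]; linear_combination (-1 : ℤ) * h1⟩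
  have hdivm : n ∣ k ^ (2 * t + 1) - d ^ (2 * t + 1) := ⟨b, by rw [← hcd]; linear_combination (-1 : ℤ) * h3⟩
  have hdiv2t : n ∣ k ^ (2 * t) - d ^ (2 * t) := by
    have := sub_dvd_pow_sub_pow (k ^ 2) (d ^ 2) t
    rw [← pow_mul, ← pow_mul] at this
    exact dvd_trans hdiv2 this
  have hdiv3 : n ∣ (k - d) * d ^ (2 * t) := by
    have : (k - d) * d ^ (2 * t) = (k ^ (2 * t + 1) - d ^ (2 * t + 1)) - k * (k ^ (2 * t) - d ^ (2 * t)) := by
      ring
    rw [this]
    exact dvd_sub hdivm (dvd_mul_of_dvd_right hdiv2t _)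
  have hcopd : IsCoprime n (d ^ (2 * t)) := by
    have h1' : IsCoprime (k ^ 2) n := hcop.pow_left
    have h2' : IsCoprime (k ^ 2 + n * (-lam)) n := h1'.add_mul_left_left _
    have h3' : k ^ 2 + n * (-lam) = d ^ 2 := by rw [hde]; linear_combination (-1 : ℤ) * h1
    rw [h3'] at h2'
    have h4' : IsCoprime d n := (IsCoprime.pow_left_iff (by norm_num : 0 < 2)).mp h2'
    exact h4'.symm.pow_right
  have hdiv4 : n ∣ k - d := hcopd.dvd_of_dvd_mul_right hdiv3
  have hdk : d ^ 2 ≤ k := by omega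
  have hd1 : d ≤ k := by nlinarith
  have hd2 : -k ≤ d := by nlinarith
  obtain ⟨q, hq⟩ := hdiv4
  have hq0 : 0 ≤ q := by nlinarith
  have hq2 : q < 2 := by nlinarith
  interval_cases q
  · left
    have hkd : k = d := by linarith
    rw [← hkd] at hdk
    nlinarith
  · right
    have hdkn : d = k - n := by linarith
    have hj : (n - k) * ((n - k) - 1) = 0 := by
      have h5 : n * ((n - k) * ((n - k) - 1)) = 0 := by
        rw [hdkn] at hde
        have : lam = k - (k - n) ^ 2 := by omega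
        rw [← hde] at h1
        rw [this] at h1
        linear_combination (-1 : ℤ) * h1
      rcases mul_eq_zero.mp h5 with h | h
      · omega
      · exact h
    rcases mul_eq_zero.mp hj with h | h <;> omega

end Cfsg.Agent.Helper1.TwoTransAut
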