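import Mathlib
import Cfsg.Agent.Lib.Helper1.TwoTransAutA

set_option autoImplicit false

namespace Cfsg.Agent.Helper1.TwoTransAut

open scoped Matrix

section Mat

variable {G Ω : Type*} [Group G] [MulAction G Ω] [Fintype Ω] [DecidableEq Ω]

/-- `(β, γ)`-invariance of a matrix indexed by a `G`-set. -/
def Inv (β γ : G → G) (M : Matrix Ω Ω ℤ) : Prop :=
  ∀ h x y, M (β h • x) (γ h • y) = M x y

/-- The all-ones matrix. -/
def J : Matrix Ω Ω ℤ := Matrix.of fun _ _ => 1

omit [DecidableEq Ω] in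
theorem J_apply (x y : Ω) : (J : Matrix Ω Ω ℤ) x y = 1 := rfl

omit [DecidableEq Ω] in
theorem J_mul_J : (J : Matrix Ω Ω ℤ) * J = (Fintype.card Ω : ℤ) • (J : Matrix Ω Ω ℤ) := by
  ext x y
  simp [Matrix.mul_apply, J_apply]

omit [DecidableEq Ω] in
theorem J_transpose : (J : Matrix Ω Ω ℤ)ᵀ = J := by
  ext x y
  rfl

omit [DecidableEq Ω] in
theorem Inv.mul {β γ δ : G → G} {M N : Matrix Ω Ω ℤ} (hM : Inv β γ M) (hN : Inv γ δ N) :
    Inv β δ (M * N) := by
  intro h x z
  simp only [Matrix.mul_apply]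
  calc ∑ y, M (β h • x) y * N y (δ h • z)
      = ∑ y, M (β h • x) (γ h • y) * N (γ h • y) (δ h • z) :=
        (Equiv.sum_comp (MulAction.toPerm (γ h)) (fun y => M (β h • x) y * N y (δ h • z))).symm
    _ = ∑ y, M x y * N y z := Finset.sum_congr rfl fun y _ => by rw [hM, hN]

omit [DecidableEq Ω] in
theorem Inv.transpose {β γ : G → G} {M : Matrix Ω Ω ℤ} (hM : Inv β γ M) : Inv γ β Mᵀ := by
  intro h x y
  simp only [Matrix.transpose_apply]
  exact hM h y x

/-- Structure of invariant matrices under a 2-transitive action. -/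
theorem exists_of_inv [Nontrivial Ω]
    (h2 : ∀ {a b c d : Ω}, a ≠ b → c ≠ d → ∃ g : G, g • a = c ∧ g • b = d)
    (htr : ∀ a c : Ω, ∃ g : G, g • a = c)
    {M : Matrix Ω Ω ℤ} (hM : Inv (id : G → G) id M) :
    ∃ c b : ℤ, M = c • (1 : Matrix Ω Ω ℤ) + b • (J : Matrix Ω Ω ℤ) := by
  obtain ⟨x₀, y₀, hxy⟩ := exists_pair_ne Ω
  refine ⟨M x₀ x₀ - M x₀ y₀, M x₀ y₀, ?_⟩
  ext x y
  simp only [Matrix.add_apply, Matrix.smul_apply, Matrix.one_apply, J_apply, smul_eq_mul, mul_one]
  by_cases h : x = y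
  · subst h
    obtain ⟨g, rfl⟩ := htr x₀ x
    have := hM g x₀ x₀
    simp only [id] at this
    rw [this]; simp
  · obtain ⟨g, rfl, rfl⟩ := h2 hxy h
    have := hM g x₀ y₀
    simp only [id] at this
    rw [this, if_neg h]; simp

theorem key [Nontrivial Ω]
    (h2 : ∀ {a b c d : Ω}, a ≠ b → c ≠ d → ∃ g : G, g • a = c ∧ g • b = d)
    (htr : ∀ a c : Ω, ∃ g : G, g • a = c)
    (α : MulAut G) (m : ℕ) (hm : Odd m) (hαm : α ^ m = 1)
    (A : Matrix Ω Ω ℤ) (h01 : ∀ x y, A x y = 0 ∨ A x y = 1)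
    (hA : Inv (⇑α) id A) (o : Ω) (k : ℤ) (hk : ∑ x, A x o = k)
    (hcop : IsCoprime k (Fintype.card Ω : ℤ)) :
    k = 1 ∨ k = (Fintype.card Ω : ℤ) - 1 := by
  obtain ⟨n, hn⟩ : ∃ n : ℤ, n = (Fintype.card Ω : ℤ) := ⟨_, rfl⟩
  rw [← hn] at hcop ⊢
  have hn2 : 2 ≤ n := by
    rw [hn]
    exact_mod_cast Fintype.one_lt_card
  -- column sums
  have hcol : ∀ y, ∑ x, A x y = k := by
    intro y
    obtain ⟨h, rfl⟩ := htr o y
    rw [← hk]
    calc ∑ x, A x (h • o) = ∑ x, A (α h • x) (h • o) :=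
          (Equiv.sum_comp (MulAction.toPerm (α h)) (fun x => A x (h • o))).symm
      _ = ∑ x, A x o := Finset.sum_congr rfl fun x _ => hA h x o
  -- row sums
  have hrow0 : ∀ h x, ∑ y, A (α h • x) y = ∑ y, A x y := by
    intro h x
    calc ∑ y, A (α h • x) y = ∑ y, A (α h • x) (h • y) :=
          (Equiv.sum_comp (MulAction.toPerm h) (fun y => A (α h • x) y)).symm
      _ = ∑ y, A x y := Finset.sum_congr rfl fun y _ => hA h x y
  have hrow1 : ∀ x, ∑ y, A x y = ∑ y, A o y := by
    intro x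
    obtain ⟨g, rfl⟩ := htr o x
    have := hrow0 (α.symm g) o
    rwa [MulEquiv.apply_symm_apply] at this
  have hrow : ∀ x, ∑ y, A x y = k := by
    have htot : ∑ x, ∑ y, A x y = ∑ y, ∑ x, A x y := Finset.sum_comm
    rw [Finset.sum_congr rfl (fun x _ => hrow1 x), Finset.sum_congr rfl (fun y _ => hcol y)] at htot
    simp only [Finset.sum_const, Finset.card_univ, nsmul_eq_mul] at htot
    rw [← hn] at htot
    have hn0 : n ≠ 0 := by omega
    intro x
    rw [hrow1 x]
    exact mul_left_cancel₀ hn0 htot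
  have hAJ : A * J = k • (J : Matrix Ω Ω ℤ) := by
    ext x y
    simp [Matrix.mul_apply, J_apply, hrow]
  have hJA : J * A = k • (J : Matrix Ω Ω ℤ) := by
    ext x y
    simp [Matrix.mul_apply, J_apply, hcol]
  have hJAt : J * Aᵀ = k • (J : Matrix Ω Ω ℤ) := by
    have := congrArg Matrix.transpose hAJ
    rwa [Matrix.transpose_mul, J_transpose, Matrix.transpose_smul, J_transpose] at this
  have hAtJ : Aᵀ * J = k • (J : Matrix Ω Ω ℤ) := by
    have := congrArg Matrix.transpose hJA
    rwa [Matrix.transpose_mul, J_transpose, Matrix.transpose_smul, J_transpose] at this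
  -- the Gram matrix
  have hBinv : Inv (id : G → G) id (A * Aᵀ) := by
    have h1 : Inv (⇑α) (⇑α) (A * Aᵀ) := hA.mul hA.transpose
    intro h x y
    have := h1 (α.symm h) x y
    simpa using this
  obtain ⟨e, lam, hB⟩ := exists_of_inv h2 htr hBinv
  obtain ⟨x₀, y₀, hxy⟩ := exists_pair_ne Ω
  have hsq : ∀ x y, A x y * A x y = A x y := by
    intro x y
    rcases h01 x y with h | h <;> simp [h]
  have hdiag : e + lam = k := by
    have := congrFun (congrFun hB x₀) x₀
    simp only [Matrix.mul_apply, Matrix.transpose_apply, hsq, hrow, Matrix.add_apply,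
      Matrix.smul_apply, Matrix.one_apply_eq, J_apply, smul_eq_mul, mul_one] at this
    linarith
  have hlam : lam = ∑ z, A x₀ z * A y₀ z := by
    have := congrFun (congrFun hB x₀) y₀
    simp only [Matrix.mul_apply, Matrix.transpose_apply, Matrix.add_apply,
      Matrix.smul_apply, Matrix.one_apply_ne hxy, J_apply, smul_eq_mul, mul_one, mul_zero,
      zero_add] at this
    exact this.symm
  have hl0 : 0 ≤ lam := by
    rw [hlam]
    apply Finset.sum_nonneg
    intro z _
    rcases h01 x₀ z with h | h <;> rcases h01 y₀ z with h' | h' <;> simp [h, h']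
  have hlk : lam ≤ k := by
    rw [hlam, ← hrow x₀]
    apply Finset.sum_le_sum
    intro z _
    rcases h01 x₀ z with h | h <;> rcases h01 y₀ z with h' | h' <;> simp [h, h']
  have hBJ : e + lam * n = k * k := by
    have h1 : (A * Aᵀ) * J = (k * k) • (J : Matrix Ω Ω ℤ) := by
      rw [Matrix.mul_assoc, hAtJ, Matrix.mul_smul, hAJ, smul_smul]
    rw [hB, Matrix.add_mul, Matrix.smul_mul, Matrix.smul_mul, Matrix.one_mul, J_mul_J, smul_smul,
      ← add_smul] at h1
    have := congrFun (congrFun h1 x₀) x₀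
    simpa [J_apply, hn] using this
  -- powers
  have hpowinv : ∀ j : ℕ, Inv (⇑(α ^ j)) id (A ^ j) := by
    intro j
    induction j with
    | zero =>
      intro h x y
      simp [Matrix.one_apply]
    | succ j ih =>
      rw [pow_succ' A]
      have h1 : Inv (⇑(α ^ (j + 1))) (⇑(α ^ j)) A := by
        intro h x y
        have := hA ((α ^ j) h) x y
        rw [pow_succ', MulAut.mul_apply]
        exact this
      exact h1.mul ih
  have hMinv : Inv (id : G → G) id (A ^ m) := by
    intro h x y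
    have := hpowinv m h x y
    rw [hαm] at this
    simpa using this
  obtain ⟨c, b, hM⟩ := exists_of_inv h2 htr hMinv
  have hpowJ : ∀ j : ℕ, A ^ j * J = (k ^ j) • (J : Matrix Ω Ω ℤ) := by
    intro j
    induction j with
    | zero => simp
    | succ j ih =>
      rw [pow_succ, Matrix.mul_assoc, hAJ, Matrix.mul_smul, ih, smul_smul, pow_succ, mul_comm]
  have hcb : c + b * n = k ^ m := by
    have h1 := hpowJ m
    rw [hM, Matrix.add_mul, Matrix.smul_mul, Matrix.smul_mul, Matrix.one_mul, J_mul_J, smul_smul,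
      ← add_smul] at h1
    have := congrFun (congrFun h1 x₀) x₀
    simpa [J_apply, hn] using this
  have hgram : ∀ j : ℕ, ∃ μ : ℤ,
      A ^ j * (A ^ j)ᵀ = (e ^ j) • (1 : Matrix Ω Ω ℤ) + μ • (J : Matrix Ω Ω ℤ) := by
    intro j
    induction j with
    | zero => exact ⟨0, by simp⟩
    | succ j ih =>
      obtain ⟨μ, hμ⟩ := ih
      refine ⟨e ^ j * lam + μ * (k * k), ?_⟩
      rw [pow_succ' A, Matrix.transpose_mul]
      have : A * A ^ j * ((A ^ j)ᵀ * Aᵀ) = A * (A ^ j * (A ^ j)ᵀ) * Aᵀ := by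
        simp only [Matrix.mul_assoc]
      rw [this, hμ, Matrix.mul_add, Matrix.add_mul, Matrix.mul_smul, Matrix.mul_smul,
        Matrix.smul_mul, Matrix.smul_mul, Matrix.mul_one, hB, hAJ, Matrix.smul_mul, hJAt]
      ext x y
      simp only [Matrix.add_apply, Matrix.smul_apply, J_apply, Matrix.one_apply, smul_eq_mul]
      split_ifs <;> ring
  obtain ⟨μ, hμ⟩ := hgram m
  have hMM : (c • (1 : Matrix Ω Ω ℤ) + b • (J : Matrix Ω Ω ℤ)) *
      (c • (1 : Matrix Ω Ω ℤ) + b • (J : Matrix Ω Ω ℤ))ᵀ =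
      (c * c) • (1 : Matrix Ω Ω ℤ) + (2 * c * b + b * b * n) • (J : Matrix Ω Ω ℤ) := by
    rw [Matrix.transpose_add, Matrix.transpose_smul, Matrix.transpose_smul, Matrix.transpose_one,
      J_transpose]
    simp only [Matrix.add_mul, Matrix.mul_add, Matrix.smul_mul, Matrix.mul_smul, Matrix.one_mul,
      Matrix.mul_one, J_mul_J, smul_smul]
    ext x y
    simp only [Matrix.add_apply, Matrix.smul_apply, J_apply, Matrix.one_apply, smul_eq_mul, hn]
    split_ifs <;> ring
  have hc2 : c ^ 2 = e ^ m := by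
    rw [hM, hMM] at hμ
    have hx := congrFun (congrFun hμ x₀) x₀
    have hy := congrFun (congrFun hμ x₀) y₀
    simp only [Matrix.add_apply, Matrix.smul_apply, J_apply, Matrix.one_apply_eq,
      Matrix.one_apply_ne hxy, smul_eq_mul, mul_one, mul_zero, zero_add] at hx hy
    linarith
  -- bounds on k
  have hk0 : 0 ≤ k := by
    rw [← hk]
    apply Finset.sum_nonneg
    intro x _
    rcases h01 x o with h | h <;> simp [h]
  have hk1 : 1 ≤ k := by
    rcases eq_or_lt_of_le hk0 with h | h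
    · rw [← h] at hcop
      have hu : IsUnit n := isCoprime_zero_left.mp hcop
      rcases Int.isUnit_iff.mp hu with h' | h' <;> omega
    · omega
  have hkn : k ≤ n := by
    rw [← hk, hn]
    calc ∑ x, A x o ≤ ∑ _x : Ω, (1 : ℤ) := by
          apply Finset.sum_le_sum
          intro x _
          rcases h01 x o with h | h <;> simp [h]
      _ = (Fintype.card Ω : ℤ) := by simp
  have he : e = k - lam := by linarith
  refine arith n k lam c b m hm hn2 hk1 hkn hcop hl0 hlk ?_ ?_ ?_
  · rw [← he]; linarith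
  · rw [← he]; exact hc2
  · linarith

end Mat

end Cfsg.Agent.Helper1.TwoTransAut
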