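import Mathlib
import Cfsg.Agent.Lib.Helper1.TwoTransAutB

set_option autoImplicit false

namespace Cfsg.Agent.Helper1.TwoTransAut

open scoped Matrix
open MulAction

section Grp

variable {G Ω : Type*} [Group G] [MulAction G Ω] [Fintype Ω]

theorem mem_orbit_map_iff (o : Ω) (α : MulAut G) (ω x : Ω) :
    x ∈ orbit ((stabilizer G o).map α.toMonoidHom) ω ↔ ∃ g : G, x = α g • ω ∧ o = g • o := by
  constructor
  · rintro ⟨⟨κ, hκ⟩, rfl⟩
    obtain ⟨g, hg, rfl⟩ := Subgroup.mem_map.mp hκ
    exact ⟨g, rfl, (mem_stabilizer_iff.mp hg).symm⟩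
  · rintro ⟨g, rfl, hg⟩
    exact ⟨⟨α g, Subgroup.mem_map.mpr ⟨g, mem_stabilizer_iff.mpr hg.symm, rfl⟩⟩, rfl⟩

theorem orbit_card [Nontrivial Ω] (h2 : IsMultiplyPretransitive G Ω 2) (o : Ω) (α : MulAut G)
    (hα : Odd (orderOf α)) (ω : Ω)
    (hk : (Nat.card (orbit ((stabilizer G o).map α.toMonoidHom) ω)).Coprime (Fintype.card Ω)) :
    Nat.card (orbit ((stabilizer G o).map α.toMonoidHom) ω) = 1 ∨
    Nat.card (orbit ((stabilizer G o).map α.toMonoidHom) ω) = Fintype.card Ω - 1 := by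
  classical
  have htr' : IsPretransitive G Ω := isPretransitive_of_is_two_pretransitive
  have htr : ∀ a c : Ω, ∃ g : G, g • a = c := fun a c => exists_smul_eq G a c
  have h2' : ∀ {a b c d : Ω}, a ≠ b → c ≠ d → ∃ g : G, g • a = c ∧ g • b = d :=
    is_two_pretransitive_iff.mp h2
  let A : Matrix Ω Ω ℤ :=
    Matrix.of fun x y => if ∃ g : G, x = α g • ω ∧ y = g • o then 1 else 0
  have hA01 : ∀ x y, A x y = 0 ∨ A x y = 1 := by
    intro x y
    simp only [A, Matrix.of_apply]
    split_ifs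
    · right; rfl
    · left; rfl
  have hAinv : Inv (⇑α) id A := by
    intro h x y
    simp only [A, Matrix.of_apply, id]
    have : (∃ g : G, α h • x = α g • ω ∧ h • y = g • o) ↔ (∃ g : G, x = α g • ω ∧ y = g • o) := by
      constructor
      · rintro ⟨g, h1, h2⟩
        refine ⟨h⁻¹ * g, ?_, ?_⟩
        · rw [map_mul, map_inv, mul_smul, ← h1, inv_smul_smul]
        · rw [mul_smul, ← h2, inv_smul_smul]
      · rintro ⟨g, rfl, rfl⟩
        exact ⟨h * g, by rw [map_mul, mul_smul], by rw [mul_smul]⟩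
    rw [if_congr this rfl rfl]
  have hcard : (∑ x, A x o) = (Nat.card (orbit ((stabilizer G o).map α.toMonoidHom) ω) : ℤ) := by
    rw [Nat.card_eq_fintype_card, Fintype.card_subtype]
    simp only [A, Matrix.of_apply]
    rw [Finset.sum_boole]
    congr 2
    ext x
    simp only [Finset.mem_filter, Finset.mem_univ, true_and]
    exact (mem_orbit_map_iff o α ω x).symm
  have hcop : IsCoprime (Nat.card (orbit ((stabilizer G o).map α.toMonoidHom) ω) : ℤ)
      (Fintype.card Ω : ℤ) := Nat.isCoprime_iff_coprime.mpr hk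
  have hres := key h2' htr α (orderOf α) hα (pow_orderOf_eq_one α) A hA01 hAinv o _ hcard hcop
  have hn : 1 ≤ Fintype.card Ω := Fintype.card_pos
  rcases hres with h | h
  · left; exact_mod_cast h
  · right; omega

theorem exists_stabilizer_eq [Finite G] [Nontrivial Ω] (h2 : IsMultiplyPretransitive G Ω 2) (o : Ω)
    (α : MulAut G) (hα : Odd (orderOf α)) (ω : Ω)
    (hk : (Nat.card (orbit ((stabilizer G o).map α.toMonoidHom) ω)).Coprime (Fintype.card Ω)) :
    ∃ ε : Ω, (stabilizer G o).map α.toMonoidHom = stabilizer G ε := by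
  classical
  have htr' : IsPretransitive G Ω := isPretransitive_of_is_two_pretransitive
  have hle : ∃ ε : Ω, (stabilizer G o).map α.toMonoidHom ≤ stabilizer G ε := by
    rcases orbit_card h2 o α hα ω hk with h1 | h1
    · refine ⟨ω, ?_⟩
      intro κ hκ
      rw [mem_stabilizer_iff]
      obtain ⟨hss, _⟩ := Nat.card_eq_one_iff_unique.mp h1
      have h3 : (⟨κ • ω, ⟨⟨κ, hκ⟩, rfl⟩⟩ : orbit ((stabilizer G o).map α.toMonoidHom) ω) =
          ⟨ω, mem_orbit_self ω⟩ := Subsingleton.elim _ _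
      exact congrArg Subtype.val h3
    · have hn : 1 ≤ Fintype.card Ω := Fintype.card_pos
      have h3 := Set.ncard_add_ncard_compl (orbit ((stabilizer G o).map α.toMonoidHom) ω)
      rw [← Nat.card_coe_set_eq, h1, Nat.card_eq_fintype_card] at h3
      have h4 : (orbit ((stabilizer G o).map α.toMonoidHom) ω)ᶜ.ncard = 1 := by omega
      obtain ⟨ε, hε⟩ := Set.ncard_eq_one.mp h4
      refine ⟨ε, ?_⟩
      intro κ hκ
      rw [mem_stabilizer_iff]
      have h5 : κ • ε ∈ (orbit ((stabilizer G o).map α.toMonoidHom) ω)ᶜ := by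
        intro h6
        have h7 := mem_orbit_of_mem_orbit (⟨κ, hκ⟩ : (stabilizer G o).map α.toMonoidHom)⁻¹ h6
        have h8 : (⟨κ, hκ⟩ : (stabilizer G o).map α.toMonoidHom)⁻¹ • κ • ε = ε := by
          show (κ⁻¹ : G) • κ • ε = ε
          rw [inv_smul_smul]
        rw [h8] at h7
        have h9 : ε ∈ (orbit ((stabilizer G o).map α.toMonoidHom) ω)ᶜ := by
          rw [hε]; rfl
        exact h9 h7
      rw [hε] at h5
      exact h5
  obtain ⟨ε, hε⟩ := hle
  refine ⟨ε, ?_⟩
  apply Subgroup.eq_of_le_of_card_ge hε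
  rw [Subgroup.card_map_of_injective α.injective]
  obtain ⟨g, rfl⟩ := exists_smul_eq G o ε
  rw [stabilizer_smul_eq_stabilizer_map_conj, Subgroup.card_map_of_injective (MulAut.conj g).injective]

theorem exists_sigma [IsPretransitive G Ω] (o ε : Ω) (α : MulAut G)
    (h : (stabilizer G o).map α.toMonoidHom = stabilizer G ε) :
    ∃ σ : Equiv.Perm Ω, ∀ (g : G) (x : Ω), σ (g • x) = α g • σ x := by
  classical
  have hkey : ∀ g g' : G, g • o = g' • o ↔ α g • ε = α g' • ε := by
    intro g g'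
    have h1 : g • o = g' • o ↔ g'⁻¹ * g ∈ stabilizer G o := by
      rw [mem_stabilizer_iff, mul_smul, inv_smul_eq_iff]
    have h2 : α g • ε = α g' • ε ↔ α (g'⁻¹ * g) ∈ stabilizer G ε := by
      rw [mem_stabilizer_iff, map_mul, map_inv, mul_smul, inv_smul_eq_iff]
    rw [h1, h2, ← h]
    exact (Subgroup.mem_map_iff_mem α.injective).symm
  choose γ hγ using fun x : Ω => exists_smul_eq G o x
  let f : Ω → Ω := fun x => α (γ x) • ε
  have hf : ∀ g : G, f (g • o) = α g • ε := by
    intro g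
    exact (hkey _ _).mp (hγ (g • o))
  have hfg : ∀ (g : G) (x : Ω), f (g • x) = α g • f x := by
    intro g x
    have hx : g • x = (g * γ x) • o := by rw [mul_smul, hγ]
    rw [hx, hf, map_mul, mul_smul]
  have hinj : Function.Injective f := by
    intro x y hxy
    have := (hkey (γ x) (γ y)).mpr hxy
    rwa [hγ, hγ] at this
  exact ⟨Equiv.ofBijective f (Finite.injective_iff_bijective.mp hinj), hfg⟩

end Grp

section Perm

variable {Ω : Type*} [Fintype Ω]

/-- Odd-order automorphisms of a doubly transitive permutation group with an orbit length of the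
image of a point stabilizer coprime to the degree are induced by a normalizing permutation. -/
theorem perm_main (G : Subgroup (Equiv.Perm Ω)) (h2 : IsMultiplyPretransitive G Ω 2) (o : Ω)
    (α : MulAut G) (hα : Odd (orderOf α)) (ω : Ω)
    (hk : (Nat.card (orbit ((stabilizer G o).map α.toMonoidHom) ω)).Coprime (Fintype.card Ω)) :
    (∃ σ : Equiv.Perm Ω, σ ∈ Subgroup.normalizer (G : Set (Equiv.Perm Ω)) ∧
      ∀ g : G, ((α g : G) : Equiv.Perm Ω) = σ * (g : Equiv.Perm Ω) * σ⁻¹) ∧
    (Nat.card (orbit ((stabilizer G o).map α.toMonoidHom) ω) = 1 ∨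
      Nat.card (orbit ((stabilizer G o).map α.toMonoidHom) ω) = Fintype.card Ω - 1) := by
  classical
  rcases subsingleton_or_nontrivial Ω with hΩ | hΩ
  · refine ⟨⟨1, Subgroup.one_mem _, fun g => Subsingleton.elim _ _⟩, Or.inl ?_⟩
    rw [Nat.card_eq_one_iff_unique]
    exact ⟨⟨fun a b => Subtype.ext (Subsingleton.elim _ _)⟩, ⟨⟨ω, mem_orbit_self ω⟩⟩⟩
  · obtain ⟨ε, hε⟩ := exists_stabilizer_eq h2 o α hα ω hk
    have htr : IsPretransitive G Ω := isPretransitive_of_is_two_pretransitive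
    obtain ⟨σ, hσ⟩ := exists_sigma o ε α hε
    have hconj : ∀ g : G, ((α g : G) : Equiv.Perm Ω) = σ * (g : Equiv.Perm Ω) * σ⁻¹ := by
      intro g
      ext x
      show (α g : Equiv.Perm Ω) x = σ ((g : Equiv.Perm Ω) (σ⁻¹ x))
      have := hσ g (σ⁻¹ x)
      rw [show σ (σ⁻¹ x) = x from σ.apply_symm_apply x] at this
      exact this.symm
    refine ⟨⟨σ, ?_, hconj⟩, orbit_card h2 o α hα ω hk⟩
    rw [Subgroup.mem_set_normalizer_iff]
    intro h
    constructor
    · intro hh
      have := hconj ⟨h, hh⟩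
      rw [← this]
      exact (α ⟨h, hh⟩).2
    · intro hh
      have h1 := hconj (α.symm ⟨_, hh⟩)
      rw [MulEquiv.apply_symm_apply] at h1
      have h3 : h = ((α.symm ⟨_, hh⟩ : G) : Equiv.Perm Ω) := by
        have h4 : σ * h * σ⁻¹ = σ * ((α.symm ⟨_, hh⟩ : G) : Equiv.Perm Ω) * σ⁻¹ := h1
        exact mul_left_cancel (mul_right_cancel h4)
      rw [h3]
      exact (α.symm ⟨_, hh⟩).2

end Perm

end Cfsg.Agent.Helper1.TwoTransAut
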