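import Mathlib
import Cfsg.Prelude.Def_KGroupFacts
import Cfsg.Agent.S0675
import Cfsg.Agent.Lib.Helper22.PrimeDegree
import Cfsg.Agent.Lib.Helper1.TwoTransAutC
import Cfsg.Agent.Lib.Helper1.OutPrimeA

set_option autoImplicit false

namespace Cfsg.Agent.Helper1.OutPrime

open MulAction
open scoped Pointwise

variable {Ω : Type*} [Fintype Ω]

/-- The normalizer in `Sym(Ω)`, `|Ω| = p`, of a subgroup of order `p` is solvable. -/
theorem isSolvable_normalizer_of_card {p : ℕ} [hp : Fact p.Prime] (hΩ : Fintype.card Ω = p)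
    (P : Subgroup (Equiv.Perm Ω)) (hP : Nat.card P = p) :
    Group.IsSolvable (Subgroup.normalizer (P : Set (Equiv.Perm Ω))) := by
  classical
  have hpg : IsPGroup p P := IsPGroup.of_card (n := 1) (by rw [hP, pow_one])
  obtain ⟨Q, hPQ⟩ := hpg.exists_le_sylow
  have hα : Nat.card Ω = p := by rw [Nat.card_eq_fintype_card, hΩ]
  have hQ : Nat.card (Q : Subgroup (Equiv.Perm Ω)) = p :=
    Cfsg.Agent.Helper22.PrimeDeg.card_sylow hα Q
  have hPQ' : P = (Q : Subgroup (Equiv.Perm Ω)) :=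
    Subgroup.eq_of_le_of_card_ge hPQ (by rw [hQ, hP])
  have hcent := Cfsg.Agent.Helper22.PrimeDeg.centralizer_eq_of_prime_degree
    (H := Equiv.Perm Ω) (α := Ω) (fun g hg => Equiv.ext (fun x => hg x)) hα Q hQ
  haveI : IsCyclic P := isCyclic_of_prime_card hP
  rw [← hPQ'] at hcent
  exact Cfsg.Agent.Helper22.PrimeDeg.isSolvable_normalizer P hcent

/-- A non-solvable transitive permutation group of prime degree has a solvable outer automorphism
group. -/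
theorem out_solvable_perm (hp : (Fintype.card Ω).Prime) (Γ : Subgroup (Equiv.Perm Ω))
    [IsPretransitive Γ Ω] (hns : ¬ Group.IsSolvable Γ) : Group.IsSolvable (Cfsg.Out Γ) := by
  classical
  obtain ⟨p, hpdef⟩ : ∃ p, p = Fintype.card Ω := ⟨_, rfl⟩
  haveI hpf : Fact p.Prime := ⟨hpdef ▸ hp⟩
  have hα : Nat.card Ω = p := by rw [Nat.card_eq_fintype_card, hpdef]
  have h2 : IsMultiplyPretransitive Γ Ω 2 := (Cfsg.Agent.S0675.result hp Γ).resolve_left hns
  haveI : Nonempty Ω := by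
    rw [← Fintype.card_pos_iff]; exact hp.pos
  obtain ⟨o⟩ := ‹Nonempty Ω›
  haveI : Finite (MulAut Γ) := MulEquiv.finite_left
  -- the point stabilizer is a Hall subgroup
  obtain ⟨m, hm, hpm⟩ := Cfsg.Agent.Helper22.PrimeDeg.exists_card_eq (H := Γ) (α := Ω) hα
  have hidx : (stabilizer Γ o).index = p := by
    rw [index_stabilizer_of_transitive, hα]
  have hstab : Nat.card (stabilizer Γ o) = m := by
    have h1 := (stabilizer Γ o).card_mul_index
    rw [hidx, hm, mul_comm] at h1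
    exact Nat.eq_of_mul_eq_mul_left hpf.out.pos h1
  -- odd-order automorphisms are permutational
  have hodd : ∀ α : MulAut Γ, Odd (orderOf α) → ∃ σ : Equiv.Perm Ω,
      σ ∈ Subgroup.normalizer (Γ : Set (Equiv.Perm Ω)) ∧
        ∀ g : Γ, ((α g : Γ) : Equiv.Perm Ω) = σ * g * σ⁻¹ := by
    intro α hα'
    have hk : (Nat.card (orbit ((stabilizer Γ o).map α.toMonoidHom) o)).Coprime
        (Fintype.card Ω) := by
      rw [← hpdef]
      have h1 : Nat.card ((stabilizer Γ o).map α.toMonoidHom) = Nat.card (stabilizer Γ o) :=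
        Subgroup.card_map_of_injective (f := α.toMonoidHom) α.injective
      have h3 : Nat.card (orbit ((stabilizer Γ o).map α.toMonoidHom) o) ∣ m := by
        rw [← hstab, ← h1, Nat.card_coe_set_eq, ← index_stabilizer]
        exact Subgroup.index_dvd_card _
      have h4 : Nat.Coprime m p := ((Nat.Prime.coprime_iff_not_dvd hpf.out).mpr hpm).symm
      exact Nat.Coprime.coprime_dvd_left h3 h4
    exact (TwoTransAut.perm_main Γ h2 o α hα' o hk).1
  -- a Sylow p-subgroup of Γ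
  obtain ⟨P₀⟩ := (inferInstance : Nonempty (Sylow p Γ))
  have hP₀ : Nat.card (P₀ : Subgroup Γ) = p := Cfsg.Agent.Helper22.PrimeDeg.card_sylow hα P₀
  obtain ⟨P', hP'⟩ : ∃ P' : Subgroup (Equiv.Perm Ω), P' = (P₀ : Subgroup Γ).map Γ.subtype :=
    ⟨_, rfl⟩
  have hP'card : Nat.card P' = p := by
    rw [hP', Subgroup.card_map_of_injective (f := Γ.subtype) Γ.subtype_injective, hP₀]
  obtain ⟨N, hN⟩ : ∃ N : Subgroup (Equiv.Perm Ω),
    N = Subgroup.normalizer (Γ : Set (Equiv.Perm Ω)) := ⟨_, rfl⟩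
  obtain ⟨M', hM'⟩ : ∃ M' : Subgroup (Equiv.Perm Ω),
    M' = Subgroup.normalizer (P' : Set (Equiv.Perm Ω)) := ⟨_, rfl⟩
  haveI hM'sol : Group.IsSolvable M' := by
    rw [hM']; exact isSolvable_normalizer_of_card hpdef.symm P' hP'card
  haveI : Group.IsSolvable (N ⊓ M' : Subgroup (Equiv.Perm Ω)) :=
    Group.isSolvable_of_isSolvable_injective
      (Subgroup.inclusion_injective (inf_le_right : N ⊓ M' ≤ M'))
  subst hN
  let ν : Subgroup.normalizer (Γ : Set (Equiv.Perm Ω)) →* MulAut Γ := Γ.normalizerMonoidHom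
  have hν : ∀ (σ : Subgroup.normalizer (Γ : Set (Equiv.Perm Ω))) (g : Γ),
      ((ν σ g : Γ) : Equiv.Perm Ω) = σ * g * (σ : Equiv.Perm Ω)⁻¹ := fun σ g => rfl
  let f : (Subgroup.normalizer (Γ : Set (Equiv.Perm Ω)) ⊓ M' : Subgroup (Equiv.Perm Ω)) →*
      Cfsg.Out Γ :=
    ((QuotientGroup.mk' (Cfsg.Inn Γ)).comp ν).comp (Subgroup.inclusion inf_le_left)
  haveI : Finite (Cfsg.Out Γ) := inferInstance
  apply isSolvable_of_odd_mem_range f
  intro xbar hxbar
  obtain ⟨x, rfl⟩ := QuotientGroup.mk_surjective xbar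
  have hpos : orderOf x ≠ 0 := (orderOf_pos x).ne'
  obtain ⟨a, u, hu, hau⟩ := Nat.exists_eq_two_pow_mul_odd hpos
  have hy : Odd (orderOf (x ^ 2 ^ a)) := by
    rw [orderOf_pow_of_dvd (pow_ne_zero _ two_ne_zero) ⟨u, hau⟩, hau,
      Nat.mul_div_cancel_left _ (pow_pos two_pos a)]
    exact hu
  obtain ⟨σ, hσN, hσ⟩ := hodd _ hy
  have hcop : Nat.Coprime (2 ^ a) (orderOf (QuotientGroup.mk x : Cfsg.Out Γ)) :=
    Nat.Coprime.pow_left a (Nat.coprime_two_left.mpr hxbar)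
  obtain ⟨k, hk⟩ := exists_pow_eq_self_of_coprime hcop
  have hνσ : ν ⟨σ, hσN⟩ = x ^ 2 ^ a := by
    ext g
    rw [hν, hσ]
  -- σ' = σ ^ k
  obtain ⟨σ', hσ'⟩ : ∃ σ' : Subgroup.normalizer (Γ : Set (Equiv.Perm Ω)),
      (QuotientGroup.mk (ν σ') : Cfsg.Out Γ) = QuotientGroup.mk x := by
    refine ⟨⟨σ, hσN⟩ ^ k, ?_⟩
    rw [map_pow, hνσ, QuotientGroup.mk_pow, QuotientGroup.mk_pow]
    exact hk
  -- Frattini
  obtain ⟨g, hg⟩ := exists_smul_eq Γ P₀ ((ν σ') • P₀)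
  let ĝ : Subgroup.normalizer (Γ : Set (Equiv.Perm Ω)) := ⟨g, Subgroup.le_normalizer g.2⟩
  have hνg : ν ĝ = MulAut.conj g := by
    ext h
    rw [hν]
    rfl
  obtain ⟨τ, hτ⟩ : ∃ τ : Subgroup.normalizer (Γ : Set (Equiv.Perm Ω)), τ = ĝ⁻¹ * σ' := ⟨_, rfl⟩
  have hfix : (ν τ) • P₀ = P₀ := by
    rw [hτ, map_mul, map_inv, mul_smul, ← hg, hνg, Sylow.smul_def, inv_smul_smul]
  have hfix' : (ν τ) • (P₀ : Subgroup Γ) = (P₀ : Subgroup Γ) := by
    have := congrArg (fun Q : Sylow p Γ => (Q : Subgroup Γ)) hfix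
    exact this
  have hτM : (τ : Equiv.Perm Ω) ∈ M' := by
    rw [hM', Subgroup.mem_set_normalizer_iff]
    intro h
    constructor
    · intro hh
      rw [hP'] at hh ⊢
      obtain ⟨h₀, hh₀, rfl⟩ := Subgroup.mem_map.mp hh
      refine Subgroup.mem_map.mpr ⟨ν τ h₀, ?_, hν τ h₀⟩
      rw [← hfix']
      exact Subgroup.smul_mem_pointwise_smul h₀ (ν τ) _ hh₀
    · intro hh
      rw [hP'] at hh ⊢
      obtain ⟨h₁, hh₁, hh₁'⟩ := Subgroup.mem_map.mp hh
      rw [← hfix'] at hh₁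
      obtain ⟨h₀, hh₀, hh₀'⟩ := (Subgroup.mem_smul_pointwise_iff_exists _ _ _).mp hh₁
      have h5 : (τ : Equiv.Perm Ω) * h₀ * (τ : Equiv.Perm Ω)⁻¹ =
          (τ : Equiv.Perm Ω) * h * (τ : Equiv.Perm Ω)⁻¹ := by
        rw [← hν τ h₀, ← hh₁']
        show ((ν τ • h₀ : Γ) : Equiv.Perm Ω) = _
        rw [hh₀']
        rfl
      have h6 : (h₀ : Equiv.Perm Ω) = h := mul_left_cancel (mul_right_cancel h5)
      rw [← h6]
      exact Subgroup.mem_map.mpr ⟨h₀, hh₀, rfl⟩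
  refine ⟨⟨(τ : Equiv.Perm Ω), ⟨τ.2, hτM⟩⟩, ?_⟩
  show (QuotientGroup.mk (ν τ) : Cfsg.Out Γ) = QuotientGroup.mk x
  rw [← hσ', hτ, map_mul, map_inv, QuotientGroup.mk_mul, QuotientGroup.mk_inv]
  have h7 : (QuotientGroup.mk (ν ĝ) : Cfsg.Out Γ) = 1 := by
    rw [QuotientGroup.eq_one_iff, hνg]
    exact ⟨g, rfl⟩
  rw [h7, inv_one, one_mul]

end Cfsg.Agent.Helper1.OutPrime
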