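import Mathlib

/-!
# S4613 PIECE PA-CHEV, generic part (helper1): the power trick.

If `θ` (of order prime to `p`) fixes the `p`-element `u` and `θ(V) = u V u⁻¹`, then `θ(V) = V`.
-/

set_option autoImplicit false

namespace Cfsg.Agent.Helper28.PA

variable {Γ : Type*} [Group Γ]

/-- the automorphisms stabilising the subgroup `V` -/
def pachev_stab (V : Subgroup Γ) : Subgroup (MulAut Γ) where
  carrier := {φ | ∀ x, φ x ∈ V ↔ x ∈ V}
  one_mem' := fun x => by simp
  mul_mem' := by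
    intro φ ψ hφ hψ x
    rw [MulAut.mul_apply, hφ, hψ]
  inv_mem' := by
    intro φ hφ x
    rw [← hφ (φ⁻¹ x), MulAut.apply_inv_self Γ φ x]

theorem pachev_mem_stab (V : Subgroup Γ) (φ : MulAut Γ) :
    φ ∈ pachev_stab V ↔ ∀ x, φ x ∈ V ↔ x ∈ V := Iff.rfl

theorem pachev_stab_iff_map (V : Subgroup Γ) (φ : MulAut Γ) :
    φ ∈ pachev_stab V ↔ V.map φ.toMonoidHom = V := by
  rw [pachev_mem_stab]
  constructor
  · intro h
    ext y
    rw [Subgroup.mem_map]
    constructor
    · rintro ⟨x, hx, rfl⟩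
      exact (h x).2 hx
    · intro hy
      refine ⟨φ⁻¹ y, ?_, ?_⟩
      · rw [← h, MulAut.apply_inv_self Γ φ y]; exact hy
      · exact MulAut.apply_inv_self Γ φ y
  · intro h x
    conv_lhs => rw [← h]
    exact Subgroup.mem_map_iff_mem φ.injective

/-- the power trick -/
theorem pachev_power [Finite Γ] (p : ℕ) [Fact p.Prime] (θ : MulAut Γ) (hθ : ¬ p ∣ orderOf θ)
    (u : Γ) (a : ℕ) (hu : u ^ p ^ a = 1) (hθu : θ u = u) (V : Subgroup Γ)
    (hV : V.map θ.toMonoidHom = V.map (MulAut.conj u).toMonoidHom) :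
    V.map θ.toMonoidHom = V := by
  rw [← pachev_stab_iff_map]
  -- `κ = conj u` commutes with `θ`
  have hcomm : Commute (MulAut.conj u)⁻¹ θ := by
    apply Commute.inv_left
    ext x
    simp only [MulAut.mul_apply, MulAut.conj_apply, map_mul, map_inv, hθu]
  -- `β = κ⁻¹ θ` stabilises `V`
  have hβ : (MulAut.conj u)⁻¹ * θ ∈ pachev_stab V := by
    rw [pachev_mem_stab]
    intro x
    rw [MulAut.mul_apply]
    have h1 : θ x ∈ V.map (MulAut.conj u).toMonoidHom ↔ x ∈ V := by
      rw [← hV]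
      exact Subgroup.mem_map_iff_mem θ.injective
    rw [← h1, Subgroup.mem_map]
    constructor
    · intro h
      refine ⟨_, h, ?_⟩
      exact MulAut.apply_inv_self Γ (MulAut.conj u) (θ x)
    · rintro ⟨y, hy, e⟩
      have : (MulAut.conj u)⁻¹ (θ x) = y := by
        rw [← e]
        exact MulAut.inv_apply_self Γ (MulAut.conj u) y
      rw [this]; exact hy
  -- `κ ^ N = 1`
  have hκ : (MulAut.conj u)⁻¹ ^ (p ^ a) = 1 := by
    rw [inv_pow, ← map_pow, hu, map_one, inv_one]
  have hθN : θ ^ (p ^ a) ∈ pachev_stab V := by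
    have h1 := (pachev_stab V).pow_mem hβ (p ^ a)
    rwa [hcomm.mul_pow, hκ, one_mul] at h1
  -- `θ` is a power of `θ ^ N`
  have hfin : Finite (MulAut Γ) := Finite.of_injective (fun φ : MulAut Γ => (φ : Γ → Γ))
    (fun φ ψ h => MulEquiv.ext (congrFun h))
  have hpos : 0 < orderOf θ := orderOf_pos θ
  by_cases h1 : orderOf θ = 1
  · rw [orderOf_eq_one_iff] at h1
    rw [h1]; exact one_mem _
  · have hcop : Nat.Coprime (p ^ a) (orderOf θ) :=
      Nat.Coprime.pow_left a ((Nat.Prime.coprime_iff_not_dvd Fact.out).2 hθ)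
    obtain ⟨j, -, hj⟩ := Nat.exists_mul_mod_eq_one_of_coprime hcop (by omega)
    have h2 : (θ ^ (p ^ a)) ^ j = θ := by
      rw [← pow_mul, ← pow_mod_orderOf, hj, pow_one]
    rw [← h2]
    exact (pachev_stab V).pow_mem hθN j

end Cfsg.Agent.Helper28.PA
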