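import Mathlib
import Cfsg.Agent.Lib.Helper28.PADefs

/-!
# S4613 PIECE PA-CHEV, generic part (helper1): it is enough to treat one Sylow subgroup.
-/

set_option autoImplicit false

namespace Cfsg.Agent.Helper28.PA

open scoped Pointwise

variable {Γ : Type*} [Group Γ]

/-- `NoPAut` may be checked on a single Sylow `p`-subgroup -/
theorem pachev_wlog [Finite Γ] (p : ℕ) [Fact p.Prime] (P₀ : Sylow p Γ)
    (h : ∀ θ : MulAut Γ, ¬ p ∣ orderOf θ → (∀ x ∈ (P₀ : Subgroup Γ), θ x = x) → θ = 1) :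
    NoPAut p Γ := by
  intro α hα P hfix
  obtain ⟨g, hg⟩ := MulAction.exists_smul_eq Γ P P₀
  set β : MulAut Γ := MulAut.conj g * α * (MulAut.conj g)⁻¹ with hβ
  have hord : orderOf β = orderOf α := by
    have := MulEquiv.orderOf_eq (MulAut.conj (MulAut.conj g)) α
    rw [← this]; rfl
  have hβfix : ∀ y ∈ (P₀ : Subgroup Γ), β y = y := by
    intro y hy'
    rw [← hg] at hy'
    have h1 : g⁻¹ * y * g ∈ (P : Subgroup Γ) := by
      have h0 : y ∈ (MulAut.conj g • (P : Subgroup Γ)) := hy'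
      rw [Subgroup.mem_pointwise_smul_iff_inv_smul_mem] at h0
      simpa [MulAut.smul_def, MulAut.conj_apply] using h0
    have h2 := hfix _ h1
    show (MulAut.conj g) (α ((MulAut.conj g)⁻¹ y)) = y
    rw [MulAut.conj_inv_apply, h2, MulAut.conj_apply]
    group
  have hβ1 : β = 1 := h β (by rw [hord]; exact hα) hβfix
  rw [hβ] at hβ1
  have : α = (MulAut.conj g)⁻¹ * 1 * MulAut.conj g := by
    rw [← hβ1]; group
  simpa using this

end Cfsg.Agent.Helper28.PA
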