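import Mathlib
import Cfsg.Prelude.Def_LieTypeChar
import Cfsg.Agent.Lib.Helper28.PADefs
import Cfsg.Agent.Lib.Helper6.AutMain
import Cfsg.Agent.Lib.Helper1.PACHEVGen
import Cfsg.Agent.Lib.Helper1.PACHEVWlog

/-!
# S4613 PIECE PA-CHEV (helper1): `NoPAut p (D.group F)` for the exceptional Chevalley groups.
-/

set_option autoImplicit false
set_option linter.unusedSectionVars false
set_option linter.unusedVariables false

namespace Cfsg.Agent.Helper28.PA

open Cfsg Cfsg.Lie Cfsg.Agent.Lead.Chev Cfsg.Agent.Helper6.SL2Hom Cfsg.Agent.Helper6.ChevL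
  Cfsg.Agent.Helper6.AutRoot Cfsg.Agent.Helper6.AutAbs Cfsg.Agent.Helper6.AutPerm
  Cfsg.Agent.Helper6.AutTorus Cfsg.Agent.Helper6.AutData Cfsg.Agent.Helper6.AutDiag
  Cfsg.Agent.Helper6.AutSigma

section core

variable {F : Type*} [Field F] [Fintype F] {D : ChevalleyDatum}

/-- an automorphism fixing all fundamental root elements `x_{±p_i}(t)` is trivial -/
theorem pachev_gen (hF : ChevFacts D F) (θ : ↥(D.group F) ≃* ↥(D.group F))
    (hpos : ∀ i < D.rank, ∀ t : F, θ (xG hF (D.simple i) t) = xG hF (D.simple i) t)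
    (hneg : ∀ i < D.rank, ∀ t : F, θ (xG hF (D.neg (D.simple i)) t) = xG hF (D.neg (D.simple i)) t) :
    ∀ y : ↥(D.group F), θ y = y := by
  -- the fixed points
  set E : Subgroup ↥(D.group F) := θ.toMonoidHom.eqLocus (MonoidHom.id _) with hE
  have hEmem : ∀ y, y ∈ E ↔ θ y = y := fun y => Iff.rfl
  -- the fundamental reflections are fixed
  have hn : ∀ i < D.rank, nG hF i ∈ E := by
    intro i hi
    have e : nG hF i = xG hF (D.simple i) 1 * (xG hF (D.neg (D.simple i)) (-(1 : F)⁻¹) *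
        (xG hF (D.simple i) 1 * 1)) := by
      apply Subtype.ext
      show nGL D hF.xadd (D.simple i) = _
      unfold nGL ChevalleyDatum.nWord
      rw [wordGL_cons, wordGL_cons, wordGL_cons, wordGL_nil]
      rfl
    rw [e]
    refine E.mul_mem ((hEmem _).2 (hpos i hi 1)) (E.mul_mem ((hEmem _).2 (hneg i hi _))
      (E.mul_mem ((hEmem _).2 (hpos i hi 1)) E.one_mem))
  -- words in the fundamental reflections are fixed
  have hw : ∀ w : List ℕ, (∀ j ∈ w, j < D.rank) →
      (⟨nWordGL D hF.xadd w, nWordGL_mem_group D hF.xadd w⟩ : ↥(D.group F)) ∈ E := by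
    intro w
    induction w with
    | nil =>
      intro _
      have : (⟨nWordGL D hF.xadd [], nWordGL_mem_group D hF.xadd []⟩ : ↥(D.group F)) = 1 :=
        Subtype.ext (nWordGL_nil D hF.xadd)
      rw [this]; exact E.one_mem
    | cons i w ih =>
      intro hw
      have e : (⟨nWordGL D hF.xadd (i :: w), nWordGL_mem_group D hF.xadd (i :: w)⟩ : ↥(D.group F)) =
          nG hF i * ⟨nWordGL D hF.xadd w, nWordGL_mem_group D hF.xadd w⟩ :=
        Subtype.ext (nWordGL_cons D hF.xadd i w)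
      rw [e]
      exact E.mul_mem (hn i (hw i (List.mem_cons_self)))
        (ih (fun j hj => hw j (List.mem_cons_of_mem _ hj)))
  -- all root elements are fixed
  have hx : ∀ r < D.nroots, ∀ t : F, xG hF r t ∈ E := by
    intro r hr t
    obtain ⟨i, hi, w, hwl, hwr⟩ := hF.orbit r hr
    have hs1 : ((signWord D (etaOf D) w (D.simple i) : ℤ) : F) *
        ((signWord D (etaOf D) w (D.simple i) : ℤ) : F) = 1 := by
      have := signWord_sq D (etaOf D) w (fun j hj s => (hF.nsimple j (hwl j hj)).sign s) (D.simple i)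
      rcases this with h | h <;> rw [h] <;> simp
    have hc := nWordGL_conj D hF.xadd (etaOf D) hF.nsimple w hwl (D.simple i) (hF.simple_lt i hi)
      (((signWord D (etaOf D) w (D.simple i) : ℤ) : F) * t)
    rw [hwr, ← mul_assoc, hs1, one_mul] at hc
    have e : xG hF r t = (⟨nWordGL D hF.xadd w, nWordGL_mem_group D hF.xadd w⟩ : ↥(D.group F)) *
        xG hF (D.simple i) (((signWord D (etaOf D) w (D.simple i) : ℤ) : F) * t) *
        (⟨nWordGL D hF.xadd w, nWordGL_mem_group D hF.xadd w⟩ : ↥(D.group F))⁻¹ :=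
      Subtype.ext hc.symm
    rw [e]
    exact E.mul_mem (E.mul_mem (hw w hwl) ((hEmem _).2 (hpos i hi _))) (E.inv_mem (hw w hwl))
  -- hence everything
  have htop : D.group F ≤ E.map (D.group F).subtype := by
    apply group_le_of D hF.xadd
    intro r hr t
    exact ⟨xG hF r t, hx r hr t, rfl⟩
  intro y
  obtain ⟨y', hy', e⟩ := htop y.2
  have : y' = y := Subtype.ext e
  rw [← this]
  exact (hEmem y').1 hy'

/-- the core: an automorphism of order prime to `p` fixing `U` pointwise is trivial -/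
theorem pachev_core (p : ℕ) [Fact p.Prime] [CharP F p]
    (hD : D ∈ [chevG2, chevB2, chevD4, chevF4, chevE6, chevE7, chevE8])
    (θ : MulAut ↥(D.group F)) (hθ : ¬ p ∣ orderOf θ)
    (hfix : ∀ x ∈ (D.posUnipotent F).subgroupOf (D.group F), θ x = x) : θ = 1 := by
  classical
  have hF : ChevFacts D F := chevFacts_of_mem D hD
  have hS := corSize_of_mem D hD
  have hw := w0_of_mem D hD
  have hd := diag2_of_mem D hD
  have AF := autFacts_of_mem D hD
  haveI : Finite ↥(D.group F) := inferInstance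
  obtain ⟨P, hP⟩ := Cfsg.Agent.S2326.result (F := F) p D hD
  set U₀ : Subgroup ↥(D.group F) := (D.posUnipotent F).subgroupOf (D.group F) with hU₀
  set V₀ : Subgroup ↥(D.group F) := (D.negUnipotent F).subgroupOf (D.group F) with hV₀
  set n₀ := nWordGL D hF.xadd (Cfsg.Agent.S1053.w0Of D) with hn₀
  have hn₀G : n₀ ∈ D.group F := n0_mem_group hF hw
  have hUle := hF.posUnipotent_le_group
  -- `θ(U) = U`
  have hU : U₀.map θ.toMonoidHom = U₀ := by
    ext y
    rw [Subgroup.mem_map]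
    constructor
    · rintro ⟨x, hx, rfl⟩
      show θ x ∈ U₀
      rw [hfix x hx]; exact hx
    · intro hy
      exact ⟨y, hy, hfix y hy⟩
  -- `V = n₀ U n₀⁻¹`
  have hUV : U₀.map (MulAut.conj (⟨n₀, hn₀G⟩ : ↥(D.group F))).toMonoidHom = V₀ := by
    rw [hU₀, subgroupOf_map_conj, n0_conj_pos hF hw]
  have hinf : U₀ ⊓ V₀ = ⊥ := by
    rw [hU₀, hV₀, subgroupOf_inf', Subgroup.subgroupOf_eq_bot]
    have h1 : D.posUnipotent F ⊓ D.negUnipotent F = ⊥ := by
      rw [eq_bot_iff, ← hF.borel_inf_negUnipotent]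
      exact inf_le_inf_right _ (posUnipotent_le_borel D)
    rw [h1]
    exact disjoint_bot_left
  -- the key property of the big cell
  have hkey : ∀ g : ↥(D.group F), U₀.map (MulAut.conj g).toMonoidHom ⊓ U₀ = ⊥ →
      ∃ u ∈ U₀, U₀.map (MulAut.conj g).toMonoidHom = V₀.map (MulAut.conj u).toMonoidHom := by
    intro g hg
    rw [hU₀, subgroupOf_map_conj, subgroupOf_inf', Subgroup.subgroupOf_eq_bot, disjoint_iff] at hg
    have hQ : (D.posUnipotent F).map (MulAut.conj (g : GL D.Idx F)).toMonoidHom ⊓ D.posUnipotent F = ⊥ := by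
      rw [← hg]
      symm
      apply inf_of_le_left
      exact le_trans inf_le_right hUle
    have hcard : Nat.card ↥(D.negUnipotent F) = Nat.card ↥(D.posUnipotent F) := by
      rw [← n0_conj_pos hF hw]
      exact (Nat.card_congr ((D.posUnipotent F).equivMapOfInjective _
        (MulAut.conj n₀).injective).toEquiv).symm
    obtain ⟨u, hu, hu'⟩ := Cfsg.Agent.Helper6.AutBase.exists_conj_negUnipotent hF hS hcard g.1 g.2 hQ
    refine ⟨⟨u, hUle hu⟩, hu, ?_⟩
    rw [hU₀, hV₀, subgroupOf_map_conj, subgroupOf_map_conj, hu']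
  -- `θ(V) = θ(n₀) U θ(n₀)⁻¹`
  have hVθ : V₀.map θ.toMonoidHom =
      U₀.map (MulAut.conj (θ (⟨n₀, hn₀G⟩ : ↥(D.group F)))).toMonoidHom := by
    rw [← hUV]
    ext y
    simp only [Subgroup.mem_map, MulEquiv.coe_toMonoidHom, MulAut.conj_apply]
    constructor
    · rintro ⟨_, ⟨x, hx, rfl⟩, rfl⟩
      refine ⟨x, hx, ?_⟩
      rw [map_mul, map_mul, map_inv, hfix x hx]
    · rintro ⟨x, hx, rfl⟩
      refine ⟨_, ⟨x, hx, rfl⟩, ?_⟩
      rw [map_mul, map_mul, map_inv, hfix x hx]
  have hdisj : U₀.map (MulAut.conj (θ (⟨n₀, hn₀G⟩ : ↥(D.group F)))).toMonoidHom ⊓ U₀ = ⊥ := by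
    rw [← hVθ, eq_bot_iff]
    rintro y ⟨hy1, hy2⟩
    obtain ⟨v, hv, rfl⟩ := hy1
    have hy2' : θ v ∈ U₀ := hy2
    have hvU : v ∈ U₀ := by
      have : θ v ∈ U₀.map θ.toMonoidHom := by rw [hU]; exact hy2'
      exact (Subgroup.mem_map_iff_mem θ.injective).1 this
    have : v ∈ U₀ ⊓ V₀ := ⟨hvU, hv⟩
    rw [hinf, Subgroup.mem_bot] at this
    rw [Subgroup.mem_bot, this]
    exact map_one θ.toMonoidHom
  obtain ⟨u, hu, hu'⟩ := hkey _ hdisj
  -- `u` is a `p`-element fixed by `θ`
  have hup : ∃ a : ℕ, u ^ p ^ a = 1 := by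
    have huP : u ∈ (P : Subgroup ↥(D.group F)) := by rw [hP]; exact hu
    obtain ⟨a, ha⟩ := P.isPGroup' ⟨u, huP⟩
    refine ⟨a, ?_⟩
    have := congrArg Subtype.val ha
    simpa using this
  obtain ⟨a, ha⟩ := hup
  have hV : V₀.map θ.toMonoidHom = V₀ :=
    pachev_power p θ hθ u a ha (hfix u hu) V₀ (hVθ.trans hu')
  -- the normal form
  obtain ⟨ρ, c, σ, hρ, hc, hθX, hθY, hrel⟩ := exists_data hF hd hw AF θ hU hV
  have hxU : ∀ (i : Fin D.rank) (t : F), xG hF (D.simple i) t ∈ U₀ := by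
    intro i t
    exact xGL_mem_posUnipotent D hF.xadd _ (hF.simple_pos i i.2) t
  have hρi : ∀ i : Fin D.rank, ρ i = i := by
    intro i
    have h1 := hθX i 1
    rw [hfix _ (hxU i 1)] at h1
    have h2 : xGL D hF.xadd (D.simple i) 1 = xGL D hF.xadd (D.simple (ρ i)) (c i * σ i 1) :=
      congrArg Subtype.val h1
    have h3 := Cfsg.Agent.Helper6.RootCent.root_eq_of_xGL_eq hF (D.simple i) (D.simple (ρ i))
      (hF.simple_lt i i.2) (hF.simple_pos (ρ i) (ρ i).2) 1 (c i * σ i 1) one_ne_zero h2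
    exact (Fin.ext (AF.simple_inj i i.2 (ρ i) (ρ i).2 h3)).symm
  have hcσ : ∀ (i : Fin D.rank) (t : F), c i * σ i t = t := by
    intro i t
    have h1 := hθX i t
    rw [hfix _ (hxU i t), hρi i] at h1
    exact (xG_simple_inj hF i i.2 h1).symm
  have hci : ∀ i : Fin D.rank, c i = 1 := by
    intro i
    have := hcσ i 1
    rwa [map_one, mul_one] at this
  have hσi : ∀ (i : Fin D.rank) (t : F), σ i t = t := by
    intro i t
    have := hcσ i t
    rwa [hci i, one_mul] at this
  have hall := pachev_gen hF θ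
    (fun i hi t => hfix _ (hxU ⟨i, hi⟩ t))
    (fun i hi t => by
      have := hθY ⟨i, hi⟩ t
      rw [hρi ⟨i, hi⟩, hci ⟨i, hi⟩, hσi ⟨i, hi⟩ t, inv_one, one_mul] at this
      exact this)
  apply MulEquiv.ext
  intro y
  rw [hall y]
  rfl

end core

section families
variable {F : Type*} [Field F] [Fintype F] (p : ℕ) [Fact p.Prime] [CharP F p]

/-- FAMILY PA-CHEV (uniform in `D`; for `chevG2` the field has at least 3 elements) -/
theorem noPAut_Chev (D : ChevalleyDatum) (hD : D ∈ [chevG2, chevF4, chevE6, chevE7, chevE8])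
    (h3 : D = chevG2 → 3 ≤ Fintype.card F) : NoPAut p (D.group F) := by
  have hD' : D ∈ [chevG2, chevB2, chevD4, chevF4, chevE6, chevE7, chevE8] := by
    simp only [List.mem_cons, List.mem_nil_iff, or_false] at hD ⊢
    rcases hD with h | h | h | h | h <;> simp [h]
  haveI : Finite ↥(D.group F) := inferInstance
  obtain ⟨P, hP⟩ := Cfsg.Agent.S2326.result (F := F) p D hD'
  apply pachev_wlog p P
  intro θ hθ hfix
  apply pachev_core p hD' θ hθ
  intro x hx
  apply hfix
  rw [hP]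
  exact hx

end families

end Cfsg.Agent.Helper28.PA
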