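import Mathlib
import Cfsg.Agent.Lib.Helper15.PSLkDefs

/-!
# S2480 piece PSLK-CENTER: `center_isCyclic`, `center_scalar`
-/

open Polynomial

namespace Cfsg.Agent.Helper15.PSLk

open Cfsg.Agent.Helper17.GLk Cfsg.Agent.Helper17.SLk

universe u

section pieces
variable {F : Type u} [Field F]

/-- PIECE PSLK-CENTER: the centre of `SL_n(F)` is cyclic. -/
theorem center_isCyclic [Fintype F] (n : ℕ) (hn : 1 ≤ n) :
    IsCyclic (Subgroup.center (Matrix.SpecialLinearGroup (Fin n) F)) := by
  have : NeZero (Fintype.card (Fin n)) := ⟨by rw [Fintype.card_fin]; omega⟩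
  let e := Matrix.SpecialLinearGroup.center_equiv_rootsOfUnity' (R := F) (⟨0, hn⟩ : Fin n)
  have : IsCyclic (rootsOfUnity (Fintype.card (Fin n)) F) := rootsOfUnity.isCyclic F _
  exact isCyclic_of_surjective e.symm e.symm.surjective

theorem center_scalar (n : ℕ) (hn : 1 ≤ n)
    (z : Subgroup.center (Matrix.SpecialLinearGroup (Fin n) F)) :
    ∃ ζ : Fˣ, orderOf ζ = orderOf z ∧ ζ ^ n = 1 ∧
      ∀ r : Matrix.SpecialLinearGroup (Fin n) F,
        (((z : Matrix.SpecialLinearGroup (Fin n) F) * r : Matrix.SpecialLinearGroup (Fin n) F) :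
          Matrix (Fin n) (Fin n) F) = (ζ : F) • (r : Matrix (Fin n) (Fin n) F) := by
  let i : Fin n := ⟨0, hn⟩
  let e := Matrix.SpecialLinearGroup.center_equiv_rootsOfUnity' (R := F) i
  refine ⟨((e z : rootsOfUnity (Fintype.card (Fin n)) F) : Fˣ), ?_, ?_, ?_⟩
  · rw [Subgroup.orderOf_coe, MulEquiv.orderOf_eq]
  · have h := (e z).2
    rw [mem_rootsOfUnity] at h
    have hc : Fintype.card (Fin n) = n := Fintype.card_fin n
    generalize ((e z : rootsOfUnity (Fintype.card (Fin n)) F) : Fˣ) = w at h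
    rw [hc] at h
    exact h
  · intro r
    have h1 : (((e z : rootsOfUnity (Fintype.card (Fin n)) F) : Fˣ) : F)
        = (z : Matrix (Fin n) (Fin n) F) i i := by
      simp [e]
    have h2 := Matrix.SpecialLinearGroup.scalar_eq_coe_self_center z i
    rw [Matrix.SpecialLinearGroup.coe_mul, h1, ← h2, Matrix.scalar_apply,
      Matrix.smul_eq_diagonal_mul]
    simp only [Matrix.diagonal_apply_eq]

end pieces

end Cfsg.Agent.Helper15.PSLk
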