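import Mathlib
import Cfsg.Agent.Lib.Helper15.PSLkDefs

/-!
# S2480 piece PSLK-CYCSUM: `sum_orderOf_eq`
-/

open Polynomial

namespace Cfsg.Agent.Helper15.PSLk

open Cfsg.Agent.Helper17.GLk Cfsg.Agent.Helper17.SLk

universe u

section pieces
variable {F : Type u} [Field F]

/-- PIECE PSLK-CYCSUM (Mathlib only): in a finite cyclic group the number of elements of order `e`
is `φ(e)` for `e ∣ |C|`, so a sum of a function of the order regroups over the divisors. -/
theorem sum_orderOf_eq {C : Type*} [Group C] [Fintype C] [IsCyclic C] (g : ℕ → ℕ) :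
    ∑ z : C, g (orderOf z) = ∑ e ∈ (Fintype.card C).divisors, Nat.totient e * g e := by
  classical
  have hmaps : ∀ z ∈ (Finset.univ : Finset C), orderOf z ∈ (Fintype.card C).divisors := by
    intro z _
    rw [Nat.mem_divisors]
    exact ⟨orderOf_dvd_card, Fintype.card_ne_zero⟩
  rw [← Finset.sum_fiberwise_of_maps_to hmaps (fun z => g (orderOf z))]
  apply Finset.sum_congr rfl
  intro e he
  have hdvd : e ∣ Fintype.card C := (Nat.mem_divisors.mp he).1
  have hcard := IsCyclic.card_orderOf_eq_totient (α := C) hdvd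
  have h1 : ∑ z ∈ Finset.univ.filter (fun z : C => orderOf z = e), g (orderOf z)
      = ∑ z ∈ Finset.univ.filter (fun z : C => orderOf z = e), g e := by
    apply Finset.sum_congr rfl
    intro z hz
    rw [(Finset.mem_filter.mp hz).2]
  rw [h1, Finset.sum_const, smul_eq_mul]
  congr 1

end pieces

end Cfsg.Agent.Helper15.PSLk
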