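import Mathlib
import Cfsg.Agent.Lib.Helper10.PUDefs

/-!
# S2263 piece PU-NUMB (helper1): `Bnd_ge`.
-/

set_option autoImplicit false

namespace Cfsg.Agent.Helper10.PU

/-- PIECE PU-NUMB.  `q = p^f`.  Four cases of `Bnd`. -/
theorem Bnd_ge (p f d : ℕ) (hp : p.Prime) (hf : 1 ≤ f) (hd : 3 ≤ d) :
    (p ^ f) ^ (d - 1) - 1 ≤ Bnd p f d := by
  unfold Bnd
  have hp2 : 2 ≤ p := hp.two_le
  split_ifs with h1 h2 h3
  · exact le_rfl
  · -- `d` odd, `f = 1`
    have hf1 : f = 1 := by omega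
    subst hf1
    obtain ⟨e, rfl⟩ : ∃ e, d = e + 2 := ⟨d - 2, by omega⟩
    have : (p ^ 1) ^ (e + 2 - 1) = p ^ e * p := by
      rw [pow_one, show e + 2 - 1 = e + 1 by omega, pow_succ]
    rw [this, show e + 2 - 2 = e by omega]
    have : (p ^ e + 1) * p = p ^ e * p + p := by ring
    omega
  · omega
  · -- `d` even, `p ^ f = 2`
    have hpf : p ^ f = 2 := by
      have : p ≤ p ^ f := by
        calc p = p ^ 1 := (pow_one p).symm
          _ ≤ p ^ f := Nat.pow_le_pow_right (by omega) hf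
      omega
    rw [hpf]
    obtain ⟨e, rfl⟩ : ∃ e, d = e + 3 := ⟨d - 3, by omega⟩
    have : 2 ^ (e + 3 - 1) = 4 * 2 ^ e := by
      rw [show e + 3 - 1 = e + 2 by omega, pow_add]; ring
    rw [this, show e + 3 - 3 = e by omega]
    omega

end Cfsg.Agent.Helper10.PU
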