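import Mathlib

/-!
# Signed chain counts of finite posets (helper1's shared library)

`ech Y = Σ_{s ⊆ Y a chain} (-1)^{|s|}` (the empty chain included), i.e. minus the reduced Euler
characteristic of the order complex of the finite subset `Y` of a partial order.

* `ech_eq_erase_sub_link` : removing a point `y₀` changes `ech` by `ech` of the link of `y₀`;
* `ech_eq_zero_of_cone` : a cone point (comparable with everything) forces `ech Y = 0`;
* `ech_eq_one_sub_sum` : `ech Y = 1 - Σ_{y ∈ Y} ech (Y_{> y})`;
* `ech_eq_of_retraction` : invariance under a monotone, decreasing, idempotent retraction;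
* `ech_map` : invariance under order embeddings.
-/

set_option autoImplicit false

namespace Cfsg.Agent.Helper1.PosetEuler

open Finset

variable {α : Type*} [PartialOrder α]

open Classical in
/-- Signed count of all chains (the empty one included) of a finite set in a partial order. -/
noncomputable def ech (Y : Finset α) : ℤ :=
  ∑ s ∈ Y.powerset.filter (fun s : Finset α => IsChain (· ≤ ·) (s : Set α)), (-1 : ℤ) ^ s.card

theorem ech_empty : ech (∅ : Finset α) = 1 := by
  classical
  unfold ech
  rw [Finset.powerset_empty, Finset.filter_singleton]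
  simp

open Classical in
theorem ech_eq_erase_sub_link (Y : Finset α) {y₀ : α} (hy : y₀ ∈ Y) :
    ech Y = ech (Y.erase y₀) - ech (Y.filter (fun x => x < y₀ ∨ y₀ < x)) := by
  unfold ech
  rw [← Finset.sum_filter_add_sum_filter_not
    (Y.powerset.filter (fun s : Finset α => IsChain (· ≤ ·) (s : Set α))) (fun s => y₀ ∈ s), add_comm,
    sub_eq_add_neg, ← Finset.sum_neg_distrib]
  congr 1
  · apply Finset.sum_congr _ (fun _ _ => rfl)
    ext s
    simp only [mem_filter, mem_powerset, Finset.subset_erase]
    tauto
  · symm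
    apply Finset.sum_nbij' (fun t => insert y₀ t) (fun s => s.erase y₀)
    · intro t ht
      simp only [mem_filter, mem_powerset] at ht ⊢
      obtain ⟨ht1, ht2⟩ := ht
      refine ⟨⟨?_, ?_⟩, mem_insert_self _ _⟩
      · intro x hx
        rcases mem_insert.mp hx with rfl | hx
        · exact hy
        · exact (mem_filter.mp (ht1 hx)).1
      · rw [Finset.coe_insert]
        apply ht2.insert
        intro b hb _
        have hb' := (mem_filter.mp (ht1 hb)).2
        rcases hb' with h | h
        · exact Or.inr h.le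
        · exact Or.inl h.le
    · intro s hs
      simp only [mem_filter, mem_powerset] at hs ⊢
      obtain ⟨⟨hs1, hs2⟩, hs3⟩ := hs
      refine ⟨?_, ?_⟩
      · intro x hx
        obtain ⟨hne, hxs⟩ := mem_erase.mp hx
        refine mem_filter.mpr ⟨hs1 hxs, ?_⟩
        rcases hs2 hxs hs3 hne with h | h
        · exact Or.inl (lt_of_le_of_ne h hne)
        · exact Or.inr (lt_of_le_of_ne h (Ne.symm hne))
      · refine IsChain.mono ?_ hs2
        intro x hx
        exact Finset.mem_of_mem_erase (Finset.mem_coe.mp hx)
    · intro t ht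
      simp only [mem_filter, mem_powerset] at ht
      apply Finset.erase_insert
      intro h
      have := (mem_filter.mp (ht.1 h)).2
      rcases this with h | h <;> exact lt_irrefl _ h
    · intro s hs
      simp only [mem_filter] at hs
      exact Finset.insert_erase hs.2
    · intro t ht
      simp only [mem_filter, mem_powerset] at ht
      have hnot : y₀ ∉ t := by
        intro h
        have := (mem_filter.mp (ht.1 h)).2
        rcases this with h | h <;> exact lt_irrefl _ h
      rw [Finset.card_insert_of_notMem hnot, pow_succ]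
      ring

theorem ech_eq_zero_of_cone (Y : Finset α) {m : α} (hm : m ∈ Y)
    (h : ∀ y ∈ Y, m ≤ y ∨ y ≤ m) : ech Y = 0 := by
  classical
  rw [ech_eq_erase_sub_link Y hm]
  have : Y.filter (fun x => x < m ∨ m < x) = Y.erase m := by
    ext x
    simp only [mem_filter, mem_erase]
    constructor
    · rintro ⟨hx, h1 | h1⟩
      · exact ⟨h1.ne, hx⟩
      · exact ⟨h1.ne', hx⟩
    · rintro ⟨hne, hx⟩
      refine ⟨hx, ?_⟩
      rcases h x hx with h1 | h1
      · exact Or.inr (lt_of_le_of_ne h1 (Ne.symm hne))
      · exact Or.inl (lt_of_le_of_ne h1 hne)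
  rw [this, sub_self]

open Classical in
theorem ech_eq_one_sub_sum (Y : Finset α) :
    ech Y = 1 - ∑ y ∈ Y, ech (Y.filter (fun x => y < x)) := by
  induction' hn : Y.card with n ih generalizing Y
  · rw [Finset.card_eq_zero] at hn
    subst hn
    simp [ech_empty]
  · have hne : Y.Nonempty := by
      rw [← Finset.card_pos]; omega
    obtain ⟨y₀, hy₀⟩ := Y.exists_minimal hne
    have hy₀Y : y₀ ∈ Y := hy₀.1
    rw [ech_eq_erase_sub_link Y hy₀Y]
    have hlink : Y.filter (fun x => x < y₀ ∨ y₀ < x) = Y.filter (fun x => y₀ < x) := by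
      apply Finset.filter_congr
      intro x hx
      constructor
      · rintro (h | h)
        · exact absurd h (hy₀.not_lt hx)
        · exact h
      · intro h; exact Or.inr h
    rw [hlink, ih (Y.erase y₀) (by rw [Finset.card_erase_of_mem hy₀Y, hn]; rfl)]
    rw [← Finset.add_sum_erase Y _ hy₀Y]
    have : ∀ y ∈ Y.erase y₀, ech ((Y.erase y₀).filter (fun x => y < x))
        = ech (Y.filter (fun x => y < x)) := by
      intro y hy
      congr 1
      ext x
      simp only [mem_filter, mem_erase]
      constructor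
      · rintro ⟨⟨_, hx⟩, hlt⟩; exact ⟨hx, hlt⟩
      · rintro ⟨hx, hlt⟩
        refine ⟨⟨?_, hx⟩, hlt⟩
        rintro rfl
        exact hy₀.not_lt (Finset.mem_of_mem_erase hy) hlt
    rw [Finset.sum_congr rfl this]
    ring

open Classical in
theorem ech_eq_of_retraction (Y : Finset α) (r : α → α) (h1 : ∀ y ∈ Y, r y ∈ Y)
    (h2 : ∀ y ∈ Y, r y ≤ y) (h3 : ∀ y ∈ Y, ∀ z ∈ Y, y ≤ z → r y ≤ r z)
    (h4 : ∀ y ∈ Y, r (r y) = r y) :
    ech Y = ech (Y.filter (fun y => r y = y)) := by
  induction' hn : (Y.filter (fun y => r y ≠ y)).card with n ih generalizing Y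
  · rw [Finset.card_eq_zero, Finset.filter_eq_empty_iff] at hn
    congr 1
    symm
    apply Finset.filter_true_of_mem
    intro y hy
    by_contra hc
    exact hn hy hc
  · have hne : (Y.filter (fun y => r y ≠ y)).Nonempty := by
      rw [← Finset.card_pos]; omega
    obtain ⟨y₀, hy₀⟩ := (Y.filter (fun y => r y ≠ y)).exists_minimal hne
    have hy₀Y : y₀ ∈ Y := (mem_filter.mp hy₀.1).1
    have hy₀r : r y₀ ≠ y₀ := (mem_filter.mp hy₀.1).2
    have hlt : r y₀ < y₀ := lt_of_le_of_ne (h2 y₀ hy₀Y) hy₀r
    rw [ech_eq_erase_sub_link Y hy₀Y]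
    have hlink : ech (Y.filter (fun x => x < y₀ ∨ y₀ < x)) = 0 := by
      apply ech_eq_zero_of_cone _ (m := r y₀)
      · exact mem_filter.mpr ⟨h1 y₀ hy₀Y, Or.inl hlt⟩
      · intro x hx
        obtain ⟨hxY, hx'⟩ := mem_filter.mp hx
        rcases hx' with h | h
        · right
          have hfix : r x = x := by
            by_contra hc
            exact hy₀.not_lt (mem_filter.mpr ⟨hxY, hc⟩) h
          rw [← hfix]
          exact h3 x hxY y₀ hy₀Y h.le
        · left
          exact hlt.le.trans h.le
    rw [hlink, sub_zero]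
    have hYe : ∀ y ∈ Y.erase y₀, r y ∈ Y.erase y₀ := by
      intro y hy
      have hyY := Finset.mem_of_mem_erase hy
      refine mem_erase.mpr ⟨?_, h1 y hyY⟩
      intro hc
      apply hy₀r
      rw [← hc, h4 y hyY]
    rw [ih (Y.erase y₀) hYe (fun y hy => h2 y (Finset.mem_of_mem_erase hy))
      (fun y hy z hz => h3 y (Finset.mem_of_mem_erase hy) z (Finset.mem_of_mem_erase hz))
      (fun y hy => h4 y (Finset.mem_of_mem_erase hy))]
    · congr 1
      ext x
      simp only [mem_filter, mem_erase]
      constructor
      · rintro ⟨⟨_, hx⟩, hfx⟩; exact ⟨hx, hfx⟩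
      · rintro ⟨hx, hfx⟩
        refine ⟨⟨?_, hx⟩, hfx⟩
        rintro rfl
        exact hy₀r hfx
    · have : (Y.erase y₀).filter (fun y => r y ≠ y) = (Y.filter (fun y => r y ≠ y)).erase y₀ := by
        ext x
        simp only [mem_filter, mem_erase]
        tauto
      rw [this, Finset.card_erase_of_mem hy₀.1, hn]
      rfl

open Classical in
theorem ech_map {β : Type*} [PartialOrder β] (e : α ↪o β) (Y : Finset α) :
    ech (Y.map e.toEmbedding) = ech Y := by
  induction Y using Finset.strongInduction with
  | H Y ih =>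
    rw [ech_eq_one_sub_sum (Y.map e.toEmbedding), ech_eq_one_sub_sum Y, Finset.sum_map]
    congr 1
    apply Finset.sum_congr rfl
    intro y hy
    have : (Y.map e.toEmbedding).filter (fun x => e.toEmbedding y < x)
        = (Y.filter (fun x => y < x)).map e.toEmbedding := by
      ext z
      simp only [mem_filter, mem_map, RelEmbedding.coe_toEmbedding]
      constructor
      · rintro ⟨⟨x, hx, rfl⟩, hlt⟩
        exact ⟨x, ⟨hx, e.lt_iff_lt.mp hlt⟩, rfl⟩
      · rintro ⟨x, ⟨hx, hlt⟩, rfl⟩
        exact ⟨⟨x, hx, rfl⟩, e.lt_iff_lt.mpr hlt⟩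
    rw [this]
    apply ih
    refine ⟨Finset.filter_subset _ _, ?_⟩
    intro hsub
    have := hsub hy
    simp at this

end Cfsg.Agent.Helper1.PosetEuler
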