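import Mathlib
import Cfsg.Agent.Lib.Helper4.QdFree
import Cfsg.Agent.Lib.Helper14.QdSylow

/-!
# `SL₂(p)`-free automizers give `Qd(p)`-free groups

If no `p`-subgroup `Q` of `G` has a section `H/K` of `N_G(Q)/C_G(Q)` isomorphic to `SL₂(p)`, then
`G` does not involve `Qd(p)`.
-/

set_option autoImplicit false
set_option linter.style.haveILetI false

namespace Cfsg.Agent.Helper1.DF

open Cfsg Subgroup
open Cfsg.Agent.S2761 Cfsg.Agent.Helper14.Qd Cfsg.Agent.Helper4.QDF Cfsg.Agent.Helper4.SLF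

theorem qdfree_of_automizer {G : Type*} [Group G] [Finite G] {p : ℕ} [Fact p.Prime]
    (hfree : ∀ Q : Subgroup G, IsPGroup p ↥Q → ¬ ∃ (H K : Subgroup G) (_ : (K.subgroupOf H).Normal),
      Subgroup.centralizer (Q : Set G) ≤ K ∧ K ≤ H ∧ H ≤ Subgroup.normalizer (Q : Set G) ∧
      Nonempty ((↥H ⧸ K.subgroupOf H) ≃* Matrix.SpecialLinearGroup (Fin 2) (ZMod p))) :
    QdFree p G := by
  rw [qdfree_iff_afffree]
  rintro ⟨K, f, hf⟩
  set T := transSubgroup (ZMod p) with hT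
  haveI hTn : T.Normal := transSubgroup_normal
  have hTp : IsPGroup p ↥T := isPGroup_transSubgroup
  set V : Subgroup ↥K := T.comap f with hV
  haveI hVn : V.Normal := hTn.comap f
  obtain ⟨PV⟩ : Nonempty (Sylow p ↥V) := inferInstance
  set Q' : Subgroup ↥K := (PV : Subgroup ↥V).map V.subtype with hQ'
  have hfrat : normalizer (Q' : Set ↥K) ⊔ V = ⊤ := Sylow.normalizer_sup_eq_top PV
  -- `f` maps `Q'` onto `T`
  have hfQ : ∀ t ∈ T, ∃ q ∈ Q', f q = t := by
    intro t ht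
    set fV : ↥V →* ↥T := f.subgroupComap T with hfV
    have hfVs : Function.Surjective fV := MonoidHom.subgroupComap_surjective_of_surjective f T hf
    have h1 : ((PV : Subgroup ↥V).map fV).index ∣ (PV : Subgroup ↥V).index :=
      Subgroup.index_map_dvd _ hfVs
    obtain ⟨n, hn⟩ := hTp.index ((PV : Subgroup ↥V).map fV)
    have h2 : ((PV : Subgroup ↥V).map fV).index = 1 := by
      rcases Nat.eq_zero_or_pos n with h0 | h0
      · rw [hn, h0, pow_zero]
      · exfalso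
        apply PV.not_dvd_index
        refine dvd_trans ?_ h1
        rw [hn]
        exact dvd_pow_self p h0.ne'
    have h3 : (PV : Subgroup ↥V).map fV = ⊤ := Subgroup.index_eq_one.mp h2
    have h4 : (⟨t, ht⟩ : ↥T) ∈ (PV : Subgroup ↥V).map fV := by rw [h3]; exact mem_top _
    obtain ⟨v, hv, hvt⟩ := h4
    refine ⟨(v : ↥K), ⟨v, hv, rfl⟩, ?_⟩
    exact congrArg Subtype.val hvt
  set N' := normalizer (Q' : Set ↥K) with hN'
  set ψ : ↥K →* Matrix.SpecialLinearGroup (Fin 2) (ZMod p) := (proj (ZMod p)).comp f with hψ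
  -- `ψ` restricted to `N'` is onto
  have hA : ∀ B : Matrix.SpecialLinearGroup (Fin 2) (ZMod p), ∃ n ∈ N', ψ n = B := by
    intro B
    obtain ⟨k, hk⟩ := hf (linHom (ZMod p) B)
    have hk' : k ∈ N' ⊔ V := by rw [hfrat]; exact mem_top _
    obtain ⟨n, hn, v, hv, rfl⟩ := Subgroup.mem_sup_of_normal_right.mp hk'
    refine ⟨n, hn, ?_⟩
    have h1 : ψ v = 1 := by
      have : f v ∈ T := hv
      exact this
    have h2 : ψ (n * v) = B := by
      show proj (ZMod p) (f (n * v)) = B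
      rw [hk, proj_linHom]
    rw [map_mul, h1, mul_one] at h2
    exact h2
  -- `ψ` kills the centralizer of `Q'`
  have hB : ∀ c ∈ centralizer (Q' : Set ↥K), ψ c = 1 := by
    intro c hc
    have h1 : f c ∈ centralizer (T : Set ↥(affSubgroup (ZMod p))) := by
      rw [mem_centralizer_iff]
      intro t ht
      obtain ⟨q, hq, rfl⟩ := hfQ t ht
      have := mem_centralizer_iff.mp hc q hq
      rw [← map_mul, ← map_mul, this]
    exact centralizer_transSubgroup_le h1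
  -- move to `G`
  set Q : Subgroup G := Q'.map K.subtype with hQ
  have hQp : IsPGroup p ↥Q := (PV.isPGroup'.map V.subtype).map K.subtype
  set N₀ : Subgroup G := N'.map K.subtype with hN₀
  have hN₀N : N₀ ≤ normalizer (Q : Set G) := Subgroup.le_normalizer_map K.subtype
  set C := centralizer (Q : Set G) with hC
  have hCN : C ≤ normalizer (Q : Set G) := centralizer_le_normalizer _
  have hnorm : ∀ x ∈ N₀, ∀ u ∈ C, x * u * x⁻¹ ∈ C := by
    intro x hx u hu
    have hxN := hN₀N hx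
    show x * u * x⁻¹ ∈ centralizer (Q : Set G)
    rw [mem_centralizer_iff]
    intro q hq
    have hq' : x⁻¹ * q * x⁻¹⁻¹ ∈ Q := (mem_normalizer_iff.mp (inv_mem hxN) q).mp hq
    rw [inv_inv] at hq'
    have h1 := mem_centralizer_iff.mp hu _ hq'
    calc q * (x * u * x⁻¹) = x * ((x⁻¹ * q * x) * u) * x⁻¹ := by group
      _ = x * (u * (x⁻¹ * q * x)) * x⁻¹ := by rw [h1]
      _ = x * u * x⁻¹ * q := by group
  -- the subgroup `H = C N₀`
  let H : Subgroup G :=
    { carrier := {g | ∃ u ∈ C, ∃ x ∈ N₀, g = u * x}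
      one_mem' := ⟨1, C.one_mem, 1, N₀.one_mem, by simp⟩
      mul_mem' := by
        rintro _ _ ⟨u, hu, x, hx, rfl⟩ ⟨u', hu', x', hx', rfl⟩
        refine ⟨u * (x * u' * x⁻¹), C.mul_mem hu (hnorm x hx u' hu'), x * x', N₀.mul_mem hx hx', ?_⟩
        group
      inv_mem' := by
        rintro _ ⟨u, hu, x, hx, rfl⟩
        refine ⟨x⁻¹ * u⁻¹ * x⁻¹⁻¹, hnorm _ (N₀.inv_mem hx) _ (C.inv_mem hu), x⁻¹, N₀.inv_mem hx, ?_⟩
        group }
  have hHmem : ∀ g ∈ H, ∃ u ∈ C, ∃ x ∈ N₀, g = u * x := fun g hg => hg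
  have hCH : C ≤ H := fun u hu => ⟨u, hu, 1, N₀.one_mem, by simp⟩
  have hN₀H : N₀ ≤ H := fun x hx => ⟨1, C.one_mem, x, hx, by simp⟩
  have hHN : H ≤ normalizer (Q : Set G) := by
    rintro _ ⟨u, hu, x, hx, rfl⟩
    exact mul_mem (hCN hu) (hN₀N hx)
  set e := N'.equivMapOfInjective K.subtype K.subtype_injective with he
  set β : ↥N₀ →* Matrix.SpecialLinearGroup (Fin 2) (ZMod p) :=
    (ψ.comp N'.subtype).comp e.symm.toMonoidHom with hβ
  have hβ1 : ∀ (n : ↥K) (hn : n ∈ N'), β ⟨(n : G), ⟨n, hn, rfl⟩⟩ = ψ n := by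
    intro n hn
    have h1 : e ⟨n, hn⟩ = ⟨(n : G), ⟨n, hn, rfl⟩⟩ := Subtype.ext rfl
    show ψ ((e.symm ⟨(n : G), ⟨n, hn, rfl⟩⟩ : ↥N') : ↥K) = ψ n
    rw [← h1, MulEquiv.symm_apply_apply]
  obtain ⟨Φ, hΦ⟩ := exists_hom_of_prod C N₀ H hHmem hnorm
    (1 : ↥C →* Matrix.SpecialLinearGroup (Fin 2) (ZMod p)) β
    (by
      intro z hzC hzN
      obtain ⟨n, hn, rfl⟩ := hzN
      rw [MonoidHom.one_apply]
      have h1 := hβ1 n hn
      have h2 : ψ n = 1 := by
        apply hB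
        rw [mem_centralizer_iff]
        intro q hq
        have hqQ : (q : G) ∈ Q := ⟨q, hq, rfl⟩
        have := mem_centralizer_iff.mp hzC (q : G) hqQ
        exact Subtype.ext this
      exact (h1.trans h2).symm)
    (by
      intro x u
      simp only [MonoidHom.one_apply, mul_one, mul_inv_cancel])
  have hΦs : Function.Surjective Φ := by
    intro B
    obtain ⟨n, hn, hnB⟩ := hA B
    have hx : (n : G) ∈ N₀ := ⟨n, hn, rfl⟩
    refine ⟨⟨(n : G), hN₀H hx⟩, ?_⟩
    have := hΦ ⟨(n : G), hN₀H hx⟩ 1 ⟨(n : G), hx⟩ (by simp)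
    rw [this, map_one, one_mul, hβ1 n hn, hnB]
  set L : Subgroup G := Φ.ker.map H.subtype with hL
  have hLH : L.subgroupOf H = Φ.ker := by
    rw [hL, Subgroup.subgroupOf, Subgroup.comap_map_eq_self_of_injective H.subtype_injective]
  have hLn : (L.subgroupOf H).Normal := by rw [hLH]; infer_instance
  refine hfree Q hQp ⟨H, L, hLn, ?_, Subgroup.map_subtype_le _, hHN,
    ⟨(QuotientGroup.quotientMulEquivOfEq hLH).trans
      (QuotientGroup.quotientKerEquivOfSurjective Φ hΦs)⟩⟩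
  intro u hu
  refine ⟨⟨u, hCH hu⟩, ?_, rfl⟩
  rw [SetLike.mem_coe, MonoidHom.mem_ker]
  have := hΦ ⟨u, hCH hu⟩ ⟨u, hu⟩ 1 (by simp)
  rw [this, map_one, MonoidHom.one_apply, one_mul]

end Cfsg.Agent.Helper1.DF
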