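import Mathlib
import Cfsg.Prelude.Def_LocalEven
import Cfsg.Agent.Lib.Helper1.ZJFusion
import Cfsg.Agent.Lib.Helper14.QdSylow

/-!
# In `Qd(p)`, `Z(J(T))` does not control strong fusion

Uses helper14's Heisenberg coordinates on the Sylow subgroups of the affine group `F² ⋊ SL₂(F)`.
-/

set_option autoImplicit false

namespace Cfsg.Agent.Helper1.ZJF

open Cfsg Subgroup
open scoped Matrix
open Cfsg.Agent.S2761 Cfsg.Agent.Helper14.SL2Vec Cfsg.Agent.Helper14.Qd

section transport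

variable {p : ℕ} [Fact p.Prime]

/-- control of strong fusion is invariant under isomorphisms -/
theorem controlsStrongFusion_map {X Y : Type*} [Group X] [Group Y] [Finite X] (e : X ≃* Y)
    {U : Subgroup X} (h : Cfsg.ControlsStrongFusion p U) :
    Cfsg.ControlsStrongFusion p (U.map e.toMonoidHom) := by
  obtain ⟨T', hUT', hctl⟩ := h
  have hsurj : Function.Surjective e.toMonoidHom := e.surjective
  refine ⟨T'.mapSurjective hsurj, ?_, ?_⟩
  · rw [Sylow.coe_mapSurjective]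
    exact Subgroup.map_mono hUT'
  intro A hA
  rw [Sylow.coe_mapSurjective] at hA ⊢
  refine ⟨hA, ?_⟩
  intro g hgA
  have hpre : ∀ y : Y, y ∈ (T' : Subgroup X).map e.toMonoidHom → e.symm y ∈ (T' : Subgroup X) := by
    rintro _ ⟨t, ht, rfl⟩
    have e1 : e.symm (e.toMonoidHom t) = t := by simp
    rw [e1]; exact ht
  have hA₀ : e.symm '' A ⊆ ((T' : Subgroup X) : Set X) := by
    rintro _ ⟨a, ha, rfl⟩
    exact hpre a (hA ha)
  obtain ⟨x, hx, hxA⟩ := (hctl (e.symm '' A) hA₀).2 (e.symm g) (by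
    rintro _ ⟨_, ⟨a, ha, rfl⟩, rfl⟩
    have h1 := hpre _ (hgA ⟨a, ha, rfl⟩)
    have e1 : e.symm g * e.symm a * (e.symm g)⁻¹ = e.symm (g * a * g⁻¹) := by simp
    show e.symm g * e.symm a * (e.symm g)⁻¹ ∈ (T' : Subgroup X)
    rw [e1]; exact h1)
  refine ⟨e x, ?_, ?_⟩
  · have := Subgroup.map_equiv_normalizer_eq U e
    rw [← this]
    exact Subgroup.mem_map_of_mem _ hx
  · intro a ha
    have h1 := hxA (e.symm a) ⟨a, ha, rfl⟩
    have h2 := congrArg e h1
    simpa using h2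

end transport

section qd

variable {F : Type*} [Field F] [Fintype F] {p : ℕ} [Fact p.Prime] [CharP F p]

/-- In the affine group `F² ⋊ SL₂(F)`, `Z(J(T))` never controls strong fusion. -/
theorem not_controls_aff (T : Sylow p ↥(affSubgroup F)) :
    ¬ Cfsg.ControlsStrongFusion p (Cfsg.centerThompsonAOf (T : Subgroup ↥(affSubgroup F))) := by
  rintro ⟨T', -, hctl⟩
  obtain ⟨v₀, hv₀, hT⟩ := sylow_eq_stab T
  obtain ⟨w₀, hd⟩ := exists_dt_eq_one hv₀
  obtain ⟨v', -, hT'⟩ := sylow_eq_stab T'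
  rw [hT] at hctl
  set U := Cfsg.centerThompsonAOf (stab v₀ : Subgroup ↥(affSubgroup F)) with hU
  have hVT' : transSubgroup F ≤ (T' : Subgroup ↥(affSubgroup F)) := by
    rw [hT']; exact transSubgroup_le_stab v'
  -- `trans v₀` is central in `stab v₀`, hence in `U`
  have haU : trans v₀ ∈ U := by
    apply center_le_centerThompsonAOf
    refine ⟨transSubgroup_le_stab v₀ (trans_mem v₀), ?_⟩
    show Cfsg.Agent.Helper14.Qd.trans v₀ ∈ centralizer ((stab v₀ : Subgroup ↥(affSubgroup F)) : Set ↥(affSubgroup F))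
    rw [mem_centralizer_iff]
    intro x hx
    have h1 := conj_trans_gen x v₀
    rw [(mem_stab_iff v₀ x).mp hx] at h1
    calc x * trans v₀ = (x * trans v₀ * x⁻¹) * x := by group
      _ = trans v₀ * x := by rw [h1]
  -- a conjugate of `trans v₀` off the line
  obtain ⟨B, hB⟩ := exists_dt_mulVec_ne_zero hv₀
  set u₁ := (B : Matrix (Fin 2) (Fin 2) F) *ᵥ v₀ with hu₁
  have hconj : linHom F B * trans v₀ * (linHom F B)⁻¹ = trans u₁ := conj_trans B v₀
  obtain ⟨x, hx, hxa⟩ := (hctl {trans v₀} (by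
      intro y hy
      rw [Set.mem_singleton_iff] at hy
      rw [hy]; exact hVT' (trans_mem v₀))).2 (linHom F B) (by
      rintro _ ⟨y, hy, rfl⟩
      rw [Set.mem_singleton_iff] at hy
      show linHom F B * y * (linHom F B)⁻¹ ∈ (T' : Subgroup ↥(affSubgroup F))
      rw [hy, hconj]; exact hVT' (trans_mem u₁))
  have hbU : trans u₁ ∈ U := by
    have h1 := hxa (trans v₀) rfl
    rw [hconj] at h1
    rw [h1]
    exact (Subgroup.mem_normalizer_iff.mp hx (trans v₀)).mp haU
  -- coordinates of `trans u₁`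
  have hbS : trans u₁ ∈ stab v₀ := transSubgroup_le_stab v₀ (trans_mem u₁)
  have hcoord := eq_hmk_coords hd hbS
  set c := cC w₀ (trans u₁) with hc
  set b := cB v₀ (trans u₁) with hb
  set a0 := cA w₀ (trans u₁) with ha0
  have hc0 : c = 0 := by
    have h1 : hmk v₀ w₀ c b a0 ∈ transSubgroup F := by rw [← hcoord]; exact trans_mem u₁
    exact (hmk_mem_transSubgroup_iff hd c b a0).mp h1
  have hb0 : b ≠ 0 := by
    intro hb0
    have h1 : hmk v₀ w₀ c b a0 ∈ transSubgroup F := by rw [← hcoord]; exact trans_mem u₁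
    obtain ⟨u, hu⟩ := (mem_transSubgroup_iff_exists _).mp h1
    have h2 : trans u₁ = hmk v₀ w₀ c b a0 := hcoord
    unfold hmk Cfsg.Agent.Helper14.Qd.trans at h2
    obtain ⟨-, h3⟩ := aff_injective h2
    apply hB
    rw [h3, hb0, zero_smul, add_zero, dt_smul_right, dt_self, mul_zero]
  -- `U` is invariant under the flip automorphism
  have hflip : ∀ y : ↥(stab v₀), (y : ↥(affSubgroup F)) ∈ U → ((flip hd y : ↥(stab v₀)) : ↥(affSubgroup F)) ∈ U := by
    intro y hy
    rw [hU, ← inducedFunctor_zjA] at hy ⊢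
    obtain ⟨y', hy', hyy'⟩ := hy
    have hyeq : y' = y := Subtype.ext hyy'
    rw [hyeq] at hy'
    have h1 := (isCharPFunctor_zjA p).2 ↥(stab v₀) ↥(stab v₀) (isPGroup_stab hv₀) (flip hd)
    refine ⟨flip hd y, ?_, rfl⟩
    rw [← h1]
    exact Subgroup.mem_map_of_mem _ hy'
  have hfU := hflip ⟨trans u₁, hbS⟩ hbU
  have hfeq : ((flip hd ⟨trans u₁, hbS⟩ : ↥(stab v₀)) : ↥(affSubgroup F)) =
      hmk v₀ w₀ b c (c * b - a0) := by
    have h1 : (⟨trans u₁, hbS⟩ : ↥(stab v₀)) = ⟨hmk v₀ w₀ c b a0, hmk_mem_stab c b a0⟩ :=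
      Subtype.ext hcoord
    rw [h1]
    exact congrArg Subtype.val (flipFun_hmk hd c b a0)
  rw [hfeq] at hfU
  rw [hcoord] at hbU
  -- elements of `U` commute
  have hcomm : ∀ y ∈ U, ∀ z ∈ U, y * z = z * y := by
    intro y hy z hz
    exact (mem_centralizer_iff.mp hz.2 y hy.1)
  have h1 := hcomm _ hbU _ hfU
  rw [hmk_mul hd, hmk_mul hd] at h1
  obtain ⟨-, -, h2⟩ := hmk_injective hd h1
  rw [hc0] at h2
  apply hb0
  have h3 : b * b = 0 := by linear_combination -h2
  exact mul_self_eq_zero.mp h3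

end qd

end Cfsg.Agent.Helper1.ZJF
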