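import Mathlib
import Cfsg.Agent.Lib.Helper4.QuadSection
import Cfsg.Agent.Lib.Helper4.SL2FreeApps
import Cfsg.Agent.S0656

set_option autoImplicit false

/-! A quadratic element outside `O_p` of a group acting faithfully on an elementary abelian
`p`-group (`p` odd) forces an `SL₂(p)`-section; no hypothesis on `O_p`.  (Baer–Suzuki plus
Helper4's quadratic pairs.) -/

namespace Cfsg.Agent.Helper1

open Matrix Matrix.SpecialLinearGroup
open scoped MatrixGroups
open scoped commutatorElement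
open Cfsg.Agent.Helper4.QSec Cfsg.Agent.Helper4.SLF

/-- **quadratic elements outside `O_p`**, without the hypothesis `O_p(Γ) = 1`. -/
theorem quadratic_section_general {Γ W : Type*} [Group Γ] [Finite Γ] [CommGroup W] [Finite W]
    {p : ℕ} [hp : Fact p.Prime] (hp2 : p ≠ 2) (act : Γ →* MulAut W)
    (hact : Function.Injective act) (hW : ∀ w : W, w ^ p = 1)
    (x : Γ) (hx : ∀ N : Subgroup Γ, N.Normal → IsPGroup p N → x ∉ N)
    (hqx : ∀ w : W, act x (act x w / w) = act x w / w) :
    Inv SL(2, ZMod p) Γ := by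
  -- Baer–Suzuki
  obtain ⟨g, hg⟩ : ∃ g : Γ, ¬ IsPGroup p
      ↥(Subgroup.zpowers x ⊔ (Subgroup.zpowers x).map (MulAut.conj g).toMonoidHom) := by
    by_contra hcon
    push Not at hcon
    obtain ⟨N, hNn, hNp, hXN⟩ := Cfsg.Agent.Helper21.baer_suzuki (Subgroup.zpowers x) hcon
    exact hx N hNn hNp (hXN (Subgroup.mem_zpowers x))
  set y := g * x * g⁻¹ with hy
  have hΓ₁ : Subgroup.zpowers x ⊔ (Subgroup.zpowers x).map (MulAut.conj g).toMonoidHom =
      Subgroup.closure {x, y} := by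
    rw [Subgroup.zpowers_eq_closure, MonoidHom.map_closure, ← Subgroup.closure_union]
    congr 1
    ext z
    simp only [Set.image_singleton, Set.union_singleton, Set.mem_insert_iff,
      Set.mem_singleton_iff, MulEquiv.coe_toMonoidHom, MulAut.conj_apply]
    rw [or_comm]
  rw [hΓ₁] at hg
  set Γ₁ : Subgroup Γ := Subgroup.closure {x, y} with hΓ₁def
  have hxΓ : x ∈ Γ₁ := Subgroup.subset_closure (by simp)
  have hyΓ : y ∈ Γ₁ := Subgroup.subset_closure (by simp)
  have hgen : Subgroup.closure ({⟨x, hxΓ⟩, ⟨y, hyΓ⟩} : Set ↥Γ₁) = ⊤ := by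
    have h := Subgroup.closure_closure_coe_preimage (k := ({x, y} : Set Γ))
    rw [← h]
    congr 1
    ext z
    simp only [Set.mem_insert_iff, Set.mem_singleton_iff, Set.mem_preimage]
    constructor
    · rintro (rfl | rfl)
      · left; rfl
      · right; rfl
    · rintro (h | h)
      · left; exact Subtype.ext h
      · right; exact Subtype.ext h
  have hnp : ∃ h : ↥Γ₁, ∀ k : ℕ, h ^ p ^ k ≠ 1 := by
    unfold IsPGroup at hg
    push Not at hg
    exact hg
  obtain ⟨K₁, f₁, hf₁⟩ := quadratic_pair_section hp2 (act.comp Γ₁.subtype)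
    (hact.comp Γ₁.subtype_injective) hW ⟨x, hxΓ⟩ ⟨y, hyΓ⟩ hgen hqx
    (quadratic_conj act x g hqx) hnp
  exact Inv.of_subgroup Γ₁ ⟨K₁, f₁, hf₁⟩

section subgroups

variable {G : Type*} [Group G] [Finite G] {p : ℕ} [hpp : Fact p.Prime]

/-- The subgroup form: `H ≤ N_G(V)` faithful on the elementary abelian `V`, `a ∈ H` quadratic
and outside `O_p(H)`: then `H` involves `SL₂(p)`. -/
theorem inv_of_quadratic_not_mem_pCore (hp : p ≠ 2) (V H : Subgroup G)
    (hV : Cfsg.IsElementaryAbelian p V) (hHV : H ≤ Subgroup.normalizer (V : Set G))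
    (hf : H ⊓ Subgroup.centralizer (V : Set G) = ⊥) (a : G) (haH : a ∈ H)
    (hq : ⁅⁅V, Subgroup.zpowers a⁆, Subgroup.zpowers a⁆ = ⊥)
    (hna : a ∉ (Cfsg.pCore p H).map H.subtype) : Inv SL(2, ZMod p) ↥H := by
  obtain ⟨hVc, hVp⟩ := hV
  let _ : CommGroup ↥V :=
    { (inferInstance : Group ↥V) with mul_comm := fun a b => mul_comm' a b }
  set act := Cfsg.Agent.S0656.conjAct V H hHV with hact_def
  have hact : Function.Injective act := by
    rw [injective_iff_map_eq_one]
    intro h hh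
    have hmem : (h : G) ∈ H ⊓ Subgroup.centralizer (V : Set G) := by
      refine Subgroup.mem_inf.2 ⟨h.2, ?_⟩
      rw [Subgroup.mem_centralizer_iff]
      intro v hv
      have h1 : act h ⟨v, hv⟩ = ⟨v, hv⟩ := by rw [hh]; rfl
      have h2 := congrArg Subtype.val h1
      rw [Cfsg.Agent.S0656.conjAct_apply] at h2
      simp only at h2
      calc v * (h : G) = ((h : G) * v * (h : G)⁻¹) * h := by rw [h2]
        _ = h * v := by group
    rw [hf, Subgroup.mem_bot] at hmem
    exact Subtype.ext hmem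
  have hW : ∀ w : ↥V, w ^ p = 1 := by
    intro w
    apply Subtype.ext
    rw [Subgroup.coe_pow]
    exact hVp w w.2
  have hx : ∀ N : Subgroup ↥H, N.Normal → IsPGroup p N → (⟨a, haH⟩ : ↥H) ∉ N := by
    intro N hN hNp hmem
    apply hna
    have hle : N ≤ Cfsg.pCore p ↥H := le_sSup ⟨hN, hNp⟩
    exact ⟨⟨a, haH⟩, hle hmem, rfl⟩
  have hquad : ∀ w : ↥V, act ⟨a, haH⟩ (act ⟨a, haH⟩ w / w) = act ⟨a, haH⟩ w / w := by
    intro w
    have hcG : ((act ⟨a, haH⟩ w / w : ↥V) : G) = a * w * a⁻¹ * (w : G)⁻¹ := by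
      rw [div_eq_mul_inv, Subgroup.coe_mul, Subgroup.coe_inv, Cfsg.Agent.S0656.conjAct_apply]
    have hcmem : ((act ⟨a, haH⟩ w / w : ↥V) : G) ∈ ⁅V, Subgroup.zpowers a⁆ := by
      have h1 : ⁅(w : G), a⁆ ∈ ⁅V, Subgroup.zpowers a⁆ :=
        Subgroup.commutator_mem_commutator w.2 (Subgroup.mem_zpowers a)
      have h2 : a * w * a⁻¹ * (w : G)⁻¹ = ⁅(w : G), a⁆⁻¹ := by
        rw [commutatorElement_def]; group
      rw [hcG, h2]
      exact Subgroup.inv_mem _ h1
    have h1 : ⁅V, Subgroup.zpowers a⁆ ≤ Subgroup.centralizer (Subgroup.zpowers a : Set G) :=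
      Subgroup.commutator_eq_bot_iff_le_centralizer.mp hq
    have h2 := Subgroup.mem_centralizer_iff.mp (h1 hcmem) a (Subgroup.mem_zpowers a)
    apply Subtype.ext
    rw [Cfsg.Agent.S0656.conjAct_apply]
    show a * ((act ⟨a, haH⟩ w / w : ↥V) : G) * a⁻¹ = _
    rw [h2]; group
  exact quadratic_section_general hp act hact hW ⟨a, haH⟩ hx hquad

/-- a section of `↥H` as a section of `G` inside `H` -/
theorem exists_section_le_of_inv {T : Type*} [Group T] (H : Subgroup G) (h : Inv T ↥H) :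
    ∃ (K L : Subgroup G) (hL : (L.subgroupOf K).Normal), K ≤ H ∧
      Nonempty ((K ⧸ L.subgroupOf K) ≃* T) := by
  obtain ⟨K₀, f₀, hf₀⟩ := h
  set K : Subgroup G := K₀.map H.subtype with hK
  have hKH : K ≤ H := Subgroup.map_subtype_le _
  let e₀ : ↥K₀ ≃* ↥K := K₀.equivMapOfInjective H.subtype H.subtype_injective
  let f : ↥K →* T := f₀.comp e₀.symm.toMonoidHom
  have hfs : Function.Surjective f := hf₀.comp e₀.symm.surjective
  set L : Subgroup G := f.ker.map K.subtype with hL
  have hLK : L.subgroupOf K = f.ker := by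
    rw [hL, Subgroup.subgroupOf, Subgroup.comap_map_eq_self_of_injective K.subtype_injective]
  have hLn : (L.subgroupOf K).Normal := by rw [hLK]; infer_instance
  exact ⟨K, L, hLn, hKH, ⟨(QuotientGroup.quotientMulEquivOfEq hLK).trans
    (QuotientGroup.quotientKerEquivOfSurjective f hfs)⟩⟩

end subgroups

end Cfsg.Agent.Helper1
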