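import Mathlib
import Cfsg.Agent.Lib.Helper1.AbelianSylowTwo
import Cfsg.Agent.Lib.Helper4.QuadSection
import Cfsg.Prelude.Def_Transfer
import Cfsg.Prelude.Def_Solvable

set_option autoImplicit false

/-! In a solvable group (with abelian `2`-subgroups when `p = 3`), `p` odd, an element
acting quadratically on a normal elementary abelian `p`-subgroup `V` with
`O_p(G / C_G(V)) = 1` centralizes `V`.  Proved from Helper4's Theorem Q
(`QSec.quadratic_section`), applied to the action of `G / C_G(V)` on `V`. -/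

namespace Cfsg.Agent.Helper1

universe u

open Cfsg
open scoped commutatorElement

section

variable {G : Type u} [Group G] (V : Subgroup G) [hVn : V.Normal]

/-- the conjugation action of `G / C_G(V)` on `V` -/
noncomputable def quotAct : G ⧸ Subgroup.centralizer (V : Set G) →* MulAut V :=
  QuotientGroup.lift (Subgroup.centralizer (V : Set G)) (MulAut.conjNormal (H := V)) (by
    intro g hg
    ext v
    rw [MulAut.conjNormal_apply]
    have := Subgroup.mem_centralizer_iff.mp hg v v.2
    rw [← this]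
    simp)

theorem quotAct_mk (g : G) (v : V) : ((quotAct V (QuotientGroup.mk g) v : V) : G) = g * v * g⁻¹ :=
  rfl

theorem quotAct_injective : Function.Injective (quotAct V) := by
  rw [injective_iff_map_eq_one]
  intro y hy
  obtain ⟨g, rfl⟩ := QuotientGroup.mk_surjective y
  rw [QuotientGroup.eq_one_iff, Subgroup.mem_centralizer_iff]
  intro v hv
  have h1 := congrArg (fun α : MulAut V => ((α ⟨v, hv⟩ : V) : G)) hy
  simp only [quotAct_mk, MulAut.one_apply] at h1
  calc v * g = (g * v * g⁻¹) * g := by rw [h1]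
    _ = g * v := by group

end

theorem quadratic_mem_centralizer {G : Type u} [Group G] [Finite G] {p : ℕ} [hpp : Fact p.Prime]
    (hp : p ≠ 2) (hsolv : Group.IsSolvable G) (h3 : p = 3 → AS2 G)
    (V : Subgroup G) [hVn : V.Normal] (hV : Cfsg.IsElementaryAbelian p V)
    (hO : Cfsg.pCore p (G ⧸ Subgroup.centralizer (V : Set G)) = ⊥)
    (a : G) (hq : ⁅⁅V, Subgroup.zpowers a⁆, Subgroup.zpowers a⁆ = ⊥) :
    a ∈ Subgroup.centralizer (V : Set G) := by
  by_contra ha
  set C := Subgroup.centralizer (V : Set G) with hC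
  have hVc := hV.1
  let _ : CommGroup ↥V :=
    { (inferInstance : Group ↥V) with mul_comm := fun a b => mul_comm' a b }
  have hW : ∀ w : ↥V, w ^ p = 1 := by
    intro w
    apply Subtype.ext
    rw [Subgroup.coe_pow]
    exact hV.2 w w.2
  have hO' : ∀ N : Subgroup (G ⧸ C), N.Normal → IsPGroup p N → N = ⊥ := by
    intro N hN hNp
    rw [eq_bot_iff, ← hO]
    exact le_sSup ⟨hN, hNp⟩
  have hx1 : (QuotientGroup.mk a : G ⧸ C) ≠ 1 := by
    intro h
    exact ha ((QuotientGroup.eq_one_iff a).mp h)
  have hWcomm : ∀ w ∈ ⁅V, Subgroup.zpowers a⁆, a * w = w * a := by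
    intro w hw
    have h1 : ⁅V, Subgroup.zpowers a⁆ ≤ Subgroup.centralizer (Subgroup.zpowers a : Set G) :=
      Subgroup.commutator_eq_bot_iff_le_centralizer.mp hq
    exact Subgroup.mem_centralizer_iff.mp (h1 hw) a (Subgroup.mem_zpowers a)
  have hquad : ∀ w : ↥V, quotAct V (QuotientGroup.mk a) (quotAct V (QuotientGroup.mk a) w / w) =
      quotAct V (QuotientGroup.mk a) w / w := by
    intro w
    have hcG : ((quotAct V (QuotientGroup.mk a) w / w : ↥V) : G) = a * w * a⁻¹ * (w : G)⁻¹ := by
      rw [div_eq_mul_inv, Subgroup.coe_mul, Subgroup.coe_inv, quotAct_mk]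
    have hcmem : ((quotAct V (QuotientGroup.mk a) w / w : ↥V) : G) ∈
        ⁅V, Subgroup.zpowers a⁆ := by
      have h1 : ⁅(w : G), a⁆ ∈ ⁅V, Subgroup.zpowers a⁆ :=
        Subgroup.commutator_mem_commutator w.2 (Subgroup.mem_zpowers a)
      have h2 : a * w * a⁻¹ * (w : G)⁻¹ = ⁅(w : G), a⁆⁻¹ := by
        rw [commutatorElement_def]; group
      rw [hcG, h2]
      exact Subgroup.inv_mem _ h1
    apply Subtype.ext
    rw [quotAct_mk]
    have := hWcomm _ hcmem
    rw [this]; group
  obtain ⟨K, f, hf⟩ := Cfsg.Agent.Helper4.QSec.quadratic_section hp (quotAct V)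
    (quotAct_injective V) hW hO' (QuotientGroup.mk a) hx1 hquad
  have hKsolv : Group.IsSolvable ↥K := inferInstance
  have hK3 : p = 3 → AS2 ↥K := fun h =>
    AS2.of_injective K.subtype K.subtype_injective (AS2.of_surjective (QuotientGroup.mk' C)
      (QuotientGroup.mk'_surjective C) (h3 h))
  exact not_SL2_surjective hp hKsolv hK3 f hf

end Cfsg.Agent.Helper1
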