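import Mathlib
import Cfsg.Agent.Lib.Helper3.Subnormal
import Cfsg.Agent.Lib.Helper1.Complement
import Cfsg.Agent.Lib.Helper1.QuotientCard

/-!
# Relative subnormality inside a fixed group (helper1's shared library)

`(X.subgroupOf Y).IsSubnormal` for subgroups `X ≤ Y` of a fixed group `G`: transitivity, joins,
conjugation, and Wielandt's zipper lemma and subnormality criterion.
-/

set_option autoImplicit false

namespace Cfsg.Agent.Helper1

open Subgroup
open scoped Pointwise

variable {G : Type*} [Group G]

theorem sn_mono {X Y Y' : Subgroup G} (hY : Y' ≤ Y) (h : (X.subgroupOf Y).IsSubnormal) :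
    (X.subgroupOf Y').IsSubnormal :=
  Cfsg.Agent.Helper3.subgroupOf_isSubnormal_of_le hY h

theorem sn_of_le_normalizer {X Y : Subgroup G} (hXY : X ≤ Y) (hY : Y ≤ normalizer (X : Set G)) :
    (X.subgroupOf Y).IsSubnormal :=
  ((Subgroup.normal_subgroupOf_iff_le_normalizer hXY).mpr hY).isSubnormal

theorem sn_trans {X Y Z : Subgroup G} (hXY : X ≤ Y) (hYZ : Y ≤ Z)
    (h1 : (X.subgroupOf Y).IsSubnormal) (h2 : (Y.subgroupOf Z).IsSubnormal) :
    (X.subgroupOf Z).IsSubnormal := by
  have hle : X.subgroupOf Z ≤ Y.subgroupOf Z := by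
    intro z hz
    rw [mem_subgroupOf] at hz ⊢
    exact hXY hz
  refine Subgroup.IsSubnormal.trans hle ?_ h2
  have h3 := h1.comap (Subgroup.subgroupOfEquivOfLe hYZ).toMonoidHom
  convert h3 using 1
  ext x
  simp only [mem_subgroupOf, mem_comap]
  rfl

theorem sn_sup [Finite G] {X Y Z : Subgroup G} (hXZ : X ≤ Z) (hYZ : Y ≤ Z)
    (h1 : (X.subgroupOf Z).IsSubnormal) (h2 : (Y.subgroupOf Z).IsSubnormal) :
    ((X ⊔ Y).subgroupOf Z).IsSubnormal := by
  rw [Subgroup.subgroupOf_sup hXZ hYZ]
  exact Cfsg.Agent.Helper3.isSubnormal_sup h1 h2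

theorem sn_conj {X Y : Subgroup G} (g : G) (h : (X.subgroupOf Y).IsSubnormal) :
    ((MulAut.conj g • X).subgroupOf (MulAut.conj g • Y)).IsSubnormal := by
  have h3 := h.comap (Subgroup.equivSMul (MulAut.conj g) Y).symm.toMonoidHom
  convert h3 using 1
  ext x
  simp only [mem_subgroupOf, mem_comap]
  rw [Subgroup.mem_pointwise_smul_iff_inv_smul_mem]
  have : (((Subgroup.equivSMul (MulAut.conj g) Y).symm x : Y) : G) = (MulAut.conj g)⁻¹ • (x : G) := by
    have h4 : ((Subgroup.equivSMul (MulAut.conj g) Y)
        ((Subgroup.equivSMul (MulAut.conj g) Y).symm x) : G)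
        = MulAut.conj g • ((((Subgroup.equivSMul (MulAut.conj g) Y).symm x : Y)) : G) := rfl
    rw [MulEquiv.apply_symm_apply] at h4
    rw [h4, inv_smul_smul]
  show _ ↔ (((Subgroup.equivSMul (MulAut.conj g) Y).symm x : Y) : G) ∈ X
  rw [this]

theorem sn_top {X : Subgroup G} (h : (X.subgroupOf ⊤).IsSubnormal) : X.IsSubnormal := by
  have h3 := h.comap (Subgroup.topEquiv (G := G)).symm.toMonoidHom
  convert h3 using 1
  ext x
  simp only [mem_subgroupOf, mem_comap]
  rfl

section Finite

variable [Finite G]

/-- `M` is a maximal subgroup of `H`. -/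
def IsMaxIn (M H : Subgroup G) : Prop := M < H ∧ ∀ L : Subgroup G, M < L → L ≤ H → L = H

theorem exists_isMaxIn (H : Subgroup G) : ∀ (d : ℕ) (X : Subgroup G), X < H →
    Nat.card H - Nat.card X = d → ∃ M : Subgroup G, X ≤ M ∧ IsMaxIn M H := by
  intro d
  induction d using Nat.strong_induction_on with
  | _ d ih =>
    intro X hX hd
    by_cases hmax : ∀ L : Subgroup G, X < L → L ≤ H → L = H
    · exact ⟨X, le_rfl, hX, hmax⟩
    · push Not at hmax
      obtain ⟨L, hXL, hLH, hne⟩ := hmax
      have hLlt : L < H := lt_of_le_of_ne hLH hne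
      have h1 : Nat.card X < Nat.card L := by
        rcases Nat.lt_or_ge (Nat.card X) (Nat.card L) with h | h
        · exact h
        · exact absurd (Subgroup.eq_of_le_of_card_ge hXL.le h) hXL.ne
      have h2 : Nat.card L < Nat.card H := by
        rcases Nat.lt_or_ge (Nat.card L) (Nat.card H) with h | h
        · exact h
        · exact absurd (Subgroup.eq_of_le_of_card_ge hLlt.le h) hLlt.ne
      obtain ⟨M, hLM, hM⟩ := ih (Nat.card H - Nat.card L) (by omega) L hLlt rfl
      exact ⟨M, hXL.le.trans hLM, hM⟩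

theorem card_lt_of_lt {X Y : Subgroup G} (h : X < Y) : Nat.card X < Nat.card Y := by
  rcases Nat.lt_or_ge (Nat.card X) (Nat.card Y) with h1 | h1
  · exact h1
  · exact absurd (Subgroup.eq_of_le_of_card_ge h.le h1) h.ne

/-- a proper relatively subnormal subgroup lies in a proper relatively normal subgroup -/
theorem sn_lt_normal {X Y : Subgroup G} (hXY : X < Y) (h : (X.subgroupOf Y).IsSubnormal) :
    ∃ L : Subgroup G, X ≤ L ∧ L < Y ∧ Y ≤ normalizer (L : Set G) := by
  rcases h.lt_normal with h1 | ⟨L', hL'n, hXL', hL'lt⟩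
  · exfalso
    apply hXY.ne
    apply le_antisymm hXY.le
    intro y hy
    have : (⟨y, hy⟩ : Y) ∈ X.subgroupOf Y := by rw [h1]; exact mem_top _
    exact this
  · refine ⟨L'.map Y.subtype, ?_, ?_, ?_⟩
    · intro x hx
      exact ⟨⟨x, hXY.le hx⟩, hXL' (mem_subgroupOf.mpr hx), rfl⟩
    · refine lt_of_le_of_ne (Subgroup.map_subtype_le _) ?_
      intro heq
      apply hL'lt.ne
      rw [eq_top_iff]
      intro y _
      have : (y : G) ∈ L'.map Y.subtype := by rw [heq]; exact y.2
      obtain ⟨y', hy', hyy'⟩ := this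
      have : y' = y := Subtype.ext hyy'
      rwa [← this]
    · apply le_normalizer_iff.mpr
      rintro y hy _ ⟨l, hl, rfl⟩
      refine ⟨⟨y, hy⟩ * l * ⟨y, hy⟩⁻¹, hL'n.conj_mem l hl ⟨y, hy⟩, ?_⟩
      simp

theorem conj_smul_eq_self_iff {S : Subgroup G} {x : G} :
    MulAut.conj x • S = S ↔ x ∈ normalizer (S : Set G) := by
  rw [Subgroup.mem_normalizer_iff_map_conj_eq]
  rfl

/-- A relatively subnormal, non-normal subgroup has a conjugate different from itself that
normalizes it. -/
theorem exists_conj_le_normalizer : ∀ (n : ℕ) (S K : Subgroup G), Nat.card K = n → S ≤ K →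
    (S.subgroupOf K).IsSubnormal → ¬ K ≤ normalizer (S : Set G) →
    ∃ x ∈ K, MulAut.conj x • S ≠ S ∧ MulAut.conj x • S ≤ normalizer (S : Set G) := by
  intro n
  induction n using Nat.strong_induction_on with
  | _ n ih =>
    intro S K hn hSK hsn hnot
    have hlt : S < K := by
      refine lt_of_le_of_ne hSK ?_
      intro h
      apply hnot
      rw [← h]; exact le_normalizer
    obtain ⟨L, hSL, hLK, hKL⟩ := sn_lt_normal hlt hsn
    by_cases hLN : L ≤ normalizer (S : Set G)
    · obtain ⟨x, hxK, hxN⟩ := SetLike.not_le_iff_exists.mp hnot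
      refine ⟨x, hxK, ?_, ?_⟩
      · intro h
        exact hxN (conj_smul_eq_self_iff.mp h)
      · have h1 : MulAut.conj x • L = L := conj_smul_eq_self_iff.mpr (hKL hxK)
        have h2 : MulAut.conj x • S ≤ MulAut.conj x • L :=
          Subgroup.pointwise_smul_le_pointwise_smul_iff.mpr hSL
        rw [h1] at h2
        exact h2.trans hLN
    · have hcard : Nat.card L < n := by rw [← hn]; exact card_lt_of_lt hLK
      obtain ⟨x, hxL, h1, h2⟩ := ih (Nat.card L) hcard S L rfl hSL (sn_mono hLK.le hsn) hLN
      exact ⟨x, hLK.le hxL, h1, h2⟩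

/-- **Wielandt's zipper lemma** (relative form). -/
theorem zipper (H : Subgroup G) : ∀ (d : ℕ) (S : Subgroup G), S ≤ H →
    Nat.card H - Nat.card S = d →
    (∀ L : Subgroup G, S ≤ L → L < H → (S.subgroupOf L).IsSubnormal) →
    ¬ (S.subgroupOf H).IsSubnormal →
    ∃ M : Subgroup G, S ≤ M ∧ IsMaxIn M H ∧
      ∀ K : Subgroup G, S ≤ K → IsMaxIn K H → K = M := by
  intro d
  induction d using Nat.strong_induction_on with
  | _ d ih =>
    intro S hSH hd hyp hnot
    have hnotN : ¬ H ≤ normalizer (S : Set G) := fun h => hnot (sn_of_le_normalizer hSH h)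
    set NH := H ⊓ normalizer (S : Set G) with hNH
    have hNHlt : NH < H := by
      refine lt_of_le_of_ne inf_le_left ?_
      intro h
      apply hnotN
      rw [← h]; exact inf_le_right
    obtain ⟨M, hNM, hM⟩ := exists_isMaxIn H _ NH hNHlt rfl
    have hSNH : S ≤ NH := le_inf hSH le_normalizer
    refine ⟨M, hSNH.trans hNM, hM, ?_⟩
    intro K hSK hK
    by_contra hKM
    have hsnK : (S.subgroupOf K).IsSubnormal := hyp K hSK hK.1
    have hKN : ¬ K ≤ normalizer (S : Set G) := by
      intro h
      have h1 : K ≤ M := (le_inf hK.1.le h).trans hNM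
      rcases eq_or_lt_of_le h1 with h2 | h2
      · exact hKM h2
      · exact hM.1.ne (hK.2 M h2 hM.1.le)
    obtain ⟨x, hxK, hne, hle⟩ := exists_conj_le_normalizer _ S K rfl hSK hsnK hKN
    set T := S ⊔ MulAut.conj x • S with hT
    have hTN : T ≤ normalizer (S : Set G) := sup_le le_normalizer hle
    have hxS_K : MulAut.conj x • S ≤ K := by
      have h1 : MulAut.conj x • S ≤ MulAut.conj x • K :=
        Subgroup.pointwise_smul_le_pointwise_smul_iff.mpr hSK
      rwa [Subgroup.conj_smul_eq_self_of_mem hxK] at h1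
    have hTK : T ≤ K := sup_le hSK hxS_K
    have hTH : T ≤ H := hTK.trans hK.1.le
    have hTM : T ≤ M := (le_inf hTH hTN).trans hNM
    have hST : S < T := by
      refine lt_of_le_of_ne le_sup_left ?_
      intro h
      apply hne
      have h1 : MulAut.conj x • S ≤ S := by
        conv_rhs => rw [h]
        exact le_sup_right
      exact Subgroup.eq_of_le_of_card_ge h1 (by rw [card_conj_smul])
    have hxH : x ∈ H := hK.1.le hxK
    have hypT : ∀ L : Subgroup G, T ≤ L → L < H → (T.subgroupOf L).IsSubnormal := by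
      intro L hTL hLH
      have h1 : (S.subgroupOf L).IsSubnormal := hyp L (le_sup_left.trans hTL) hLH
      have hxSL : MulAut.conj x • S ≤ L := le_sup_right.trans hTL
      have h2 : ((MulAut.conj x • S).subgroupOf L).IsSubnormal := by
        set L' := (MulAut.conj x)⁻¹ • L with hL'
        have hSL' : S ≤ L' := Subgroup.pointwise_smul_subset_iff.mp hxSL
        have hL'H : L' < H := by
          have h3 : (MulAut.conj x)⁻¹ • H = H := by
            rw [← map_inv]
            exact Subgroup.conj_smul_eq_self_of_mem (H.inv_mem hxH)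
          have h4 : L' ≤ H := by
            rw [← h3]
            exact Subgroup.pointwise_smul_le_pointwise_smul_iff.mpr hLH.le
          refine lt_of_le_of_ne h4 ?_
          intro h5
          apply hLH.ne
          have : MulAut.conj x • L' = MulAut.conj x • H := by rw [h5]
          rw [hL', smul_inv_smul, Subgroup.conj_smul_eq_self_of_mem hxH] at this
          exact this
        have h6 := sn_conj x (hyp L' hSL' hL'H)
        rwa [hL', smul_inv_smul] at h6
      exact sn_sup (le_sup_left.trans hTL) hxSL h1 h2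
    have hnotT : ¬ (T.subgroupOf H).IsSubnormal := by
      intro h
      exact hnot (sn_trans hST.le hTH (sn_of_le_normalizer hST.le hTN) h)
    have hcard : Nat.card H - Nat.card T < d := by
      have h1 := card_lt_of_lt hST
      have h2 := card_lt_of_lt (lt_of_le_of_lt hTM hM.1)
      omega
    obtain ⟨M', -, -, huniq⟩ := ih _ hcard T hTH rfl hypT hnotT
    exact hKM ((huniq K hTK hK).trans (huniq M hTM hM).symm)

/-- **Wielandt's subnormality criterion** (relative form). -/
theorem wielandt_criterion_aux (A : Subgroup G)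
    (h : ∀ g : G, (A.subgroupOf (A ⊔ MulAut.conj g • A)).IsSubnormal) :
    ∀ (n : ℕ) (H : Subgroup G), Nat.card H = n → A ≤ H → (A.subgroupOf H).IsSubnormal := by
  intro n
  induction n using Nat.strong_induction_on with
  | _ n ih =>
    intro H hn hAH
    by_contra hnot
    have hyp : ∀ L : Subgroup G, A ≤ L → L < H → (A.subgroupOf L).IsSubnormal := by
      intro L hAL hLH
      exact ih (Nat.card L) (by rw [← hn]; exact card_lt_of_lt hLH) L rfl hAL
    obtain ⟨M, hAM, hM, huniq⟩ := zipper H _ A hAH rfl hyp hnot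
    have hconj : ∀ g ∈ H, MulAut.conj g • A ≤ M := by
      intro g hg
      have hgA : MulAut.conj g • A ≤ H := by
        have h1 : MulAut.conj g • A ≤ MulAut.conj g • H :=
          Subgroup.pointwise_smul_le_pointwise_smul_iff.mpr hAH
        rwa [Subgroup.conj_smul_eq_self_of_mem hg] at h1
      have hJH : A ⊔ MulAut.conj g • A ≤ H := sup_le hAH hgA
      have hJne : A ⊔ MulAut.conj g • A ≠ H := by
        intro heq
        apply hnot
        have := h g
        rwa [heq] at this
      obtain ⟨K, hJK, hK⟩ := exists_isMaxIn H _ _ (lt_of_le_of_ne hJH hJne) rfl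
      have hKM : K = M := huniq K (le_sup_left.trans hJK) hK
      rw [← hKM]
      exact le_sup_right.trans hJK
    -- the normal closure of `A` in `H`
    set N' : Subgroup H := Subgroup.normalClosure ((A.subgroupOf H : Subgroup H) : Set H) with hN'
    set N : Subgroup G := N'.map H.subtype with hN
    have hAN : A ≤ N := by
      intro a ha
      exact ⟨⟨a, hAH ha⟩, Subgroup.subset_normalClosure (mem_subgroupOf.mpr ha), rfl⟩
    have hNM : N ≤ M := by
      rw [hN, Subgroup.map_le_iff_le_comap, hN', Subgroup.normalClosure, Subgroup.closure_le]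
      intro y hy
      obtain ⟨a, ha, hconj'⟩ := Group.mem_conjugatesOfSet_iff.mp hy
      obtain ⟨c, hc⟩ := isConj_iff.mp hconj'
      rw [SetLike.mem_coe, Subgroup.mem_comap]
      apply hconj (c : G) c.2
      rw [mem_conj_smul_iff]
      have : (c : G)⁻¹ * (H.subtype y) * (c : G) = (a : G) := by
        rw [← hc]
        simp
        group
      rw [this]
      exact mem_subgroupOf.mp ha
    have hNH : N ≤ H := hNM.trans hM.1.le
    have hNlt : N < H := lt_of_le_of_lt hNM hM.1
    have hsnN : (N.subgroupOf H).IsSubnormal := by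
      have h1 : N.subgroupOf H = N' := by
        rw [hN, Subgroup.subgroupOf, Subgroup.comap_map_eq_self_of_injective H.subtype_injective]
      rw [h1]
      exact (Subgroup.normalClosure_normal).isSubnormal
    have hsnA : (A.subgroupOf N).IsSubnormal :=
      ih (Nat.card N) (by rw [← hn]; exact card_lt_of_lt hNlt) N rfl hAN
    exact hnot (sn_trans hAN hNH hsnA hsnN)

theorem wielandt_criterion (A : Subgroup G)
    (h : ∀ g : G, (A.subgroupOf (A ⊔ MulAut.conj g • A)).IsSubnormal) : A.IsSubnormal :=
  sn_top (wielandt_criterion_aux A h _ ⊤ rfl le_top)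

end Finite

end Cfsg.Agent.Helper1
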