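import Mathlib
import Cfsg.Agent.Lib.Helper1.Complement
import Cfsg.Agent.Lib.Helper1.Carter
import Cfsg.Agent.Lib.Helper22.PResidual
import Cfsg.Agent.S0001

/-!
# Splitting over `O^p(G)` when its Sylow `p`-subgroups are abelian (helper1)
-/

set_option autoImplicit false

namespace Cfsg.Agent.Helper1

open Subgroup
open scoped Pointwise

section General

variable {G : Type*} [Group G]

/-- `O^p(O^p(G)) = O^p(G)`. -/
theorem pResidual_pResidual (p : ℕ) : Cfsg.pResidual p ↥(Cfsg.pResidual p G) = ⊤ := by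
  have h1 : Cfsg.pResidual p G ≤
      (Cfsg.pResidual p ↥(Cfsg.pResidual p G)).map (Cfsg.pResidual p G).subtype := by
    conv_lhs => unfold Cfsg.pResidual
    rw [closure_le]
    intro g hg
    have hgM : g ∈ Cfsg.pResidual p G := Subgroup.subset_closure hg
    refine ⟨⟨g, hgM⟩, ?_, rfl⟩
    apply Subgroup.subset_closure
    change Nat.Coprime (orderOf (⟨g, hgM⟩ : Cfsg.pResidual p G)) p
    rw [Subgroup.orderOf_mk]
    exact hg
  rw [eq_top_iff]
  intro x _
  obtain ⟨y, hy, hyx⟩ := h1 x.2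
  have : y = x := Subtype.ext hyx
  rw [← this]; exact hy

open scoped IsMulCommutative in
/-- If `O^p(M) = M` and `Q` is an abelian Sylow `p`-subgroup of `M`, then `Q ∩ Z(N_M(Q)) = 1`. -/
theorem eq_one_of_central_in_normalizer {M : Type*} [Group M] [Finite M] {p : ℕ} [Fact p.Prime]
    (Q : Sylow p M) [IsMulCommutative Q] (hres : Cfsg.pResidual p M = ⊤) (z : M)
    (hzQ : z ∈ (Q : Subgroup M))
    (hz : ∀ n ∈ normalizer ((Q : Subgroup M) : Set M), n * z = z * n) : z = 1 := by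
  have hp : p.Prime := Fact.out
  have key : ∀ (k : ℕ) (g₀ : M), g₀⁻¹ * z ^ k * g₀ ∈ (Q : Subgroup M) →
      g₀⁻¹ * z ^ k * g₀ = z ^ k := by
    intro k g₀ h
    obtain ⟨n, hn, h'⟩ := Q.conj_eq_normalizer_conj_of_mem (z ^ k) g₀ (pow_mem hzQ k) h
    rw [h']
    have h1 : Commute n z := hz n hn
    have h2 : n * z ^ k = z ^ k * n := (h1.pow_right k).eq
    calc n⁻¹ * z ^ k * n = n⁻¹ * (z ^ k * n) := by rw [mul_assoc]
      _ = n⁻¹ * (n * z ^ k) := by rw [h2]
      _ = z ^ k := by group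
  have htr := MonoidHom.transfer_eq_pow (MonoidHom.id (Q : Subgroup M)) z key
  have hker : Cfsg.pResidual p M ≤ (MonoidHom.transfer (MonoidHom.id (Q : Subgroup M))).ker :=
    Cfsg.Agent.Helper22.pResidual_le_ker_of_isPGroup _ Q.isPGroup'
  have h1 : MonoidHom.transfer (MonoidHom.id (Q : Subgroup M)) z = 1 := by
    apply hker; rw [hres]; exact mem_top z
  rw [htr] at h1
  have h2 : z ^ (Q : Subgroup M).index = 1 := congrArg Subtype.val h1
  obtain ⟨k, hk⟩ := Q.isPGroup' ⟨z, hzQ⟩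
  have h3 : z ^ p ^ k = 1 := congrArg Subtype.val hk
  have h4 : orderOf z ∣ (Q : Subgroup M).index := orderOf_dvd_of_pow_eq_one h2
  have h5 : orderOf z ∣ p ^ k := orderOf_dvd_of_pow_eq_one h3
  have h6 : Nat.Coprime (p ^ k) (Q : Subgroup M).index :=
    Nat.Coprime.pow_left k ((Nat.Prime.coprime_iff_not_dvd hp).mpr Q.not_dvd_index)
  have h7 : orderOf z = 1 := Nat.eq_one_of_dvd_coprimes h6 h5 h4
  exact orderOf_eq_one_iff.mp h7

variable [Finite G]

/-- Schur–Zassenhaus existence inside a subgroup `L` normalising `N`. -/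
theorem exists_complement_in {N L : Subgroup G} (hNL : N ≤ L) (hLN : L ≤ normalizer (N : Set G))
    (hcop : (Nat.card N).Coprime (N.relIndex L)) :
    ∃ E : Subgroup G, E ≤ L ∧ N ⊓ E = ⊥ ∧ (∀ l ∈ L, ∃ n ∈ N, ∃ e ∈ E, l = n * e) ∧
      Nat.card E = N.relIndex L := by
  haveI : (N.subgroupOf L).Normal := (Subgroup.normal_subgroupOf_iff_le_normalizer hNL).mpr hLN
  have hcop' : (Nat.card (N.subgroupOf L)).Coprime (N.subgroupOf L).index := by
    rw [Nat.card_congr (subgroupOfEquivOfLe hNL).toEquiv]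
    exact hcop
  obtain ⟨E', hE'⟩ := Subgroup.exists_right_complement'_of_coprime hcop'
  have hEL : E'.map L.subtype ≤ L := map_subtype_le E'
  have hsub : (E'.map L.subtype).subgroupOf L = E' :=
    comap_map_eq_self_of_injective L.subtype_injective E'
  refine ⟨E'.map L.subtype, hEL, ?_, ?_, ?_⟩
  · rw [eq_bot_iff]
    intro x hx
    obtain ⟨hxN, hxE⟩ := mem_inf.mp hx
    have hxL : x ∈ L := hEL hxE
    have h1 : (⟨x, hxL⟩ : L) ∈ N.subgroupOf L ⊓ E' := by
      refine mem_inf.mpr ⟨mem_subgroupOf.mpr hxN, ?_⟩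
      rw [← hsub]; exact mem_subgroupOf.mpr hxE
    rw [hE'.disjoint.eq_bot, mem_bot] at h1
    rw [mem_bot]
    exact congrArg Subtype.val h1
  · intro l hl
    obtain ⟨n, hn, e, he, hle⟩ := IsComplement'.exists_mul hE' ⟨l, hl⟩
    refine ⟨n, mem_subgroupOf.mp hn, e, ⟨e, he, rfl⟩, ?_⟩
    have := congrArg Subtype.val hle
    simpa using this
  · rw [Subgroup.card_map_of_injective L.subtype_injective]
    exact (hE'.symm.index_eq_card).symm

/-- Frattini argument for complements of a solvable normal Hall subgroup. -/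
theorem frattini_complement {N E L : Subgroup G} (hNL : N ≤ L) (hEL : E ≤ L)
    (hLN : L ≤ normalizer (N : Set G)) (hdisj : N ⊓ E = ⊥)
    (hmul : ∀ l ∈ L, ∃ n ∈ N, ∃ e ∈ E, l = n * e)
    (hcop : (Nat.card N).Coprime (Nat.card E)) (hsolv : Group.IsSolvable N)
    (g : G) (hgL : g ∈ normalizer (L : Set G)) (hgN : g ∈ normalizer (N : Set G)) :
    ∃ n ∈ N, n⁻¹ * g ∈ normalizer (E : Set G) := by
  haveI : (N.subgroupOf L).Normal := (Subgroup.normal_subgroupOf_iff_le_normalizer hNL).mpr hLN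
  have hgL1 : ∀ l ∈ L, g * l * g⁻¹ ∈ L := fun l hl => (mem_normalizer_iff.mp hgL l).mp hl
  have hgL2 : ∀ l ∈ L, g⁻¹ * l * g ∈ L := by
    intro l hl
    have := (mem_normalizer_iff.mp (inv_mem hgL) l).mp hl
    rwa [inv_inv] at this
  have hgN1 : ∀ n ∈ N, g * n * g⁻¹ ∈ N := fun n hn => (mem_normalizer_iff.mp hgN n).mp hn
  have hgN2 : ∀ n ∈ N, g⁻¹ * n * g ∈ N := by
    intro n hn
    have := (mem_normalizer_iff.mp (inv_mem hgN) n).mp hn
    rwa [inv_inv] at this
  have hEgL : MulAut.conj g • E ≤ L := by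
    intro y hy
    rw [mem_conj_smul_iff] at hy
    have := hgL1 _ (hEL hy)
    have e : g * (g⁻¹ * y * g) * g⁻¹ = y := by group
    rwa [e] at this
  have hc1 : IsComplement' (N.subgroupOf L) (E.subgroupOf L) :=
    isComplement'_subgroupOf hdisj hEL hmul
  have hc2 : IsComplement' (N.subgroupOf L) ((MulAut.conj g • E).subgroupOf L) := by
    apply isComplement'_subgroupOf _ hEgL
    · intro l hl
      obtain ⟨n, hn, e, he, hle⟩ := hmul _ (hgL2 l hl)
      refine ⟨g * n * g⁻¹, hgN1 n hn, g * e * g⁻¹, ?_, ?_⟩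
      · rw [mem_conj_smul_iff]
        have e' : g⁻¹ * (g * e * g⁻¹) * g = e := by group
        rw [e']; exact he
      · have e' : l = g * (g⁻¹ * l * g) * g⁻¹ := by group
        rw [e', hle]; group
    · rw [eq_bot_iff]
      intro x hx
      obtain ⟨hxN, hxE⟩ := mem_inf.mp hx
      rw [mem_conj_smul_iff] at hxE
      have h1 : g⁻¹ * x * g ∈ N ⊓ E := mem_inf.mpr ⟨hgN2 x hxN, hxE⟩
      rw [hdisj, mem_bot] at h1
      rw [mem_bot]
      have e : x = g * (g⁻¹ * x * g) * g⁻¹ := by group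
      rw [e, h1]; group
  have hcop' : (Nat.card (N.subgroupOf L)).Coprime (N.subgroupOf L).index := by
    rw [hc1.symm.index_eq_card, Nat.card_congr (subgroupOfEquivOfLe hNL).toEquiv,
      Nat.card_congr (subgroupOfEquivOfLe hEL).toEquiv]
    exact hcop
  have hsolvN : Group.IsSolvable (N.subgroupOf L) :=
    Group.isSolvable_of_isSolvable_injective (f := (subgroupOfEquivOfLe hNL).toMonoidHom)
      (subgroupOfEquivOfLe hNL).injective
  obtain ⟨l, hl⟩ := Cfsg.Agent.S0001.result (N.subgroupOf L) hcop' (Or.inl hsolvN) _ _ hc1 hc2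
  have h2 := conj_of_conj_subgroupOf hEL hEgL l hl
  obtain ⟨n, hn, e, he, hle⟩ := hmul l l.2
  refine ⟨n, hn, ?_⟩
  apply mem_normalizer_of_conj_smul_eq
  have he' : MulAut.conj e • E = E := conj_smul_eq_of_mem_normalizer (le_normalizer he)
  rw [← conj_smul_conj_smul, ← h2, hle, ← conj_smul_conj_smul n e, he', conj_smul_conj_smul,
    inv_mul_cancel, map_one, one_smul]

end General

section Main

variable {G : Type*} [Group G] [Finite G]

/-- If the Sylow `p`-subgroups of `O^p(G)` are abelian then `G` splits over `O^p(G)`. -/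
theorem exists_complement_pResidual {p : ℕ} [Fact p.Prime]
    (h : ∀ Q : Sylow p (Cfsg.pResidual p G), IsMulCommutative Q) :
    ∃ K : Subgroup G, K.IsComplement' (Cfsg.pResidual p G) := by
  have hp : p.Prime := Fact.out
  set M : Subgroup G := Cfsg.pResidual p G with hM
  haveI hMn : M.Normal := Cfsg.Agent.Helper22.pResidual_normal
  obtain ⟨Q⟩ : Nonempty (Sylow p M) := inferInstance
  haveI hQc := h Q
  set Q₀ : Subgroup G := (Q : Subgroup M).map M.subtype with hQ₀
  have hQ₀M : Q₀ ≤ M := map_subtype_le _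
  set G₁ : Subgroup G := normalizer (Q₀ : Set G) with hG₁
  set L : Subgroup G := M ⊓ G₁ with hL
  have hQ₀L : Q₀ ≤ L := le_inf hQ₀M le_normalizer
  have hLQ₀ : L ≤ normalizer (Q₀ : Set G) := inf_le_right
  have hQ₀comm : ∀ a ∈ Q₀, ∀ b ∈ Q₀, a * b = b * a := by
    rintro _ ⟨a, ha, rfl⟩ _ ⟨b, hb, rfl⟩
    have h1 := hQc.is_comm.comm (⟨a, ha⟩ : (Q : Subgroup M)) ⟨b, hb⟩
    have h2 : a * b = b * a := congrArg Subtype.val h1
    rw [← map_mul, ← map_mul, h2]
  have hQ₀p : IsPGroup p Q₀ := Q.isPGroup'.map _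
  obtain ⟨a, ha⟩ := IsPGroup.iff_card.mp hQ₀p
  have hsub : Q₀.subgroupOf M = (Q : Subgroup M) :=
    comap_map_eq_self_of_injective M.subtype_injective _
  have hnd : ¬ p ∣ Q₀.relIndex L := by
    intro hdvd
    have h1 : Q₀.relIndex L * L.relIndex M = Q₀.relIndex M :=
      relIndex_mul_relIndex Q₀ L M hQ₀L inf_le_left
    have h2 : Q₀.relIndex M = (Q : Subgroup M).index := by rw [Subgroup.relIndex, hsub]
    apply Q.not_dvd_index
    rw [← h2, ← h1]
    exact Dvd.dvd.mul_right hdvd _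
  have hcop : (Nat.card Q₀).Coprime (Q₀.relIndex L) := by
    rw [ha]
    exact Nat.Coprime.pow_left a ((Nat.Prime.coprime_iff_not_dvd hp).mpr hnd)
  obtain ⟨E, hEL, hdisj, hmul, hEcard⟩ := exists_complement_in hQ₀L hLQ₀ hcop
  have hEcop : (Nat.card E).Coprime p := by
    rw [hEcard]
    exact ((Nat.Prime.coprime_iff_not_dvd hp).mpr hnd).symm
  have hcop' : (Nat.card Q₀).Coprime (Nat.card E) := by rw [hEcard]; exact hcop
  -- `C_{Q₀}(E) = 1`
  have hcent : ∀ z ∈ Q₀, (∀ e ∈ E, e * z = z * e) → z = 1 := by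
    intro z hz hze
    obtain ⟨z', hz', rfl⟩ := hz
    have h1 : z' = 1 := by
      apply eq_one_of_central_in_normalizer Q (pResidual_pResidual p) z' hz'
      intro n hn
      have hnG₁ : (n : G) ∈ G₁ := by
        apply le_normalizer_map M.subtype
        exact ⟨n, hn, rfl⟩
      have hnL : (n : G) ∈ L := mem_inf.mpr ⟨n.2, hnG₁⟩
      obtain ⟨q, hq, e, he, hne⟩ := hmul _ hnL
      apply Subtype.ext
      rw [Subgroup.coe_mul, Subgroup.coe_mul, hne]
      have h2 : q * (z' : G) = (z' : G) * q := hQ₀comm q hq _ ⟨z', hz', rfl⟩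
      have h3 : e * (z' : G) = (z' : G) * e := hze e he
      calc q * e * (z' : G) = q * (e * (z' : G)) := by rw [mul_assoc]
        _ = q * ((z' : G) * e) := by rw [h3]
        _ = (q * (z' : G)) * e := by rw [mul_assoc]
        _ = ((z' : G) * q) * e := by rw [h2]
        _ = (z' : G) * (q * e) := by rw [mul_assoc]
    rw [h1]; rfl
  set X : Subgroup G := G₁ ⊓ normalizer (E : Set G) with hX
  have hEX : E ≤ X := le_inf (hEL.trans inf_le_right) le_normalizer
  have hsolv : Group.IsSolvable Q₀ := by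
    haveI : Group.IsNilpotent Q₀ := hQ₀p.isNilpotent
    infer_instance
  -- Frattini
  have hfrat : ∀ g ∈ G₁, ∃ n ∈ Q₀, n⁻¹ * g ∈ X := by
    intro g hg
    have hgL : g ∈ normalizer (L : Set G) := by
      apply Cfsg.Agent.S0087.mem_normalizer_of_forall
      intro l hl
      exact mem_inf.mpr ⟨hMn.conj_mem l (mem_inf.mp hl).1 g,
        mul_mem (mul_mem hg (mem_inf.mp hl).2) (inv_mem hg)⟩
    obtain ⟨n, hn, hng⟩ := frattini_complement hQ₀L hEL hLQ₀ hdisj hmul hcop' hsolv g hgL hg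
    exact ⟨n, hn, mem_inf.mpr ⟨mul_mem (inv_mem (le_normalizer hn)) hg, hng⟩⟩
  -- `X ∩ Q₀ = 1`
  have hXQ : ∀ z ∈ X, z ∈ Q₀ → z = 1 := by
    intro z hzX hzQ
    apply hcent z hzQ
    intro e he
    have hzE : z ∈ normalizer (E : Set G) := (mem_inf.mp hzX).2
    have heQ : e ∈ normalizer (Q₀ : Set G) := hLQ₀ (hEL he)
    have h1 : z * e * z⁻¹ * e⁻¹ ∈ Q₀ ⊓ E := by
      refine mem_inf.mpr ⟨?_, ?_⟩
      · have h2 : e * z⁻¹ * e⁻¹ ∈ Q₀ := (mem_normalizer_iff.mp heQ _).mp (inv_mem hzQ)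
        have e' : z * e * z⁻¹ * e⁻¹ = z * (e * z⁻¹ * e⁻¹) := by group
        rw [e']; exact mul_mem hzQ h2
      · exact mul_mem ((mem_normalizer_iff.mp hzE e).mp he) (inv_mem he)
    rw [hdisj, mem_bot] at h1
    have : z * e = e * z := by
      have e' : z * e = (z * e * z⁻¹ * e⁻¹) * (e * z) := by group
      rw [e', h1, one_mul]
    exact this.symm
  -- `X ∩ M ≤ E`
  have hXM : ∀ x ∈ X, x ∈ M → x ∈ E := by
    intro x hxX hxM
    have hxL : x ∈ L := mem_inf.mpr ⟨hxM, (mem_inf.mp hxX).1⟩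
    obtain ⟨n, hn, e, he, hxe⟩ := hmul x hxL
    have hnX : n ∈ X := by
      have : n = x * e⁻¹ := by rw [hxe]; group
      rw [this]; exact mul_mem hxX (inv_mem (hEX he))
    rw [hxe, hXQ n hnX hn, one_mul]; exact he
  -- the complement
  obtain ⟨K⟩ : Nonempty (Sylow p X) := inferInstance
  set K₀ : Subgroup G := (K : Subgroup X).map X.subtype with hK₀
  have hK₀X : K₀ ≤ X := map_subtype_le _
  have hK₀p : IsPGroup p K₀ := K.isPGroup'.map _
  refine ⟨K₀, ?_⟩
  apply isComplement'_of_disjoint_and_mul_eq_univ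
  · rw [disjoint_iff, eq_bot_iff]
    intro y hy
    obtain ⟨hyK, hyM⟩ := mem_inf.mp hy
    have hyE : y ∈ E := hXM y (hK₀X hyK) hyM
    obtain ⟨k, hk⟩ := hK₀p ⟨y, hyK⟩
    have h3 : y ^ p ^ k = 1 := congrArg Subtype.val hk
    have h5 : orderOf y ∣ p ^ k := orderOf_dvd_of_pow_eq_one h3
    have h4 : orderOf y ∣ Nat.card E := by
      have := orderOf_dvd_natCard (⟨y, hyE⟩ : E)
      rwa [Subgroup.orderOf_mk] at this
    have h6 : Nat.Coprime (p ^ k) (Nat.card E) := Nat.Coprime.pow_left k hEcop.symm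
    have h7 : orderOf y = 1 := Nat.eq_one_of_dvd_coprimes h6 h5 h4
    rw [mem_bot]
    exact orderOf_eq_one_iff.mp h7
  · rw [← Subgroup.mul_normal K₀ M]
    have htop : K₀ ⊔ M = ⊤ := by
      have hXle : X ≤ K₀ ⊔ M := by
        have h1 : (K : Subgroup X) ⊔ Cfsg.pResidual p ↥X = ⊤ :=
          Cfsg.Agent.Helper22.sylow_sup_pResidual_eq_top K
        have h2 : Cfsg.pResidual p ↥X ≤ M.subgroupOf X := by
          unfold Cfsg.pResidual
          rw [closure_le]
          intro x hx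
          rw [SetLike.mem_coe, mem_subgroupOf]
          apply Cfsg.Agent.Helper22.mem_pResidual_of_coprime
          rw [Subgroup.orderOf_coe]
          exact hx
        intro x hx
        have h3 : (⟨x, hx⟩ : X) ∈ (K : Subgroup X) ⊔ M.subgroupOf X := by
          apply (sup_le_sup_left h2 _)
          rw [h1]; exact mem_top _
        have h4 : x ∈ ((K : Subgroup X) ⊔ M.subgroupOf X).map X.subtype := ⟨⟨x, hx⟩, h3, rfl⟩
        rw [Subgroup.map_sup] at h4
        have h5 : (M.subgroupOf X).map X.subtype ≤ M := by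
          rw [Subgroup.subgroupOf_map_subtype]
          exact inf_le_left
        have h6 : map X.subtype ↑K ⊔ map X.subtype (M.subgroupOf X) ≤ K₀ ⊔ M :=
          sup_le_sup_left h5 _
        exact h6 h4
      have hG₁le : G₁ ≤ K₀ ⊔ M := by
        intro g hg
        obtain ⟨n, hn, hng⟩ := hfrat g hg
        have : g = n * (n⁻¹ * g) := by group
        rw [this]
        exact mul_mem (mem_sup_right (hQ₀M hn)) (hXle hng)
      rw [eq_top_iff, ← Sylow.normalizer_sup_eq_top Q]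
      exact sup_le hG₁le le_sup_right
    rw [htop, coe_top]

end Main

end Cfsg.Agent.Helper1
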