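import Mathlib
import Cfsg.Agent.Lib.Helper11.S11Defs

/-!
# S3211 piece S11-SL2CENT: in `SL₂(F)`, `2 ≠ 0`, the centralizer of `a` with `a * a = -1` is commutative
-/

set_option autoImplicit false

namespace Cfsg.Agent.Helper11.S11

/-- scalar form: two matrices commuting with a non-scalar `2 × 2` matrix commute. -/
theorem s11_sl2cent_scal {F : Type*} [Field F]
    (a00 a01 a10 a11 x00 x01 x10 x11 y00 y01 y10 y11 : F)
    (hx00 : x00 * a00 + x01 * a10 = a00 * x00 + a01 * x10)
    (hx01 : x00 * a01 + x01 * a11 = a00 * x01 + a01 * x11)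
    (hx10 : x10 * a00 + x11 * a10 = a10 * x00 + a11 * x10)
    (hy00 : y00 * a00 + y01 * a10 = a00 * y00 + a01 * y10)
    (hy01 : y00 * a01 + y01 * a11 = a00 * y01 + a01 * y11)
    (hy10 : y10 * a00 + y11 * a10 = a10 * y00 + a11 * y10)
    (hA : ¬ (a01 = 0 ∧ a10 = 0 ∧ a00 = a11)) :
    x00 * y00 + x01 * y10 = y00 * x00 + y01 * x10 ∧
    x00 * y01 + x01 * y11 = y00 * x01 + y01 * x11 ∧
    x10 * y00 + x11 * y10 = y10 * x00 + y11 * x10 ∧
    x10 * y01 + x11 * y11 = y10 * x01 + y11 * x11 := by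
  by_cases h1 : a01 = 0
  · by_cases h2 : a10 = 0
    · have h3 : a00 - a11 ≠ 0 := fun h => hA ⟨h1, h2, sub_eq_zero.1 h⟩
      refine ⟨by grind, by grind, by grind, by grind⟩
    · refine ⟨by grind, by grind, by grind, by grind⟩
  · refine ⟨by grind, by grind, by grind, by grind⟩

/-- the centralizer of a non-scalar `2 × 2` matrix is commutative. -/
theorem s11_sl2cent_mat {F : Type*} [Field F] (A X Y : Matrix (Fin 2) (Fin 2) F)
    (hA : ¬ (A 0 1 = 0 ∧ A 1 0 = 0 ∧ A 0 0 = A 1 1)) (hX : X * A = A * X) (hY : Y * A = A * Y) :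
    X * Y = Y * X := by
  have hx00 := congrFun (congrFun hX 0) 0
  have hx01 := congrFun (congrFun hX 0) 1
  have hx10 := congrFun (congrFun hX 1) 0
  have hy00 := congrFun (congrFun hY 0) 0
  have hy01 := congrFun (congrFun hY 0) 1
  have hy10 := congrFun (congrFun hY 1) 0
  simp only [Matrix.mul_apply, Fin.sum_univ_two] at hx00 hx01 hx10 hy00 hy01 hy10
  obtain ⟨g00, g01, g10, g11⟩ := s11_sl2cent_scal _ _ _ _ _ _ _ _ _ _ _ _ hx00 hx01 hx10 hy00 hy01 hy10 hA
  ext i j
  fin_cases i <;> fin_cases j <;>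
    simp only [Matrix.mul_apply, Fin.sum_univ_two, Fin.zero_eta, Fin.mk_one]
  · exact g00
  · exact g01
  · exact g10
  · exact g11

/-- PIECE S11-SL2CENT -/
theorem sl2_cent_comm {F : Type*} [Field F] (h2 : (2 : F) ≠ 0)
    (a x y : Matrix.SpecialLinearGroup (Fin 2) F) (ha : a * a = -1) (hx : x * a = a * x)
    (hy : y * a = a * y) : x * y = y * x := by
  apply Subtype.ext
  rw [Matrix.SpecialLinearGroup.coe_mul, Matrix.SpecialLinearGroup.coe_mul]
  apply s11_sl2cent_mat a.1 x.1 y.1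
  · rintro ⟨h01, h10, h00⟩
    have hdet : a.1 0 0 * a.1 1 1 - a.1 0 1 * a.1 1 0 = 1 := by
      have := a.2; rwa [Matrix.det_fin_two] at this
    have ha' := congrArg Subtype.val ha
    rw [Matrix.SpecialLinearGroup.coe_mul, Matrix.SpecialLinearGroup.coe_neg,
      Matrix.SpecialLinearGroup.coe_one] at ha'
    have e00 := congrFun (congrFun ha' 0) 0
    simp only [Matrix.mul_apply, Fin.sum_univ_two, Matrix.neg_apply, Matrix.one_apply_eq] at e00
    apply h2
    rw [h01, h00] at hdet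
    rw [h01, h00] at e00
    linear_combination e00 - hdet
  · have := congrArg Subtype.val hx
    rwa [Matrix.SpecialLinearGroup.coe_mul, Matrix.SpecialLinearGroup.coe_mul] at this
  · have := congrArg Subtype.val hy
    rwa [Matrix.SpecialLinearGroup.coe_mul, Matrix.SpecialLinearGroup.coe_mul] at this

end Cfsg.Agent.Helper11.S11
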