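import Mathlib
import Cfsg.Agent.Lib.Helper11.S11Defs

/-!
# S3211 piece S11-SL2CONJ: in `SL₂(F)`, `F` finite with `2 ≠ 0`, all `a` with `a * a = -1` are conjugate
-/

set_option autoImplicit false

namespace Cfsg.Agent.Helper11.S11

/-- every element of a finite field with `2 ≠ 0` is a sum of two squares -/
theorem s11_sl2conj_two_sq {F : Type*} [Field F] [Fintype F] (h2 : (2 : F) ≠ 0) (c : F) :
    ∃ x y : F, x ^ 2 + y ^ 2 = c := by
  have hchar : ringChar F ≠ 2 := by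
    intro h
    apply h2
    have : ((2 : ℕ) : F) = 0 := (ringChar.spec F 2).2 (h ▸ dvd_rfl)
    exact_mod_cast this
  have hodd := FiniteField.odd_card_of_char_ne_two hchar
  obtain ⟨x, y, hxy⟩ := FiniteField.exists_root_sum_quadratic (R := F)
    (f := Polynomial.X ^ 2) (g := Polynomial.X ^ 2 - Polynomial.C c)
    (Polynomial.degree_X_pow 2) (Polynomial.degree_X_pow_sub_C (by decide) _) hodd
  refine ⟨x, y, ?_⟩
  rw [← sub_eq_zero]
  simpa only [Polynomial.eval_C, Polynomial.eval_X, Polynomial.eval_pow, Polynomial.eval_sub,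
    ← add_sub_assoc] using hxy

/-- the binary form `a2 u0² - 2 a0 u0 u1 - a1 u1²` of discriminant `-4` represents `1` -/
theorem s11_sl2conj_form {F : Type*} [Field F] [Fintype F] (h2 : (2 : F) ≠ 0) (a0 a1 a2 : F)
    (h : a0 * a0 + a1 * a2 = -1) :
    ∃ u0 u1 : F, a2 * u0 ^ 2 - 2 * a0 * u0 * u1 - a1 * u1 ^ 2 = 1 := by
  by_cases h2' : a2 = 0
  · by_cases h1' : a1 = 0
    · have ha0 : a0 ≠ 0 := by
        rintro rfl
        rw [h1'] at h
        simp at h
      refine ⟨1, -(1 / (2 * a0)), ?_⟩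
      rw [h2', h1']
      field_simp
      ring
    · obtain ⟨X, Y, hXY⟩ := s11_sl2conj_two_sq h2 (-a1)
      refine ⟨Y, (X - a0 * Y) / a1, ?_⟩
      field_simp
      grind
  · obtain ⟨X, Y, hXY⟩ := s11_sl2conj_two_sq h2 a2
    refine ⟨(X + a0 * Y) / a2, Y, ?_⟩
    field_simp
    grind

/-- the standard element `J` of order `4` -/
def s11_sl2conj_J (F : Type*) [Field F] : Matrix.SpecialLinearGroup (Fin 2) F :=
  ⟨!![0, -1; 1, 0], by simp [Matrix.det_fin_two_of]⟩

/-- every `a` with `a * a = -1` is `SL₂`-conjugate to `J` -/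
theorem s11_sl2conj_toJ {F : Type*} [Field F] [Fintype F] (h2 : (2 : F) ≠ 0)
    (a : Matrix.SpecialLinearGroup (Fin 2) F) (ha : a * a = -1) :
    ∃ s : Matrix.SpecialLinearGroup (Fin 2) F, a * s = s * s11_sl2conj_J F := by
  have hdet : a.1 0 0 * a.1 1 1 - a.1 0 1 * a.1 1 0 = 1 := by
    have := a.2; rwa [Matrix.det_fin_two] at this
  have ha' := congrArg Subtype.val ha
  rw [Matrix.SpecialLinearGroup.coe_mul, Matrix.SpecialLinearGroup.coe_neg,
    Matrix.SpecialLinearGroup.coe_one] at ha'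
  have e00 := congrFun (congrFun ha' 0) 0
  have e01 := congrFun (congrFun ha' 0) 1
  have e10 := congrFun (congrFun ha' 1) 0
  have e11 := congrFun (congrFun ha' 1) 1
  simp only [Matrix.mul_apply, Fin.sum_univ_two, Matrix.neg_apply, Matrix.one_apply_eq] at e00 e11
  simp only [Matrix.mul_apply, Fin.sum_univ_two, Matrix.neg_apply, ne_eq, zero_ne_one, one_ne_zero,
    not_false_eq_true, Matrix.one_apply_ne, neg_zero] at e01 e10
  have htr : a.1 1 1 = - a.1 0 0 := by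
    have h1 : (a.1 0 0 + a.1 1 1) * a.1 0 0 = 0 := by linear_combination e00 + hdet
    have h2 : (a.1 0 0 + a.1 1 1) * a.1 1 1 = 0 := by linear_combination e11 + hdet
    have h3 : (a.1 0 0 + a.1 1 1) * (a.1 0 0 + a.1 1 1) = 0 := by linear_combination h1 + h2
    have h4 : a.1 0 0 + a.1 1 1 = 0 := mul_self_eq_zero.1 h3
    linear_combination h4
  obtain ⟨u0, u1, hu⟩ := s11_sl2conj_form h2 (a.1 0 0) (a.1 0 1) (a.1 1 0) e00
  obtain ⟨s, hs⟩ : ∃ s : Matrix.SpecialLinearGroup (Fin 2) F,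
      s.1 = !![u0, a.1 0 0 * u0 + a.1 0 1 * u1; u1, a.1 1 0 * u0 + a.1 1 1 * u1] := by
    refine ⟨⟨!![u0, a.1 0 0 * u0 + a.1 0 1 * u1; u1, a.1 1 0 * u0 + a.1 1 1 * u1], ?_⟩, rfl⟩
    rw [Matrix.det_fin_two_of, htr]
    linear_combination hu
  have hJ : (s11_sl2conj_J F).1 = !![0, -1; 1, 0] := rfl
  refine ⟨s, ?_⟩
  apply Matrix.SpecialLinearGroup.ext
  intro i j
  rw [Matrix.SpecialLinearGroup.coe_mul, Matrix.SpecialLinearGroup.coe_mul, hs, hJ]
  fin_cases i <;> fin_cases j <;>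
    simp [Matrix.mul_apply, Fin.sum_univ_two]
  · linear_combination u0 * e00 + u1 * e01
  · linear_combination u0 * e10 + u1 * e11

/-- PIECE S11-SL2CONJ -/
theorem sl2_conj4 {F : Type*} [Field F] [Fintype F] (h2 : (2 : F) ≠ 0)
    (a b : Matrix.SpecialLinearGroup (Fin 2) F) (ha : a * a = -1) (hb : b * b = -1) :
    ∃ s : Matrix.SpecialLinearGroup (Fin 2) F, b = s * a * s⁻¹ := by
  obtain ⟨s, hs⟩ := s11_sl2conj_toJ h2 a ha
  obtain ⟨t, ht⟩ := s11_sl2conj_toJ h2 b hb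
  have hJ : s11_sl2conj_J F = s⁻¹ * a * s := by rw [mul_assoc, hs, inv_mul_cancel_left]
  have hb' : b = t * s11_sl2conj_J F * t⁻¹ := by rw [← ht, mul_inv_cancel_right]
  refine ⟨t * s⁻¹, ?_⟩
  rw [hb', hJ]
  group

end Cfsg.Agent.Helper11.S11
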