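import Mathlib
import Cfsg.Agent.Lib.Helper8.S3805ArithDefs

/-!
# S3805 ARITH, piece GRID (helper1): the grid configuration forces `g = 36`.
-/

set_option autoImplicit false
set_option maxHeartbeats 1000000

namespace Cfsg.Agent.Helper8.S3805A

variable {ι : Type*} [Fintype ι] [DecidableEq ι]

namespace GRID

theorem wt0 : wt 0 = 1 := by decide
theorem wt1 : wt 1 = 1 := by decide
theorem wt2 : wt 2 = -2 := by decide

/-- a sum over all characters reduces to the nine grid characters -/
theorem sum_grid (f : ι → ℚ) (W : Fin 3 → Fin 3 → ι)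
    (hinj : ∀ k j k' j', W k j = W k' j' → k = k' ∧ j = j')
    (h0 : ∀ X, (∀ k j, X ≠ W k j) → f X = 0) :
    ∑ X, f X = ∑ k, ∑ j, f (W k j) := by
  classical
  let e : Fin 3 × Fin 3 → ι := fun p => W p.1 p.2
  have hinj' : Function.Injective e := by
    rintro ⟨k, j⟩ ⟨k', j'⟩ h
    obtain ⟨h1, h2⟩ := hinj k j k' j' h
    exact Prod.ext h1 h2
  have h1 : ∑ X, f X = ∑ X ∈ Finset.univ.image e, f X := by
    symm
    apply Finset.sum_subset (Finset.subset_univ _)
    intro X _ hX
    apply h0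
    intro k j hXW
    apply hX
    rw [Finset.mem_image]
    exact ⟨(k, j), Finset.mem_univ _, hXW.symm⟩
  rw [h1, Finset.sum_image (fun a _ b _ h => hinj' h), Fintype.sum_prod_type]

/-- the final algebra -/
theorem final (g m x y z u v u' v' r00 r01 r02 r10 r11 r12 r20 r21 r22 : ℚ) (hg : 0 < g)
    (h00 : r00 = 1) (h01 : r01 * x = 1) (h02 : r02 * u = 1)
    (h10 : r10 * y = 1) (h11 : r11 * z = 1) (h12 : r12 * v = 1)
    (h20 : r20 * u' = 1) (h21 : r21 * v' = 1) (h22 : r22 * m = 1)
    (row0 : 1 + x + u = 0) (row1 : y + z + v = 0) (row2 : u' + v' + m = 0)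
    (col0 : 1 + y + u' = 0) (col1 : x + z + v' = 0) (col2 : u + v + m = 0)
    (E1 : r00 + r01 - 2 * r02 + r10 + r11 - 2 * r12 - 2 * r20 - 2 * r21 + 4 * r22 = 324 / g)
    (E4 : r00 + r01 + r02 + r10 + r11 + r12 + 4 * r20 + 4 * r21 + 4 * r22 = 0)
    (E5 : r00 + r01 + 4 * r02 + r10 + r11 + 4 * r12 + r20 + r21 + 4 * r22 = 0)
    (E6 : r00 + r01 - 2 * r02 + r10 + r11 - 2 * r12 + 4 * r20 + 4 * r21 - 8 * r22 = 0)
    (E7 : r00 + r01 + 4 * r02 + r10 + r11 + 4 * r12 - 2 * r20 - 2 * r21 - 8 * r22 = 0) :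
    g = 36 := by
  have hg0 : g ≠ 0 := hg.ne'
  have F02 : r02 + r12 = -4 * r22 := by linarith
  have F20 : r20 + r21 = -4 * r22 := by linarith
  have F00 : r00 + r01 + r10 + r11 = 16 * r22 := by linarith
  have h36 : 36 * r22 = 324 / g := by linarith
  have hr22 : r22 * g = 9 := by
    have : 36 * r22 * g = 324 := by rw [h36]; field_simp
    linarith
  -- m = g / 9
  have hm : g = 9 * m := by
    have h1 : r22 * g = 9 * (r22 * m) := by rw [hr22, h22]; norm_num
    have hr22ne : r22 ≠ 0 := by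
      intro h; rw [h, zero_mul] at h22; exact zero_ne_one h22
    have h2 : r22 * (g - 9 * m) = 0 := by linear_combination h1
    rcases mul_eq_zero.1 h2 with h | h
    · exact absurd h hr22ne
    · linarith
  -- column 2: u = v
  have huv : u = v := by
    have h1 : (r02 + r12) * (u * v) = u + v := by linear_combination v * h02 + u * h12
    have h2 : 4 * (u * v) = m * m := by
      have h3 : -4 * r22 * (u * v) = -m := by rw [← F02, h1]; linarith
      have h4 : 4 * (r22 * m) * (u * v) = m * m := by linear_combination (-m) * h3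
      rw [h22] at h4; linarith
    have h5 : (u - v) ^ 2 = 0 := by
      have : u + v = -m := by linarith
      nlinarith [this]
    have := pow_eq_zero_iff (n := 2) (by norm_num) |>.1 h5
    linarith
  have huv' : u' = v' := by
    have h1 : (r20 + r21) * (u' * v') = u' + v' := by linear_combination v' * h20 + u' * h21
    have h2 : 4 * (u' * v') = m * m := by
      have h3 : -4 * r22 * (u' * v') = -m := by rw [← F20, h1]; linarith
      have h4 : 4 * (r22 * m) * (u' * v') = m * m := by linear_combination (-m) * h3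
      rw [h22] at h4; linarith
    have h5 : (u' - v') ^ 2 = 0 := by
      have : u' + v' = -m := by linarith
      nlinarith [this]
    have := pow_eq_zero_iff (n := 2) (by norm_num) |>.1 h5
    linarith
  have hu : u = -m / 2 := by linarith
  have hv : v = -m / 2 := by linarith
  have hu' : u' = -m / 2 := by linarith
  have hv' : v' = -m / 2 := by linarith
  have hx : x = m / 2 - 1 := by linarith
  have hy : y = m / 2 - 1 := by linarith
  have hz : z = 1 := by linarith
  have hr11 : r11 = 1 := by rw [hz, mul_one] at h11; exact h11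
  have hxy : y = x := by linarith
  rw [hxy] at h10
  have hxne : x ≠ 0 := by
    intro h; rw [h, mul_zero] at h01; exact zero_ne_one h01
  have hr : r10 = r01 := by
    have : (r10 - r01) * x = 0 := by linear_combination h10 - h01
    rcases mul_eq_zero.1 this with h | h
    · linarith
    · exact absurd h hxne
  -- 2 + 2 r01 = 16 r22, r01 x = 1, r22 m = 1, m = 2 (1 + x)
  have hmx : m = 2 * (1 + x) := by linarith
  have h6 : (2 + 2 * r01) * (x * m) = 16 * x := by
    have : 2 + 2 * r01 = 16 * r22 := by rw [← F00, h00, hr11, hr]; ring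
    rw [this]
    linear_combination (16 * x) * h22
  have h7 : (2 * x + 2) * m = 16 * x := by
    linear_combination h6 - (2 * m) * h01
  have h8 : (x - 1) ^ 2 = 0 := by
    rw [hmx] at h7
    nlinarith [h7]
  have hx1 : x = 1 := by
    have := pow_eq_zero_iff (n := 2) (by norm_num) |>.1 h8
    linarith
  rw [hm, hmx, hx1]; norm_num

theorem term2 (e x y dd : ℚ) (h : e * e * e = e) :
    (e * x) * (e * y) * e / dd = x * y * (e / dd) := by
  rw [show (e * x) * (e * y) * e = x * y * (e * e * e) by ring, h]; ring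

theorem term3 (e x y z dd : ℚ) (h : e * e * e = e) :
    (e * x) * (e * y) * (e * z) / dd = x * y * z * (e / dd) := by
  rw [show (e * x) * (e * y) * (e * z) = x * y * z * (e * e * e) by ring, h]; ring

end GRID

/-- PIECE GRID (step 5). -/
theorem grid (o : ι) (d : ι → ℚ) (A B : Fin 3 → ι → ℤ) (g : ℚ) (hg : 0 < g)
    (hd : ∀ X, 0 < d X) (hdo : d o = 1)
    (hAd : ∀ k, ∑ X, (A k X : ℚ) * d X = 0) (hBd : ∀ j, ∑ X, (B j X : ℚ) * d X = 0)
    (hgr : IsGrid o A B) (hE : Eqs d A B g) : g = 36 := by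
  obtain ⟨W, ε, hW0, hε0, hinj, hε, hA, hB, hother⟩ := hgr
  -- values at grid characters
  have hp1A : ∀ k j, p1 A (W k j) = ε k j * wt k := by
    intro k j
    simp only [p1, hA, wt]
    fin_cases k <;> simp <;> ring
  have hp1B : ∀ k j, p1 B (W k j) = ε k j * wt j := by
    intro k j
    simp only [p1, hB, wt]
    fin_cases j <;> simp <;> ring
  have hp3A : ∀ k j, p3 A (W k j) = ε k j := by
    intro k j
    simp only [p3, hA]
    fin_cases k <;> simp
  -- values elsewhere
  have hz1A : ∀ X, (∀ k j, X ≠ W k j) → p1 A X = 0 := by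
    intro X hX
    obtain ⟨h1, _⟩ := hother X hX
    simp [p1, h1]
  have hz1B : ∀ X, (∀ k j, X ≠ W k j) → p1 B X = 0 := by
    intro X hX
    obtain ⟨_, h2⟩ := hother X hX
    simp [p1, h2]
  have hz3A : ∀ X, (∀ k j, X ≠ W k j) → p3 A X = 0 := by
    intro X hX
    obtain ⟨h1, _⟩ := hother X hX
    simp [p3, h1]
  have hεsq : ∀ k j, ((ε k j : ℤ) : ℚ) * (ε k j : ℚ) = 1 := by
    intro k j
    rcases hε k j with h | h <;> rw [h] <;> norm_num
  have hdne : ∀ X, d X ≠ 0 := fun X => (hd X).ne'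
  -- r and D
  set r : Fin 3 → Fin 3 → ℚ := fun k j => (ε k j : ℚ) / d (W k j) with hr
  set D : Fin 3 → Fin 3 → ℚ := fun k j => (ε k j : ℚ) * d (W k j) with hD
  have hrD : ∀ k j, r k j * D k j = 1 := by
    intro k j
    simp only [hr, hD]
    rw [show (ε k j : ℚ) / d (W k j) * ((ε k j : ℚ) * d (W k j))
        = ((ε k j : ℚ) * (ε k j : ℚ)) * (d (W k j) / d (W k j)) by ring, hεsq,
      div_self (hdne _), mul_one]
  -- the equations as sums over the grid
  have e1 := hE.hE1
  have e4 := hE.hE4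
  have e5 := hE.hE5
  have e6 := hE.hE6
  have e7 := hE.hE7
  rw [GRID.sum_grid _ W hinj (fun X hX => by rw [hz1A X hX]; simp)] at e1 e4 e6 e7
  rw [GRID.sum_grid _ W hinj (fun X hX => by rw [hz1B X hX]; simp)] at e5
  have hcube : ∀ k j, ((ε k j : ℤ) : ℚ) * (ε k j : ℚ) * (ε k j : ℚ) = (ε k j : ℚ) := by
    intro k j; rw [hεsq]; ring
  have E1 : ∑ k, ∑ j, ((wt k : ℤ) : ℚ) * (wt j : ℚ) * r k j = 324 / g := by
    rw [← e1]
    refine Finset.sum_congr rfl (fun k _ => Finset.sum_congr rfl (fun j _ => ?_))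
    rw [hp1A, hp1B, hp3A]
    simp only [hr]
    push_cast
    rw [GRID.term2 _ _ _ _ (hcube k j)]
  have E4 : ∑ k, ∑ j, ((wt k : ℤ) : ℚ) * (wt k : ℚ) * r k j = 0 := by
    rw [← e4]
    refine Finset.sum_congr rfl (fun k _ => Finset.sum_congr rfl (fun j _ => ?_))
    rw [hp1A, hp3A]
    simp only [hr]
    push_cast
    rw [GRID.term2 _ _ _ _ (hcube k j)]
  have E5 : ∑ k, ∑ j, ((wt j : ℤ) : ℚ) * (wt j : ℚ) * r k j = 0 := by
    rw [← e5]
    refine Finset.sum_congr rfl (fun k _ => Finset.sum_congr rfl (fun j _ => ?_))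
    rw [hp1B, hp3A]
    simp only [hr]
    push_cast
    rw [GRID.term2 _ _ _ _ (hcube k j)]
  have E6 : ∑ k, ∑ j, ((wt k : ℤ) : ℚ) * (wt k : ℚ) * (wt j : ℚ) * r k j = 0 := by
    rw [← e6]
    refine Finset.sum_congr rfl (fun k _ => Finset.sum_congr rfl (fun j _ => ?_))
    rw [hp1A, hp1B]
    simp only [hr]
    push_cast
    rw [GRID.term3 _ _ _ _ _ (hcube k j)]
  have E7 : ∑ k, ∑ j, ((wt k : ℤ) : ℚ) * (wt j : ℚ) * (wt j : ℚ) * r k j = 0 := by
    rw [← e7]
    refine Finset.sum_congr rfl (fun k _ => Finset.sum_congr rfl (fun j _ => ?_))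
    rw [hp1A, hp1B]
    simp only [hr]
    push_cast
    rw [GRID.term3 _ _ _ _ _ (hcube k j)]
  -- row and column sums
  have hrow : ∀ k, ∑ j, D k j = 0 := by
    intro k
    have h := hAd k
    rw [GRID.sum_grid _ W hinj (fun X hX => by rw [(hother X hX).1 k]; simp)] at h
    rw [← h]
    simp only [hA, hD]
    fin_cases k <;> simp [Fin.sum_univ_three]
  have hcol : ∀ j, ∑ k, D k j = 0 := by
    intro j
    have h := hBd j
    rw [GRID.sum_grid _ W hinj (fun X hX => by rw [(hother X hX).2 j]; simp)] at h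
    rw [← h]
    simp only [hB, hD]
    fin_cases j <;> simp [Fin.sum_univ_three]
  have hD00 : D 0 0 = 1 := by
    simp only [hD, hW0, hε0, hdo]; norm_num
  have hr00 : r 0 0 = 1 := by
    have := hrD 0 0
    rw [hD00, mul_one] at this
    exact this
  simp only [Fin.sum_univ_three, GRID.wt0, GRID.wt1, GRID.wt2] at E1 E4 E5 E6 E7
  norm_num at E1 E4 E5 E6 E7
  have row0 := hrow 0
  have row1 := hrow 1
  have row2 := hrow 2
  have col0 := hcol 0
  have col1 := hcol 1
  have col2 := hcol 2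
  simp only [Fin.sum_univ_three] at row0 row1 row2 col0 col1 col2
  rw [hD00] at row0 col0
  exact GRID.final g (D 2 2) (D 0 1) (D 1 0) (D 1 1) (D 0 2) (D 1 2) (D 2 0) (D 2 1)
    (r 0 0) (r 0 1) (r 0 2) (r 1 0) (r 1 1) (r 1 2) (r 2 0) (r 2 1) (r 2 2) hg
    hr00 (hrD 0 1) (hrD 0 2) (hrD 1 0) (hrD 1 1) (hrD 1 2) (hrD 2 0) (hrD 2 1) (hrD 2 2)
    row0 row1 row2 col0 col1 col2
    (by linarith) (by linarith) (by linarith) (by linarith) (by linarith)

end Cfsg.Agent.Helper8.S3805A
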