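import Mathlib
import Cfsg.Agent.Lib.Helper8.S3805ArithDefs

/-!
# S3805 ARITH, piece KILL (helper1): no exotic configuration.
-/

set_option autoImplicit false
set_option maxHeartbeats 1000000

namespace Cfsg.Agent.Helper8.S3805A

variable {ι : Type*} [Fintype ι] [DecidableEq ι]

namespace KILL

theorem wt0 : wt 0 = 1 := by decide
theorem wt1 : wt 1 = 1 := by decide
theorem wt2 : wt 2 = -2 := by decide

/-- a sum over all characters reduces to `Y` and the five 1x1 cells -/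
theorem sum_exotic (f : ι → ℚ) (Y : ι) (W : Fin 3 → Fin 3 → ι) (k0 j0 : Fin 3)
    (hWY : ∀ k j, (k = k0 ∨ j = j0) → W k j ≠ Y)
    (hinj : ∀ k j k' j', (k = k0 ∨ j = j0) → (k' = k0 ∨ j' = j0) →
      W k j = W k' j' → k = k' ∧ j = j')
    (h0 : ∀ X, X ≠ Y → (∀ k j, (k = k0 ∨ j = j0) → X ≠ W k j) → f X = 0) :
    ∑ X, f X = f Y + ∑ k, ∑ j, (if (k = k0 ∨ j = j0) then f (W k j) else 0) := by
  classical
  obtain ⟨S, hS⟩ : ∃ S : Finset (Fin 3 × Fin 3),
      S = Finset.univ.filter (fun p => p.1 = k0 ∨ p.2 = j0) := ⟨_, rfl⟩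
  have hmem : ∀ p : Fin 3 × Fin 3, p ∈ S ↔ (p.1 = k0 ∨ p.2 = j0) := by
    intro p; rw [hS]; simp
  obtain ⟨e, he⟩ : ∃ e : Fin 3 × Fin 3 → ι, e = fun p => W p.1 p.2 := ⟨_, rfl⟩
  have hinj' : ∀ p ∈ S, ∀ q ∈ S, e p = e q → p = q := by
    rintro ⟨k, j⟩ hp ⟨k', j'⟩ hp' h
    rw [hmem] at hp hp'
    rw [he] at h
    obtain ⟨h1, h2⟩ := hinj k j k' j' hp hp' h
    exact Prod.ext h1 h2
  have hY : Y ∉ S.image e := by
    intro h
    rw [Finset.mem_image] at h
    obtain ⟨⟨k, j⟩, hp, hpe⟩ := h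
    rw [hmem] at hp
    rw [he] at hpe
    exact hWY k j hp hpe
  have h1 : ∑ X, f X = ∑ X ∈ insert Y (S.image e), f X := by
    symm
    apply Finset.sum_subset (Finset.subset_univ _)
    intro X _ hX
    rw [Finset.mem_insert, not_or] at hX
    apply h0 X hX.1
    intro k j hc hXW
    apply hX.2
    rw [Finset.mem_image]
    refine ⟨(k, j), ?_, ?_⟩
    · rw [hmem]; exact hc
    · rw [he]; exact hXW.symm
  rw [h1, Finset.sum_insert hY, Finset.sum_image hinj', hS, Finset.sum_filter,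
    Fintype.sum_prod_type, he]

theorem close (e dd N c : ℚ) (hN : N = c * (e * e * e)) (h : e * e * e = e) :
    N / dd = c * (e / dd) := by
  rw [hN, h]; ring

/-- the final linear algebra -/
theorem final (k0 j0 : Fin 3) (hk : k0 = 0 ∨ j0 = 0) (g rY : ℚ) (r : Fin 3 → Fin 3 → ℚ)
    (hg : 0 < g)
    (E2 : -4 * (wt k0 : ℚ) * rY
      + ∑ k, ∑ j, (if (k = k0 ∨ j = j0) then (wt k : ℚ) * r k j else 0) = 162 / g)
    (E3 : -4 * (wt j0 : ℚ) * rY
      + ∑ k, ∑ j, (if (k = k0 ∨ j = j0) then (wt j : ℚ) * r k j else 0) = 162 / g)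
    (E4 : 2 * (wt k0 : ℚ) * (wt k0 : ℚ) * rY
      + ∑ k, ∑ j, (if (k = k0 ∨ j = j0) then (wt k : ℚ) * (wt k : ℚ) * r k j else 0) = 0)
    (E5 : 2 * (wt j0 : ℚ) * (wt j0 : ℚ) * rY
      + ∑ k, ∑ j, (if (k = k0 ∨ j = j0) then (wt j : ℚ) * (wt j : ℚ) * r k j else 0) = 0)
    (E6 : -((wt k0 : ℚ) * (wt k0 : ℚ) * (wt j0 : ℚ)) * rY
      + ∑ k, ∑ j, (if (k = k0 ∨ j = j0) then
          (wt k : ℚ) * (wt k : ℚ) * (wt j : ℚ) * r k j else 0) = 0)
    (E7 : -((wt k0 : ℚ) * (wt j0 : ℚ) * (wt j0 : ℚ)) * rY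
      + ∑ k, ∑ j, (if (k = k0 ∨ j = j0) then
          (wt k : ℚ) * (wt j : ℚ) * (wt j : ℚ) * r k j else 0) = 0) :
    False := by
  have hpos : 0 < 162 / g := by positivity
  obtain ⟨c, hc⟩ : ∃ c : ℚ, c = 162 / g := ⟨_, rfl⟩
  rw [← hc] at E2 E3 hpos
  rcases hk with rfl | rfl
  · fin_cases j0 <;>
      simp [Fin.sum_univ_three, wt0, wt1, wt2] at E2 E3 E4 E5 E6 E7 <;> linarith
  · fin_cases k0 <;>
      simp [Fin.sum_univ_three, wt0, wt1, wt2] at E2 E3 E4 E5 E6 E7 <;> linarith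

end KILL

/-- PIECE KILL (step 4): no exotic configuration. -/
theorem kill (o : ι) (d : ι → ℚ) (A B : Fin 3 → ι → ℤ) (g : ℚ) (hg : 0 < g)
    (hd : ∀ X, 0 < d X) (k0 j0 : Fin 3) (hex : IsExotic o A B k0 j0) (hE : Eqs d A B g) :
    False := by
  obtain ⟨Y, εY, W, ε, hk, hW0, hε0, hεY, hAY, hBY, hWY, hinj, hε, hA, hB, hother⟩ := hex
  -- values at Y
  have hp1AY : p1 A Y = εY * (-(wt k0)) := by
    simp only [p1, hAY]
    clear hAY hBY hWY hinj hA hB hother hk
    fin_cases k0 <;> simp [wt] <;> ring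
  have hp1BY : p1 B Y = εY * (-(wt j0)) := by
    simp only [p1, hBY]
    clear hAY hBY hWY hinj hA hB hother hk
    fin_cases j0 <;> simp [wt] <;> ring
  have hp3AY : p3 A Y = εY * 2 := by
    simp only [p3, hAY]
    clear hAY hBY hWY hinj hA hB hother hk hp1AY hp1BY
    fin_cases k0 <;> simp <;> ring
  -- values at the five cells
  have hp1A : ∀ k j, (k = k0 ∨ j = j0) → p1 A (W k j) = ε k j * wt k := by
    intro k j hc
    simp only [p1, hA k j _ hc, wt]
    clear hc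
    fin_cases k <;> simp <;> ring
  have hp1B : ∀ k j, (k = k0 ∨ j = j0) → p1 B (W k j) = ε k j * wt j := by
    intro k j hc
    simp only [p1, hB k j _ hc, wt]
    clear hc
    fin_cases j <;> simp <;> ring
  have hp3A : ∀ k j, (k = k0 ∨ j = j0) → p3 A (W k j) = ε k j := by
    intro k j hc
    simp only [p3, hA k j _ hc]
    clear hc
    fin_cases k <;> simp
  -- values elsewhere
  have hz3 : ∀ X, X ≠ Y → (∀ k j, (k = k0 ∨ j = j0) → X ≠ W k j) → p3 A X = 0 := by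
    intro X h1 h2
    have := (hother X h1 h2).1
    rw [Fin.sum_univ_three] at this
    simpa [p3] using this
  have hz1 : ∀ X, X ≠ Y → (∀ k j, (k = k0 ∨ j = j0) → X ≠ W k j) →
      p1 A X = 0 ∨ p1 B X = 0 := by
    intro X h1 h2
    rcases (hother X h1 h2).2 with h | h
    · left; simp [p1, h]
    · right; simp [p1, h]
  have hcube : ∀ k j, ((ε k j : ℤ) : ℚ) * (ε k j : ℚ) * (ε k j : ℚ) = (ε k j : ℚ) := by
    intro k j
    rcases hε k j with h | h <;> rw [h] <;> norm_num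
  have hcubeY : ((εY : ℤ) : ℚ) * (εY : ℚ) * (εY : ℚ) = (εY : ℚ) := by
    rcases hεY with h | h <;> rw [h] <;> norm_num
  -- the equations
  have e2 := hE.hE2
  have e3 := hE.hE3
  have e4 := hE.hE4
  have e5 := hE.hE5
  have e6 := hE.hE6
  have e7 := hE.hE7
  rw [KILL.sum_exotic _ Y W k0 j0 hWY hinj (fun X h1 h2 => by rw [hz3 X h1 h2]; simp)]
    at e2 e3 e4 e5
  rw [KILL.sum_exotic _ Y W k0 j0 hWY hinj (fun X h1 h2 => by
    rcases hz1 X h1 h2 with h | h <;> rw [h] <;> simp)] at e6 e7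
  refine KILL.final k0 j0 hk g ((εY : ℚ) / d Y) (fun k j => (ε k j : ℚ) / d (W k j)) hg
    ?_ ?_ ?_ ?_ ?_ ?_
  · refine Eq.trans (Eq.symm ?_) e2; congr 1
    · rw [hp1AY, hp3AY]; push_cast
      exact KILL.close _ _ _ _ (by ring) hcubeY
    · refine Finset.sum_congr rfl (fun k _ => Finset.sum_congr rfl (fun j _ => ?_))
      by_cases hc : k = k0 ∨ j = j0
      · rw [if_pos hc, if_pos hc, hp1A k j hc, hp3A k j hc]; push_cast
        exact KILL.close _ _ _ _ (by ring) (hcube k j)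
      · rw [if_neg hc, if_neg hc]
  · refine Eq.trans (Eq.symm ?_) e3; congr 1
    · rw [hp1BY, hp3AY]; push_cast
      exact KILL.close _ _ _ _ (by ring) hcubeY
    · refine Finset.sum_congr rfl (fun k _ => Finset.sum_congr rfl (fun j _ => ?_))
      by_cases hc : k = k0 ∨ j = j0
      · rw [if_pos hc, if_pos hc, hp1B k j hc, hp3A k j hc]; push_cast
        exact KILL.close _ _ _ _ (by ring) (hcube k j)
      · rw [if_neg hc, if_neg hc]
  · refine Eq.trans (Eq.symm ?_) e4; congr 1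
    · rw [hp1AY, hp3AY]; push_cast
      exact KILL.close _ _ _ _ (by ring) hcubeY
    · refine Finset.sum_congr rfl (fun k _ => Finset.sum_congr rfl (fun j _ => ?_))
      by_cases hc : k = k0 ∨ j = j0
      · rw [if_pos hc, if_pos hc, hp1A k j hc, hp3A k j hc]; push_cast
        exact KILL.close _ _ _ _ (by ring) (hcube k j)
      · rw [if_neg hc, if_neg hc]
  · refine Eq.trans (Eq.symm ?_) e5; congr 1
    · rw [hp1BY, hp3AY]; push_cast
      exact KILL.close _ _ _ _ (by ring) hcubeY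
    · refine Finset.sum_congr rfl (fun k _ => Finset.sum_congr rfl (fun j _ => ?_))
      by_cases hc : k = k0 ∨ j = j0
      · rw [if_pos hc, if_pos hc, hp1B k j hc, hp3A k j hc]; push_cast
        exact KILL.close _ _ _ _ (by ring) (hcube k j)
      · rw [if_neg hc, if_neg hc]
  · refine Eq.trans (Eq.symm ?_) e6; congr 1
    · rw [hp1AY, hp1BY]; push_cast
      exact KILL.close _ _ _ _ (by ring) hcubeY
    · refine Finset.sum_congr rfl (fun k _ => Finset.sum_congr rfl (fun j _ => ?_))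
      by_cases hc : k = k0 ∨ j = j0
      · rw [if_pos hc, if_pos hc, hp1A k j hc, hp1B k j hc]; push_cast
        exact KILL.close _ _ _ _ (by ring) (hcube k j)
      · rw [if_neg hc, if_neg hc]
  · refine Eq.trans (Eq.symm ?_) e7; congr 1
    · rw [hp1AY, hp1BY]; push_cast
      exact KILL.close _ _ _ _ (by ring) hcubeY
    · refine Finset.sum_congr rfl (fun k _ => Finset.sum_congr rfl (fun j _ => ?_))
      by_cases hc : k = k0 ∨ j = j0
      · rw [if_pos hc, if_pos hc, hp1A k j hc, hp1B k j hc]; push_cast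
        exact KILL.close _ _ _ _ (by ring) (hcube k j)
      · rw [if_neg hc, if_neg hc]

end Cfsg.Agent.Helper8.S3805A
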