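import Mathlib
import Cfsg.Agent.Lib.Helper1.GH4A
import Cfsg.Agent.Lib.Helper1.Coprime

/-!
# Groups of order prime to six with a dihedral operator group of order six: abstract lemmas (helper1)

* `comm_of_sq_anti`: a finite group of order prime to `6` in which squaring reverses products is
  commutative.
* `lemT`: `Q` of order prime to `6`, `κ` a fixed-point-free endomorphism with `κ³ = 1`, `σ` with
  `σ² = 1`, `σ κ = κ² σ`, `M ⊴ Q` containing all `x⁻¹ σ(x)` with `M ∩ κ M ∩ κ² M = 1`: then `Q` is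
  commutative.
* `fpf_mod`: fixed points of a coprime element on a quotient come from fixed points.
-/

set_option autoImplicit false

namespace Cfsg.Agent.Helper1.S3F

open Cfsg.Agent.Helper1 Cfsg.Agent.Helper1.GH4

section Anti

variable {Q : Type*} [Group Q] [Finite Q]

theorem coprime_orderOf_two (hcop : (Nat.card Q).Coprime 6) (x : Q) : (2 : ℕ).Coprime (orderOf x) := by
  have h1 : orderOf x ∣ Nat.card Q := orderOf_dvd_natCard x
  have h2 : (Nat.card Q).Coprime 2 := Nat.Coprime.coprime_dvd_right (by norm_num) hcop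
  exact (Nat.Coprime.coprime_dvd_left h1 h2).symm

theorem coprime_orderOf_three (hcop : (Nat.card Q).Coprime 6) (x : Q) :
    (3 : ℕ).Coprime (orderOf x) := by
  have h1 : orderOf x ∣ Nat.card Q := orderOf_dvd_natCard x
  have h2 : (Nat.card Q).Coprime 3 := Nat.Coprime.coprime_dvd_right (by norm_num) hcop
  exact (Nat.Coprime.coprime_dvd_left h1 h2).symm

theorem exists_sq_eq (hcop : (Nat.card Q).Coprime 6) (x : Q) : ∃ m : ℕ, (x ^ m) ^ 2 = x := by
  obtain ⟨m, hm⟩ := exists_pow_eq_self_of_coprime (coprime_orderOf_two hcop x)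
  refine ⟨m, ?_⟩
  rw [← pow_mul, mul_comm, pow_mul]
  exact hm

theorem exists_cube_eq (hcop : (Nat.card Q).Coprime 6) (x : Q) : ∃ m : ℕ, (x ^ m) ^ 3 = x := by
  obtain ⟨m, hm⟩ := exists_pow_eq_self_of_coprime (coprime_orderOf_three hcop x)
  refine ⟨m, ?_⟩
  rw [← pow_mul, mul_comm, pow_mul]
  exact hm

theorem eq_one_of_sq_eq_one (hcop : (Nat.card Q).Coprime 6) {x : Q} (h : x ^ 2 = 1) : x = 1 := by
  obtain ⟨m, hm⟩ := exists_pow_eq_self_of_coprime (coprime_orderOf_two hcop x)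
  rw [← hm, h, one_pow]

theorem eq_one_of_cube_eq_one (hcop : (Nat.card Q).Coprime 6) {x : Q} (h : x ^ 3 = 1) : x = 1 := by
  obtain ⟨m, hm⟩ := exists_pow_eq_self_of_coprime (coprime_orderOf_three hcop x)
  rw [← hm, h, one_pow]

/-- A group of order prime to `6` in which squaring is an anti-endomorphism is commutative. -/
theorem comm_of_sq_anti (hcop : (Nat.card Q).Coprime 6)
    (h : ∀ u v : Q, (u * v) ^ 2 = v ^ 2 * u ^ 2) : ∀ x y : Q, x * y = y * x := by
  have h3 : ∀ x y : Q, (y * x) ^ 3 = y ^ 3 * x ^ 3 := by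
    intro x y
    have e : (y * x) ^ 3 = y * (x * y) ^ 2 * x := by
      simp only [pow_three, sq, mul_assoc]
    rw [e, h x y]
    simp only [pow_three, sq, mul_assoc]
  have h4 : ∀ x y : Q, x ^ 3 * y ^ 2 = y ^ 2 * x ^ 3 := by
    intro x y
    have e1 : (x * y) ^ 3 = x ^ 3 * y ^ 3 := h3 y x
    have e2 : (x * y) ^ 3 = y ^ 2 * x ^ 3 * y := by
      rw [pow_succ (x * y) 2, h x y]
      simp only [pow_three, sq, mul_assoc]
    have e3 : x ^ 3 * y ^ 2 * y = y ^ 2 * x ^ 3 * y := by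
      rw [← e2, e1]
      simp only [pow_three, sq, mul_assoc]
    exact mul_right_cancel e3
  intro x y
  obtain ⟨a, ha⟩ := exists_cube_eq hcop x
  obtain ⟨b, hb⟩ := exists_sq_eq hcop y
  rw [← ha, ← hb]
  exact h4 _ _

end Anti

section LemT

variable {Q : Type*} [Group Q] [Finite Q]

/-- The abstract commutativity lemma. -/
theorem lemT (hcop : (Nat.card Q).Coprime 6) (κ σ : Q →* Q)
    (hκ3 : ∀ x, κ (κ (κ x)) = x) (hσ2 : ∀ x, σ (σ x) = x)
    (hσκ : ∀ x, σ (κ x) = κ (κ (σ x)))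
    (hfpf : ∀ x, κ x = x → x = 1)
    (M : Subgroup Q) [hMn : M.Normal] (hσM : ∀ x, x⁻¹ * σ x ∈ M)
    (hM : ∀ x, x ∈ M → κ x ∈ M → κ (κ x) ∈ M → x = 1) :
    ∀ x y : Q, x * y = y * x := by
  -- the norm is trivial
  have hnorm : ∀ x : Q, x * κ x * κ (κ x) = 1 := by
    intro x
    obtain ⟨a, -, ha⟩ := exists_comm (⊤ : Subgroup Q) κ (fun _ _ => Subgroup.mem_top _)
      (fun x _ hx => hfpf x hx) x (Subgroup.mem_top x)
    rw [ha]
    simp only [map_mul, map_inv, hκ3]
    group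
  -- the quotient
  let π : Q →* Q ⧸ M := QuotientGroup.mk' M
  have hπ : ∀ x, π x = 1 ↔ x ∈ M := fun x => QuotientGroup.eq_one_iff x
  have hπeq : ∀ x y : Q, x⁻¹ * y ∈ M → π x = π y := by
    intro x y hxy
    exact QuotientGroup.eq.mpr hxy
  have hcopP : (Nat.card (Q ⧸ M)).Coprime 6 :=
    Nat.Coprime.coprime_dvd_left (Subgroup.card_quotient_dvd_card M) hcop
  -- fixed points of `σ` cover the quotient
  have hcover : ∀ x : Q, ∃ c : Q, σ c = c ∧ π c = π x := by
    intro x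
    set u : Q := x⁻¹ * σ x with hu
    have huM : u ∈ M := hσM x
    have hσu : σ u = u⁻¹ := by
      rw [hu, map_mul, map_inv, hσ2]
      group
    obtain ⟨m, hm⟩ := exists_sq_eq hcop u
    set v : Q := u ^ m with hv
    have hσv : σ v = v⁻¹ := by
      rw [hv, map_pow, hσu, inv_pow]
    have hvM : v ∈ M := M.pow_mem huM m
    refine ⟨x * v, ?_, ?_⟩
    · rw [map_mul, hσv]
      have e : σ x = x * u := by rw [hu]; group
      rw [e, ← hm, sq]
      group
    · apply hπeq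
      have e : (x * v)⁻¹ * x = v⁻¹ := by group
      rw [e]
      exact M.inv_mem hvM
  -- the key relation
  have hkey : ∀ c : Q, σ c = c → π c * π (κ c) ^ 2 = 1 := by
    intro c hc
    have h1 : π (κ (κ c)) = π (κ c) := by
      symm
      apply hπeq
      have e : κ (κ c) = σ (κ c) := by rw [hσκ, hc]
      rw [e]
      exact hσM _
    have h2 := congrArg π (hnorm c)
    rw [map_mul, map_mul, map_one, h1] at h2
    rw [sq, ← mul_assoc]
    exact h2
  -- surjectivity of `c ↦ π (κ c)` on fixed points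
  have hsurj : ∀ u : Q ⧸ M, ∃ c : Q, σ c = c ∧ π (κ c) = u := by
    intro u
    obtain ⟨x, rfl⟩ := QuotientGroup.mk'_surjective M u
    obtain ⟨c, hc, hcx⟩ := hcover x
    refine ⟨(c ^ 2)⁻¹, ?_, ?_⟩
    · rw [map_inv, map_pow, hc]
    · have h1 := hkey c hc
      have h2 : π (κ ((c ^ 2)⁻¹)) = (π (κ c) ^ 2)⁻¹ := by
        rw [map_inv, map_pow, map_inv, map_pow]
      rw [h2]
      have h3 : π c = (π (κ c) ^ 2)⁻¹ := eq_inv_of_mul_eq_one_left h1
      show _ = π x
      rw [← hcx, h3]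
  -- squaring is an anti-endomorphism of the quotient
  have hanti : ∀ u v : Q ⧸ M, (u * v) ^ 2 = v ^ 2 * u ^ 2 := by
    intro u v
    obtain ⟨c, hc, rfl⟩ := hsurj u
    obtain ⟨c', hc', rfl⟩ := hsurj v
    have hcc : σ (c * c') = c * c' := by rw [map_mul, hc, hc']
    have h1 := hkey c hc
    have h2 := hkey c' hc'
    have h3 := hkey (c * c') hcc
    have e1 : π (κ c) ^ 2 = (π c)⁻¹ := eq_inv_of_mul_eq_one_right h1
    have e2 : π (κ c') ^ 2 = (π c')⁻¹ := eq_inv_of_mul_eq_one_right h2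
    have e3 : π (κ (c * c')) ^ 2 = (π (c * c'))⁻¹ := eq_inv_of_mul_eq_one_right h3
    rw [← map_mul, ← map_mul, e3, e1, e2, map_mul, mul_inv_rev]
  have hcommP := comm_of_sq_anti hcopP hanti
  have hcomM : ∀ x y : Q, x * y * x⁻¹ * y⁻¹ ∈ M := by
    intro x y
    rw [← hπ, map_mul, map_mul, map_mul, map_inv, map_inv, hcommP (π x) (π y)]
    group
  intro x y
  have h1 := hcomM x y
  have h2 := hcomM (κ x) (κ y)
  have h3 := hcomM (κ (κ x)) (κ (κ y))
  have e2 : κ (x * y * x⁻¹ * y⁻¹) = κ x * κ y * (κ x)⁻¹ * (κ y)⁻¹ := by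
    rw [map_mul, map_mul, map_mul, map_inv, map_inv]
  have e3 : κ (κ (x * y * x⁻¹ * y⁻¹)) = κ (κ x) * κ (κ y) * (κ (κ x))⁻¹ * (κ (κ y))⁻¹ := by
    rw [e2, map_mul, map_mul, map_mul, map_inv, map_inv]
  have h4 := hM _ h1 (e2 ▸ h2) (e3 ▸ h3)
  calc x * y = (x * y * x⁻¹ * y⁻¹) * (y * x) := by group
    _ = y * x := by rw [h4, one_mul]

end LemT

section FpfMod

variable {Γ : Type*} [Group Γ] [Finite Γ]

/-- An invariant coset of an invariant subgroup contains a fixed element (coprime action). -/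
theorem exists_fixed_mem_coset (Y : Subgroup Γ) (e : Γ)
    (heY : ∀ y ∈ Y, e * y * e⁻¹ ∈ Y)
    (hcop : (orderOf e).Coprime (Nat.card Y)) (h : Γ) (hmem : h⁻¹ * (e * h * e⁻¹) ∈ Y) :
    ∃ c : Γ, e * c * e⁻¹ = c ∧ h⁻¹ * c ∈ Y := by
  have hcop' : (Nat.card (Subgroup.zpowers e)).Coprime (Nat.card Y) := by
    rw [Nat.card_zpowers]
    exact hcop
  have heN : e ∈ Subgroup.normalizer (Y : Set Γ) := by
    have hle : Y ≤ Y.comap (MulAut.conj e).toMonoidHom := fun y hy => heY y hy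
    have hle' : Y.map (MulAut.conj e).toMonoidHom ≤ Y := Subgroup.map_le_iff_le_comap.mpr hle
    have heq : Y.map (MulAut.conj e).toMonoidHom = Y := by
      apply Subgroup.eq_of_le_of_card_ge hle'
      rw [Subgroup.card_map_of_injective (MulAut.conj e).injective]
    rw [Subgroup.mem_normalizer_iff]
    intro y
    constructor
    · exact fun hy => heY y hy
    · intro hy
      rw [← heq] at hy
      obtain ⟨z, hz, hzy⟩ := hy
      have : z = y := (MulAut.conj e).injective hzy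
      exact this ▸ hz
  have hAD : Subgroup.zpowers e ≤ Subgroup.normalizer (Y : Set Γ) :=
    Subgroup.zpowers_le.mpr heN
  have hx : ∀ a ∈ Subgroup.zpowers e, h⁻¹ * a * h * a⁻¹ ∈ Y := by
    let S : Subgroup Γ :=
      { carrier := {a | a ∈ Subgroup.normalizer (Y : Set Γ) ∧ h⁻¹ * a * h * a⁻¹ ∈ Y}
        one_mem' := ⟨Subgroup.one_mem _, by simp⟩
        mul_mem' := by
          rintro a b ⟨haN, ha⟩ ⟨hbN, hb⟩
          refine ⟨Subgroup.mul_mem _ haN hbN, ?_⟩
          have h1 : h⁻¹ * (a * b) * h * (a * b)⁻¹ =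
              (h⁻¹ * a * h * a⁻¹) * (a * (h⁻¹ * b * h * b⁻¹) * a⁻¹) := by group
          show h⁻¹ * (a * b) * h * (a * b)⁻¹ ∈ Y
          rw [h1]
          exact Y.mul_mem ha ((Subgroup.mem_normalizer_iff.mp haN _).mp hb)
        inv_mem' := by
          rintro a ⟨haN, ha⟩
          refine ⟨Subgroup.inv_mem _ haN, ?_⟩
          have h1 : h⁻¹ * a⁻¹ * h * a⁻¹⁻¹ = a⁻¹ * (h⁻¹ * a * h * a⁻¹)⁻¹ * a⁻¹⁻¹ := by group
          show h⁻¹ * a⁻¹ * h * a⁻¹⁻¹ ∈ Y
          rw [h1]
          exact (Subgroup.mem_normalizer_iff.mp (Subgroup.inv_mem _ haN) _).mp (Y.inv_mem ha) }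
    have heS : e ∈ S := by
      refine ⟨heN, ?_⟩
      have h1 : h⁻¹ * e * h * e⁻¹ = h⁻¹ * (e * h * e⁻¹) := by group
      rw [h1]
      exact hmem
    intro a ha
    exact ((Subgroup.zpowers_le.mpr heS) ha).2
  obtain ⟨c, hc, hcY⟩ := exists_centralizer_mem_coset Y (Subgroup.zpowers e) hAD hcop'
    (Or.inl inferInstance) h hx
  refine ⟨c, ?_, hcY⟩
  rw [Subgroup.mem_centralizer_iff] at hc
  have := hc e (Subgroup.mem_zpowers e)
  rw [this, mul_inv_cancel_right]

/-- Fixed points modulo an invariant subgroup come from fixed points (coprime action). -/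
theorem fpf_mod (H Y : Subgroup Γ) (e : Γ) (hYH : Y ≤ H)
    (heY : ∀ y ∈ Y, e * y * e⁻¹ ∈ Y)
    (hcop : (orderOf e).Coprime (Nat.card Y))
    (hfix : ∀ c ∈ H, e * c * e⁻¹ = c → c ∈ Y) :
    ∀ h ∈ H, h⁻¹ * (e * h * e⁻¹) ∈ Y → h ∈ Y := by
  intro h hh hmem
  obtain ⟨c, hc, hcY⟩ := exists_fixed_mem_coset Y e heY hcop h hmem
  have hcH : c ∈ H := by
    have : c = h * (h⁻¹ * c) := by group
    rw [this]
    exact H.mul_mem hh (hYH hcY)
  have hcY' : c ∈ Y := hfix c hcH hc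
  have h1 : h = c * (h⁻¹ * c)⁻¹ := by group
  rw [h1]
  exact Y.mul_mem hcY' (Y.inv_mem hcY)

end FpfMod

end Cfsg.Agent.Helper1.S3F
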