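import Mathlib
import Cfsg.Agent.Lib.Helper1.FpfAut
import Cfsg.Agent.Lib.Helper1.S3FBasic

/-!
# Actions of the symmetric group of degree three (helper1)
-/

set_option autoImplicit false

namespace Cfsg.Agent.Helper1.S3F

open Cfsg.Agent.Helper1.Fpf

/-- the symmetric group of degree three -/
abbrev A3 : Type := Equiv.Perm (Fin 3)

/-- a three-cycle -/
def c3 : A3 := Equiv.swap 0 1 * Equiv.swap 1 2

/-- a transposition -/
def s2 : A3 := Equiv.swap 0 1

theorem c3_pow : c3 ^ 3 = 1 := by decide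

theorem s2_pow : s2 ^ 2 = 1 := by decide

theorem s2_c3 : s2 * c3 * s2⁻¹ = c3⁻¹ := by decide

theorem A3_cases (a : A3) :
    a = 1 ∨ a = c3 ∨ a = c3 * c3 ∨ a = s2 ∨ a = c3 * s2 ∨ a = c3 * c3 * s2 := by
  revert a
  decide

theorem A3_induction {P : A3 → Prop} (h1 : P 1) (hc : ∀ a, P a → P (c3 * a))
    (hs : ∀ a, P a → P (s2 * a)) : ∀ a, P a := by
  intro a
  rcases A3_cases a with rfl | rfl | rfl | rfl | rfl | rfl
  · exact h1
  · have := hc 1 h1; rwa [mul_one] at this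
  · have := hc _ (hc 1 h1); rwa [mul_one] at this
  · have := hs 1 h1; rwa [mul_one] at this
  · have := hc _ (hs 1 h1); rwa [mul_one] at this
  · have := hc _ (hc _ (hs 1 h1)); rwa [mul_one, ← mul_assoc] at this

section Act

variable {A : Type*} [Group A] {G : Type*} [Group G]

/-- invariance of a subgroup under an action by automorphisms -/
def InvA (φ : A →* MulAut G) (N : Subgroup G) : Prop := ∀ a, Inv (φ a) N

variable [Finite G]

/-- the action on an invariant subgroup -/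
noncomputable def restrictHom (φ : A →* MulAut G) (N : Subgroup G) (h : InvA φ N) :
    A →* MulAut ↥N where
  toFun a := restrict (φ a) N (h a)
  map_one' := by
    ext x
    rw [restrict_apply, map_one]
    rfl
  map_mul' a b := by
    ext x
    rw [MulAut.mul_apply, restrict_apply, restrict_apply, restrict_apply, map_mul,
      MulAut.mul_apply]

theorem restrictHom_apply (φ : A →* MulAut G) (N : Subgroup G) (h : InvA φ N) (a : A) (x : ↥N) :
    ((restrictHom φ N h a x : ↥N) : G) = φ a x := rfl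

/-- the action on the quotient by an invariant normal subgroup -/
noncomputable def quotHom (φ : A →* MulAut G) (N : Subgroup G) [N.Normal] (h : InvA φ N) :
    A →* MulAut (G ⧸ N) where
  toFun a := quot (φ a) N (h a)
  map_one' := by
    ext x
    induction x using QuotientGroup.induction_on with
    | H g =>
      rw [quot_mk, map_one]
      rfl
  map_mul' a b := by
    ext x
    induction x using QuotientGroup.induction_on with
    | H g =>
      rw [MulAut.mul_apply, quot_mk, quot_mk, quot_mk, map_mul, MulAut.mul_apply]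

theorem quotHom_mk (φ : A →* MulAut G) (N : Subgroup G) [N.Normal] (h : InvA φ N) (a : A)
    (g : G) : quotHom φ N h a (g : G ⧸ N) = ((φ a g : G) : G ⧸ N) := rfl

end Act

section Fixed

variable {G : Type*} [Group G]

theorem fixed_all (φ : A3 →* MulAut G) {g : G} (h3 : φ c3 g = g) (h2 : φ s2 g = g) :
    ∀ a, φ a g = g := by
  apply A3_induction
  · rw [map_one]; rfl
  · intro a ha
    rw [map_mul, MulAut.mul_apply, ha, h3]
  · intro a ha
    rw [map_mul, MulAut.mul_apply, ha, h2]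

end Fixed

section Lift

variable {Γ : Type*} [Group Γ] [Finite Γ]

/-- a coset fixed by `k` and `t` contains an element fixed by both (coprime action) -/
theorem lift_fixed (Y : Subgroup Γ) (k t : Γ) (hk3 : k ^ 3 = 1) (ht2 : t ^ 2 = 1)
    (htk : t * k * t⁻¹ = k⁻¹)
    (hkY : ∀ y ∈ Y, k * y * k⁻¹ ∈ Y) (htY : ∀ y ∈ Y, t * y * t⁻¹ ∈ Y)
    (hcop : (Nat.card Y).Coprime 6) (h : Γ)
    (hk : h⁻¹ * (k * h * k⁻¹) ∈ Y) (ht : h⁻¹ * (t * h * t⁻¹) ∈ Y) :
    ∃ c, k * c * k⁻¹ = c ∧ t * c * t⁻¹ = c ∧ h⁻¹ * c ∈ Y := by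
  have hok : orderOf k ∣ 3 := orderOf_dvd_of_pow_eq_one hk3
  have hot : orderOf t ∣ 2 := orderOf_dvd_of_pow_eq_one ht2
  have hcopk : ∀ Z : Subgroup Γ, Z ≤ Y → (orderOf k).Coprime (Nat.card Z) := by
    intro Z hZ
    have h2 : Nat.card Z ∣ Nat.card Y := Subgroup.card_dvd_of_le hZ
    have h3 : (Nat.card Y).Coprime 3 := Nat.Coprime.coprime_dvd_right (by norm_num) hcop
    exact (Nat.Coprime.coprime_dvd_left h2 (Nat.Coprime.coprime_dvd_right hok h3)).symm
  have hcopt : ∀ Z : Subgroup Γ, Z ≤ Y → (orderOf t).Coprime (Nat.card Z) := by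
    intro Z hZ
    have h2 : Nat.card Z ∣ Nat.card Y := Subgroup.card_dvd_of_le hZ
    have h3 : (Nat.card Y).Coprime 2 := Nat.Coprime.coprime_dvd_right (by norm_num) hcop
    exact (Nat.Coprime.coprime_dvd_left h2 (Nat.Coprime.coprime_dvd_right hot h3)).symm
  obtain ⟨c₁, hkc₁, hc₁Y⟩ := exists_fixed_mem_coset Y k hkY (hcopk Y le_rfl) h hk
  -- conjugation by `t` preserves the centraliser of `k`
  have htfix : ∀ y : Γ, k * y * k⁻¹ = y → k * (t * y * t⁻¹) * k⁻¹ = t * y * t⁻¹ := by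
    intro y hy
    have hy' : k⁻¹ * y * k = y := by
      conv_lhs => rw [← hy]
      group
    have e : k = t * k⁻¹ * t⁻¹ := by
      have : t * k⁻¹ * t⁻¹ = (t * k * t⁻¹)⁻¹ := by group
      rw [this, htk, inv_inv]
    calc k * (t * y * t⁻¹) * k⁻¹ = (t * k⁻¹ * t⁻¹) * (t * y * t⁻¹) * (t * k⁻¹ * t⁻¹)⁻¹ := by
          rw [← e]
      _ = t * (k⁻¹ * y * k) * t⁻¹ := by group
      _ = t * y * t⁻¹ := by rw [hy']
  let Y' : Subgroup Γ :=
    { carrier := {y | y ∈ Y ∧ k * y * k⁻¹ = y}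
      one_mem' := ⟨Y.one_mem, by group⟩
      mul_mem' := by
        rintro a b ⟨ha, ha'⟩ ⟨hb, hb'⟩
        refine ⟨Y.mul_mem ha hb, ?_⟩
        calc k * (a * b) * k⁻¹ = (k * a * k⁻¹) * (k * b * k⁻¹) := by group
          _ = a * b := by rw [ha', hb']
      inv_mem' := by
        rintro a ⟨ha, ha'⟩
        refine ⟨Y.inv_mem ha, ?_⟩
        calc k * a⁻¹ * k⁻¹ = (k * a * k⁻¹)⁻¹ := by group
          _ = a⁻¹ := by rw [ha'] }
  have hY'Y : Y' ≤ Y := fun y hy => hy.1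
  have hmem2 : c₁⁻¹ * (t * c₁ * t⁻¹) ∈ Y' := by
    refine ⟨?_, ?_⟩
    · have e : c₁⁻¹ * (t * c₁ * t⁻¹) =
          (h⁻¹ * c₁)⁻¹ * (h⁻¹ * (t * h * t⁻¹)) * (t * (h⁻¹ * c₁) * t⁻¹) := by group
      rw [e]
      exact Y.mul_mem (Y.mul_mem (Y.inv_mem hc₁Y) ht) (htY _ hc₁Y)
    · calc k * (c₁⁻¹ * (t * c₁ * t⁻¹)) * k⁻¹
          = (k * c₁ * k⁻¹)⁻¹ * (k * (t * c₁ * t⁻¹) * k⁻¹) := by group
        _ = c₁⁻¹ * (t * c₁ * t⁻¹) := by rw [hkc₁, htfix c₁ hkc₁]
  obtain ⟨c, htc, hcY'⟩ := exists_fixed_mem_coset Y' t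
    (fun y hy => ⟨htY y hy.1, htfix y hy.2⟩) (hcopt Y' hY'Y) c₁ hmem2
  refine ⟨c, ?_, htc, ?_⟩
  · have e : c = c₁ * (c₁⁻¹ * c) := by group
    calc k * c * k⁻¹ = k * (c₁ * (c₁⁻¹ * c)) * k⁻¹ := by rw [← e]
      _ = (k * c₁ * k⁻¹) * (k * (c₁⁻¹ * c) * k⁻¹) := by group
      _ = c₁ * (c₁⁻¹ * c) := by rw [hkc₁, hcY'.2]
      _ = c := e.symm
  · have e : h⁻¹ * c = (h⁻¹ * c₁) * (c₁⁻¹ * c) := by group
    rw [e]
    exact Y.mul_mem hc₁Y hcY'.1

end Lift

end Cfsg.Agent.Helper1.S3F
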