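import Mathlib
import Cfsg.Agent.Lib.Helper1.S3FBasic

/-!
# The covering lemma for stabilisers (helper1)

`H ⊴ Γ` of order prime to `6`, `A = ⟨k, t⟩` dihedral of order `6`, `S ≤ Γ` such that every
`H`-conjugate of `A` meets `S` non-trivially.  Then `H ≤ S`, or there is an involution `s` of `A`
all of whose `H`-conjugates lie in `S`, while no `H`-conjugate of `k` does.
-/

set_option autoImplicit false

namespace Cfsg.Agent.Helper1.S3F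

variable {Γ : Type*} [Group Γ]

section Adm

variable (k t : Γ)

/-- the admissible involutions -/
def Adm (s : Γ) : Prop := s = t ∨ s = k * t * k⁻¹ ∨ s = k⁻¹ * t * k

variable {k t}

theorem t_inv (ht2 : t ^ 2 = 1) : t⁻¹ = t := by
  rw [inv_eq_iff_mul_eq_one, ← sq, ht2]

theorem k_inv (hk3 : k ^ 3 = 1) : k⁻¹ = k * k := by
  rw [inv_eq_iff_mul_eq_one, ← hk3, pow_three]

theorem adm_sq (ht2 : t ^ 2 = 1) {s : Γ} (hs : Adm k t s) : s * s = 1 := by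
  have h : t * t = 1 := by rw [← sq, ht2]
  rcases hs with rfl | rfl | rfl
  · exact h
  · calc k * t * k⁻¹ * (k * t * k⁻¹) = k * (t * t) * k⁻¹ := by group
      _ = 1 := by rw [h]; group
  · calc k⁻¹ * t * k * (k⁻¹ * t * k) = k⁻¹ * (t * t) * k := by group
      _ = 1 := by rw [h]; group

theorem adm_inv (ht2 : t ^ 2 = 1) {s : Γ} (hs : Adm k t s) : s⁻¹ = s :=
  inv_eq_of_mul_eq_one_left (adm_sq ht2 hs)

theorem adm_conj (htk : t * k * t⁻¹ = k⁻¹) {s : Γ} (hs : Adm k t s) :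
    s * k * s⁻¹ = k⁻¹ := by
  rcases hs with rfl | rfl | rfl
  · exact htk
  · calc k * t * k⁻¹ * k * (k * t * k⁻¹)⁻¹ = k * (t * k * t⁻¹) * k⁻¹ := by group
      _ = k⁻¹ := by rw [htk]; group
  · calc k⁻¹ * t * k * k * (k⁻¹ * t * k)⁻¹ = k⁻¹ * (t * k * t⁻¹) * k := by group
      _ = k⁻¹ := by rw [htk]; group

/-- `k = s * (k s k⁻¹)`. -/
theorem k_eq_mul (hk3 : k ^ 3 = 1) (ht2 : t ^ 2 = 1) (htk : t * k * t⁻¹ = k⁻¹) {s : Γ}
    (hs : Adm k t s) : k = s * (k * s * k⁻¹) := by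
  have h1 := adm_conj htk hs
  have h2 := adm_inv ht2 hs
  rw [h2] at h1
  -- s k s = k⁻¹
  have h3 : s * k = k⁻¹ * s := by
    have : s * k = (s * k * s) * s⁻¹ := by group
    rw [this, h1, h2]
  calc k = k⁻¹ * k⁻¹ := by
        rw [k_inv hk3]
        have : k * k * (k * k) = k ^ 3 * k := by rw [pow_three]; group
        rw [this, hk3, one_mul]
    _ = k⁻¹ * (s * s) * k⁻¹ := by rw [adm_sq ht2 hs, mul_one]
    _ = (k⁻¹ * s) * s * k⁻¹ := by group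
    _ = s * k * s * k⁻¹ := by rw [← h3]
    _ = s * (k * s * k⁻¹) := by group

end Adm

section Count

variable [Finite Γ] (H S : Subgroup Γ) [hHn : H.Normal]

/-- the elements of `H` conjugating `a` into `S` -/
def TT (a : Γ) : Set Γ := {h | h ∈ H ∧ h⁻¹ * a * h ∈ S}

theorem five_mul_card_le (hcop : (Nat.card H).Coprime 6) (Z : Subgroup Γ) (hZH : Z ≤ H)
    (hne : Z ≠ H) : 5 * Nat.card Z ≤ Nat.card H := by
  obtain ⟨j, hj⟩ := Subgroup.card_dvd_of_le hZH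
  have hpos : 0 < Nat.card H := Nat.card_pos
  have hj1 : j ≠ 1 := by
    rintro rfl
    rw [mul_one] at hj
    exact hne (Subgroup.eq_of_le_of_card_ge hZH hj.le)
  have hjd : j ∣ Nat.card H := ⟨Nat.card Z, by rw [hj, mul_comm]⟩
  have hjc : j.Coprime 6 := Nat.Coprime.coprime_dvd_left hjd hcop
  have hj5 : 5 ≤ j := by
    by_contra hlt
    push Not at hlt
    interval_cases j
    · rw [mul_zero] at hj; omega
    · exact hj1 rfl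
    · exact absurd hjc (by decide)
    · exact absurd hjc (by decide)
    · exact absurd hjc (by decide)
  rw [hj]
  calc 5 * Nat.card Z = Nat.card Z * 5 := mul_comm _ _
    _ ≤ Nat.card Z * j := Nat.mul_le_mul_left _ hj5

theorem card_TT_le (hcop : (Nat.card H).Coprime 6)
    (hYn : ∀ h ∈ H, ∀ y ∈ S, y ∈ H → h * y * h⁻¹ ∈ S) (a : Γ)
    (hna : ¬ ∀ h ∈ H, h⁻¹ * a * h ∈ S) : 5 * (TT H S a).ncard ≤ Nat.card H := by
  by_cases hne : (TT H S a).Nonempty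
  swap
  · rw [Set.not_nonempty_iff_eq_empty.mp hne, Set.ncard_empty]
    exact Nat.zero_le _
  obtain ⟨h₀, hh₀, hh₀S⟩ := hne
  have hcomH : ∀ g ∈ H, a * g * a⁻¹ * g⁻¹ ∈ H := fun g hg =>
    H.mul_mem (hHn.conj_mem g hg a) (H.inv_mem hg)
  let Z : Subgroup Γ :=
    { carrier := {g | g ∈ H ∧ a * g * a⁻¹ * g⁻¹ ∈ S}
      one_mem' := ⟨H.one_mem, by simp⟩
      mul_mem' := by
        rintro g g' ⟨hg, hgS⟩ ⟨hg', hgS'⟩
        refine ⟨H.mul_mem hg hg', ?_⟩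
        have e : a * (g * g') * a⁻¹ * (g * g')⁻¹ =
            (a * g * a⁻¹ * g⁻¹) * (g * (a * g' * a⁻¹ * g'⁻¹) * g⁻¹) := by group
        rw [e]
        exact S.mul_mem hgS (hYn g hg _ hgS' (hcomH g' hg'))
      inv_mem' := by
        rintro g ⟨hg, hgS⟩
        refine ⟨H.inv_mem hg, ?_⟩
        have e : a * g⁻¹ * a⁻¹ * g⁻¹⁻¹ = g⁻¹ * (a * g * a⁻¹ * g⁻¹)⁻¹ * g⁻¹⁻¹ := by group
        rw [e]
        exact hYn g⁻¹ (H.inv_mem hg) _ (S.inv_mem hgS) (H.inv_mem (hcomH g hg)) }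
  have hZH : Z ≤ H := fun g hg => hg.1
  have hsub : TT H S a ⊆ (fun g => g * h₀) '' (Z : Set Γ) := by
    rintro h ⟨hh, hhS⟩
    refine ⟨h * h₀⁻¹, ⟨H.mul_mem hh (H.inv_mem hh₀), ?_⟩, by group⟩
    have e1 : h⁻¹ * (a * (h * h₀⁻¹) * a⁻¹ * (h * h₀⁻¹)⁻¹) * h
        = (h⁻¹ * a * h) * (h₀⁻¹ * a * h₀)⁻¹ := by group
    have h1 : h⁻¹ * (a * (h * h₀⁻¹) * a⁻¹ * (h * h₀⁻¹)⁻¹) * h ∈ S := by
      rw [e1]; exact S.mul_mem hhS (S.inv_mem hh₀S)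
    have hgH : h * h₀⁻¹ ∈ H := H.mul_mem hh (H.inv_mem hh₀)
    have h2 : h⁻¹ * (a * (h * h₀⁻¹) * a⁻¹ * (h * h₀⁻¹)⁻¹) * h ∈ H := by
      have := hHn.conj_mem _ (hcomH _ hgH) h⁻¹
      rwa [inv_inv] at this
    have h3 := hYn h hh _ h1 h2
    have e2 : h * (h⁻¹ * (a * (h * h₀⁻¹) * a⁻¹ * (h * h₀⁻¹)⁻¹) * h) * h⁻¹
        = a * (h * h₀⁻¹) * a⁻¹ * (h * h₀⁻¹)⁻¹ := by group
    rw [e2] at h3
    exact h3
  have hZne : Z ≠ H := by
    intro hZ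
    apply hna
    intro h hh
    have hg : h * h₀⁻¹ ∈ Z := by rw [hZ]; exact H.mul_mem hh (H.inv_mem hh₀)
    have hgS : a * (h * h₀⁻¹) * a⁻¹ * (h * h₀⁻¹)⁻¹ ∈ S := hg.2
    have h1 := hYn h⁻¹ (H.inv_mem hh) _ hgS (hcomH _ hg.1)
    have e : h⁻¹ * a * h
        = (h⁻¹ * (a * (h * h₀⁻¹) * a⁻¹ * (h * h₀⁻¹)⁻¹) * h⁻¹⁻¹) * (h₀⁻¹ * a * h₀) := by group
    rw [e]
    exact S.mul_mem h1 hh₀S
  have h5 := five_mul_card_le H hcop Z hZH hZne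
  have hle : (TT H S a).ncard ≤ Nat.card Z := by
    calc (TT H S a).ncard ≤ ((fun g => g * h₀) '' (Z : Set Γ)).ncard :=
          Set.ncard_le_ncard hsub (Set.toFinite _)
      _ ≤ (Z : Set Γ).ncard := Set.ncard_image_le (Set.toFinite _)
      _ = Nat.card Z := (_root_.Nat.card_coe_set_eq _).symm
  calc 5 * (TT H S a).ncard ≤ 5 * Nat.card Z := Nat.mul_le_mul_left _ hle
    _ ≤ Nat.card H := h5

theorem cover_step (hcop : (Nat.card H).Coprime 6)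
    (hYn : ∀ h ∈ H, ∀ y ∈ S, y ∈ H → h * y * h⁻¹ ∈ S) (a₁ a₂ a₃ a₄ : Γ)
    (hcov : ∀ h ∈ H, h⁻¹ * a₁ * h ∈ S ∨ h⁻¹ * a₂ * h ∈ S ∨ h⁻¹ * a₃ * h ∈ S ∨
      h⁻¹ * a₄ * h ∈ S) :
    (∀ h ∈ H, h⁻¹ * a₁ * h ∈ S) ∨ (∀ h ∈ H, h⁻¹ * a₂ * h ∈ S) ∨
      (∀ h ∈ H, h⁻¹ * a₃ * h ∈ S) ∨ (∀ h ∈ H, h⁻¹ * a₄ * h ∈ S) := by
  by_contra hcon
  push Not at hcon
  obtain ⟨h1, h2, h3, h4⟩ := hcon
  have c1 := card_TT_le H S hcop hYn a₁ (by push Not; exact h1)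
  have c2 := card_TT_le H S hcop hYn a₂ (by push Not; exact h2)
  have c3 := card_TT_le H S hcop hYn a₃ (by push Not; exact h3)
  have c4 := card_TT_le H S hcop hYn a₄ (by push Not; exact h4)
  have hsub : (H : Set Γ) ⊆ TT H S a₁ ∪ TT H S a₂ ∪ TT H S a₃ ∪ TT H S a₄ := by
    intro h hh
    rcases hcov h hh with h' | h' | h' | h'
    · exact Or.inl (Or.inl (Or.inl ⟨hh, h'⟩))
    · exact Or.inl (Or.inl (Or.inr ⟨hh, h'⟩))
    · exact Or.inl (Or.inr ⟨hh, h'⟩)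
    · exact Or.inr ⟨hh, h'⟩
  have hcard : Nat.card H ≤ (TT H S a₁).ncard + (TT H S a₂).ncard + (TT H S a₃).ncard
      + (TT H S a₄).ncard := by
    calc Nat.card H = (H : Set Γ).ncard := _root_.Nat.card_coe_set_eq _
      _ ≤ (TT H S a₁ ∪ TT H S a₂ ∪ TT H S a₃ ∪ TT H S a₄).ncard :=
          Set.ncard_le_ncard hsub (Set.toFinite _)
      _ ≤ (TT H S a₁ ∪ TT H S a₂ ∪ TT H S a₃).ncard + (TT H S a₄).ncard :=
          Set.ncard_union_le _ _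
      _ ≤ (TT H S a₁ ∪ TT H S a₂).ncard + (TT H S a₃).ncard + (TT H S a₄).ncard := by
          gcongr; exact Set.ncard_union_le _ _
      _ ≤ (TT H S a₁).ncard + (TT H S a₂).ncard + (TT H S a₃).ncard + (TT H S a₄).ncard := by
          gcongr; exact Set.ncard_union_le _ _
  have hpos : 0 < Nat.card H := Nat.card_pos
  omega

end Count

section Cover

variable [Finite Γ] (H S D : Subgroup Γ) [hHn : H.Normal] (k t : Γ)

/-- **The covering lemma.** -/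
theorem cover (hk3 : k ^ 3 = 1) (ht2 : t ^ 2 = 1) (htk : t * k * t⁻¹ = k⁻¹)
    (hcop : (Nat.card H).Coprime 6) (hDH : D ≤ H) (hDS : D ≤ S)
    (hcomm : ∀ a ∈ H, ∀ b ∈ H, a * b * a⁻¹ * b⁻¹ ∈ D)
    (hKD : ∀ h ∈ H, h⁻¹ * (k * h * k⁻¹) ∈ D → h ∈ D)
    (hcov : ∀ h ∈ H, h⁻¹ * k * h ∈ S ∨ h⁻¹ * t * h ∈ S ∨ h⁻¹ * (k * t * k⁻¹) * h ∈ S ∨
      h⁻¹ * (k⁻¹ * t * k) * h ∈ S) :
    H ≤ S ∨ ∃ s, Adm k t s ∧ (∀ h ∈ H, h⁻¹ * s * h ∈ S) ∧ (∀ h ∈ H, h⁻¹ * k * h ∉ S) := by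
  have hYn : ∀ h ∈ H, ∀ y ∈ S, y ∈ H → h * y * h⁻¹ ∈ S := by
    intro h hh y hyS hyH
    have e : h * y * h⁻¹ = (h * y * h⁻¹ * y⁻¹) * y := by group
    rw [e]
    exact S.mul_mem (hDS (hcomm h hh y hyH)) hyS
  set Y : Subgroup Γ := S ⊓ H with hY
  have hYH : Y ≤ H := inf_le_right
  have hDY : D ≤ Y := le_inf hDS hDH
  have hcopY : (orderOf k).Coprime (Nat.card Y) := by
    have h1 : orderOf k ∣ 3 := orderOf_dvd_of_pow_eq_one hk3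
    have h2 : Nat.card Y ∣ Nat.card H := Subgroup.card_dvd_of_le hYH
    have h3 : (Nat.card H).Coprime 3 := Nat.Coprime.coprime_dvd_right (by norm_num) hcop
    exact (Nat.Coprime.coprime_dvd_left h2 (Nat.Coprime.coprime_dvd_right h1 h3)).symm
  -- fixed points modulo `Y`
  have fpfY : (∀ y ∈ Y, k * y * k⁻¹ ∈ Y) → ∀ h ∈ H, h⁻¹ * (k * h * k⁻¹) ∈ Y → h ∈ Y := by
    intro heY
    apply fpf_mod H Y k hYH heY hcopY
    intro c hc hck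
    apply hDY
    apply hKD c hc
    rw [hck, inv_mul_cancel]
    exact D.one_mem
  -- conjugation by elements of `S` preserves `Y`
  have hSY : ∀ x ∈ S, ∀ y ∈ Y, x * y * x⁻¹ ∈ Y := by
    intro x hx y hy
    exact ⟨S.mul_mem (S.mul_mem hx hy.1) (S.inv_mem hx), hHn.conj_mem y hy.2 x⟩
  rcases cover_step H S hcop hYn k t (k * t * k⁻¹) (k⁻¹ * t * k) hcov with ha | ha | ha | ha
  · -- all conjugates of `k`
    left
    have hkS : k ∈ S := by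
      have := ha 1 H.one_mem
      simpa using this
    intro h hh
    have h1 : h⁻¹ * (k * h * k⁻¹) ∈ Y := by
      refine ⟨?_, H.mul_mem (H.inv_mem hh) (hHn.conj_mem h hh k)⟩
      have e : h⁻¹ * (k * h * k⁻¹) = (h⁻¹ * k * h) * k⁻¹ := by group
      rw [e]
      exact S.mul_mem (ha h hh) (S.inv_mem hkS)
    exact (fpfY (hSY k hkS) h hh h1).1
  all_goals
    have key : ∀ s, Adm k t s → (∀ h ∈ H, h⁻¹ * s * h ∈ S) →
        H ≤ S ∨ ∃ s, Adm k t s ∧ (∀ h ∈ H, h⁻¹ * s * h ∈ S) ∧ (∀ h ∈ H, h⁻¹ * k * h ∉ S) := by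
      intro s hs hsS
      by_cases hk' : ∀ h ∈ H, h⁻¹ * k * h ∉ S
      · exact Or.inr ⟨s, hs, hsS, hk'⟩
      left
      push Not at hk'
      obtain ⟨h₀, hh₀, hh₀S⟩ := hk'
      have hsS1 : s ∈ S := by
        have := hsS 1 H.one_mem
        simpa using this
      have hsinv := adm_inv ht2 hs
      -- `k` normalises `Y`
      have hkY : ∀ y ∈ Y, k * y * k⁻¹ ∈ Y := by
        intro y hy
        have h1 : h₀⁻¹ * y * h₀⁻¹⁻¹ ∈ Y :=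
          ⟨hYn h₀⁻¹ (H.inv_mem hh₀) y hy.1 hy.2, hHn.conj_mem y hy.2 _⟩
        have h2 := hSY _ hh₀S _ h1
        have h3 : h₀ * ((h₀⁻¹ * k * h₀) * (h₀⁻¹ * y * h₀⁻¹⁻¹) * (h₀⁻¹ * k * h₀)⁻¹) * h₀⁻¹ ∈ Y :=
          ⟨hYn h₀ hh₀ _ h2.1 h2.2, hHn.conj_mem _ h2.2 _⟩
        have e : h₀ * ((h₀⁻¹ * k * h₀) * (h₀⁻¹ * y * h₀⁻¹⁻¹) * (h₀⁻¹ * k * h₀)⁻¹) * h₀⁻¹
            = k * y * k⁻¹ := by group
        rw [e] at h3
        exact h3
      -- `s` is trivial modulo `Y`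
      have hs1 : ∀ g ∈ H, g⁻¹ * (s * g * s⁻¹) ∈ Y := by
        intro g hg
        refine ⟨?_, H.mul_mem (H.inv_mem hg) (hHn.conj_mem g hg s)⟩
        have e : g⁻¹ * (s * g * s⁻¹) = (g⁻¹ * s * g) * s⁻¹ := by group
        rw [e]
        exact S.mul_mem (hsS g hg) (S.inv_mem hsS1)
      -- so is `k s k⁻¹`
      have hs2 : ∀ g ∈ H, g⁻¹ * ((k * s * k⁻¹) * g * (k * s * k⁻¹)⁻¹) ∈ Y := by
        intro g hg
        have hg' : k⁻¹ * g * k⁻¹⁻¹ ∈ H := hHn.conj_mem g hg k⁻¹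
        have h1 := hkY _ (hs1 _ hg')
        have e : k * ((k⁻¹ * g * k⁻¹⁻¹)⁻¹ * (s * (k⁻¹ * g * k⁻¹⁻¹) * s⁻¹)) * k⁻¹
            = g⁻¹ * ((k * s * k⁻¹) * g * (k * s * k⁻¹)⁻¹) := by group
        rw [e] at h1
        exact h1
      -- hence so is `k`
      have hk1 : ∀ g ∈ H, g⁻¹ * (k * g * k⁻¹) ∈ Y := by
        intro g hg
        have e0 := k_eq_mul hk3 ht2 htk hs
        have e : g⁻¹ * (k * g * k⁻¹)
            = (g⁻¹ * (s * g * s⁻¹)) *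
              (s * (g⁻¹ * ((k * s * k⁻¹) * g * (k * s * k⁻¹)⁻¹)) * s⁻¹) := by
          have e1 : (g⁻¹ * (s * g * s⁻¹)) *
              (s * (g⁻¹ * ((k * s * k⁻¹) * g * (k * s * k⁻¹)⁻¹)) * s⁻¹)
              = g⁻¹ * ((s * (k * s * k⁻¹)) * g * (s * (k * s * k⁻¹))⁻¹) := by group
          rw [e1, ← e0]
        rw [e]
        exact Y.mul_mem (hs1 g hg) (hSY s hsS1 _ (hs2 g hg))
      intro g hg
      exact (fpfY hkY g hg (hk1 g hg)).1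
    first
      | exact key t (Or.inl rfl) ha
      | exact key (k * t * k⁻¹) (Or.inr (Or.inl rfl)) ha
      | exact key (k⁻¹ * t * k) (Or.inr (Or.inr rfl)) ha

end Cover

end Cfsg.Agent.Helper1.S3F
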