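import Mathlib
import Cfsg.Agent.Lib.Helper1.S3FCover
import Cfsg.Agent.Lib.Helper8.HHLin2

/-!
# Weights of an abelian normal subgroup under a dihedral group of order six (helper1)

Wrappers around helper8's weight projections `wproj`, and the consequences of the absence of
common fixed vectors of `k` and `t`.
-/

set_option autoImplicit false
set_option linter.unusedSectionVars false

namespace Cfsg.Agent.Helper1.S3F

open Cfsg.Agent.Helper8.FrobLin Cfsg.Agent.Helper8.HHLin Cfsg.Agent.Helper1.GH4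
open scoped Classical

attribute [local instance] dualAct

section Weight

variable {F : Type*} [Field F] [IsAlgClosed F] {Γ : Type*} [Group Γ] [Finite Γ]
  {W : Type*} [AddCommGroup W] [Module F W]
  (ρ : Representation F Γ W) (D : Subgroup Γ) [D.Normal] [Fintype ↥D]

/-- characters of `D` -/
abbrev Ch (F : Type*) [Field F] (D : Subgroup Γ) : Type _ :=
  (↥D ⧸ (⊥ : Subgroup Γ).subgroupOf D) →* Fˣ

/-- the weight space -/
noncomputable def Wt (χ : Ch F D) : Submodule F W := LinearMap.range (wproj ρ D ⊥ χ)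

/-- evaluation of a character -/
def ev (χ : Ch F D) (d : ↥D) : F := ((χ (QuotientGroup.mk d) : Fˣ) : F)

theorem mem_Wt (hDF : (Nat.card ↥D : F) ≠ 0) (χ : Ch F D) (w : W) :
    w ∈ Wt ρ D χ ↔ ∀ d : ↥D, ρ (d : Γ) w = ev D χ d • w :=
  mem_range_wproj ρ D ⊥ hDF χ w

theorem smul_mk (g : Γ) (χ : Ch F D) (d : ↥D) :
    (g • χ) (QuotientGroup.mk d) = χ (QuotientGroup.mk (MulAut.conjNormal g⁻¹ d)) := by
  show χ (kap D ⊥ g⁻¹ (QuotientGroup.mk d)) = _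
  rw [kap_mk]

theorem rho_mem_Wt (g : Γ) {χ : Ch F D} {w : W} (hw : w ∈ Wt ρ D χ) :
    ρ g w ∈ Wt ρ D (g • χ) := by
  obtain ⟨v, rfl⟩ := hw
  exact ⟨ρ g v, (wproj_equi ρ D ⊥ g χ v).symm⟩

theorem wproj_of_mem (hDF : (Nat.card ↥D : F) ≠ 0) {χ : Ch F D} {w : W}
    (hw : w ∈ Wt ρ D χ) : wproj ρ D ⊥ χ w = w := by
  obtain ⟨v, rfl⟩ := hw
  rw [wproj_orth ρ D ⊥ hDF, if_pos rfl]

theorem wproj_of_mem_ne (hDF : (Nat.card ↥D : F) ≠ 0) {χ χ' : Ch F D} (hne : χ' ≠ χ) {w : W}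
    (hw : w ∈ Wt ρ D χ) : wproj ρ D ⊥ χ' w = 0 := by
  obtain ⟨v, rfl⟩ := hw
  rw [wproj_orth ρ D ⊥ hDF, if_neg hne]

theorem wproj_rho (hDF : (Nat.card ↥D : F) ≠ 0) {χ : Ch F D} {w : W}
    (hw : w ∈ Wt ρ D χ) (g : Γ) :
    wproj ρ D ⊥ χ (ρ g w) = if g • χ = χ then ρ g w else 0 := by
  have h1 := rho_mem_Wt ρ D g hw
  by_cases h : g • χ = χ
  · rw [if_pos h]
    rw [h] at h1
    exact wproj_of_mem ρ D hDF h1
  · rw [if_neg h]
    exact wproj_of_mem_ne ρ D hDF (fun h' => h h'.symm) h1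

theorem eq_zero_of_mem_of_mem (hDF : (Nat.card ↥D : F) ≠ 0) {χ χ' : Ch F D} (hne : χ' ≠ χ)
    {w : W} (hw : w ∈ Wt ρ D χ) (hw' : w ∈ Wt ρ D χ') : w = 0 := by
  rw [← wproj_of_mem ρ D hDF hw']
  exact wproj_of_mem_ne ρ D hDF hne hw

theorem sum_wproj [Fintype (Ch F D)] (hDab : ∀ a ∈ D, ∀ b ∈ D, a * b = b * a)
    (hDF : (Nat.card ↥D : F) ≠ 0) (w : W) : ∑ χ : Ch F D, wproj ρ D ⊥ χ w = w := by
  have hcomm : ∀ a ∈ D, ∀ b ∈ D, a * b * a⁻¹ * b⁻¹ ∈ (⊥ : Subgroup Γ) := by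
    intro a ha b hb
    rw [Subgroup.mem_bot, hDab a ha b hb]
    group
  have hv : w ∈ fixedBy ρ (⊥ : Subgroup Γ) := by
    rw [mem_fixedBy]
    intro x hx
    rw [Subgroup.mem_bot] at hx
    rw [hx, map_one]
    rfl
  have h1 := sum_upr_of_fixed ρ D ⊥ bot_le hcomm hDF hv
  simp only [wproj_apply]
  rw [← Finset.smul_sum, h1, smul_smul, inv_mul_cancel₀ (card_ne_zero D hDF), one_smul]

theorem rho_eq_one_of_Wt [Fintype (Ch F D)] (hDab : ∀ a ∈ D, ∀ b ∈ D, a * b = b * a)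
    (hDF : (Nat.card ↥D : F) ≠ 0) (g : Γ)
    (h : ∀ χ : Ch F D, ∀ w ∈ Wt ρ D χ, ρ g w = w) : ρ g = 1 := by
  apply LinearMap.ext
  intro w
  conv_lhs => rw [← sum_wproj ρ D hDab hDF w]
  rw [map_sum, Finset.sum_congr rfl (fun χ _ => h χ _ ⟨w, rfl⟩), sum_wproj ρ D hDab hDF w]
  rfl

theorem smul_eq_iff (g : Γ) (χ : Ch F D) :
    g • χ = χ ↔
      ∀ d : ↥D, χ (QuotientGroup.mk (MulAut.conjNormal g⁻¹ d)) = χ (QuotientGroup.mk d) := by
  constructor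
  · intro h d
    rw [← smul_mk, h]
  · intro h
    apply MonoidHom.ext
    intro a
    obtain ⟨d, rfl⟩ := QuotientGroup.mk_surjective a
    rw [smul_mk]
    exact h d

theorem smul_inv_eq {g : Γ} {χ : Ch F D} (h : g • χ = χ) : g⁻¹ • χ = χ := by
  rw [inv_smul_eq_iff, h]

/-- an element of `D` acts on a weight space by the scalar given by the weight -/
theorem rho_D_apply (hDF : (Nat.card ↥D : F) ≠ 0) {χ : Ch F D} {w : W} (hw : w ∈ Wt ρ D χ)
    (d : ↥D) : ρ (d : Γ) w = ev D χ d • w :=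
  (mem_Wt ρ D hDF χ w).mp hw d

theorem exists_ne_zero_of_ne_bot {χ : Ch F D} (h : Wt ρ D χ ≠ ⊥) :
    ∃ w ∈ Wt ρ D χ, w ≠ 0 := by
  by_contra hcon
  push Not at hcon
  apply h
  rw [eq_bot_iff]
  intro w hw
  rw [Submodule.mem_bot]
  exact hcon w hw

end Weight

section Setup

variable {F : Type*} [Field F] [IsAlgClosed F] {Γ : Type*} [Group Γ] [Finite Γ]
  {W : Type*} [AddCommGroup W] [Module F W]

/-- the standing hypotheses -/
structure Setup (ρ : Representation F Γ W) (H D : Subgroup Γ) (k t : Γ) : Prop where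
  hk3 : k ^ 3 = 1
  ht2 : t ^ 2 = 1
  htk : t * k * t⁻¹ = k⁻¹
  hcop : (Nat.card H).Coprime 6
  hCA : ∀ h ∈ H, k * h * k⁻¹ = h → t * h * t⁻¹ = h → h = 1
  hWA : ∀ w : W, ρ k w = w → ρ t w = w → w = 0
  hfaith : ∀ h ∈ H, ρ h = 1 → h = 1
  hDH : D ≤ H
  hcomm : ∀ a ∈ H, ∀ b ∈ H, a * b * a⁻¹ * b⁻¹ ∈ D
  hDab : ∀ a ∈ D, ∀ b ∈ D, a * b = b * a
  hDF : (Nat.card ↥D : F) ≠ 0
  h2 : (2 : F) ≠ 0
  h3 : (3 : F) ≠ 0

variable {ρ : Representation F Γ W} {H D : Subgroup Γ} {k t : Γ}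

namespace Setup

variable (S : Setup ρ H D k t)
include S

theorem kk : k * k = k⁻¹ := (k_inv S.hk3).symm

theorem kikI : k⁻¹ * k⁻¹ = k := by
  have h := S.kk
  calc k⁻¹ * k⁻¹ = k⁻¹ * (k * k) := by rw [h]
    _ = k := by group

theorem tt : t * t = 1 := by rw [← sq, S.ht2]

theorem tinv : t⁻¹ = t := t_inv S.ht2

theorem tk : t * k = k⁻¹ * t := by
  have : t * k = (t * k * t⁻¹) * t := by group
  rw [this, S.htk]

theorem tki : t * k⁻¹ = k * t := by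
  have h : t * k⁻¹ * t⁻¹ = k := by
    have : t * k⁻¹ * t⁻¹ = (t * k * t⁻¹)⁻¹ := by group
    rw [this, S.htk, inv_inv]
  have : t * k⁻¹ = (t * k⁻¹ * t⁻¹) * t := by group
  rw [this, h]

theorem kt_eq : k * t = k⁻¹ * t * k := by
  rw [mul_assoc, S.tk, ← mul_assoc, S.kikI]

theorem kit_eq : k⁻¹ * t = k * t * k⁻¹ := by
  rw [mul_assoc, S.tki, ← mul_assoc, S.kk]

theorem rho_mul (a b : Γ) (w : W) : ρ (a * b) w = ρ a (ρ b w) := by
  rw [map_mul]; rfl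

/-- the trace of a vector over the six elements -/
theorem trace_fixed (w : W) :
    ρ k (w + ρ k w + ρ k⁻¹ w + ρ t w + ρ (k * t) w + ρ (k⁻¹ * t) w)
      = w + ρ k w + ρ k⁻¹ w + ρ t w + ρ (k * t) w + ρ (k⁻¹ * t) w ∧
    ρ t (w + ρ k w + ρ k⁻¹ w + ρ t w + ρ (k * t) w + ρ (k⁻¹ * t) w)
      = w + ρ k w + ρ k⁻¹ w + ρ t w + ρ (k * t) w + ρ (k⁻¹ * t) w := by
  have e1 : ρ k (ρ k w) = ρ k⁻¹ w := by rw [← rho_mul S, S.kk]
  have e2 : ρ k (ρ k⁻¹ w) = w := by rw [← rho_mul S, mul_inv_cancel, map_one]; rfl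
  have e3 : ρ k (ρ t w) = ρ (k * t) w := by rw [← rho_mul S]
  have e4 : ρ k (ρ (k * t) w) = ρ (k⁻¹ * t) w := by rw [← rho_mul S, ← mul_assoc, S.kk]
  have e5 : ρ k (ρ (k⁻¹ * t) w) = ρ t w := by
    rw [← rho_mul S, ← mul_assoc, mul_inv_cancel, one_mul]
  have f1 : ρ t (ρ k w) = ρ (k⁻¹ * t) w := by rw [← rho_mul S, S.tk]
  have f2 : ρ t (ρ k⁻¹ w) = ρ (k * t) w := by rw [← rho_mul S, S.tki]
  have f3 : ρ t (ρ t w) = w := by rw [← rho_mul S, S.tt, map_one]; rfl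
  have f4 : ρ t (ρ (k * t) w) = ρ k⁻¹ w := by
    rw [← rho_mul S, ← mul_assoc, S.tk, mul_assoc, S.tt, mul_one]
  have f5 : ρ t (ρ (k⁻¹ * t) w) = ρ k w := by
    rw [← rho_mul S, ← mul_assoc, S.tki, mul_assoc, S.tt, mul_one]
  constructor
  · simp only [map_add, e1, e2, e3, e4, e5]
    abel
  · simp only [map_add, f1, f2, f3, f4, f5]
    abel

variable [D.Normal] [Fintype ↥D]

theorem trace_zero (χ : Ch F D) {w : W} (hw : w ∈ Wt ρ D χ) :
    w + (if k • χ = χ then ρ k w else 0) + (if k⁻¹ • χ = χ then ρ k⁻¹ w else 0)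
      + (if t • χ = χ then ρ t w else 0) + (if (k * t) • χ = χ then ρ (k * t) w else 0)
      + (if (k⁻¹ * t) • χ = χ then ρ (k⁻¹ * t) w else 0) = 0 := by
  obtain ⟨h1, h2⟩ := S.trace_fixed w
  have h0 := S.hWA _ h1 h2
  have h3 := congrArg (wproj ρ D ⊥ χ) h0
  rw [map_zero] at h3
  simp only [map_add] at h3
  rw [wproj_of_mem ρ D S.hDF hw, wproj_rho ρ D S.hDF hw, wproj_rho ρ D S.hDF hw,
    wproj_rho ρ D S.hDF hw, wproj_rho ρ D S.hDF hw, wproj_rho ρ D S.hDF hw] at h3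
  exact h3

theorem ki_smul_iff (χ : Ch F D) : k⁻¹ • χ = χ ↔ k • χ = χ := by
  constructor
  · intro h
    have := smul_inv_eq D h
    rwa [inv_inv] at this
  · exact smul_inv_eq D

/-- every weight is fixed by some non-trivial element -/
theorem exists_fix {χ : Ch F D} (hχ : Wt ρ D χ ≠ ⊥) :
    k • χ = χ ∨ t • χ = χ ∨ (k * t * k⁻¹) • χ = χ ∨ (k⁻¹ * t * k) • χ = χ := by
  by_contra hcon
  push Not at hcon
  obtain ⟨c1, c2, c3, c4⟩ := hcon
  obtain ⟨w, hw, hw0⟩ := exists_ne_zero_of_ne_bot ρ D hχ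
  have h := S.trace_zero χ hw
  rw [← S.kit_eq] at c3
  rw [← S.kt_eq] at c4
  have c1' : ¬ k⁻¹ • χ = χ := fun h' => c1 ((S.ki_smul_iff χ).mp h')
  rw [if_neg c1, if_neg c1', if_neg c2, if_neg c4, if_neg c3] at h
  simp only [add_zero] at h
  exact hw0 h

/-- an admissible involution fixing a weight not fixed by `k` acts as `-1` on the weight space -/
theorem neg_of_fix {χ : Ch F D} {s : Γ} (hs : Adm k t s) (hsχ : s • χ = χ) (hkχ : k • χ ≠ χ)
    {w : W} (hw : w ∈ Wt ρ D χ) : ρ s w = -w := by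
  have h := S.trace_zero χ hw
  have c1' : ¬ k⁻¹ • χ = χ := fun h' => hkχ ((S.ki_smul_iff χ).mp h')
  rw [if_neg hkχ, if_neg c1'] at h
  -- two distinct involutions fixing the weight would force `k` to fix it
  have key : ∀ a b : Γ, a • χ = χ → b • χ = χ → (a * b = k ∨ a * b = k⁻¹) → False := by
    intro a b ha hb hab
    have h1 : (a * b) • χ = χ := by rw [mul_smul, hb, ha]
    rcases hab with e | e
    · rw [e] at h1; exact hkχ h1
    · rw [e] at h1; exact c1' h1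
  have p1 : t * (k * t) = k⁻¹ := by rw [← mul_assoc, S.tk, mul_assoc, S.tt, mul_one]
  have p2 : t * (k⁻¹ * t) = k := by rw [← mul_assoc, S.tki, mul_assoc, S.tt, mul_one]
  have p3 : (k * t) * (k⁻¹ * t) = k⁻¹ := by
    rw [mul_assoc, p2, S.kk]
  rcases hs with hs | hs | hs
  · rw [hs] at hsχ ⊢
    have n1 : ¬ (k * t) • χ = χ := fun h' => key _ _ hsχ h' (Or.inr p1)
    have n2 : ¬ (k⁻¹ * t) • χ = χ := fun h' => key _ _ hsχ h' (Or.inl p2)
    rw [if_pos hsχ, if_neg n1, if_neg n2] at h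
    simp only [add_zero] at h
    rw [eq_neg_iff_add_eq_zero, add_comm]; exact h
  · rw [hs] at hsχ ⊢
    rw [← S.kit_eq] at hsχ ⊢
    have n1 : ¬ t • χ = χ := fun h' => key _ _ h' hsχ (Or.inl p2)
    have n2 : ¬ (k * t) • χ = χ := fun h' => key _ _ h' hsχ (Or.inr p3)
    rw [if_neg n1, if_neg n2, if_pos hsχ] at h
    simp only [add_zero] at h
    rw [eq_neg_iff_add_eq_zero, add_comm]; exact h
  · rw [hs] at hsχ ⊢
    rw [← S.kt_eq] at hsχ ⊢
    have n1 : ¬ t • χ = χ := fun h' => key _ _ h' hsχ (Or.inr p1)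
    have n2 : ¬ (k⁻¹ * t) • χ = χ := fun h' => key _ _ hsχ h' (Or.inr p3)
    rw [if_neg n1, if_pos hsχ, if_neg n2] at h
    simp only [add_zero] at h
    rw [eq_neg_iff_add_eq_zero, add_comm]; exact h

/-- if only `k` fixes the weight, `k` has no fixed vectors on the weight space -/
theorem eq_zero_of_fixK {χ : Ch F D} (hkχ : k • χ = χ)
    (hno : ∀ s, Adm k t s → s • χ ≠ χ) {w : W} (hw : w ∈ Wt ρ D χ) (hkw : ρ k w = w) :
    w = 0 := by
  have h := S.trace_zero χ hw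
  have c1' : k⁻¹ • χ = χ := (S.ki_smul_iff χ).mpr hkχ
  have n1 : ¬ t • χ = χ := hno t (Or.inl rfl)
  have n2 : ¬ (k * t) • χ = χ := by
    rw [S.kt_eq]; exact hno _ (Or.inr (Or.inr rfl))
  have n3 : ¬ (k⁻¹ * t) • χ = χ := by
    rw [S.kit_eq]; exact hno _ (Or.inr (Or.inl rfl))
  have hkiw : ρ k⁻¹ w = w := by
    conv_lhs => rw [← hkw]
    rw [← rho_mul S, inv_mul_cancel, map_one]; rfl
  rw [if_pos hkχ, if_pos c1', if_neg n1, if_neg n2, if_neg n3, hkw, hkiw] at h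
  simp only [add_zero] at h
  have h3 : (3 : F) • w = 0 := by
    rw [show (3 : F) = 1 + 1 + 1 by norm_num, add_smul, add_smul, one_smul]
    exact h
  rcases smul_eq_zero.mp h3 with h' | h'
  · exact absurd h' S.h3
  · exact h'

end Setup

end Setup

end Cfsg.Agent.Helper1.S3F
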