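import Mathlib
import Cfsg.Agent.Lib.Helper1.S3FWeight

/-!
# The centraliser of `k` and the case where `k` centralises `H / D` (helper1)
-/

set_option autoImplicit false
set_option linter.unusedSectionVars false

namespace Cfsg.Agent.Helper1.S3F

open Cfsg.Agent.Helper8.FrobLin Cfsg.Agent.Helper8.HHLin Cfsg.Agent.Helper1.GH4
open scoped Classical

attribute [local instance] dualAct

variable {F : Type*} [Field F] [IsAlgClosed F] {Γ : Type*} [Group Γ] [Finite Γ]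
  {W : Type*} [AddCommGroup W] [Module F W]
  {ρ : Representation F Γ W} {H D : Subgroup Γ} {k t : Γ}

namespace Setup

variable (S : Setup ρ H D k t)
include S

theorem rho_pow_fix {x : Γ} {u : W} (h : ρ x u = u) (m : ℕ) : ρ (x ^ m) u = u := by
  induction m with
  | zero => rw [pow_zero, map_one]; rfl
  | succ m ih => rw [pow_succ, rho_mul S, h, ih]

/-- `t` acts as `-1` on the fixed vectors of `k` -/
theorem rho_t_neg {u : W} (hu : ρ k u = u) : ρ t u = -u := by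
  have hki : ρ k⁻¹ u = u := by
    conv_lhs => rw [← hu]
    rw [← rho_mul S, inv_mul_cancel, map_one]; rfl
  have h1 : ρ k (u + ρ t u) = u + ρ t u := by
    rw [map_add, hu, ← rho_mul S, ← S.tki, rho_mul S, hki]
  have h2 : ρ t (u + ρ t u) = u + ρ t u := by
    rw [map_add, ← rho_mul S t t, S.tt, map_one, add_comm]; rfl
  have h3 := S.hWA _ h1 h2
  rw [eq_neg_iff_add_eq_zero, add_comm]
  exact h3

variable [hHn : H.Normal]

/-- the centraliser of `k` in `H` -/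
def CK (H : Subgroup Γ) (k : Γ) : Subgroup Γ := H ⊓ Subgroup.centralizer {k}

omit S in
theorem mem_CK {c : Γ} : c ∈ CK H k ↔ c ∈ H ∧ k * c * k⁻¹ = c := by
  unfold CK
  rw [Subgroup.mem_inf, Subgroup.mem_centralizer_iff]
  constructor
  · rintro ⟨h1, h2⟩
    refine ⟨h1, ?_⟩
    rw [h2 k rfl, mul_inv_cancel_right]
  · rintro ⟨h1, h2⟩
    refine ⟨h1, ?_⟩
    intro g hg
    rw [Set.mem_singleton_iff] at hg
    rw [hg]
    conv_rhs => rw [← h2]
    group

theorem CK_conj_t : ∀ x ∈ CK H k, MulAut.conj t x ∈ CK H k := by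
  intro x hx
  rw [mem_CK] at hx ⊢
  rw [MulAut.conj_apply]
  refine ⟨hHn.conj_mem x hx.1 t, ?_⟩
  have e : k * (t * x * t⁻¹) * k⁻¹ = t * (k⁻¹ * x * k⁻¹⁻¹) * t⁻¹ := by
    have h1 : k * t = t * k⁻¹ := S.tki.symm
    calc k * (t * x * t⁻¹) * k⁻¹ = (k * t) * x * (k * t)⁻¹ := by group
      _ = (t * k⁻¹) * x * (t * k⁻¹)⁻¹ := by rw [h1]
      _ = t * (k⁻¹ * x * k⁻¹⁻¹) * t⁻¹ := by group
  rw [e]
  have h2 : k⁻¹ * x * k⁻¹⁻¹ = x := by
    conv_lhs => rw [← hx.2]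
    group
  rw [h2]

theorem CK_fpf : ∀ x ∈ CK H k, MulAut.conj t x = x → x = 1 := by
  intro x hx h
  rw [mem_CK] at hx
  exact S.hCA x hx.1 hx.2 h

theorem CK_sq : ∀ x ∈ CK H k, MulAut.conj t (MulAut.conj t x) = x := by
  intro x _
  rw [MulAut.conj_apply, MulAut.conj_apply]
  calc t * (t * x * t⁻¹) * t⁻¹ = (t * t) * x * (t * t)⁻¹ := by group
    _ = x := by rw [S.tt]; group

/-- `t` inverts the centraliser of `k` -/
theorem conj_t_inv {c : Γ} (hc : c ∈ H) (hkc : k * c * k⁻¹ = c) : t * c * t⁻¹ = c⁻¹ := by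
  have h := inv_of_sq (CK H k) (MulAut.conj t) S.CK_conj_t S.CK_fpf S.CK_sq c
    (mem_CK.mpr ⟨hc, hkc⟩)
  rwa [MulAut.conj_apply] at h

/-- the centraliser of `k` is abelian -/
theorem CK_comm : ∀ x ∈ CK H k, ∀ y ∈ CK H k, x * y = y * x :=
  comm_of_sq (CK H k) (MulAut.conj t) S.CK_conj_t S.CK_fpf S.CK_sq

/-- elements of `H` centralising `k` act trivially on the fixed vectors of `k` -/
theorem rho_fixK {c : Γ} (hc : c ∈ H) (hkc : k * c * k⁻¹ = c) {u : W} (hu : ρ k u = u) :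
    ρ c u = u := by
  have h1 := S.rho_t_neg hu
  have hkc' : k * c = c * k := by
    conv_rhs => rw [← hkc]
    group
  have h2 : ρ k (ρ c u) = ρ c u := by
    rw [← rho_mul S, hkc', rho_mul S, hu]
  have h3 := S.rho_t_neg h2
  have h4 : ρ c⁻¹ u = ρ c u := by
    rw [← S.conj_t_inv hc hkc, rho_mul S, rho_mul S, S.tinv, h1, map_neg, map_neg, h3, neg_neg]
  have h5 : ρ (c ^ 2) u = u := by
    rw [sq, rho_mul S, ← h4, ← rho_mul S, mul_inv_cancel, map_one]; rfl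
  have hcop2 : (2 : ℕ).Coprime (orderOf c) := by
    have h1 : orderOf c ∣ Nat.card H := Subgroup.orderOf_dvd_natCard H hc
    have h2 : (Nat.card H).Coprime 2 := Nat.Coprime.coprime_dvd_right (by norm_num) S.hcop
    exact (Nat.Coprime.coprime_dvd_left h1 h2).symm
  obtain ⟨m, hm⟩ := exists_pow_eq_self_of_coprime hcop2
  rw [← hm]
  exact S.rho_pow_fix h5 m

omit hHn in
theorem orderOf_k_dvd : orderOf k ∣ 3 := orderOf_dvd_of_pow_eq_one S.hk3

omit hHn in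
theorem coprime_three {x : Γ} (hx : x ∈ H) : (3 : ℕ).Coprime (orderOf x) := by
  have h1 : orderOf x ∣ Nat.card H := Subgroup.orderOf_dvd_natCard H hx
  have h2 : (Nat.card H).Coprime 3 := Nat.Coprime.coprime_dvd_right (by norm_num) S.hcop
  exact (Nat.Coprime.coprime_dvd_left h1 h2).symm

omit hHn in
theorem coprime_k_sub (Y : Subgroup Γ) (hYH : Y ≤ H) : (orderOf k).Coprime (Nat.card Y) := by
  have h2 : Nat.card Y ∣ Nat.card H := Subgroup.card_dvd_of_le hYH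
  have h3 : (Nat.card H).Coprime 3 := Nat.Coprime.coprime_dvd_right (by norm_num) S.hcop
  exact (Nat.Coprime.coprime_dvd_left h2 (Nat.Coprime.coprime_dvd_right S.orderOf_k_dvd h3)).symm

variable [hDn : D.Normal] [Fintype ↥D] [Fintype (Ch F D)]

/-- an element of `H` centralising `k` fixes every weight not fixed by `k` -/
theorem CK_fix_of_not_fix {c : Γ} (hc : c ∈ H) (hkc : k * c * k⁻¹ = c) {χ : Ch F D}
    (hχ : Wt ρ D χ ≠ ⊥) (hkχ : k • χ ≠ χ) : c • χ = χ := by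
  obtain ⟨w, hw, hw0⟩ := exists_ne_zero_of_ne_bot ρ D hχ
  have hkc' : k * c = c * k := by
    conv_rhs => rw [← hkc]
    group
  have hkic : k⁻¹ * c = c * k⁻¹ := by
    calc k⁻¹ * c = k⁻¹ * (c * k) * k⁻¹ := by group
      _ = k⁻¹ * (k * c) * k⁻¹ := by rw [hkc']
      _ = c * k⁻¹ := by group
  have hu : ρ k (w + ρ k w + ρ k⁻¹ w) = w + ρ k w + ρ k⁻¹ w := by
    rw [map_add, map_add, ← rho_mul S k k, S.kk, ← rho_mul S k k⁻¹, mul_inv_cancel, map_one]
    show ρ k w + ρ k⁻¹ w + w = _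
    abel
  have h1 := S.rho_fixK hc hkc hu
  rw [map_add, map_add, ← rho_mul S c k, ← hkc', rho_mul S, ← rho_mul S c k⁻¹, ← hkic,
    rho_mul S] at h1
  -- project to the weight `c • χ`
  have hcw := rho_mem_Wt ρ D c hw
  have h2 := congrArg (wproj ρ D ⊥ (c • χ)) h1
  simp only [map_add] at h2
  have hne1 : k • (c • χ) ≠ c • χ := by
    intro h
    apply hkχ
    rw [← mul_smul, hkc', mul_smul] at h
    exact smul_left_cancel c h
  have hne2 : k⁻¹ • (c • χ) ≠ c • χ := fun h => hne1 ((S.ki_smul_iff _).mp h)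
  rw [wproj_of_mem ρ D S.hDF hcw, wproj_rho ρ D S.hDF hcw, if_neg hne1,
    wproj_rho ρ D S.hDF hcw, if_neg hne2, add_zero, add_zero] at h2
  -- the stabiliser
  have hstab : ∀ g : Γ, g * c = c * g → c • χ = g • χ → (g = k ∨ g = k⁻¹) → False := by
    intro g hgc hcg hg
    have hm : c⁻¹ * g ∈ MulAction.stabilizer Γ χ := by
      rw [MulAction.mem_stabilizer_iff, mul_smul, ← hcg, inv_smul_smul]
    have hcomm' : Commute c⁻¹ g := by
      show c⁻¹ * g = g * c⁻¹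
      calc c⁻¹ * g = c⁻¹ * (g * c) * c⁻¹ := by group
        _ = c⁻¹ * (c * g) * c⁻¹ := by rw [hgc]
        _ = g * c⁻¹ := by group
    have hm2 := Subgroup.pow_mem _ hm (orderOf c)
    rw [hcomm'.mul_pow, inv_pow, pow_orderOf_eq_one, inv_one, one_mul] at hm2
    have hcopg : (orderOf c).Coprime (orderOf g) := by
      have h3 : orderOf g ∣ 3 := by
        rcases hg with rfl | rfl
        · exact S.orderOf_k_dvd
        · rw [orderOf_inv]; exact S.orderOf_k_dvd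
      exact Nat.Coprime.coprime_dvd_right h3 (S.coprime_three hc).symm
    obtain ⟨j, hj⟩ := exists_pow_eq_self_of_coprime hcopg
    have hm3 := Subgroup.pow_mem _ hm2 j
    rw [hj, MulAction.mem_stabilizer_iff] at hm3
    rcases hg with rfl | rfl
    · exact hkχ hm3
    · exact hkχ ((S.ki_smul_iff _).mp hm3)
  by_contra hcχ
  have hw1 : wproj ρ D ⊥ (c • χ) w = 0 := wproj_of_mem_ne ρ D S.hDF hcχ hw
  have hw2 : wproj ρ D ⊥ (c • χ) (ρ k w) = 0 := by
    apply wproj_of_mem_ne ρ D S.hDF _ (rho_mem_Wt ρ D k hw)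
    intro h
    exact hstab k hkc' h (Or.inl rfl)
  have hw3 : wproj ρ D ⊥ (c • χ) (ρ k⁻¹ w) = 0 := by
    apply wproj_of_mem_ne ρ D S.hDF _ (rho_mem_Wt ρ D k⁻¹ hw)
    intro h
    exact hstab k⁻¹ hkic h (Or.inr rfl)
  rw [hw1, hw2, hw3, add_zero, add_zero] at h2
  apply hw0
  have : ρ c⁻¹ (ρ c w) = 0 := by rw [h2, map_zero]
  rwa [← rho_mul S, inv_mul_cancel, map_one] at this

/-- an element of `H` centralising `k` fixes every weight fixed by `k` -/
theorem CK_fix_of_fix {c : Γ} (hc : c ∈ H) (hkc : k * c * k⁻¹ = c) {χ : Ch F D}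
    (hkχ : k • χ = χ) : c • χ = χ := by
  rw [smul_eq_iff]
  intro d
  letI : CommGroup ↥D :=
    { (inferInstance : Group ↥D) with
      mul_comm := fun a b => Subtype.ext (S.hDab a a.2 b b.2) }
  set φ : Γ →* MulAut ↥D := MulAut.conjNormal with hφ
  have hφc : ∀ (g : Γ) (x : ↥D), ((φ g x : ↥D) : Γ) = g * x * g⁻¹ :=
    fun g x => MulAut.conjNormal_apply g x
  have hφmul : ∀ (g g' : Γ) (x : ↥D), φ g (φ g' x) = φ (g * g') x := by
    intro g g' x
    rw [map_mul]; rfl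
  have ha : ∀ x : ↥D, χ (QuotientGroup.mk (φ k⁻¹ x)) = χ (QuotientGroup.mk x) :=
    (smul_eq_iff D k χ).mp hkχ
  have hb : ∀ x : ↥D, χ (QuotientGroup.mk (φ k x)) = χ (QuotientGroup.mk x) := by
    have h := (smul_eq_iff D k⁻¹ χ).mp ((S.ki_smul_iff χ).mpr hkχ)
    intro x
    have := h x
    rwa [inv_inv] at this
  have hn : ∀ x : ↥D, χ (QuotientGroup.mk (x * φ k x * φ k⁻¹ x)) = χ (QuotientGroup.mk x) ^ 3 := by
    intro x
    rw [QuotientGroup.mk_mul, QuotientGroup.mk_mul, map_mul, map_mul, ha, hb, pow_three,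
      mul_assoc]
  -- the norm is centralised by `k`
  have hnk : ∀ x : ↥D, φ k (x * φ k x * φ k⁻¹ x) = x * φ k x * φ k⁻¹ x := by
    intro x
    rw [map_mul, map_mul, hφmul, hφmul, S.kk, mul_inv_cancel, map_one, MulAut.one_apply]
    rw [mul_comm (φ k x * φ k⁻¹ x) x, mul_assoc]
  have hnCK : ∀ x : ↥D, ((x * φ k x * φ k⁻¹ x : ↥D) : Γ) ∈ CK H k := by
    intro x
    rw [mem_CK]
    refine ⟨S.hDH (x * φ k x * φ k⁻¹ x).2, ?_⟩
    rw [← hφc, hnk]
  have hciCK : c⁻¹ ∈ CK H k := (CK H k).inv_mem (mem_CK.mpr ⟨hc, hkc⟩)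
  have hcn : ∀ x : ↥D, φ c⁻¹ (x * φ k x * φ k⁻¹ x) = x * φ k x * φ k⁻¹ x := by
    intro x
    apply Subtype.ext
    rw [hφc, S.CK_comm _ hciCK _ (hnCK x), mul_inv_cancel_right]
  have hkc' : k * c = c * k := by
    conv_rhs => rw [← hkc]
    group
  have hck : c⁻¹ * k = k * c⁻¹ := by
    calc c⁻¹ * k = c⁻¹ * (k * c) * c⁻¹ := by group
      _ = c⁻¹ * (c * k) * c⁻¹ := by rw [hkc']
      _ = k * c⁻¹ := by group
  have hcki : c⁻¹ * k⁻¹ = k⁻¹ * c⁻¹ := by
    calc c⁻¹ * k⁻¹ = k⁻¹ * (k * c⁻¹) * k⁻¹ := by group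
      _ = k⁻¹ * (c⁻¹ * k) * k⁻¹ := by rw [hck]
      _ = k⁻¹ * c⁻¹ := by group
  have hcn' : ∀ x : ↥D, φ c⁻¹ (x * φ k x * φ k⁻¹ x)
      = φ c⁻¹ x * φ k (φ c⁻¹ x) * φ k⁻¹ (φ c⁻¹ x) := by
    intro x
    rw [map_mul, map_mul, hφmul, hφmul, hφmul, hφmul, hck, hcki]
  have hcube : χ (QuotientGroup.mk (φ c⁻¹ d)) ^ 3 = χ (QuotientGroup.mk d) ^ 3 := by
    rw [← hn, ← hcn', hcn, hn]
  obtain ⟨y, hy⟩ : ∃ y : ↥D, y = φ c⁻¹ d := ⟨_, rfl⟩
  show χ (QuotientGroup.mk (φ c⁻¹ d)) = χ (QuotientGroup.mk d)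
  rw [← hy] at hcube ⊢
  -- the quotient of the two values is a cube root of unity of order prime to three
  have hz : χ (QuotientGroup.mk (y * d⁻¹)) ^ 3 = 1 := by
    rw [QuotientGroup.mk_mul, QuotientGroup.mk_inv, map_mul, map_inv, mul_pow, inv_pow, hcube,
      mul_inv_cancel]
  have hcop3 : (3 : ℕ).Coprime (orderOf (y * d⁻¹)) := by
    rw [← Subgroup.orderOf_coe]
    exact S.coprime_three (S.hDH (y * d⁻¹).2)
  obtain ⟨j, hj⟩ := exists_pow_eq_self_of_coprime hcop3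
  have hz1 : χ (QuotientGroup.mk (y * d⁻¹)) = 1 := by
    conv_lhs => rw [← hj]
    rw [QuotientGroup.mk_pow, QuotientGroup.mk_pow, map_pow, map_pow, hz, one_pow]
  rw [QuotientGroup.mk_mul, QuotientGroup.mk_inv, map_mul, map_inv, mul_inv_eq_one] at hz1
  exact hz1

/-- if `k` centralises `H / D`, then `H` is abelian -/
theorem comm_of_K_trivial (hall : ∀ h ∈ H, h⁻¹ * (k * h * k⁻¹) ∈ D) :
    ∀ a ∈ H, ∀ b ∈ H, a * b = b * a := by
  -- elements of the centraliser of `k` commute with `D`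
  have hCD : ∀ c ∈ CK H k, ∀ d ∈ D, c * d = d * c := by
    intro c hcCK d hd
    obtain ⟨hc, hkc⟩ := mem_CK.mp hcCK
    have hfix : ∀ χ : Ch F D, Wt ρ D χ ≠ ⊥ → c • χ = χ := by
      intro χ hχ
      by_cases hkχ : k • χ = χ
      · exact S.CK_fix_of_fix hc hkc hkχ
      · exact S.CK_fix_of_not_fix hc hkc hχ hkχ
    have heD : c * d * c⁻¹ * d⁻¹ ∈ D := D.mul_mem (hDn.conj_mem d hd c) (D.inv_mem hd)
    have h1 : ρ (c * d * c⁻¹ * d⁻¹) = 1 := by
      apply rho_eq_one_of_Wt ρ D S.hDab S.hDF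
      intro χ w hw
      by_cases hχ : Wt ρ D χ = ⊥
      · rw [hχ, Submodule.mem_bot] at hw
        rw [hw, map_zero]
      have h2 := rho_D_apply ρ D S.hDF hw ⟨_, heD⟩
      rw [h2]
      have h3 := (smul_eq_iff D c⁻¹ χ).mp (smul_inv_eq D (hfix χ hχ)) ⟨d, hd⟩
      have e : (⟨c * d * c⁻¹ * d⁻¹, heD⟩ : ↥D)
          = MulAut.conjNormal c⁻¹⁻¹ (⟨d, hd⟩ : ↥D) * (⟨d, hd⟩ : ↥D)⁻¹ := by
        apply Subtype.ext
        rw [Subgroup.coe_mul, MulAut.conjNormal_apply, inv_inv]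
        rfl
      obtain ⟨y, hy⟩ : ∃ y : ↥D, y = MulAut.conjNormal c⁻¹⁻¹ (⟨d, hd⟩ : ↥D) := ⟨_, rfl⟩
      rw [← hy] at h3 e
      unfold ev
      rw [e, QuotientGroup.mk_mul, QuotientGroup.mk_inv, map_mul, map_inv, h3, mul_inv_cancel,
        Units.val_one, one_smul]
    have h4 := S.hfaith _ (S.hDH heD) h1
    calc c * d = (c * d * c⁻¹ * d⁻¹) * (d * c) := by group
      _ = d * c := by rw [h4, one_mul]
  -- decomposition
  have hdec : ∀ a ∈ H, ∃ c ∈ CK H k, ∃ d ∈ D, a = c * d := by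
    intro a ha
    obtain ⟨c, hc, hcD⟩ := exists_fixed_mem_coset D k (fun y hy => hDn.conj_mem y hy k)
      (S.coprime_k_sub D S.hDH) a (hall a ha)
    have hcH : c ∈ H := by
      have : c = a * (a⁻¹ * c) := by group
      rw [this]
      exact H.mul_mem ha (S.hDH hcD)
    refine ⟨c, mem_CK.mpr ⟨hcH, hc⟩, (a⁻¹ * c)⁻¹, D.inv_mem hcD, by group⟩
  intro a ha b hb
  obtain ⟨c, hc, d, hd, rfl⟩ := hdec a ha
  obtain ⟨c', hc', d', hd', rfl⟩ := hdec b hb
  have e1 := S.CK_comm c hc c' hc'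
  have e2 := hCD c hc d' hd'
  have e3 := hCD c' hc' d hd
  have e4 := S.hDab d hd d' hd'
  calc c * d * (c' * d') = c * (d * c') * d' := by group
    _ = c * (c' * d) * d' := by rw [e3]
    _ = (c * c') * (d * d') := by group
    _ = (c' * c) * (d' * d) := by rw [e1, e4]
    _ = c' * (c * d') * d := by group
    _ = c' * (d' * c) * d := by rw [e2]
    _ = c' * d' * (c * d) := by group

end Setup

end Cfsg.Agent.Helper1.S3F
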