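import Mathlib
import Cfsg.Agent.Lib.Helper1.S3FCoreA

/-!
# The involution case (helper1)

A weight `χ` all of whose `H`-translates are fixed by an admissible involution `s` and none by `k`:
the commutator subgroup of `H` acts trivially on the weight space.
-/

set_option autoImplicit false
set_option linter.unusedSectionVars false

namespace Cfsg.Agent.Helper1.S3F

open Cfsg.Agent.Helper8.FrobLin Cfsg.Agent.Helper8.HHLin Cfsg.Agent.Helper1.GH4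
open scoped Classical

attribute [local instance] dualAct

variable {F : Type*} [Field F] [IsAlgClosed F] {Γ : Type*} [Group Γ] [Finite Γ]
  {W : Type*} [AddCommGroup W] [Module F W]

section Defs

variable (ρ : Representation F Γ W) (H D : Subgroup Γ) [D.Normal] [Fintype ↥D] (χ : Ch F D)

/-- the sum of the weight spaces of the `H`-translates of `χ` -/
noncomputable def W1 : Submodule F W := ⨆ h : ↥H, Wt ρ D ((h : Γ) • χ)

/-- the kernel of `H` on `W1` -/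
def N1 : Subgroup Γ where
  carrier := {g | g ∈ H ∧ ∀ w ∈ W1 ρ H D χ, ρ g w = w}
  one_mem' := ⟨H.one_mem, fun w _ => by rw [map_one]; rfl⟩
  mul_mem' := by
    rintro g g' ⟨hg, hgw⟩ ⟨hg', hgw'⟩
    refine ⟨H.mul_mem hg hg', fun w hw => ?_⟩
    rw [map_mul]
    show ρ g (ρ g' w) = w
    rw [hgw' w hw, hgw w hw]
  inv_mem' := by
    rintro g ⟨hg, hgw⟩
    refine ⟨H.inv_mem hg, fun w hw => ?_⟩
    conv_lhs => rw [← hgw w hw]
    exact rho_inv_rho ρ g w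

/-- the kernel of `H` on `W1 + k W1 + k⁻¹ W1` -/
def N0 (k : Γ) : Subgroup Γ where
  carrier := {g | g ∈ N1 ρ H D χ ∧ k * g * k⁻¹ ∈ N1 ρ H D χ ∧ k⁻¹ * g * k ∈ N1 ρ H D χ}
  one_mem' := by
    refine ⟨Subgroup.one_mem _, ?_, ?_⟩
    · rw [mul_one, mul_inv_cancel]; exact Subgroup.one_mem _
    · rw [mul_one, inv_mul_cancel]; exact Subgroup.one_mem _
  mul_mem' := by
    rintro g g' ⟨h1, h2, h3⟩ ⟨h1', h2', h3'⟩
    refine ⟨Subgroup.mul_mem _ h1 h1', ?_, ?_⟩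
    · have e : k * (g * g') * k⁻¹ = (k * g * k⁻¹) * (k * g' * k⁻¹) := by group
      rw [e]; exact Subgroup.mul_mem _ h2 h2'
    · have e : k⁻¹ * (g * g') * k = (k⁻¹ * g * k) * (k⁻¹ * g' * k) := by group
      rw [e]; exact Subgroup.mul_mem _ h3 h3'
  inv_mem' := by
    rintro g ⟨h1, h2, h3⟩
    refine ⟨Subgroup.inv_mem _ h1, ?_, ?_⟩
    · have e : k * g⁻¹ * k⁻¹ = (k * g * k⁻¹)⁻¹ := by group
      rw [e]; exact Subgroup.inv_mem _ h2
    · have e : k⁻¹ * g⁻¹ * k = (k⁻¹ * g * k)⁻¹ := by group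
      rw [e]; exact Subgroup.inv_mem _ h3

variable {ρ H D χ}

theorem Wt_le_W1 {h : Γ} (hh : h ∈ H) : Wt ρ D (h • χ) ≤ W1 ρ H D χ :=
  le_iSup (fun h : ↥H => Wt ρ D ((h : Γ) • χ)) ⟨h, hh⟩

theorem W1_le {E : Submodule F W} (hE : ∀ h ∈ H, Wt ρ D (h • χ) ≤ E) : W1 ρ H D χ ≤ E :=
  iSup_le (fun h => hE h h.2)

theorem W1_inv {g : Γ} (hg : g ∈ H) {w : W} (hw : w ∈ W1 ρ H D χ) : ρ g w ∈ W1 ρ H D χ := by
  have h1 : W1 ρ H D χ ≤ (W1 ρ H D χ).comap (ρ g) := by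
    apply W1_le
    intro h hh w hw
    rw [Submodule.mem_comap]
    have h2 := rho_mem_Wt ρ D g hw
    rw [← mul_smul] at h2
    exact Wt_le_W1 (H.mul_mem hg hh) h2
  exact h1 hw

theorem mem_N1 {g : Γ} : g ∈ N1 ρ H D χ ↔ g ∈ H ∧ ∀ w ∈ W1 ρ H D χ, ρ g w = w := Iff.rfl

theorem N1_le : N1 ρ H D χ ≤ H := fun _ hg => hg.1

theorem N1_conj {h : Γ} (hh : h ∈ H) [hHn : H.Normal] {g : Γ} (hg : g ∈ N1 ρ H D χ) :
    h * g * h⁻¹ ∈ N1 ρ H D χ := by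
  refine ⟨hHn.conj_mem g hg.1 h, fun w hw => ?_⟩
  rw [map_mul, map_mul]
  show ρ h (ρ g (ρ h⁻¹ w)) = w
  rw [hg.2 _ (W1_inv (H.inv_mem hh) hw)]
  have := rho_inv_rho ρ h⁻¹ w
  rwa [inv_inv] at this

theorem mem_N0 {k g : Γ} : g ∈ N0 ρ H D χ k ↔
    g ∈ N1 ρ H D χ ∧ k * g * k⁻¹ ∈ N1 ρ H D χ ∧ k⁻¹ * g * k ∈ N1 ρ H D χ := Iff.rfl

end Defs

variable {ρ : Representation F Γ W} {H D : Subgroup Γ} {k t : Γ}

namespace Setup

variable (S : Setup ρ H D k t) [hHn : H.Normal] [hDn : D.Normal] [Fintype ↥D] [Fintype (Ch F D)]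
include S

section TCase

variable {χ : Ch F D} {s : Γ} (hs : Adm k t s)
  (hsS : ∀ h ∈ H, (h⁻¹ * s * h) • χ = χ) (hkS : ∀ h ∈ H, (h⁻¹ * k * h) • χ ≠ χ)
include hs hsS hkS

omit hHn [Fintype (Ch F D)] hs hkS in
theorem tc_s_fix {h : Γ} (hh : h ∈ H) : s • (h • χ) = h • χ := by
  have h1 := hsS h hh
  have e : s * h = h * (h⁻¹ * s * h) := by group
  rw [← mul_smul, e, mul_smul, h1]

omit hHn [Fintype (Ch F D)] hs hsS in
theorem tc_k_nofix {h : Γ} (hh : h ∈ H) : k • (h • χ) ≠ h • χ := by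
  intro h1
  apply hkS h hh
  have e : h⁻¹ * k * h = h⁻¹ * (k * h) := by group
  rw [e, mul_smul, mul_smul, h1, inv_smul_smul]

omit hHn [Fintype (Ch F D)] in
theorem tc_neg {w : W} (hw : w ∈ W1 ρ H D χ) : ρ s w = -w := by
  have h1 : W1 ρ H D χ ≤ LinearMap.ker (ρ s + 1) := by
    apply W1_le
    intro h hh w hw
    rw [LinearMap.mem_ker, LinearMap.add_apply, Module.End.one_apply,
      S.neg_of_fix hs (S.tc_s_fix hsS hh) (S.tc_k_nofix hkS hh) hw, neg_add_cancel]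
  have h2 := h1 hw
  rw [LinearMap.mem_ker, LinearMap.add_apply, Module.End.one_apply] at h2
  exact eq_neg_of_add_eq_zero_left h2

omit hHn [Fintype (Ch F D)] hs hsS hkS in
theorem tc_projA {χ' : Ch F D} (hχ' : ∀ h ∈ H, h • χ ≠ χ') {x : W} (hx : x ∈ W1 ρ H D χ) :
    wproj ρ D ⊥ χ' x = 0 := by
  have h1 : W1 ρ H D χ ≤ LinearMap.ker (wproj ρ D ⊥ χ') := by
    apply W1_le
    intro h hh w hw
    rw [LinearMap.mem_ker]
    exact wproj_of_mem_ne ρ D S.hDF (fun e => hχ' h hh e.symm) hw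
  exact h1 hx

omit hHn [Fintype (Ch F D)] hs hsS hkS in
theorem tc_projB (g : Γ) {χ' : Ch F D} (hχ' : ∀ h ∈ H, g • (h • χ) ≠ χ') {x : W}
    (hx : x ∈ W1 ρ H D χ) : wproj ρ D ⊥ χ' (ρ g x) = 0 := by
  have h1 : W1 ρ H D χ ≤ LinearMap.ker ((wproj ρ D ⊥ χ').comp (ρ g)) := by
    apply W1_le
    intro h hh w hw
    rw [LinearMap.mem_ker, LinearMap.comp_apply]
    exact wproj_of_mem_ne ρ D S.hDF (fun e => hχ' h hh e.symm) (rho_mem_Wt ρ D g hw)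
  have h2 := h1 hx
  rwa [LinearMap.mem_ker, LinearMap.comp_apply] at h2

omit hHn [Fintype (Ch F D)] hsS hkS in
theorem tc_sk : s * k = k⁻¹ * s := by
  have h1 := adm_conj S.htk hs
  have : s * k = (s * k * s⁻¹) * s := by group
  rw [this, h1]

omit hHn [Fintype (Ch F D)] hsS hkS in
theorem tc_ski : s * k⁻¹ = k * s := by
  have h1 := adm_conj S.htk hs
  have h2 : s * k⁻¹ * s⁻¹ = k := by
    have : s * k⁻¹ * s⁻¹ = (s * k * s⁻¹)⁻¹ := by group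
    rw [this, h1, inv_inv]
  have : s * k⁻¹ = (s * k⁻¹ * s⁻¹) * s := by group
  rw [this, h2]

omit hHn [Fintype (Ch F D)] in
/-- the translates of `χ` under `H`, `k H` and `k⁻¹ H` are pairwise different -/
theorem tc_disj {h h' : Γ} (hh : h ∈ H) (hh' : h' ∈ H) : k • (h' • χ) ≠ h • χ := by
  intro e
  have h1 := S.tc_s_fix hsS hh
  have h2 := S.tc_s_fix hsS hh'
  have h3 : k⁻¹ • (h' • χ) = h • χ := by
    rw [← h1, ← e, ← mul_smul s k, S.tc_sk hs, mul_smul, h2]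
  have h4 : k • (h' • χ) = k⁻¹ • (h' • χ) := by rw [e, h3]
  have h5 : (k * k) • (h' • χ) = h' • χ := by
    rw [mul_smul, h4, smul_inv_smul]
  rw [S.kk] at h5
  exact S.tc_k_nofix hkS hh' ((S.ki_smul_iff _).mp h5)

omit hHn [Fintype (Ch F D)] in
theorem tc_disj' {h h' : Γ} (hh : h ∈ H) (hh' : h' ∈ H) : k⁻¹ • (h' • χ) ≠ h • χ := by
  intro e
  apply S.tc_disj hs hsS hkS hh' hh
  rw [← e, smul_inv_smul]

omit hHn in
/-- independence of `W1`, `k W1`, `k⁻¹ W1` -/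
theorem tc_indep {x : W} (hx : x ∈ W1 ρ H D χ) (h0 : x + ρ k x + ρ k⁻¹ x = 0) : x = 0 := by
  have hall : ∀ χ' : Ch F D, wproj ρ D ⊥ χ' x = 0 := by
    intro χ'
    by_cases hχ' : ∃ h ∈ H, h • χ = χ'
    · obtain ⟨h, hh, rfl⟩ := hχ'
      have h1 := congrArg (wproj ρ D ⊥ (h • χ)) h0
      rw [map_add, map_add, map_zero,
        S.tc_projB k (fun h' hh' => S.tc_disj hs hsS hkS hh hh') hx,
        S.tc_projB k⁻¹ (fun h' hh' => S.tc_disj' hs hsS hkS hh hh') hx, add_zero, add_zero] at h1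
      exact h1
    · push Not at hχ'
      exact S.tc_projA hχ' hx
  rw [← sum_wproj ρ D S.hDab S.hDF x]
  exact Finset.sum_eq_zero (fun χ' _ => hall χ')

/-- the centraliser of `k` in `H` acts trivially on `W1` -/
theorem tc_CK_le_N1 {c : Γ} (hc : c ∈ H) (hkc : k * c * k⁻¹ = c) : c ∈ N1 ρ H D χ := by
  refine ⟨hc, fun w hw => ?_⟩
  have hkc' : k * c = c * k := by
    conv_rhs => rw [← hkc]
    group
  have hkic : k⁻¹ * c = c * k⁻¹ := by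
    calc k⁻¹ * c = k⁻¹ * (c * k) * k⁻¹ := by group
      _ = k⁻¹ * (k * c) * k⁻¹ := by rw [hkc']
      _ = c * k⁻¹ := by group
  have hu : ρ k (w + ρ k w + ρ k⁻¹ w) = w + ρ k w + ρ k⁻¹ w := by
    rw [map_add, map_add, ← rho_mul S k k, S.kk, ← rho_mul S k k⁻¹, mul_inv_cancel, map_one]
    show ρ k w + ρ k⁻¹ w + w = _
    abel
  have h1 := S.rho_fixK hc hkc hu
  rw [map_add, map_add, ← rho_mul S c k, ← hkc', rho_mul S, ← rho_mul S c k⁻¹, ← hkic,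
    rho_mul S] at h1
  have hx : ρ c w - w ∈ W1 ρ H D χ := Submodule.sub_mem _ (W1_inv hc hw) hw
  have h0 : (ρ c w - w) + ρ k (ρ c w - w) + ρ k⁻¹ (ρ c w - w) = 0 := by
    rw [map_sub, map_sub]
    have : ρ c w - w + (ρ k (ρ c w) - ρ k w) + (ρ k⁻¹ (ρ c w) - ρ k⁻¹ w)
        = (ρ c w + ρ k (ρ c w) + ρ k⁻¹ (ρ c w)) - (w + ρ k w + ρ k⁻¹ w) := by abel
    rw [this, h1, sub_self]
  have h2 := S.tc_indep hs hsS hkS hx h0
  exact sub_eq_zero.mp h2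

omit [Fintype (Ch F D)] in
/-- conjugation by `s` preserves `N1` -/
theorem tc_conj_s {x : Γ} (hx : x ∈ N1 ρ H D χ) : s * x * s⁻¹ ∈ N1 ρ H D χ := by
  refine ⟨hHn.conj_mem x hx.1 s, fun w hw => ?_⟩
  rw [rho_mul S, rho_mul S, adm_inv S.ht2 hs, S.tc_neg hs hsS hkS hw, map_neg,
    hx.2 w hw, map_neg, S.tc_neg hs hsS hkS hw, neg_neg]

theorem tc_CK_le_N0 {c : Γ} (hc : c ∈ H) (hkc : k * c * k⁻¹ = c) : c ∈ N0 ρ H D χ k := by
  have h1 := S.tc_CK_le_N1 hs hsS hkS hc hkc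
  refine ⟨h1, ?_, ?_⟩
  · rw [hkc]; exact h1
  · have : k⁻¹ * c * k = c := by
      conv_lhs => rw [← hkc]
      group
    rw [this]; exact h1

omit [Fintype (Ch F D)] hs hsS hkS in
theorem tc_N0_conj_H {h : Γ} (hh : h ∈ H) {g : Γ} (hg : g ∈ N0 ρ H D χ k) :
    h * g * h⁻¹ ∈ N0 ρ H D χ k := by
  obtain ⟨h1, h2, h3⟩ := hg
  refine ⟨N1_conj hh h1, ?_, ?_⟩
  · have e : k * (h * g * h⁻¹) * k⁻¹ = (k * h * k⁻¹) * (k * g * k⁻¹) * (k * h * k⁻¹)⁻¹ := by group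
    rw [e]
    exact N1_conj (hHn.conj_mem h hh k) h2
  · have e : k⁻¹ * (h * g * h⁻¹) * k = (k⁻¹ * h * k⁻¹⁻¹) * (k⁻¹ * g * k) * (k⁻¹ * h * k⁻¹⁻¹)⁻¹ := by
      group
    rw [e]
    exact N1_conj (hHn.conj_mem h hh k⁻¹) h3

omit hHn [Fintype (Ch F D)] hs hsS hkS in
theorem tc_N0_conj_k {g : Γ} (hg : g ∈ N0 ρ H D χ k) : k * g * k⁻¹ ∈ N0 ρ H D χ k := by
  obtain ⟨h1, h2, h3⟩ := hg
  refine ⟨h2, ?_, ?_⟩
  · have e : k * (k * g * k⁻¹) * k⁻¹ = k⁻¹ * g * k := by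
      calc k * (k * g * k⁻¹) * k⁻¹ = (k * k) * g * (k * k)⁻¹ := by group
        _ = k⁻¹ * g * k := by rw [S.kk, inv_inv]
    rw [e]; exact h3
  · have e : k⁻¹ * (k * g * k⁻¹) * k = g := by group
    rw [e]; exact h1

omit [Fintype (Ch F D)] in
theorem tc_N0_conj_s {g : Γ} (hg : g ∈ N0 ρ H D χ k) : s * g * s⁻¹ ∈ N0 ρ H D χ k := by
  obtain ⟨h1, h2, h3⟩ := hg
  have e1 := S.tc_sk hs
  have e2 := S.tc_ski hs
  refine ⟨S.tc_conj_s hs hsS hkS h1, ?_, ?_⟩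
  · have e : k * (s * g * s⁻¹) * k⁻¹ = s * (k⁻¹ * g * k) * s⁻¹ := by
      calc k * (s * g * s⁻¹) * k⁻¹ = (k * s) * g * (k * s)⁻¹ := by group
        _ = (s * k⁻¹) * g * (s * k⁻¹)⁻¹ := by rw [e2]
        _ = s * (k⁻¹ * g * k) * s⁻¹ := by group
    rw [e]
    exact S.tc_conj_s hs hsS hkS h3
  · have e : k⁻¹ * (s * g * s⁻¹) * k = s * (k * g * k⁻¹) * s⁻¹ := by
      calc k⁻¹ * (s * g * s⁻¹) * k = (k⁻¹ * s) * g * (k⁻¹ * s)⁻¹ := by group
        _ = (s * k) * g * (s * k)⁻¹ := by rw [e1]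
        _ = s * (k * g * k⁻¹) * s⁻¹ := by group
    rw [e]
    exact S.tc_conj_s hs hsS hkS h2

omit [Fintype (Ch F D)] in
theorem tc_N0_conj_t {g : Γ} (hg : g ∈ N0 ρ H D χ k) : t * g * t⁻¹ ∈ N0 ρ H D χ k := by
  have hki : ∀ g ∈ N0 ρ H D χ k, k⁻¹ * g * k ∈ N0 ρ H D χ k := by
    intro g hg
    have h1 := S.tc_N0_conj_k (S.tc_N0_conj_k hg)
    have e : k * (k * g * k⁻¹) * k⁻¹ = k⁻¹ * g * k := by
      calc k * (k * g * k⁻¹) * k⁻¹ = (k * k) * g * (k * k)⁻¹ := by group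
        _ = k⁻¹ * g * k := by rw [S.kk, inv_inv]
    rwa [e] at h1
  have hs2 := hs
  rcases hs2 with hs' | hs' | hs'
  · rw [← hs']
    exact S.tc_N0_conj_s hs hsS hkS hg
  · have e : t = k⁻¹ * s * k := by rw [hs']; group
    have h1 := hki _ (S.tc_N0_conj_s hs hsS hkS (S.tc_N0_conj_k hg))
    have e2 : k⁻¹ * (s * (k * g * k⁻¹) * s⁻¹) * k = t * g * t⁻¹ := by rw [e]; group
    rwa [e2] at h1
  · have e : t = k * s * k⁻¹ := by rw [hs']; group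
    have h1 := S.tc_N0_conj_k (S.tc_N0_conj_s hs hsS hkS (hki _ hg))
    have e2 : k * (s * (k⁻¹ * g * k) * s⁻¹) * k⁻¹ = t * g * t⁻¹ := by rw [e]; group
    rwa [e2] at h1

end TCase

end Setup

end Cfsg.Agent.Helper1.S3F
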