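import Mathlib
import Cfsg.Agent.Lib.Helper1.S3FCoreB

/-!
# The involution case: conclusion (helper1)
-/

set_option autoImplicit false
set_option linter.unusedSectionVars false

namespace Cfsg.Agent.Helper1.S3F

open Cfsg.Agent.Helper8.FrobLin Cfsg.Agent.Helper8.HHLin Cfsg.Agent.Helper1.GH4
open scoped Classical

attribute [local instance] dualAct

variable {F : Type*} [Field F] [IsAlgClosed F] {Γ : Type*} [Group Γ] [Finite Γ]
  {W : Type*} [AddCommGroup W] [Module F W]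

variable {ρ : Representation F Γ W} {H D : Subgroup Γ} {k t : Γ}

namespace Setup

variable (S : Setup ρ H D k t) [hHn : H.Normal] [hDn : D.Normal] [Fintype ↥D] [Fintype (Ch F D)]
include S

section TCase

variable {χ : Ch F D} {s : Γ} (hs : Adm k t s)
  (hsS : ∀ h ∈ H, (h⁻¹ * s * h) • χ = χ) (hkS : ∀ h ∈ H, (h⁻¹ * k * h) • χ ≠ χ)
include hs hsS hkS

omit [Fintype (Ch F D)] in
theorem tc_comm_s_mem {h : Γ} (hh : h ∈ H) : h⁻¹ * (s * h * s⁻¹) ∈ N1 ρ H D χ := by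
  refine ⟨H.mul_mem (H.inv_mem hh) (hHn.conj_mem h hh s), fun w hw => ?_⟩
  rw [rho_mul S, rho_mul S, rho_mul S, adm_inv S.ht2 hs, S.tc_neg hs hsS hkS hw, map_neg,
    map_neg, S.tc_neg hs hsS hkS (W1_inv hh hw), neg_neg]
  exact rho_inv_rho ρ h w

theorem tc_main
    (hgen : ∀ N : Subgroup Γ, (∀ h ∈ H, ∀ g ∈ N, h * g * h⁻¹ ∈ N) → (∀ g ∈ N, k * g * k⁻¹ ∈ N) →
      (∀ g ∈ N, t * g * t⁻¹ ∈ N) → N.Normal) :
    ∀ a ∈ H, ∀ b ∈ H, ∀ w ∈ W1 ρ H D χ, ρ (a * b * a⁻¹ * b⁻¹) w = w := by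
  haveI hN0 : (N0 ρ H D χ k).Normal :=
    hgen _ (fun h hh g hg => S.tc_N0_conj_H hh hg) (fun g hg => S.tc_N0_conj_k hg)
      (fun g hg => S.tc_N0_conj_t hs hsS hkS hg)
  have hN01 : N0 ρ H D χ k ≤ N1 ρ H D χ := fun g hg => hg.1
  have hN0H : N0 ρ H D χ k ≤ H := fun g hg => hg.1.1
  have hmk1 : ∀ h : ↥H, ((QuotientGroup.mk h : ↥H ⧸ (N0 ρ H D χ k).subgroupOf H) = 1) ↔
      (h : Γ) ∈ N0 ρ H D χ k := by
    intro h
    rw [QuotientGroup.eq_one_iff, Subgroup.mem_subgroupOf]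
  have hcopQ : (Nat.card (↥H ⧸ (N0 ρ H D χ k).subgroupOf H)).Coprime 6 :=
    Nat.Coprime.coprime_dvd_left (Subgroup.card_quotient_dvd_card _) S.hcop
  -- the normal subgroup `M`
  have hN1n : ((N1 ρ H D χ).subgroupOf H).Normal := by
    constructor
    intro n hn g
    rw [Subgroup.mem_subgroupOf] at hn ⊢
    exact N1_conj g.2 hn
  haveI hMn : (((N1 ρ H D χ).subgroupOf H).map
      (QuotientGroup.mk' ((N0 ρ H D χ k).subgroupOf H))).Normal :=
    Subgroup.Normal.map hN1n _ (QuotientGroup.mk'_surjective _)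
  have hmemM : ∀ h : ↥H, (QuotientGroup.mk h : ↥H ⧸ (N0 ρ H D χ k).subgroupOf H) ∈
      ((N1 ρ H D χ).subgroupOf H).map (QuotientGroup.mk' ((N0 ρ H D χ k).subgroupOf H)) ↔
      (h : Γ) ∈ N1 ρ H D χ := by
    intro h
    constructor
    · rintro ⟨n, hn, hnh⟩
      have hn' : (n : Γ) ∈ N1 ρ H D χ := Subgroup.mem_subgroupOf.mp hn
      have h1 : (QuotientGroup.mk n : ↥H ⧸ (N0 ρ H D χ k).subgroupOf H) = QuotientGroup.mk h := hnh
      rw [QuotientGroup.eq, Subgroup.mem_subgroupOf] at h1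
      have h2 : ((n⁻¹ * h : ↥H) : Γ) ∈ N1 ρ H D χ := hN01 h1
      have h3 : (h : Γ) = (n : Γ) * ((n⁻¹ * h : ↥H) : Γ) := by
        push_cast
        group
      rw [h3]
      exact Subgroup.mul_mem _ hn' h2
    · intro hh
      exact ⟨h, Subgroup.mem_subgroupOf.mpr hh, rfl⟩
  have hkkk : k * k * k = 1 := by rw [mul_assoc, ← pow_three, S.hk3]
  have hcomm := lemT hcopQ (kap H (N0 ρ H D χ k) k) (kap H (N0 ρ H D χ k) s)
    (fun x => by rw [← kap_mul, ← kap_mul, hkkk, kap_one])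
    (fun x => by rw [← kap_mul, adm_sq S.ht2 hs, kap_one])
    (fun x => by
      rw [← kap_mul, ← kap_mul, ← kap_mul, S.tc_sk hs, S.kk])
    (fun x hx => by
      induction x using QuotientGroup.induction_on with
      | H h =>
        rw [kap_mk] at hx
        have hx' := hx.symm
        rw [QuotientGroup.eq, Subgroup.mem_subgroupOf] at hx'
        have hx2 : (h : Γ)⁻¹ * (k * (h : Γ) * k⁻¹) ∈ N0 ρ H D χ k := by
          have e : ((h⁻¹ * MulAut.conjNormal k h : ↥H) : Γ) = (h : Γ)⁻¹ * (k * (h : Γ) * k⁻¹) := by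
            push_cast
            rw [MulAut.conjNormal_apply]
          rw [← e]
          exact hx'
        have h1 := fpf_mod H (N0 ρ H D χ k) k hN0H (fun y hy => S.tc_N0_conj_k hy)
          (S.coprime_k_sub _ hN0H) (fun c hc hkc => S.tc_CK_le_N0 hs hsS hkS hc hkc) h h.2 hx2
        exact (hmk1 h).mpr h1)
    (((N1 ρ H D χ).subgroupOf H).map (QuotientGroup.mk' ((N0 ρ H D χ k).subgroupOf H)))
    (fun x => by
      induction x using QuotientGroup.induction_on with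
      | H h =>
        rw [kap_mk, ← QuotientGroup.mk_inv, ← QuotientGroup.mk_mul, hmemM]
        have e : ((h⁻¹ * MulAut.conjNormal s h : ↥H) : Γ) = (h : Γ)⁻¹ * (s * (h : Γ) * s⁻¹) := by
          push_cast
          rw [MulAut.conjNormal_apply]
        rw [e]
        exact S.tc_comm_s_mem hs hsS hkS h.2)
    (fun x => by
      induction x using QuotientGroup.induction_on with
      | H h =>
        intro h1 h2 h3
        rw [kap_mk, kap_mk, hmemM] at h3
        rw [kap_mk, hmemM] at h2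
        rw [hmemM] at h1
        rw [hmk1]
        have e2 : ((MulAut.conjNormal k h : ↥H) : Γ) = k * (h : Γ) * k⁻¹ :=
          MulAut.conjNormal_apply _ _
        have e3 : ((MulAut.conjNormal k (MulAut.conjNormal k h) : ↥H) : Γ) = k⁻¹ * (h : Γ) * k := by
          rw [MulAut.conjNormal_apply, MulAut.conjNormal_apply]
          calc k * (k * (h : Γ) * k⁻¹) * k⁻¹ = (k * k) * (h : Γ) * (k * k)⁻¹ := by group
            _ = k⁻¹ * (h : Γ) * k := by rw [S.kk, inv_inv]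
        rw [e2] at h2
        rw [e3] at h3
        exact ⟨h1, h2, h3⟩)
  intro a ha b hb w hw
  have h1 := hcomm (QuotientGroup.mk ⟨a, ha⟩) (QuotientGroup.mk ⟨b, hb⟩)
  have h2 : (QuotientGroup.mk ((⟨a, ha⟩ : ↥H) * ⟨b, hb⟩ * (⟨a, ha⟩ : ↥H)⁻¹ * (⟨b, hb⟩ : ↥H)⁻¹) :
      ↥H ⧸ (N0 ρ H D χ k).subgroupOf H) = 1 := by
    rw [QuotientGroup.mk_mul, QuotientGroup.mk_mul, QuotientGroup.mk_mul, h1, QuotientGroup.mk_inv,
      QuotientGroup.mk_inv]
    group
  rw [hmk1] at h2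
  exact (hN01 h2).2 w hw

end TCase

end Setup

end Cfsg.Agent.Helper1.S3F
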