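import Mathlib
import Cfsg.Agent.Lib.Helper1.S3FCoreA
import Cfsg.Agent.Lib.Helper8.HHLin14
import Cfsg.Agent.Lib.Helper15.CoprimeGen

/-!
# The case of a weight fixed by `H` and `k` only (helper1)
-/

set_option autoImplicit false
set_option linter.unusedSectionVars false

namespace Cfsg.Agent.Helper1.S3F

open Cfsg.Agent.Helper8.FrobLin Cfsg.Agent.Helper8.HHLin Cfsg.Agent.Helper1.GH4
open scoped Classical

attribute [local instance] dualAct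

variable {F : Type*} [Field F] [IsAlgClosed F] {Γ : Type*} [Group Γ] [Finite Γ]
  {W : Type*} [AddCommGroup W] [Module F W]

section EvG

variable (ρ : Representation F Γ W) (D : Subgroup Γ) [hDn : D.Normal] [Fintype ↥D]

theorem ev_mul (χ : Ch F D) (d d' : ↥D) : ev D χ (d * d') = ev D χ d * ev D χ d' := by
  unfold ev
  rw [QuotientGroup.mk_mul, map_mul, Units.val_mul]

theorem ev_one (χ : Ch F D) : ev D χ 1 = 1 := by
  unfold ev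
  rw [QuotientGroup.mk_one, map_one, Units.val_one]

theorem ev_pow_card (χ : Ch F D) (d : ↥D) : ev D χ d ^ Nat.card ↥D = 1 := by
  unfold ev
  rw [← Units.val_pow_eq_pow_val, ← map_pow, ← QuotientGroup.mk_pow, pow_card_eq_one',
    QuotientGroup.mk_one, map_one, Units.val_one]

theorem ev_conj {g : Γ} {χ : Ch F D} (hg : g • χ = χ) (d : ↥D) :
    ev D χ (MulAut.conjNormal g d) = ev D χ d := by
  have h := (smul_eq_iff D g⁻¹ χ).mp (smul_inv_eq D hg) d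
  rw [inv_inv] at h
  unfold ev
  rw [h]

/-- evaluation of a character on elements of the ambient group -/
noncomputable def evG (χ : Ch F D) (x : Γ) : F := if hx : x ∈ D then ev D χ ⟨x, hx⟩ else 1

theorem evG_of_mem (χ : Ch F D) {x : Γ} (hx : x ∈ D) : evG D χ x = ev D χ ⟨x, hx⟩ := dif_pos hx

theorem evG_mul (χ : Ch F D) {x y : Γ} (hx : x ∈ D) (hy : y ∈ D) :
    evG D χ (x * y) = evG D χ x * evG D χ y := by
  rw [evG_of_mem D χ hx, evG_of_mem D χ hy, evG_of_mem D χ (D.mul_mem hx hy), ← ev_mul]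
  rfl

theorem evG_one (χ : Ch F D) : evG D χ 1 = 1 := by
  rw [evG_of_mem D χ D.one_mem]
  exact ev_one D χ

theorem evG_conj {g : Γ} {χ : Ch F D} (hg : g • χ = χ) {x : Γ} (hx : x ∈ D) :
    evG D χ (g * x * g⁻¹) = evG D χ x := by
  rw [evG_of_mem D χ hx, evG_of_mem D χ (hDn.conj_mem x hx g), ← ev_conj D hg ⟨x, hx⟩]
  congr 1

theorem evG_pow_card (χ : Ch F D) {x : Γ} (hx : x ∈ D) : evG D χ x ^ Nat.card ↥D = 1 := by
  rw [evG_of_mem D χ hx]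
  exact ev_pow_card D χ _

theorem evG_mul_inv (χ : Ch F D) {x : Γ} (hx : x ∈ D) : evG D χ x * evG D χ x⁻¹ = 1 := by
  rw [← evG_mul D χ hx (D.inv_mem hx), mul_inv_cancel, evG_one]

theorem rho_evG (hDF : (Nat.card ↥D : F) ≠ 0) {χ : Ch F D} {w : W} (hw : w ∈ Wt ρ D χ) {x : Γ}
    (hx : x ∈ D) : ρ x w = evG D χ x • w := by
  rw [evG_of_mem D χ hx]
  exact rho_D_apply ρ D hDF hw ⟨x, hx⟩

theorem Wt_inv_of_fix {g : Γ} {χ : Ch F D} (hg : g • χ = χ) {w : W} (hw : w ∈ Wt ρ D χ) :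
    ρ g w ∈ Wt ρ D χ := by
  have := rho_mem_Wt ρ D g hw
  rwa [hg] at this

end EvG

section Syl

/-- `H = P D` when `H / D` has exponent `ℓ` and `P` has the order of a Sylow `ℓ`-subgroup -/
theorem exists_mul_of_sylow (H D P : Subgroup Γ) [D.Normal] {ℓ : ℕ} (hℓ : ℓ.Prime)
    (hDH : D ≤ H) (hPH : P ≤ H) (hℓD : ∀ h ∈ H, h ^ ℓ ∈ D)
    (hcard : Nat.card ↥P = ℓ ^ (Nat.card ↥H).factorization ℓ) :
    ∀ h ∈ H, ∃ g ∈ P, ∃ d ∈ D, h = g * d := by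
  haveI : Fact ℓ.Prime := ⟨hℓ⟩
  have hK : P ⊔ D ≤ H := sup_le hPH hDH
  have ha : (P ⊔ D).relIndex H ∣ D.relIndex H := Subgroup.relIndex_dvd_of_le_left H le_sup_right
  have hb : (P ⊔ D).relIndex H ∣ P.relIndex H := Subgroup.relIndex_dvd_of_le_left H le_sup_left
  have hc : ∃ n, D.relIndex H = ℓ ^ n := by
    have hp : IsPGroup ℓ (↥H ⧸ D.subgroupOf H) := by
      intro x
      refine ⟨1, ?_⟩
      induction x using QuotientGroup.induction_on with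
      | H h =>
        rw [pow_one, ← QuotientGroup.mk_pow, QuotientGroup.eq_one_iff, Subgroup.mem_subgroupOf]
        push_cast
        exact hℓD _ h.2
    obtain ⟨n, hn⟩ := IsPGroup.iff_card.mp hp
    exact ⟨n, by rw [Subgroup.relIndex, Subgroup.index_eq_card, hn]⟩
  have hd : ¬ ℓ ∣ P.relIndex H := by
    intro hdvd
    have h1 : Nat.card ↥(P.subgroupOf H) * (P.subgroupOf H).index = Nat.card ↥H :=
      Subgroup.card_mul_index _
    have h2 : Nat.card ↥(P.subgroupOf H) = Nat.card ↥P :=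
      Nat.card_congr (Subgroup.subgroupOfEquivOfLe hPH).toEquiv
    rw [h2, hcard] at h1
    have h3 : ℓ ^ ((Nat.card ↥H).factorization ℓ + 1) ∣ Nat.card ↥H := by
      rw [pow_succ]
      conv_rhs => rw [← h1]
      exact Nat.mul_dvd_mul_left _ hdvd
    exact Nat.pow_succ_factorization_not_dvd Nat.card_pos.ne' hℓ h3
  obtain ⟨n, hn⟩ := hc
  rw [hn] at ha
  obtain ⟨m, -, hm⟩ := (Nat.dvd_prime_pow hℓ).mp ha
  have hm0 : m = 0 := by
    by_contra hne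
    apply hd
    apply dvd_trans _ hb
    rw [hm]
    exact dvd_pow_self ℓ hne
  rw [hm0, pow_zero, Subgroup.relIndex_eq_one] at hm
  intro h hh
  have h1 : h ∈ ((P ⊔ D : Subgroup Γ) : Set Γ) := hm hh
  rw [Subgroup.mul_normal] at h1
  obtain ⟨g, hg, d, hd', hgd⟩ := Set.mem_mul.mp h1
  exact ⟨g, hg, d, hd', hgd.symm⟩

end Syl

variable {ρ : Representation F Γ W} {H D : Subgroup Γ} {k t : Γ}

namespace Setup

variable (S : Setup ρ H D k t) [hHn : H.Normal] [hDn : D.Normal] [Fintype ↥D] [Fintype (Ch F D)]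
include S

section KCase

variable {χ : Ch F D} (hHχ : ∀ h ∈ H, h • χ = χ)
include hHχ

omit hHn [Fintype (Ch F D)] in
/-- the commutator pairing is multiplicative in the first variable -/
theorem kc_pair_mul {a a' b : Γ} (ha : a ∈ H) (ha' : a' ∈ H) (hb : b ∈ H) :
    evG D χ ((a * a') * b * (a * a')⁻¹ * b⁻¹) =
      evG D χ (a' * b * a'⁻¹ * b⁻¹) * evG D χ (a * b * a⁻¹ * b⁻¹) := by
  have e : (a * a') * b * (a * a')⁻¹ * b⁻¹ =
      (a * (a' * b * a'⁻¹ * b⁻¹) * a⁻¹) * (a * b * a⁻¹ * b⁻¹) := by group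
  rw [e, evG_mul D χ (hDn.conj_mem _ (S.hcomm a' ha' b hb) a) (S.hcomm a ha b hb),
    evG_conj D (hHχ a ha) (S.hcomm a' ha' b hb)]

omit hHn [Fintype (Ch F D)] in
theorem kc_pair_pow {a b : Γ} (ha : a ∈ H) (hb : b ∈ H) (n : ℕ) :
    evG D χ (a ^ n * b * (a ^ n)⁻¹ * b⁻¹) = evG D χ (a * b * a⁻¹ * b⁻¹) ^ n := by
  induction n with
  | zero =>
    have e : a ^ 0 * b * (a ^ 0)⁻¹ * b⁻¹ = 1 := by rw [pow_zero]; group
    rw [e, evG_one, pow_zero]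
  | succ n ih =>
    rw [pow_succ a n, S.kc_pair_mul hHχ (H.pow_mem ha n) ha hb, ih, pow_succ']

omit hHn [Fintype (Ch F D)] in
theorem kc_pair_D {x b : Γ} (hx : x ∈ D) (hb : b ∈ H) :
    evG D χ (x * b * x⁻¹ * b⁻¹) = 1 := by
  have e : x * b * x⁻¹ * b⁻¹ = x * (b * x⁻¹ * b⁻¹) := by group
  rw [e, evG_mul D χ hx (hDn.conj_mem _ (D.inv_mem hx) b), evG_conj D (hHχ b hb) (D.inv_mem hx),
    evG_mul_inv D χ hx]

omit hHn [Fintype (Ch F D)] in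
/-- the case where `ℓ` is the characteristic -/
theorem kc_charl {ℓ : ℕ} (hℓ : ℓ.Prime) (hℓD : ∀ h ∈ H, h ^ ℓ ∈ D) (hℓF : (ℓ : F) = 0)
    {a b : Γ} (ha : a ∈ H) (hb : b ∈ H) : evG D χ (a * b * a⁻¹ * b⁻¹) = 1 := by
  have h1 : evG D χ (a * b * a⁻¹ * b⁻¹) ^ ℓ = 1 := by
    rw [← S.kc_pair_pow hHχ ha hb ℓ]
    exact S.kc_pair_D hHχ (hℓD a ha) hb
  have h2 : evG D χ (a * b * a⁻¹ * b⁻¹) ^ Nat.card ↥D = 1 :=
    evG_pow_card D χ (S.hcomm a ha b hb)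
  have hcop : Nat.Coprime ℓ (Nat.card ↥D) := by
    rw [Nat.Prime.coprime_iff_not_dvd hℓ]
    rintro ⟨m, hm⟩
    apply S.hDF
    rw [hm, Nat.cast_mul, hℓF, zero_mul]
  have h3 : orderOf (evG D χ (a * b * a⁻¹ * b⁻¹)) ∣ Nat.gcd ℓ (Nat.card ↥D) :=
    Nat.dvd_gcd (orderOf_dvd_of_pow_eq_one h1) (orderOf_dvd_of_pow_eq_one h2)
  rw [hcop, Nat.dvd_one, orderOf_eq_one_iff] at h3
  exact h3

variable (hkχ : k • χ = χ) (hno : ∀ s, Adm k t s → s • χ ≠ χ)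
include hkχ hno

omit hHn [Fintype (Ch F D)] in
/-- `k` commutes with a `k`-invariant `ℓ`-subgroup on the weight space -/
theorem kc_comm_P [FiniteDimensional F W] {ℓ : ℕ} (hℓ : ℓ.Prime) (hℓ2 : ℓ ≠ 2) (hℓ3 : ℓ ≠ 3)
    (hℓF : (ℓ : F) ≠ 0) (P : Subgroup Γ) (hPH : P ≤ H) (hP : IsPGroup ℓ ↥P)
    (hkP : Subgroup.zpowers k ≤ Subgroup.normalizer (P : Set Γ)) :
    ∀ g ∈ P, ∀ w ∈ Wt ρ D χ, ρ k (ρ g w) = ρ g (ρ k w) := by
  intro g hg w hw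
  by_cases hw0 : w = 0
  · rw [hw0, map_zero, map_zero, map_zero]
  have hk1 : k ≠ 1 := by
    intro h1
    apply hw0
    apply S.eq_zero_of_fixK hkχ hno hw
    rw [h1, map_one]; rfl
  have hok : orderOf k = 3 := by
    rcases (Nat.dvd_prime Nat.prime_three).mp S.orderOf_k_dvd with h | h
    · exact absurd (orderOf_eq_one_iff.mp h) hk1
    · exact h
  have hHSt : H ≤ MulAction.stabilizer Γ χ :=
    fun h hh => MulAction.mem_stabilizer_iff.mpr (hHχ h hh)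
  have hkSt : k ∈ MulAction.stabilizer Γ χ := MulAction.mem_stabilizer_iff.mpr hkχ
  have hzSt : Subgroup.zpowers k ≤ MulAction.stabilizer Γ χ := Subgroup.zpowers_le.mpr hkSt
  let ρ' : Representation F ↥(MulAction.stabilizer Γ χ) ↥(Wt ρ D χ) :=
    Representation.subrepresentation
      (MonoidHom.comp ρ (MulAction.stabilizer Γ χ).subtype :
        Representation F ↥(MulAction.stabilizer Γ χ) W) (Wt ρ D χ) (fun x w hw => by
      rw [Submodule.mem_comap]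
      exact Wt_inv_of_fix ρ D (MulAction.mem_stabilizer_iff.mp x.2) hw)
  have hρ' : ∀ (x : ↥(MulAction.stabilizer Γ χ)) (v : ↥(Wt ρ D χ)),
      ((ρ' x v : ↥(Wt ρ D χ)) : W) = ρ (x : Γ) (v : W) := fun x v => rfl
  have key := lin_hh (q := ℓ) (r := 3) hℓ Nat.prime_three hℓ3 hℓF (by exact_mod_cast S.h3) ρ'
    (P.subgroupOf (MulAction.stabilizer Γ χ))
    ((Subgroup.zpowers k).subgroupOf (MulAction.stabilizer Γ χ))
    (by
      intro x hx y hy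
      rw [Subgroup.mem_subgroupOf] at hx hy ⊢
      push_cast
      exact (Subgroup.mem_normalizer_iff.mp (hkP hx) _).mp hy)
    hP.comap_subtype
    (by
      rw [Nat.card_congr (Subgroup.subgroupOfEquivOfLe hzSt).toEquiv, Nat.card_zpowers, hok])
    (by
      rw [eq_bot_iff]
      intro v hv
      rw [mem_fixedBy] at hv
      have h1 := hv ⟨k, hkSt⟩ (Subgroup.mem_subgroupOf.mpr (Subgroup.mem_zpowers k))
      have h2 : ρ k (v : W) = (v : W) := by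
        rw [← hρ' ⟨k, hkSt⟩ v, h1]
      have h3 := S.eq_zero_of_fixK hkχ hno v.2 h2
      rw [Submodule.mem_bot]
      exact Subtype.ext h3)
    (Or.inl (fun h => hℓ2 h.1))
  have h1 := key ⟨g, hHSt (hPH hg)⟩ (Subgroup.mem_subgroupOf.mpr hg) ⟨k, hkSt⟩
    (Subgroup.mem_subgroupOf.mpr (Subgroup.mem_zpowers k))
  have h2 := congrArg (fun f : Module.End F ↥(Wt ρ D χ) => ((f ⟨w, hw⟩ : ↥(Wt ρ D χ)) : W)) h1
  exact h2

omit hHn [Fintype (Ch F D)] in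
theorem kc_L1 (P : Subgroup Γ)
    (hP : ∀ g ∈ P, ∀ w ∈ Wt ρ D χ, ρ k (ρ g w) = ρ g (ρ k w)) :
    ∀ g ∈ P, ∀ w ∈ Wt ρ D χ, ρ (g⁻¹ * (k * g * k⁻¹)) w = w := by
  intro g hg w hw
  have hw' : ρ k⁻¹ w ∈ Wt ρ D χ := Wt_inv_of_fix ρ D ((S.ki_smul_iff χ).mpr hkχ) hw
  have e1 : ρ k (ρ k⁻¹ w) = w := by
    have := rho_inv_rho ρ k⁻¹ w
    rwa [inv_inv] at this
  rw [rho_mul S, rho_mul S, rho_mul S, hP g hg _ hw', e1]
  exact rho_inv_rho ρ g w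

omit hHn [Fintype (Ch F D)] in
theorem kc_L2 (P : Subgroup Γ)
    (hP : ∀ g ∈ P, ∀ w ∈ Wt ρ D χ, ρ k (ρ g w) = ρ g (ρ k w))
    (hPD : ∀ h ∈ H, ∃ g ∈ P, ∃ d ∈ D, h = g * d) :
    ∀ h ∈ H, ∀ w ∈ Wt ρ D χ, ρ (h⁻¹ * (k * h * k⁻¹)) w = w := by
  intro h hh w hw
  obtain ⟨g, hg, d, hd, rfl⟩ := hPD h hh
  have e : (g * d)⁻¹ * (k * (g * d) * k⁻¹) =
      d⁻¹ * ((g⁻¹ * (k * g * k⁻¹)) * (k * d * k⁻¹)) := by group
  rw [e, rho_mul S, rho_mul S, rho_evG ρ D S.hDF hw (hDn.conj_mem d hd k), map_smul,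
    S.kc_L1 hHχ hkχ hno P hP g hg w hw, map_smul, rho_evG ρ D S.hDF hw (D.inv_mem hd), smul_smul,
    evG_conj D hkχ hd, evG_mul_inv D χ hd, one_smul]

/-- surjectivity of the commutator map with `k` modulo `D` -/
theorem kc_surj (hKD : ∀ h ∈ H, h⁻¹ * (k * h * k⁻¹) ∈ D → h ∈ D) :
    ∀ h ∈ H, ∃ h' ∈ H, ∃ d ∈ D, h = h'⁻¹ * (k * h' * k⁻¹) * d := by
  intro h hh
  have hfpf : ∀ x : ↥H ⧸ D.subgroupOf H, kap H D k x = x → x = 1 := by
    intro x hx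
    induction x using QuotientGroup.induction_on with
    | H y =>
      rw [kap_mk] at hx
      have hx' := hx.symm
      rw [QuotientGroup.eq, Subgroup.mem_subgroupOf] at hx'
      have e : ((y⁻¹ * MulAut.conjNormal k y : ↥H) : Γ) = (y : Γ)⁻¹ * (k * (y : Γ) * k⁻¹) := by
        push_cast
        rw [MulAut.conjNormal_apply]
      rw [e] at hx'
      rw [QuotientGroup.eq_one_iff, Subgroup.mem_subgroupOf]
      exact hKD _ y.2 hx'
  obtain ⟨a, -, ha⟩ := exists_comm (⊤ : Subgroup (↥H ⧸ D.subgroupOf H)) (kap H D k)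
    (fun _ _ => Subgroup.mem_top _) (fun x _ hx => hfpf x hx) (QuotientGroup.mk ⟨h, hh⟩)
    (Subgroup.mem_top _)
  obtain ⟨h', rfl⟩ := QuotientGroup.mk_surjective a
  rw [kap_mk, ← QuotientGroup.mk_inv, ← QuotientGroup.mk_mul] at ha
  have ha' := ha.symm
  rw [QuotientGroup.eq, Subgroup.mem_subgroupOf] at ha'
  refine ⟨h', h'.2, _, ha', ?_⟩
  push_cast
  rw [MulAut.conjNormal_apply]
  group

theorem kc_L4 (P : Subgroup Γ)
    (hP : ∀ g ∈ P, ∀ w ∈ Wt ρ D χ, ρ k (ρ g w) = ρ g (ρ k w))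
    (hPD : ∀ h ∈ H, ∃ g ∈ P, ∃ d ∈ D, h = g * d)
    (hKD : ∀ h ∈ H, h⁻¹ * (k * h * k⁻¹) ∈ D → h ∈ D) :
    ∀ h ∈ H, ∃ c : F, ∀ w ∈ Wt ρ D χ, ρ h w = c • w := by
  intro h hh
  obtain ⟨h', hh', d, hd, rfl⟩ := S.kc_surj hHχ hkχ hno hKD h hh
  refine ⟨evG D χ d, fun w hw => ?_⟩
  rw [rho_mul S, rho_evG ρ D S.hDF hw hd, map_smul, S.kc_L2 hHχ hkχ hno P hP hPD h' hh' w hw]

theorem kc_L5 (P : Subgroup Γ)
    (hP : ∀ g ∈ P, ∀ w ∈ Wt ρ D χ, ρ k (ρ g w) = ρ g (ρ k w))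
    (hPD : ∀ h ∈ H, ∃ g ∈ P, ∃ d ∈ D, h = g * d)
    (hKD : ∀ h ∈ H, h⁻¹ * (k * h * k⁻¹) ∈ D → h ∈ D) :
    ∀ a ∈ H, ∀ b ∈ H, ∀ w ∈ Wt ρ D χ, ρ (a * b * a⁻¹ * b⁻¹) w = w := by
  intro a ha b hb w hw
  obtain ⟨cb, hcb⟩ := S.kc_L4 hHχ hkχ hno P hP hPD hKD b hb
  have hv : ρ b⁻¹ w ∈ Wt ρ D χ := Wt_inv_of_fix ρ D (hHχ b⁻¹ (H.inv_mem hb)) hw
  have hv' : ρ a⁻¹ (ρ b⁻¹ w) ∈ Wt ρ D χ := Wt_inv_of_fix ρ D (hHχ a⁻¹ (H.inv_mem ha)) hv
  have e1 : ρ a (ρ a⁻¹ (ρ b⁻¹ w)) = ρ b⁻¹ w := by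
    have := rho_inv_rho ρ a⁻¹ (ρ b⁻¹ w)
    rwa [inv_inv] at this
  rw [rho_mul S, rho_mul S, rho_mul S, hcb _ hv', map_smul, e1, ← hcb _ hv]
  have := rho_inv_rho ρ b⁻¹ w
  rwa [inv_inv] at this

/-- the main theorem of this case -/
theorem kc_main [FiniteDimensional F W] {ℓ : ℕ} (hℓ : ℓ.Prime) (hℓ2 : ℓ ≠ 2) (hℓ3 : ℓ ≠ 3)
    (hℓD : ∀ h ∈ H, h ^ ℓ ∈ D) (hKD : ∀ h ∈ H, h⁻¹ * (k * h * k⁻¹) ∈ D → h ∈ D) :
    ∀ a ∈ H, ∀ b ∈ H, ∀ w ∈ Wt ρ D χ, ρ (a * b * a⁻¹ * b⁻¹) w = w := by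
  by_cases hℓF : (ℓ : F) = 0
  · intro a ha b hb w hw
    rw [rho_evG ρ D S.hDF hw (S.hcomm a ha b hb), S.kc_charl hHχ hℓ hℓD hℓF ha hb, one_smul]
  · haveI : Fact ℓ.Prime := ⟨hℓ⟩
    haveI : Fact (Nat.Prime 3) := ⟨Nat.prime_three⟩
    have hU : IsPGroup 3 ↥(Subgroup.zpowers k) := by
      rcases (Nat.dvd_prime Nat.prime_three).mp S.orderOf_k_dvd with h | h
      · exact IsPGroup.of_card (n := 0) (by rw [Nat.card_zpowers, h, pow_zero])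
      · exact IsPGroup.of_card (n := 1) (by rw [Nat.card_zpowers, h, pow_one])
    have hR : (Nat.card ↥H).Coprime 3 :=
      Nat.Coprime.coprime_dvd_right (by norm_num : 3 ∣ 6) S.hcop
    have hUR : Subgroup.zpowers k ≤ Subgroup.normalizer (H : Set Γ) := by
      rw [Subgroup.normalizer_eq_top]
      exact le_top
    obtain ⟨P, hPH, hP, hcard, hkP⟩ :=
      Cfsg.Agent.Helper15.exists_invariant_sylow_of_coprime ℓ hU hR hUR
    exact S.kc_L5 hHχ hkχ hno P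
      (S.kc_comm_P hHχ hkχ hno hℓ hℓ2 hℓ3 hℓF P hPH hP hkP)
      (exists_mul_of_sylow H D P hℓ S.hDH hPH hℓD hcard) hKD

end KCase

end Setup

end Cfsg.Agent.Helper1.S3F
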