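import Mathlib
import Cfsg.Agent.Lib.Helper1.S3FCoreK

/-!
# A weight fixed by `k` and an involution is trivial (helper1)
-/

set_option autoImplicit false
set_option linter.unusedSectionVars false

namespace Cfsg.Agent.Helper1.S3F

open Cfsg.Agent.Helper8.FrobLin Cfsg.Agent.Helper8.HHLin Cfsg.Agent.Helper1.GH4
open scoped Classical

attribute [local instance] dualAct

variable {F : Type*} [Field F] [IsAlgClosed F] {Γ : Type*} [Group Γ] [Finite Γ]
  {W : Type*} [AddCommGroup W] [Module F W]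

variable {ρ : Representation F Γ W} {H D : Subgroup Γ} {k t : Γ}

section Ker

variable (D) [hDn : D.Normal] [Fintype ↥D]

/-- the kernel of a weight -/
def kerE (χ : Ch F D) : Subgroup Γ where
  carrier := {y | y ∈ D ∧ evG D χ y = 1}
  one_mem' := ⟨D.one_mem, evG_one D χ⟩
  mul_mem' := by
    rintro a b ⟨ha, ha'⟩ ⟨hb, hb'⟩
    exact ⟨D.mul_mem ha hb, by rw [evG_mul D χ ha hb, ha', hb', one_mul]⟩
  inv_mem' := by
    rintro a ⟨ha, ha'⟩
    refine ⟨D.inv_mem ha, ?_⟩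
    have := evG_mul_inv D χ ha
    rwa [ha', one_mul] at this

/-- the part of the kernel of a weight centralised by `k` -/
def kerE' (χ : Ch F D) (k : Γ) : Subgroup Γ where
  carrier := {y | y ∈ kerE D χ ∧ k * y * k⁻¹ = y}
  one_mem' := ⟨Subgroup.one_mem _, by group⟩
  mul_mem' := by
    rintro a b ⟨ha, ha'⟩ ⟨hb, hb'⟩
    refine ⟨Subgroup.mul_mem _ ha hb, ?_⟩
    calc k * (a * b) * k⁻¹ = (k * a * k⁻¹) * (k * b * k⁻¹) := by group
      _ = a * b := by rw [ha', hb']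
  inv_mem' := by
    rintro a ⟨ha, ha'⟩
    refine ⟨Subgroup.inv_mem _ ha, ?_⟩
    calc k * a⁻¹ * k⁻¹ = (k * a * k⁻¹)⁻¹ := by group
      _ = a⁻¹ := by rw [ha']

end Ker

namespace Setup

variable (S : Setup ρ H D k t) [hDn : D.Normal] [Fintype ↥D]
include S

theorem ec_main {χ : Ch F D} (hkχ : k • χ = χ) {s : Γ} (hs : Adm k t s) (hsχ : s • χ = χ) :
    ∀ d ∈ D, evG D χ d = 1 := by
  intro d hd
  have hEH : kerE D χ ≤ H := fun y hy => S.hDH hy.1
  have hE'H : kerE' D χ k ≤ H := fun y hy => hEH hy.1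
  -- first step: a `k`-fixed element in the coset
  have hmem1 : d⁻¹ * (k * d * k⁻¹) ∈ kerE D χ := by
    refine ⟨D.mul_mem (D.inv_mem hd) (hDn.conj_mem d hd k), ?_⟩
    rw [evG_mul D χ (D.inv_mem hd) (hDn.conj_mem d hd k), evG_conj D hkχ hd, mul_comm,
      evG_mul_inv D χ hd]
  obtain ⟨c, hkc, hcE⟩ := exists_fixed_mem_coset (kerE D χ) k
    (fun y hy => ⟨hDn.conj_mem y hy.1 k, by rw [evG_conj D hkχ hy.1]; exact hy.2⟩)
    (S.coprime_k_sub _ hEH) d hmem1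
  have hcD : c ∈ D := by
    have : c = d * (d⁻¹ * c) := by group
    rw [this]
    exact D.mul_mem hd hcE.1
  -- conjugation by `s` preserves the centraliser of `k`
  have hsk : s * k * s⁻¹ = k⁻¹ := adm_conj S.htk hs
  have hsfix : ∀ y : Γ, k * y * k⁻¹ = y → k * (s * y * s⁻¹) * k⁻¹ = s * y * s⁻¹ := by
    intro y hy
    have hy' : k⁻¹ * y * k = y := by
      conv_lhs => rw [← hy]
      group
    have e : k = s * k⁻¹ * s⁻¹ := by
      have : s * k⁻¹ * s⁻¹ = (s * k * s⁻¹)⁻¹ := by group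
      rw [this, hsk, inv_inv]
    calc k * (s * y * s⁻¹) * k⁻¹ = (s * k⁻¹ * s⁻¹) * (s * y * s⁻¹) * (s * k⁻¹ * s⁻¹)⁻¹ := by
          rw [← e]
      _ = s * (k⁻¹ * y * k) * s⁻¹ := by group
      _ = s * y * s⁻¹ := by rw [hy']
  have hmem2 : c⁻¹ * (s * c * s⁻¹) ∈ kerE' D χ k := by
    refine ⟨⟨D.mul_mem (D.inv_mem hcD) (hDn.conj_mem c hcD s), ?_⟩, ?_⟩
    · rw [evG_mul D χ (D.inv_mem hcD) (hDn.conj_mem c hcD s), evG_conj D hsχ hcD, mul_comm,
        evG_mul_inv D χ hcD]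
    · calc k * (c⁻¹ * (s * c * s⁻¹)) * k⁻¹ = (k * c * k⁻¹)⁻¹ * (k * (s * c * s⁻¹) * k⁻¹) := by group
        _ = c⁻¹ * (s * c * s⁻¹) := by rw [hkc, hsfix c hkc]
  have hos : orderOf s ∣ 2 := orderOf_dvd_of_pow_eq_one (by rw [sq, adm_sq S.ht2 hs])
  have hcop2 : (orderOf s).Coprime (Nat.card ↥(kerE' D χ k)) := by
    have h2 : Nat.card ↥(kerE' D χ k) ∣ Nat.card H := Subgroup.card_dvd_of_le hE'H
    have h3 : (Nat.card H).Coprime 2 := Nat.Coprime.coprime_dvd_right (by norm_num) S.hcop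
    exact (Nat.Coprime.coprime_dvd_left h2 (Nat.Coprime.coprime_dvd_right hos h3)).symm
  obtain ⟨c', hsc', hc'E⟩ := exists_fixed_mem_coset (kerE' D χ k) s
    (fun y hy => ⟨⟨hDn.conj_mem y hy.1.1 s, by rw [evG_conj D hsχ hy.1.1]; exact hy.1.2⟩,
      hsfix y hy.2⟩)
    hcop2 c hmem2
  have hc'D : c' ∈ D := by
    have : c' = c * (c⁻¹ * c') := by group
    rw [this]
    exact D.mul_mem hcD hc'E.1.1
  have hkc' : k * c' * k⁻¹ = c' := by
    have e : c' = c * (c⁻¹ * c') := by group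
    calc k * c' * k⁻¹ = k * (c * (c⁻¹ * c')) * k⁻¹ := by rw [← e]
      _ = (k * c * k⁻¹) * (k * (c⁻¹ * c') * k⁻¹) := by group
      _ = c * (c⁻¹ * c') := by rw [hkc, hc'E.2]
      _ = c' := e.symm
  have hki : k⁻¹ * c' * k = c' := by
    conv_lhs => rw [← hkc']
    group
  have htc' : t * c' * t⁻¹ = c' := by
    rcases hs with e | e | e
    · rw [← e]; exact hsc'
    · have e2 : t = k⁻¹ * s * k := by rw [e]; group
      calc t * c' * t⁻¹ = k⁻¹ * (s * (k * c' * k⁻¹) * s⁻¹) * k := by rw [e2]; group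
        _ = c' := by rw [hkc', hsc', hki]
    · have e2 : t = k * s * k⁻¹ := by rw [e]; group
      calc t * c' * t⁻¹ = k * (s * (k⁻¹ * c' * k) * s⁻¹) * k⁻¹ := by rw [e2]; group
        _ = c' := by rw [hki, hsc', hkc']
  have hc'1 : c' = 1 := S.hCA c' (S.hDH hc'D) hkc' htc'
  rw [hc'1, mul_one] at hc'E
  have hc1 : evG D χ c = 1 := by
    have h1 := evG_mul_inv D χ hcD
    rwa [hc'E.1.2, mul_one] at h1
  have h2 : evG D χ (d⁻¹ * c) = 1 := hcE.2
  rw [evG_mul D χ (D.inv_mem hd) hcD, hc1, mul_one] at h2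
  have h3 := evG_mul_inv D χ hd
  rwa [h2, mul_one] at h3

end Setup

end Cfsg.Agent.Helper1.S3F
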