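import Mathlib
import Cfsg.Agent.Lib.Helper1.S3FCoreC
import Cfsg.Agent.Lib.Helper1.S3FCoreE

/-!
# The linear core of the theorem on fixed-point-free actions of `S₃` (helper1)
-/

set_option autoImplicit false
set_option linter.unusedSectionVars false

namespace Cfsg.Agent.Helper1.S3F

open Cfsg.Agent.Helper8.FrobLin Cfsg.Agent.Helper8.HHLin Cfsg.Agent.Helper1.GH4
open scoped Classical

attribute [local instance] dualAct

variable {F : Type*} [Field F] [IsAlgClosed F] {Γ : Type*} [Group Γ] [Finite Γ]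
  {W : Type*} [AddCommGroup W] [Module F W]

variable {ρ : Representation F Γ W} {H D : Subgroup Γ} {k t : Γ}

namespace Setup

variable (S : Setup ρ H D k t) [hHn : H.Normal] [hDn : D.Normal]
include S

/-- the quotient `H / D` is commutative -/
theorem quot_comm : ∀ x y : ↥H ⧸ D.subgroupOf H, x * y = y * x := by
  intro x y
  induction x using QuotientGroup.induction_on with
  | H a =>
    induction y using QuotientGroup.induction_on with
    | H b =>
      rw [← QuotientGroup.mk_mul, ← QuotientGroup.mk_mul, QuotientGroup.eq, Subgroup.mem_subgroupOf]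
      have h := S.hcomm _ (H.inv_mem b.2) _ (H.inv_mem a.2)
      have e : (((a * b)⁻¹ * (b * a) : ↥H) : Γ) =
          (b : Γ)⁻¹ * (a : Γ)⁻¹ * ((b : Γ)⁻¹)⁻¹ * ((a : Γ)⁻¹)⁻¹ := by
        push_cast
        group
      rw [e]
      exact h

section Dich

variable
  (hgen : ∀ N : Subgroup Γ, (∀ h ∈ H, ∀ g ∈ N, h * g * h⁻¹ ∈ N) → (∀ g ∈ N, k * g * k⁻¹ ∈ N) →
      (∀ g ∈ N, t * g * t⁻¹ ∈ N) → N.Normal)
  (hmax : ∀ N : Subgroup Γ, N.Normal → D ≤ N → N ≤ H → N = D ∨ N = H)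
include hgen hmax

/-- an invariant subgroup of `H / D` is trivial or everything -/
theorem dichotomy (M' : Subgroup (↥H ⧸ D.subgroupOf H))
    (hκ : ∀ x ∈ M', kap H D k x ∈ M') (hτ : ∀ x ∈ M', kap H D t x ∈ M') : M' = ⊥ ∨ M' = ⊤ := by
  have hmemM : ∀ g : Γ, g ∈ (M'.comap (QuotientGroup.mk' (D.subgroupOf H))).map H.subtype ↔
      ∃ hg : g ∈ H, (QuotientGroup.mk ⟨g, hg⟩ : ↥H ⧸ D.subgroupOf H) ∈ M' := by
    intro g
    constructor
    · rintro ⟨y, hy, rfl⟩
      exact ⟨y.2, hy⟩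
    · rintro ⟨hg, h⟩
      exact ⟨⟨g, hg⟩, h, rfl⟩
  have hconj : ∀ (a : Γ) (g : Γ) (hg : g ∈ H), (QuotientGroup.mk ⟨g, hg⟩ : ↥H ⧸ D.subgroupOf H) ∈ M' →
      kap H D a (QuotientGroup.mk ⟨g, hg⟩) ∈ M' →
      a * g * a⁻¹ ∈ (M'.comap (QuotientGroup.mk' (D.subgroupOf H))).map H.subtype := by
    intro a g hg _ h2
    rw [hmemM]
    refine ⟨hHn.conj_mem g hg a, ?_⟩
    rw [kap_mk] at h2
    have e : MulAut.conjNormal a (⟨g, hg⟩ : ↥H) = ⟨a * g * a⁻¹, hHn.conj_mem g hg a⟩ :=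
      Subtype.ext (MulAut.conjNormal_apply _ _)
    rw [e] at h2
    exact h2
  haveI hMn : ((M'.comap (QuotientGroup.mk' (D.subgroupOf H))).map H.subtype).Normal := by
    apply hgen
    · intro h hh g hg
      obtain ⟨hgH, hgM⟩ := (hmemM g).mp hg
      rw [hmemM]
      refine ⟨hHn.conj_mem g hgH h, ?_⟩
      have e : (⟨h * g * h⁻¹, hHn.conj_mem g hgH h⟩ : ↥H) = ⟨h, hh⟩ * ⟨g, hgH⟩ * ⟨h, hh⟩⁻¹ := rfl
      rw [e, QuotientGroup.mk_mul, QuotientGroup.mk_mul, QuotientGroup.mk_inv,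
        S.quot_comm (QuotientGroup.mk ⟨h, hh⟩) (QuotientGroup.mk ⟨g, hgH⟩), mul_assoc,
        mul_inv_cancel, mul_one]
      exact hgM
    · intro g hg
      obtain ⟨hgH, hgM⟩ := (hmemM g).mp hg
      exact hconj k g hgH hgM (hκ _ hgM)
    · intro g hg
      obtain ⟨hgH, hgM⟩ := (hmemM g).mp hg
      exact hconj t g hgH hgM (hτ _ hgM)
  have hDM : D ≤ (M'.comap (QuotientGroup.mk' (D.subgroupOf H))).map H.subtype := by
    intro d hd
    rw [hmemM]
    refine ⟨S.hDH hd, ?_⟩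
    have : (QuotientGroup.mk ⟨d, S.hDH hd⟩ : ↥H ⧸ D.subgroupOf H) = 1 := by
      rw [QuotientGroup.eq_one_iff, Subgroup.mem_subgroupOf]
      exact hd
    rw [this]
    exact M'.one_mem
  have hMH : (M'.comap (QuotientGroup.mk' (D.subgroupOf H))).map H.subtype ≤ H := by
    intro g hg
    exact ((hmemM g).mp hg).1
  rcases hmax _ hMn hDM hMH with h | h
  · left
    rw [eq_bot_iff]
    intro x hx
    obtain ⟨y, rfl⟩ := QuotientGroup.mk_surjective x
    have h1 : (y : Γ) ∈ (M'.comap (QuotientGroup.mk' (D.subgroupOf H))).map H.subtype :=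
      (hmemM _).mpr ⟨y.2, hx⟩
    rw [h] at h1
    rw [Subgroup.mem_bot, QuotientGroup.eq_one_iff, Subgroup.mem_subgroupOf]
    exact h1
  · right
    rw [eq_top_iff]
    intro x _
    obtain ⟨y, rfl⟩ := QuotientGroup.mk_surjective x
    have h1 : (y : Γ) ∈ (M'.comap (QuotientGroup.mk' (D.subgroupOf H))).map H.subtype := by
      rw [h]; exact y.2
    obtain ⟨_, h2⟩ := (hmemM _).mp h1
    exact h2

end Dich

section Main

variable
  (hgen : ∀ N : Subgroup Γ, (∀ h ∈ H, ∀ g ∈ N, h * g * h⁻¹ ∈ N) → (∀ g ∈ N, k * g * k⁻¹ ∈ N) →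
      (∀ g ∈ N, t * g * t⁻¹ ∈ N) → N.Normal)
  (hmax : ∀ N : Subgroup Γ, N.Normal → D ≤ N → N ≤ H → N = D ∨ N = H)
include hgen hmax

/-- the fixed points of `k` on `H / D` -/
def fixK (H D : Subgroup Γ) [H.Normal] [D.Normal] (k : Γ) : Subgroup (↥H ⧸ D.subgroupOf H) where
  carrier := {x | kap H D k x = x}
  one_mem' := map_one _
  mul_mem' := by
    intro a b ha hb
    show kap H D k (a * b) = a * b
    rw [map_mul, ha, hb]
  inv_mem' := by
    intro a ha
    show kap H D k a⁻¹ = a⁻¹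
    rw [map_inv, ha]

/-- the elements of order dividing `ℓ` in `H / D` -/
def torL (S : Setup ρ H D k t) [H.Normal] [D.Normal] (ℓ : ℕ) : Subgroup (↥H ⧸ D.subgroupOf H) where
  carrier := {x | x ^ ℓ = 1}
  one_mem' := one_pow _
  mul_mem' := by
    intro a b ha hb
    show (a * b) ^ ℓ = 1
    rw [(show Commute a b from S.quot_comm a b).mul_pow, ha, hb, one_mul]
  inv_mem' := by
    intro a ha
    show a⁻¹ ^ ℓ = 1
    rw [inv_pow, ha, inv_one]

/-- either `k` centralises `H / D` or it acts without fixed points -/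
theorem fixK_cases : (∀ h ∈ H, h⁻¹ * (k * h * k⁻¹) ∈ D) ∨
    (∀ h ∈ H, h⁻¹ * (k * h * k⁻¹) ∈ D → h ∈ D) := by
  have hmem : ∀ (h : Γ) (hh : h ∈ H), (QuotientGroup.mk ⟨h, hh⟩ : ↥H ⧸ D.subgroupOf H) ∈ fixK H D k ↔
      h⁻¹ * (k * h * k⁻¹) ∈ D := by
    intro h hh
    show kap H D k (QuotientGroup.mk ⟨h, hh⟩) = QuotientGroup.mk ⟨h, hh⟩ ↔ _
    rw [kap_mk, eq_comm, QuotientGroup.eq, Subgroup.mem_subgroupOf]
    have e : (((⟨h, hh⟩ : ↥H)⁻¹ * MulAut.conjNormal k (⟨h, hh⟩ : ↥H) : ↥H) : Γ) =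
        h⁻¹ * (k * h * k⁻¹) := by
      push_cast
      rw [MulAut.conjNormal_apply]
    rw [e]
  have hki : ∀ x : ↥H ⧸ D.subgroupOf H, kap H D k x = x → kap H D k⁻¹ x = x := by
    intro x hx
    conv_lhs => rw [← hx]
    rw [← kap_mul, inv_mul_cancel, kap_one]
  rcases S.dichotomy hgen hmax (fixK H D k)
    (fun x hx => by
      show kap H D k (kap H D k x) = kap H D k x
      exact congrArg (kap H D k) hx)
    (fun x hx => by
      show kap H D k (kap H D t x) = kap H D t x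
      rw [← kap_mul, ← S.tki, kap_mul, hki x hx]) with h | h
  · right
    intro x hx hxD
    have h1 := (hmem x hx).mpr hxD
    rw [h, Subgroup.mem_bot, QuotientGroup.eq_one_iff, Subgroup.mem_subgroupOf] at h1
    exact h1
  · left
    intro x hx
    rw [← hmem x hx, h]
    exact Subgroup.mem_top _

/-- `H / D` has prime exponent -/
theorem exists_prime_exponent (hne : D ≠ H) :
    ∃ ℓ : ℕ, ℓ.Prime ∧ ℓ ≠ 2 ∧ ℓ ≠ 3 ∧ ∀ h ∈ H, h ^ ℓ ∈ D := by
  have hcard : Nat.card (↥H ⧸ D.subgroupOf H) ≠ 1 := by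
    intro h1
    apply hne
    apply le_antisymm S.hDH
    have h2 : (D.subgroupOf H).index = 1 := by rw [Subgroup.index_eq_card, h1]
    rw [Subgroup.index_eq_one] at h2
    intro x hx
    have : (⟨x, hx⟩ : ↥H) ∈ D.subgroupOf H := by rw [h2]; exact Subgroup.mem_top _
    exact Subgroup.mem_subgroupOf.mp this
  obtain ⟨ℓ, hℓ, hdvd⟩ := Nat.exists_prime_and_dvd hcard
  haveI : Fact ℓ.Prime := ⟨hℓ⟩
  have hdvdH : ℓ ∣ Nat.card ↥H := hdvd.trans (Subgroup.card_quotient_dvd_card _)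
  have hℓ6 : Nat.Coprime ℓ 6 := Nat.Coprime.coprime_dvd_left hdvdH S.hcop
  have hℓ2 : ℓ ≠ 2 := by
    rintro rfl
    exact absurd hℓ6 (by decide)
  have hℓ3 : ℓ ≠ 3 := by
    rintro rfl
    exact absurd hℓ6 (by decide)
  refine ⟨ℓ, hℓ, hℓ2, hℓ3, ?_⟩
  obtain ⟨x₀, hx₀⟩ := exists_prime_orderOf_dvd_card' ℓ hdvd
  rcases S.dichotomy hgen hmax (S.torL ℓ)
    (fun x hx => by
      show (kap H D k x) ^ ℓ = 1
      rw [← map_pow, show x ^ ℓ = 1 from hx, map_one])
    (fun x hx => by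
      show (kap H D t x) ^ ℓ = 1
      rw [← map_pow, show x ^ ℓ = 1 from hx, map_one]) with h | h
  · exfalso
    have h1 : x₀ ∈ S.torL ℓ := by
      show x₀ ^ ℓ = 1
      rw [← hx₀]
      exact pow_orderOf_eq_one x₀
    rw [h, Subgroup.mem_bot] at h1
    rw [h1, orderOf_one] at hx₀
    exact hℓ.one_lt.ne hx₀
  · intro x hx
    have h1 : (QuotientGroup.mk ⟨x, hx⟩ : ↥H ⧸ D.subgroupOf H) ∈ S.torL ℓ := by
      rw [h]; exact Subgroup.mem_top _
    have h2 : (QuotientGroup.mk ⟨x, hx⟩ : ↥H ⧸ D.subgroupOf H) ^ ℓ = 1 := h1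
    rw [← QuotientGroup.mk_pow, QuotientGroup.eq_one_iff, Subgroup.mem_subgroupOf] at h2
    exact h2

/-- **The linear core**: `H` is abelian. -/
theorem core [FiniteDimensional F W] : ∀ a ∈ H, ∀ b ∈ H, a * b = b * a := by
  letI : Fintype ↥D := Fintype.ofFinite _
  letI : Fintype (Ch F D) := Fintype.ofFinite _
  by_cases hne : D = H
  · intro a ha b hb
    rw [← hne] at ha hb
    exact S.hDab a ha b hb
  rcases S.fixK_cases hgen hmax with hall | hKD
  · exact S.comm_of_K_trivial hall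
  obtain ⟨ℓ, hℓ, hℓ2, hℓ3, hℓD⟩ := S.exists_prime_exponent hgen hmax hne
  -- commutators act trivially on every weight space
  have key : ∀ χ : Ch F D, ∀ a ∈ H, ∀ b ∈ H, ∀ w ∈ Wt ρ D χ, ρ (a * b * a⁻¹ * b⁻¹) w = w := by
    intro χ
    by_cases hχ : Wt ρ D χ = ⊥
    · intro a _ b _ w hw
      rw [hχ, Submodule.mem_bot] at hw
      rw [hw, map_zero]
    have hDS : D ≤ MulAction.stabilizer Γ χ := by
      intro d hd
      rw [MulAction.mem_stabilizer_iff, smul_eq_iff]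
      intro d'
      have e : MulAut.conjNormal d⁻¹ d' = d' := by
        apply Subtype.ext
        rw [MulAut.conjNormal_apply, inv_inv, mul_assoc, S.hDab _ d'.2 _ hd, ← mul_assoc,
          inv_mul_cancel, one_mul]
      rw [e]
    have hWtne : ∀ h : Γ, Wt ρ D (h • χ) ≠ ⊥ := by
      intro h hbot
      obtain ⟨w, hw, hw0⟩ := exists_ne_zero_of_ne_bot ρ D hχ
      have h1 := rho_mem_Wt ρ D h hw
      rw [hbot, Submodule.mem_bot] at h1
      apply hw0
      rw [← rho_inv_rho ρ h w, h1, map_zero]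
    have hcov : ∀ h ∈ H, h⁻¹ * k * h ∈ MulAction.stabilizer Γ χ ∨
        h⁻¹ * t * h ∈ MulAction.stabilizer Γ χ ∨
        h⁻¹ * (k * t * k⁻¹) * h ∈ MulAction.stabilizer Γ χ ∨
        h⁻¹ * (k⁻¹ * t * k) * h ∈ MulAction.stabilizer Γ χ := by
      intro h hh
      have hconv : ∀ a : Γ, a • (h • χ) = h • χ → h⁻¹ * a * h ∈ MulAction.stabilizer Γ χ := by
        intro a ha
        rw [MulAction.mem_stabilizer_iff, mul_smul, mul_smul, ha, inv_smul_smul]
      rcases S.exists_fix (hWtne h) with e | e | e | e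
      · exact Or.inl (hconv _ e)
      · exact Or.inr (Or.inl (hconv _ e))
      · exact Or.inr (Or.inr (Or.inl (hconv _ e)))
      · exact Or.inr (Or.inr (Or.inr (hconv _ e)))
    have hW1 : ∀ w ∈ Wt ρ D χ, w ∈ W1 ρ H D χ := by
      intro w hw
      have h1 : w ∈ Wt ρ D ((1 : Γ) • χ) := by rw [one_smul]; exact hw
      exact Wt_le_W1 H.one_mem h1
    rcases cover H (MulAction.stabilizer Γ χ) D k t S.hk3 S.ht2 S.htk S.hcop S.hDH hDS S.hcomm
      hKD hcov with hHS | ⟨s, hs, hsS, hkS⟩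
    · -- the weight is invariant under `H`
      have hHχ : ∀ h ∈ H, h • χ = χ := fun h hh => MulAction.mem_stabilizer_iff.mp (hHS hh)
      by_cases hkχ : k • χ = χ
      · by_cases hex : ∃ s, Adm k t s ∧ s • χ = χ
        · obtain ⟨s, hs, hsχ⟩ := hex
          intro a ha b hb w hw
          rw [rho_evG ρ D S.hDF hw (S.hcomm a ha b hb),
            S.ec_main hkχ hs hsχ _ (S.hcomm a ha b hb), one_smul]
        · push Not at hex
          exact S.kc_main hHχ hkχ hex hℓ hℓ2 hℓ3 hℓD hKD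
      · have hex : ∃ s, Adm k t s ∧ s • χ = χ := by
          rcases S.exists_fix hχ with e | e | e | e
          · exact absurd e hkχ
          · exact ⟨t, Or.inl rfl, e⟩
          · exact ⟨_, Or.inr (Or.inl rfl), e⟩
          · exact ⟨_, Or.inr (Or.inr rfl), e⟩
        obtain ⟨s, hs, hsχ⟩ := hex
        have hsS : ∀ h ∈ H, (h⁻¹ * s * h) • χ = χ := by
          intro h hh
          rw [mul_smul, mul_smul, hHχ h hh, hsχ, hHχ h⁻¹ (H.inv_mem hh)]
        have hkS : ∀ h ∈ H, (h⁻¹ * k * h) • χ ≠ χ := by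
          intro h hh e
          apply hkχ
          rw [mul_smul, mul_smul, hHχ h hh] at e
          have e2 := congrArg (fun ψ => h • ψ) e
          simp only [smul_inv_smul] at e2
          rw [e2, hHχ h hh]
        intro a ha b hb w hw
        exact S.tc_main hs hsS hkS hgen a ha b hb w (hW1 w hw)
    · have hsS' : ∀ h ∈ H, (h⁻¹ * s * h) • χ = χ :=
        fun h hh => MulAction.mem_stabilizer_iff.mp (hsS h hh)
      have hkS' : ∀ h ∈ H, (h⁻¹ * k * h) • χ ≠ χ :=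
        fun h hh e => hkS h hh (MulAction.mem_stabilizer_iff.mpr e)
      intro a ha b hb w hw
      exact S.tc_main hs hsS' hkS' hgen a ha b hb w (hW1 w hw)
  intro a ha b hb
  have h1 : ρ (a * b * a⁻¹ * b⁻¹) = 1 :=
    rho_eq_one_of_Wt ρ D S.hDab S.hDF _ (fun χ w hw => key χ a ha b hb w hw)
  have h2 := S.hfaith _ (S.hDH (S.hcomm a ha b hb)) h1
  calc a * b = (a * b * a⁻¹ * b⁻¹) * (b * a) := by group
    _ = b * a := by rw [h2, one_mul]

end Main

end Setup

end Cfsg.Agent.Helper1.S3F
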