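import Mathlib
import Cfsg.Agent.Lib.Helper1.S3FAct

/-!
# The semidirect product with the acting group (helper1)
-/

set_option autoImplicit false

namespace Cfsg.Agent.Helper1.S3F

open Cfsg.Agent.Helper1.Fpf SemidirectProduct

section Semi

variable {A : Type*} [Group A] {G : Type*} [Group G] (φ : A →* MulAut G)

theorem inr_conj_inl (a : A) (g : G) :
    (inr a : G ⋊[φ] A) * inl g * (inr a)⁻¹ = inl (φ a g) := by
  rw [inl_aut, map_inv]

instance semi_finite [Finite A] [Finite G] : Finite (G ⋊[φ] A) :=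
  Finite.of_equiv _ (equivProd (φ := φ)).symm

/-- the image of an invariant normal subgroup is normal in the semidirect product -/
theorem map_inl_normal (N : Subgroup G) [hN : N.Normal] (hinv : InvA φ N) :
    (N.map (inl : G →* G ⋊[φ] A)).Normal := by
  constructor
  rintro _ ⟨n, hn, rfl⟩ x
  rw [← inl_left_mul_inr_right x]
  have e : (inl x.left * inr x.right : G ⋊[φ] A) * inl n * (inl x.left * inr x.right)⁻¹ =
      inl x.left * (inr x.right * inl n * (inr x.right)⁻¹) * (inl x.left)⁻¹ := by group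
  rw [e, inr_conj_inl, ← map_inv, ← map_mul, ← map_mul]
  exact ⟨_, hN.conj_mem _ (hinv x.right n hn) x.left, rfl⟩

theorem mem_map_inl {N : Subgroup G} {g : G} :
    (inl g : G ⋊[φ] A) ∈ N.map (inl : G →* G ⋊[φ] A) ↔ g ∈ N := by
  constructor
  · rintro ⟨n, hn, h⟩
    rw [inl_injective h] at hn
    exact hn
  · intro h
    exact ⟨g, h, rfl⟩

end Semi

section Lift

variable {G : Type*} [Group G] [Finite G] (φ : A3 →* MulAut G)

/-- a coset of an invariant subgroup fixed by the action contains a fixed element -/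
theorem lift_fixed_act (N : Subgroup G) (hN : InvA φ N) (hcop : (Nat.card N).Coprime 6) (g : G)
    (h3 : g⁻¹ * φ c3 g ∈ N) (h2 : g⁻¹ * φ s2 g ∈ N) :
    ∃ c, φ c3 c = c ∧ φ s2 c = c ∧ g⁻¹ * c ∈ N := by
  have hk3 : (inr c3 : G ⋊[φ] A3) ^ 3 = 1 := by rw [← map_pow, c3_pow, map_one]
  have ht2 : (inr s2 : G ⋊[φ] A3) ^ 2 = 1 := by rw [← map_pow, s2_pow, map_one]
  have htk : (inr s2 : G ⋊[φ] A3) * inr c3 * (inr s2)⁻¹ = (inr c3)⁻¹ := by
    rw [← map_inv, ← map_mul, ← map_mul, s2_c3, map_inv]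
  have hcard : (Nat.card ↥(N.map (inl : G →* G ⋊[φ] A3))).Coprime 6 := by
    rw [Subgroup.card_map_of_injective inl_injective]
    exact hcop
  obtain ⟨c, hkc, htc, hcY⟩ := lift_fixed (N.map (inl : G →* G ⋊[φ] A3)) (inr c3) (inr s2)
    hk3 ht2 htk
    (by
      rintro _ ⟨n, hn, rfl⟩
      rw [inr_conj_inl]
      exact ⟨_, hN c3 n hn, rfl⟩)
    (by
      rintro _ ⟨n, hn, rfl⟩
      rw [inr_conj_inl]
      exact ⟨_, hN s2 n hn, rfl⟩)
    hcard (inl g)
    (by
      rw [inr_conj_inl, ← map_inv, ← map_mul]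
      exact ⟨_, h3, rfl⟩)
    (by
      rw [inr_conj_inl, ← map_inv, ← map_mul]
      exact ⟨_, h2, rfl⟩)
  obtain ⟨n, hn, hnc⟩ := hcY
  have hc : c = inl (g * n) := by
    rw [map_mul, hnc]
    group
  rw [hc, inr_conj_inl] at hkc htc
  refine ⟨g * n, inl_injective hkc, inl_injective htc, ?_⟩
  rw [inv_mul_cancel_left]
  exact hn

/-- the action on the quotient by an invariant normal subgroup is fixed-point-free -/
theorem fpf_quot (hcop : (Nat.card G).Coprime 6) (hfpf : ∀ g : G, (∀ a, φ a g = g) → g = 1)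
    (N : Subgroup G) [N.Normal] (hN : InvA φ N) :
    ∀ q : G ⧸ N, (∀ a, quotHom φ N hN a q = q) → q = 1 := by
  intro q hq
  induction q using QuotientGroup.induction_on with
  | H g =>
    have hmem : ∀ a, g⁻¹ * φ a g ∈ N := by
      intro a
      have h1 := hq a
      rw [quotHom_mk] at h1
      have h2 := h1.symm
      rwa [QuotientGroup.eq] at h2
    obtain ⟨c, hc3, hc2, hcN⟩ := lift_fixed_act φ N hN
      (Nat.Coprime.coprime_dvd_left (Subgroup.card_subgroup_dvd_card N) hcop) g (hmem c3) (hmem s2)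
    have hc1 : c = 1 := hfpf c (fixed_all φ hc3 hc2)
    rw [hc1, mul_one] at hcN
    rw [QuotientGroup.eq_one_iff]
    have := N.inv_mem hcN
    rwa [inv_inv] at this

end Lift

end Cfsg.Agent.Helper1.S3F
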