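import Mathlib
import Cfsg.Agent.Lib.Helper1.S3FCore
import Cfsg.Agent.Lib.Helper1.S3FSemi
import Cfsg.Agent.Lib.Helper8.SecRep9

/-!
# From a linear realisation to the group-theoretic statement (helper1)
-/

set_option autoImplicit false
set_option linter.unusedSectionVars false

namespace Cfsg.Agent.Helper1.S3F

open Cfsg.Agent.Helper1.Fpf

section Abs

variable {G : Type*} [Group G] [Finite G] (φ : A3 →* MulAut G)

theorem glue_abs (hcop : (Nat.card G).Coprime 6) (hfpf : ∀ g : G, (∀ a, φ a g = g) → g = 1)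
    (C Db : Subgroup G) [hCn : C.Normal] [hDn : Db.Normal] (hCinv : InvA φ C)
    (hDinv : InvA φ Db) (r : ℕ) (hr : r.Prime)
    (hcommG : ∀ a b : G, a * b * a⁻¹ * b⁻¹ ∈ Db)
    (hDab : ∀ a ∈ Db, ∀ b ∈ Db, a * b * a⁻¹ * b⁻¹ ∈ C)
    (hmax : ∀ N : Subgroup G, N.Normal → InvA φ N → Db ≤ N → N = Db ∨ N = ⊤)
    (hrC : ∀ x ∈ Db, x ^ r ∈ C → x ∈ C)
    {F : Type*} [Field F] [IsAlgClosed F] {Γ : Type*} [Group Γ] [Finite Γ] {W : Type*}
    [AddCommGroup W] [Module F W] [FiniteDimensional F W]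
    (ρ : Representation F Γ W) (ι : G →* Γ) (kb tb : Γ)
    (hker : ∀ g, ι g = 1 ↔ g ∈ C)
    (hkb : ∀ g, kb * ι g * kb⁻¹ = ι (φ c3 g)) (htb : ∀ g, tb * ι g * tb⁻¹ = ι (φ s2 g))
    (hk3 : kb ^ 3 = 1) (ht2 : tb ^ 2 = 1) (htk : tb * kb * tb⁻¹ = kb⁻¹)
    (hgenΓ : ∀ N : Subgroup Γ, (∀ g, ∀ n ∈ N, ι g * n * (ι g)⁻¹ ∈ N) →
      (∀ n ∈ N, kb * n * kb⁻¹ ∈ N) → (∀ n ∈ N, tb * n * tb⁻¹ ∈ N) → N.Normal)
    (hWA : ∀ w : W, ρ kb w = w → ρ tb w = w → w = 0)
    (hfaith : ∀ g, ρ (ι g) = 1 → g ∈ C)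
    (h2 : (2 : F) ≠ 0) (h3 : (3 : F) ≠ 0) (hchar : ∀ n : ℕ, (n : F) = 0 → r ∣ n) :
    ∀ a b : G, a * b * a⁻¹ * b⁻¹ ∈ C := by
  haveI : Fact r.Prime := ⟨hr⟩
  have hHn : (ι.range).Normal := by
    apply hgenΓ
    · rintro g _ ⟨x, rfl⟩
      exact ⟨g * x * g⁻¹, by rw [map_mul, map_mul, map_inv]⟩
    · rintro _ ⟨x, rfl⟩
      exact ⟨φ c3 x, (hkb x).symm⟩
    · rintro _ ⟨x, rfl⟩
      exact ⟨φ s2 x, (htb x).symm⟩
  have hDnΓ : (Db.map ι).Normal := by
    apply hgenΓ
    · rintro g _ ⟨x, hx, rfl⟩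
      exact ⟨g * x * g⁻¹, hDn.conj_mem x hx g, by rw [map_mul, map_mul, map_inv]⟩
    · rintro _ ⟨x, hx, rfl⟩
      exact ⟨φ c3 x, hDinv c3 x hx, (hkb x).symm⟩
    · rintro _ ⟨x, hx, rfl⟩
      exact ⟨φ s2 x, hDinv s2 x hx, (htb x).symm⟩
  have hmemC : ∀ x y : G, ι x = ι y → x⁻¹ * y ∈ C := by
    intro x y h
    rw [← hker, map_mul, map_inv, h, inv_mul_cancel]
  have hcopC : (Nat.card C).Coprime 6 :=
    Nat.Coprime.coprime_dvd_left (Subgroup.card_subgroup_dvd_card C) hcop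
  have S : Setup ρ ι.range (Db.map ι) kb tb :=
    { hk3 := hk3
      ht2 := ht2
      htk := htk
      hcop := Nat.Coprime.coprime_dvd_left (Subgroup.card_range_dvd ι) hcop
      hCA := by
        rintro _ ⟨g, rfl⟩ h1 h2
        rw [hkb] at h1
        rw [htb] at h2
        obtain ⟨c, hc3, hc2, hcC⟩ := lift_fixed_act φ C hCinv hcopC g
          (hmemC _ _ h1.symm) (hmemC _ _ h2.symm)
        have hc1 : c = 1 := hfpf c (fixed_all φ hc3 hc2)
        rw [hc1, mul_one] at hcC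
        rw [hker]
        have := C.inv_mem hcC
        rwa [inv_inv] at this
      hWA := hWA
      hfaith := by
        rintro _ ⟨g, rfl⟩ h1
        rw [hker]
        exact hfaith g h1
      hDH := Subgroup.map_le_range ι Db
      hcomm := by
        rintro _ ⟨x, rfl⟩ _ ⟨y, rfl⟩
        exact ⟨x * y * x⁻¹ * y⁻¹, hcommG x y, by rw [map_mul, map_mul, map_mul, map_inv, map_inv]⟩
      hDab := by
        rintro _ ⟨x, hx, rfl⟩ _ ⟨y, hy, rfl⟩
        have h1 := (hker _).mpr (hDab x hx y hy)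
        rw [map_mul, map_mul, map_mul, map_inv, map_inv] at h1
        calc ι x * ι y = (ι x * ι y * (ι x)⁻¹ * (ι y)⁻¹) * (ι y * ι x) := by group
          _ = ι y * ι x := by rw [h1, one_mul]
      hDF := by
        intro h0
        have hdvd : r ∣ Nat.card ↥(Db.map ι) := hchar _ h0
        obtain ⟨d, hd⟩ := exists_prime_orderOf_dvd_card' r hdvd
        obtain ⟨d, x, hx, rfl⟩ := d
        have h1 : (⟨ι x, x, hx, rfl⟩ : ↥(Db.map ι)) ^ r = 1 := by
          rw [← hd]; exact pow_orderOf_eq_one _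
        have h2 : ι x ^ r = 1 := by
          have := congrArg Subtype.val h1
          simpa using this
        rw [← map_pow, hker] at h2
        have h3 := (hker x).mpr (hrC x hx h2)
        have h4 : (⟨ι x, x, hx, rfl⟩ : ↥(Db.map ι)) = 1 := Subtype.ext h3
        rw [h4, orderOf_one] at hd
        exact hr.one_lt.ne hd
      h2 := h2
      h3 := h3 }
  have hcore := S.core (hHn := hHn) (hDn := hDnΓ)
    (by
      intro N h1 h2 h3
      exact hgenΓ N (fun g n hn => h1 (ι g) ⟨g, rfl⟩ n hn) h2 h3)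
    (by
      intro N hNn hDN hNH
      have hN'n : (N.comap ι).Normal := hNn.comap ι
      have hN'inv : InvA φ (N.comap ι) := by
        apply A3_induction
        · intro x hx
          rw [map_one]
          exact hx
        · intro a ha x hx
          rw [map_mul, MulAut.mul_apply]
          have h1 := ha x hx
          rw [Subgroup.mem_comap] at h1 ⊢
          rw [← hkb]
          exact hNn.conj_mem _ h1 kb
        · intro a ha x hx
          rw [map_mul, MulAut.mul_apply]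
          have h1 := ha x hx
          rw [Subgroup.mem_comap] at h1 ⊢
          rw [← htb]
          exact hNn.conj_mem _ h1 tb
      have hDN' : Db ≤ N.comap ι := fun x hx => hDN ⟨x, hx, rfl⟩
      rcases hmax _ hN'n hN'inv hDN' with h | h
      · left
        apply le_antisymm _ hDN
        intro n hn
        obtain ⟨g, rfl⟩ := hNH hn
        have : g ∈ N.comap ι := hn
        rw [h] at this
        exact ⟨g, this, rfl⟩
      · right
        apply le_antisymm hNH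
        rintro _ ⟨g, rfl⟩
        have : g ∈ N.comap ι := by rw [h]; exact Subgroup.mem_top g
        exact this)
  intro a b
  rw [← hker, map_mul, map_mul, map_mul, map_inv, map_inv]
  have := hcore (ι a) ⟨a, rfl⟩ (ι b) ⟨b, rfl⟩
  rw [this]
  group

end Abs

section Real

open SemidirectProduct Cfsg.Agent.Helper8.SecRep Cfsg.Agent.Helper8.FrobLin TensorProduct

universe u

variable {G : Type u} [Group G] [Finite G] (φ : A3 →* MulAut G)

theorem invA_centralizer (V : Subgroup G) (hVinv : InvA φ V) :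
    InvA φ (Subgroup.centralizer (V : Set G)) := by
  intro a x hx
  rw [Subgroup.mem_centralizer_iff] at hx ⊢
  intro v hv
  have hv' : (φ a).symm v ∈ V := (hVinv a).symm v hv
  have h1 := hx _ hv'
  have h2 := congrArg (φ a) h1
  rw [map_mul, map_mul, MulEquiv.apply_symm_apply] at h2
  exact h2

theorem card_A3 : Nat.card A3 = 6 := by
  rw [Nat.card_eq_fintype_card, Fintype.card_perm, Fintype.card_fin]
  rfl

theorem glue (hcop : (Nat.card G).Coprime 6) (hfpf : ∀ g : G, (∀ a, φ a g = g) → g = 1)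
    (V Db : Subgroup G) [hVn : V.Normal] [hDn : Db.Normal] (hVinv : InvA φ V)
    (hDinv : InvA φ Db) (r : ℕ) [hr : Fact r.Prime] (hr6 : Nat.Coprime r 6)
    (hVc : ∀ x ∈ V, ∀ y ∈ V, x * y = y * x) (hVp : ∀ x ∈ V, x ^ r = 1)
    (hcommG : ∀ a b : G, a * b * a⁻¹ * b⁻¹ ∈ Db)
    (hDab : ∀ a ∈ Db, ∀ b ∈ Db, a * b * a⁻¹ * b⁻¹ ∈ Subgroup.centralizer (V : Set G))
    (hmax : ∀ N : Subgroup G, N.Normal → InvA φ N → Db ≤ N → N = Db ∨ N = ⊤)
    (hrC : ∀ x ∈ Db, x ^ r ∈ Subgroup.centralizer (V : Set G) →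
      x ∈ Subgroup.centralizer (V : Set G)) :
    ∀ a b : G, a * b * a⁻¹ * b⁻¹ ∈ Subgroup.centralizer (V : Set G) := by
  have hCinv := invA_centralizer φ V hVinv
  set V₀ : Subgroup (G ⋊[φ] A3) := V.map inl with hV₀
  set C₀ : Subgroup (G ⋊[φ] A3) := (Subgroup.centralizer (V : Set G)).map inl with hC₀
  have hV₀c : ∀ x ∈ V₀, ∀ y ∈ V₀, x * y = y * x := by
    rintro _ ⟨x, hx, rfl⟩ _ ⟨y, hy, rfl⟩
    rw [← map_mul, ← map_mul, hVc x hx y hy]
  have hV₀p : ∀ x ∈ V₀, x ^ r = 1 := by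
    rintro _ ⟨x, hx, rfl⟩
    rw [← map_pow, hVp x hx, map_one]
  haveI hV₀n : V₀.Normal := map_inl_normal φ V hVinv
  haveI hC₀n : C₀.Normal := map_inl_normal φ _ hCinv
  have hΓ : (⊤ : Subgroup (G ⋊[φ] A3)) ≤ Subgroup.normalizer (V₀ : Set (G ⋊[φ] A3)) := by
    rw [Subgroup.normalizer_eq_top]
  -- centralisers
  have hcent : ∀ g : G, (inl g : G ⋊[φ] A3) ∈ Subgroup.centralizer (V₀ : Set (G ⋊[φ] A3)) ↔
      g ∈ Subgroup.centralizer (V : Set G) := by
    intro g
    rw [Subgroup.mem_centralizer_iff, Subgroup.mem_centralizer_iff]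
    constructor
    · intro h v hv
      have h1 := h (inl v) ⟨v, hv, rfl⟩
      rw [← map_mul, ← map_mul] at h1
      exact inl_injective h1
    · rintro h _ ⟨v, hv, rfl⟩
      rw [← map_mul, ← map_mul, h v hv]
  -- the representation
  set ρ₀ := linRep V₀ ⊤ r hV₀c hV₀p hΓ with hρ₀
  set ρ₁ : (G ⋊[φ] A3) →* Module.End (LK r) (LK r ⊗[ZMod r] SecW (isSec_bot V₀ r hV₀c hV₀p)) :=
    ρ₀.comp (Subgroup.topEquiv (G := G ⋊[φ] A3)).symm.toMonoidHom with hρ₁
  have hρ₁a : ∀ x : G ⋊[φ] A3, ρ₁ x = ρ₀ ⟨x, Subgroup.mem_top x⟩ := fun x => rfl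
  have hρ₁one : ∀ x : G ⋊[φ] A3, ρ₁ x = 1 ↔ x ∈ Subgroup.centralizer (V₀ : Set (G ⋊[φ] A3)) :=
    fun x => linRep_eq_one_iff V₀ ⊤ r hV₀c hV₀p hΓ ⟨x, Subgroup.mem_top x⟩
  have hkerρ : C₀ ≤ ρ₁.ker := by
    rintro _ ⟨c, hc, rfl⟩
    rw [MonoidHom.mem_ker, hρ₁one, hcent]
    exact hc
  set ρ : Representation (LK r) ((G ⋊[φ] A3) ⧸ C₀)
      (LK r ⊗[ZMod r] SecW (isSec_bot V₀ r hV₀c hV₀p)) := QuotientGroup.lift C₀ ρ₁ hkerρ with hρ
  have hρmk : ∀ x : G ⋊[φ] A3, ρ (QuotientGroup.mk x) = ρ₁ x := fun x => rfl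
  set ι : G →* (G ⋊[φ] A3) ⧸ C₀ := (QuotientGroup.mk' C₀).comp inl with hι
  have hιa : ∀ g : G, ι g = QuotientGroup.mk (inl g) := fun g => rfl
  have hconj : ∀ (a : A3) (g : G),
      (QuotientGroup.mk (inr a) : (G ⋊[φ] A3) ⧸ C₀) * ι g * (QuotientGroup.mk (inr a))⁻¹ =
        ι (φ a g) := by
    intro a g
    rw [hιa, hιa, ← QuotientGroup.mk_inv, ← QuotientGroup.mk_mul, ← QuotientGroup.mk_mul,
      inr_conj_inl]
  -- fixed vectors
  have hpA : ¬ r ∣ Nat.card ↥(inr : A3 →* G ⋊[φ] A3).range := by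
    intro h
    have h1 : r ∣ 6 := by
      rw [← card_A3]
      exact h.trans (Subgroup.card_range_dvd _)
    exact (Nat.Prime.coprime_iff_not_dvd hr.out).mp hr6 h1
  have hfixbot : fixedBy ρ₀ ((inr : A3 →* G ⋊[φ] A3).range.subgroupOf ⊤) = ⊥ := by
    have h1 := linRep_fixed V₀ ⊤ r hV₀c hV₀p hΓ (inr : A3 →* G ⋊[φ] A3).range le_top hpA
    have h2 : V₀ ⊓ Subgroup.centralizer (((inr : A3 →* G ⋊[φ] A3).range : Subgroup _) :
        Set (G ⋊[φ] A3)) = ⊥ := by
      rw [eq_bot_iff]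
      intro x hx
      obtain ⟨hx1, hx2⟩ := Subgroup.mem_inf.mp hx
      obtain ⟨v, hv, rfl⟩ := hx1
      rw [Subgroup.mem_centralizer_iff] at hx2
      have hv1 : v = 1 := by
        apply hfpf
        intro a
        have h3 := hx2 (inr a) ⟨a, rfl⟩
        apply inl_injective (φ := φ)
        rw [← inr_conj_inl, h3, mul_inv_cancel_right]
      rw [hv1, map_one]
      exact Subgroup.mem_bot.mpr rfl
    rw [h2, Subgroup.card_bot] at h1
    have h3 : Module.finrank (LK r) ↥(fixedBy ρ₀ ((inr : A3 →* G ⋊[φ] A3).range.subgroupOf ⊤)) = 0 := by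
      rcases Nat.pow_eq_one.mp h1 with h4 | h4
      · exact absurd h4 hr.out.one_lt.ne'
      · exact h4
    exact Submodule.finrank_eq_zero.mp h3
  apply glue_abs φ hcop hfpf (Subgroup.centralizer (V : Set G)) Db hCinv hDinv r hr.out hcommG hDab
    hmax hrC ρ ι (QuotientGroup.mk (inr c3)) (QuotientGroup.mk (inr s2))
  · -- kernel
    intro g
    rw [hιa, QuotientGroup.eq_one_iff]
    exact mem_map_inl φ
  · exact fun g => hconj c3 g
  · exact fun g => hconj s2 g
  · rw [← QuotientGroup.mk_pow, ← map_pow, c3_pow, map_one, QuotientGroup.mk_one]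
  · rw [← QuotientGroup.mk_pow, ← map_pow, s2_pow, map_one, QuotientGroup.mk_one]
  · rw [← QuotientGroup.mk_inv, ← QuotientGroup.mk_mul, ← QuotientGroup.mk_mul, ← map_inv,
      ← map_mul, ← map_mul, s2_c3, map_inv, QuotientGroup.mk_inv]
  · -- generation
    intro N h1 h2 h3
    have hA : ∀ a : A3, ∀ n ∈ N, (QuotientGroup.mk (inr a) : (G ⋊[φ] A3) ⧸ C₀) * n *
        (QuotientGroup.mk (inr a))⁻¹ ∈ N := by
      apply A3_induction
      · intro n hn
        rw [map_one, QuotientGroup.mk_one, one_mul, inv_one, mul_one]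
        exact hn
      · intro a ha n hn
        have e : (QuotientGroup.mk (inr (c3 * a)) : (G ⋊[φ] A3) ⧸ C₀) * n *
            (QuotientGroup.mk (inr (c3 * a)))⁻¹ =
            QuotientGroup.mk (inr c3) * (QuotientGroup.mk (inr a) * n *
              (QuotientGroup.mk (inr a))⁻¹) * (QuotientGroup.mk (inr c3))⁻¹ := by
          rw [map_mul, QuotientGroup.mk_mul]
          group
        rw [e]
        exact h2 _ (ha n hn)
      · intro a ha n hn
        have e : (QuotientGroup.mk (inr (s2 * a)) : (G ⋊[φ] A3) ⧸ C₀) * n *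
            (QuotientGroup.mk (inr (s2 * a)))⁻¹ =
            QuotientGroup.mk (inr s2) * (QuotientGroup.mk (inr a) * n *
              (QuotientGroup.mk (inr a))⁻¹) * (QuotientGroup.mk (inr s2))⁻¹ := by
          rw [map_mul, QuotientGroup.mk_mul]
          group
        rw [e]
        exact h3 _ (ha n hn)
    constructor
    intro n hn γ
    obtain ⟨x, rfl⟩ := QuotientGroup.mk_surjective γ
    have e : (QuotientGroup.mk x : (G ⋊[φ] A3) ⧸ C₀) =
        ι x.left * QuotientGroup.mk (inr x.right) := by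
      rw [hιa, ← QuotientGroup.mk_mul, inl_left_mul_inr_right]
    rw [e]
    have e2 : ι x.left * QuotientGroup.mk (inr x.right) * n *
        (ι x.left * QuotientGroup.mk (inr x.right))⁻¹ =
        ι x.left * (QuotientGroup.mk (inr x.right) * n * (QuotientGroup.mk (inr x.right))⁻¹) *
          (ι x.left)⁻¹ := by group
    rw [e2]
    exact h1 _ _ (hA _ n hn)
  · -- fixed vectors
    intro w hw3 hw2
    rw [hρmk] at hw3 hw2
    have hall : ∀ a : A3, ρ₁ (inr a) w = w := by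
      apply A3_induction
      · rw [map_one, map_one]; rfl
      · intro a ha
        rw [map_mul, map_mul]
        show ρ₁ (inr c3) (ρ₁ (inr a) w) = w
        rw [ha, hw3]
      · intro a ha
        rw [map_mul, map_mul]
        show ρ₁ (inr s2) (ρ₁ (inr a) w) = w
        rw [ha, hw2]
    have hmem : w ∈ fixedBy ρ₀ ((inr : A3 →* G ⋊[φ] A3).range.subgroupOf ⊤) := by
      rw [mem_fixedBy]
      rintro ⟨x, hx⟩ hxA
      rw [Subgroup.mem_subgroupOf] at hxA
      obtain ⟨a, rfl⟩ := hxA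
      exact hall a
    rw [hfixbot, Submodule.mem_bot] at hmem
    exact hmem
  · -- faithfulness
    intro g hg
    rw [hιa, hρmk, hρ₁one, hcent] at hg
    exact hg
  · exact natCast_ne_zero_of_not_dvd (ℓ := r) (LK r) (n := 2) (fun h =>
      (Nat.Prime.coprime_iff_not_dvd hr.out).mp hr6 (h.trans (by norm_num)))
  · exact natCast_ne_zero_of_not_dvd (ℓ := r) (LK r) (n := 3) (fun h =>
      (Nat.Prime.coprime_iff_not_dvd hr.out).mp hr6 (h.trans (by norm_num)))
  · intro n hn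
    exact (CharP.cast_eq_zero_iff (LK r) r n).mp hn

end Real

end Cfsg.Agent.Helper1.S3F
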