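import Mathlib
import Cfsg.Agent.Lib.Helper1.S3FGlue

/-!
# Fixed-point-free coprime actions of `S₃` on solvable groups (helper1)

The derived subgroup centralises every minimal invariant normal subgroup, and is nilpotent.
-/

set_option autoImplicit false

namespace Cfsg.Agent.Helper1.S3F

open Cfsg.Agent.Helper1.Fpf
open scoped commutatorElement

universe u

section Aux

variable {G : Type*} [Group G] [Finite G] (φ : A3 →* MulAut G)

theorem invA_commutator {N : Subgroup G} (hN : InvA φ N) : InvA φ ⁅N, N⁆ := by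
  intro a x hx
  have h1 : (⁅N, N⁆).map (φ a).toMonoidHom = ⁅N, N⁆ := by
    rw [Subgroup.map_commutator, (hN a).map_eq]
  rw [← h1]
  exact Subgroup.mem_map_of_mem _ hx

theorem invA_inf {N M : Subgroup G} (hN : InvA φ N) (hM : InvA φ M) : InvA φ (N ⊓ M) :=
  fun a x hx => ⟨hN a x hx.1, hM a x hx.2⟩

theorem invA_sup_commutator {N : Subgroup G} (hN : InvA φ N) : InvA φ (N ⊔ commutator G) := by
  intro a x hx
  have h1 : (N ⊔ commutator G).map (φ a).toMonoidHom = N ⊔ commutator G := by
    rw [Subgroup.map_sup, (hN a).map_eq, commutator_def, Subgroup.map_commutator]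
    have : (⊤ : Subgroup G).map (φ a).toMonoidHom = ⊤ :=
      Subgroup.map_top_of_surjective _ (φ a).surjective
    rw [this]
  rw [← h1]
  exact Subgroup.mem_map_of_mem _ hx

/-- a proper normal subgroup of a solvable group together with the derived subgroup is proper -/
theorem sup_commutator_ne_top [Group.IsSolvable G] (C : Subgroup G) [C.Normal] (hC : C ≠ ⊤) :
    C ⊔ commutator G ≠ ⊤ := by
  intro htop
  haveI : Nontrivial (G ⧸ C) := by
    by_contra h
    rw [not_nontrivial_iff_subsingleton] at h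
    exact hC (QuotientGroup.subgroup_eq_top_of_subsingleton C h)
  have hlt := Group.IsSolvable.commutator_lt_top_of_nontrivial (G ⧸ C)
  have h1 : (C ⊔ commutator G).map (QuotientGroup.mk' C) = ⊤ := by
    rw [htop]
    exact Subgroup.map_top_of_surjective _ (QuotientGroup.mk'_surjective C)
  have h2 : (C ⊔ commutator G).map (QuotientGroup.mk' C) ≤ commutator (G ⧸ C) := by
    rw [Subgroup.map_sup, QuotientGroup.map_mk'_self, bot_sup_eq, commutator_def,
      Subgroup.map_commutator, commutator_def]
    exact Subgroup.commutator_mono le_top le_top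
  rw [h1] at h2
  exact hlt.ne (top_le_iff.mp h2)

end Aux

theorem P2 : ∀ (n : ℕ) (G : Type u) [Group G] [Finite G], Nat.card G = n → Group.IsSolvable G →
    (Nat.card G).Coprime 6 → ∀ φ : A3 →* MulAut G, (∀ g : G, (∀ a, φ a g = g) → g = 1) →
    ∀ V : Subgroup G, V.Normal → InvA φ V → V ≠ ⊥ →
    (∀ N : Subgroup G, N.Normal → InvA φ N → N ≤ V → N = ⊥ ∨ N = V) →
    ∀ a b : G, a * b * a⁻¹ * b⁻¹ ∈ Subgroup.centralizer (V : Set G) := by
  intro n
  induction n using Nat.strong_induction_on with
  | _ n ih =>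
  intro G _ _ hcard hsol hcop φ hfpf V hVn hVinv hV1 hmin
  haveI := hVn
  haveI := hsol
  -- `V` is abelian
  have hVab : ∀ a ∈ V, ∀ b ∈ V, a * b = b * a := by
    have hD : ⁅V, V⁆ = ⊥ := by
      have hlt : ⁅V, V⁆ < V := Group.IsSolvable.commutator_lt_of_ne_bot hV1
      rcases hmin ⁅V, V⁆ inferInstance (invA_commutator φ hVinv) hlt.le with h | h
      · exact h
      · exact absurd h hlt.ne
    rw [Subgroup.commutator_eq_bot_iff_le_centralizer] at hD
    intro a ha b hb
    exact (Subgroup.mem_centralizer_iff.mp (hD ha) b hb).symm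
  -- `V` has prime exponent
  have hVcard : Nat.card V ≠ 1 := fun h => hV1 (Subgroup.card_eq_one.mp h)
  obtain ⟨r, hr, hrdvd⟩ := Nat.exists_prime_and_dvd hVcard
  haveI : Fact r.Prime := ⟨hr⟩
  have hVexp : ∀ a ∈ V, a ^ r = 1 := by
    let W : Subgroup G :=
      { carrier := {a | a ∈ V ∧ a ^ r = 1}
        one_mem' := ⟨V.one_mem, one_pow r⟩
        mul_mem' := fun {a b} ha hb =>
          ⟨V.mul_mem ha.1 hb.1, by
            rw [(show Commute a b from hVab a ha.1 b hb.1).mul_pow, ha.2, hb.2, one_mul]⟩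
        inv_mem' := fun {a} ha => ⟨V.inv_mem ha.1, by rw [inv_pow, ha.2, inv_one]⟩ }
    have hWn : W.Normal := ⟨fun a ha x => ⟨hVn.conj_mem a ha.1 x, by
      rw [conj_pow, ha.2, mul_one, mul_inv_cancel]⟩⟩
    have hWinv : InvA φ W := fun c a ha => ⟨hVinv c a ha.1, by rw [← map_pow, ha.2, map_one]⟩
    have hWV : W ≤ V := fun a ha => ha.1
    have hW1 : W ≠ ⊥ := by
      obtain ⟨x, hx⟩ := exists_prime_orderOf_dvd_card' (G := V) r hrdvd
      intro hbot
      have hxW : (x : G) ∈ W := by
        refine ⟨x.2, ?_⟩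
        have : x ^ r = 1 := by rw [← hx]; exact pow_orderOf_eq_one x
        have h2 := congrArg Subtype.val this
        simpa using h2
      rw [hbot, Subgroup.mem_bot] at hxW
      have : x = 1 := Subtype.ext hxW
      rw [this, orderOf_one] at hx
      exact hr.one_lt.ne hx
    have hWeq : W = V := (hmin W hWn hWinv hWV).resolve_left hW1
    intro a ha
    have : a ∈ W := hWeq ▸ ha
    exact this.2
  have hr6 : Nat.Coprime r 6 :=
    Nat.Coprime.coprime_dvd_left (hrdvd.trans (Subgroup.card_subgroup_dvd_card V)) hcop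
  -- the centraliser
  have hCinv := invA_centralizer φ V hVinv
  by_cases hCtop : Subgroup.centralizer (V : Set G) = ⊤
  · intro a b
    rw [hCtop]
    exact Subgroup.mem_top _
  have hVC : V ≤ Subgroup.centralizer (V : Set G) := by
    intro v hv
    rw [Subgroup.mem_centralizer_iff]
    intro w hw
    exact hVab w hw v hv
  -- a maximal proper invariant normal subgroup
  obtain ⟨Db, hDbmax⟩ := exists_maximal_of_wellFoundedGT
    (fun N : Subgroup G => N.Normal ∧ InvA φ N ∧
      Subgroup.centralizer (V : Set G) ⊔ commutator G ≤ N ∧ N ≠ ⊤)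
    ⟨Subgroup.centralizer (V : Set G) ⊔ commutator G, inferInstance,
      invA_sup_commutator φ hCinv, le_rfl, sup_commutator_ne_top _ hCtop⟩
  obtain ⟨hDn, hDinv, hDle, hDtop⟩ := hDbmax.prop
  haveI := hDn
  have hCDb : Subgroup.centralizer (V : Set G) ≤ Db := le_trans le_sup_left hDle
  have hVDb : V ≤ Db := hVC.trans hCDb
  have hcommG : ∀ a b : G, a * b * a⁻¹ * b⁻¹ ∈ Db := by
    intro a b
    apply hDle
    apply Subgroup.mem_sup_right
    rw [← commutatorElement_def, commutator_def]
    exact Subgroup.commutator_mem_commutator (Subgroup.mem_top a) (Subgroup.mem_top b)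
  have hmax : ∀ N : Subgroup G, N.Normal → InvA φ N → Db ≤ N → N = Db ∨ N = ⊤ := by
    intro N hNn hNinv hDN
    by_cases hN : N = ⊤
    · exact Or.inr hN
    · left
      exact le_antisymm (hDbmax.le_of_ge ⟨hNn, hNinv, hDle.trans hDN, hN⟩ hDN) hDN
  -- the derived subgroup of `Db` centralises `V`
  have hDab : ∀ a ∈ Db, ∀ b ∈ Db, a * b * a⁻¹ * b⁻¹ ∈ Subgroup.centralizer (V : Set G) := by
    have hlt : Nat.card ↥Db < n := by
      rw [← hcard]
      apply lt_of_le_of_ne (Subgroup.card_le_card_group Db)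
      intro h
      exact hDtop (Subgroup.eq_top_of_card_eq Db h)
    have hcopD : (Nat.card ↥Db).Coprime 6 :=
      Nat.Coprime.coprime_dvd_left (Subgroup.card_subgroup_dvd_card Db) hcop
    have hfpfD : ∀ g : ↥Db, (∀ a, restrictHom φ Db hDinv a g = g) → g = 1 := by
      intro g hg
      apply Subtype.ext
      apply hfpf
      intro a
      have := congrArg Subtype.val (hg a)
      rwa [restrictHom_apply] at this
    obtain ⟨V₁, hV₁min⟩ := exists_minimal_of_wellFoundedLT
      (fun N : Subgroup ↥Db => N.Normal ∧ InvA (restrictHom φ Db hDinv) N ∧ N ≠ ⊥ ∧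
        N ≤ V.subgroupOf Db)
      ⟨V.subgroupOf Db, inferInstance,
        (by
          intro a x hx
          rw [Subgroup.mem_subgroupOf] at hx ⊢
          rw [restrictHom_apply]
          exact hVinv a _ hx),
        (by
          intro h
          obtain ⟨v, hv⟩ := (Subgroup.ne_bot_iff_exists_ne_one).mp hV1
          have h1 : (⟨(v : G), hVDb v.2⟩ : ↥Db) ∈ V.subgroupOf Db :=
            Subgroup.mem_subgroupOf.mpr v.2
          rw [h, Subgroup.mem_bot] at h1
          apply hv
          apply Subtype.ext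
          have h2 : ((⟨(v : G), hVDb v.2⟩ : ↥Db) : G) = ((1 : ↥Db) : G) := congrArg Subtype.val h1
          exact h2),
        le_rfl⟩
    obtain ⟨hV₁n, hV₁inv, hV₁1, hV₁V⟩ := hV₁min.prop
    have hV₁min' : ∀ N : Subgroup ↥Db, N.Normal → InvA (restrictHom φ Db hDinv) N → N ≤ V₁ →
        N = ⊥ ∨ N = V₁ := by
      intro N hNn hNinv hNV
      by_cases hN1 : N = ⊥
      · exact Or.inl hN1
      · exact Or.inr (le_antisymm hNV (hV₁min.le_of_le ⟨hNn, hNinv, hN1, hNV.trans hV₁V⟩ hNV))
    have hIH := ih _ hlt ↥Db rfl inferInstance hcopD (restrictHom φ Db hDinv) hfpfD V₁ hV₁n hV₁inv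
      hV₁1 hV₁min'
    obtain ⟨v₁, hv₁⟩ := (Subgroup.ne_bot_iff_exists_ne_one).mp hV₁1
    have hv₁V : ((v₁ : ↥Db) : G) ∈ V := Subgroup.mem_subgroupOf.mp (hV₁V v₁.2)
    have hcent : ⁅Db, Db⁆ ≤ Subgroup.centralizer ({((v₁ : ↥Db) : G)} : Set G) := by
      rw [Subgroup.commutator_le]
      intro a ha b hb
      rw [Subgroup.mem_centralizer_iff]
      intro w hw
      rw [Set.mem_singleton_iff] at hw
      rw [hw, commutatorElement_def]
      have h1 := hIH ⟨a, ha⟩ ⟨b, hb⟩
      rw [Subgroup.mem_centralizer_iff] at h1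
      have h2 := congrArg Subtype.val (h1 v₁ v₁.2)
      simpa using h2
    have hZn : (V ⊓ Subgroup.centralizer ((⁅Db, Db⁆ : Subgroup G) : Set G)).Normal := inferInstance
    have hZinv : InvA φ (V ⊓ Subgroup.centralizer ((⁅Db, Db⁆ : Subgroup G) : Set G)) :=
      invA_inf φ hVinv (invA_centralizer φ _ (invA_commutator φ hDinv))
    have hZ1 : V ⊓ Subgroup.centralizer ((⁅Db, Db⁆ : Subgroup G) : Set G) ≠ ⊥ := by
      intro h
      have h1 : ((v₁ : ↥Db) : G) ∈ V ⊓ Subgroup.centralizer ((⁅Db, Db⁆ : Subgroup G) : Set G) := by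
        refine Subgroup.mem_inf.mpr ⟨hv₁V, ?_⟩
        rw [Subgroup.mem_centralizer_iff]
        intro x hx
        have h2 := hcent hx
        rw [Subgroup.mem_centralizer_iff] at h2
        exact (h2 _ rfl).symm
      rw [h, Subgroup.mem_bot] at h1
      apply hv₁
      apply Subtype.ext
      apply Subtype.ext
      exact h1
    have hZV := (hmin _ hZn hZinv inf_le_left).resolve_left hZ1
    have hVle : V ≤ Subgroup.centralizer ((⁅Db, Db⁆ : Subgroup G) : Set G) := by
      rw [← hZV]
      exact inf_le_right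
    have hle := Subgroup.le_centralizer_iff.mp hVle
    intro a ha b hb
    apply hle
    rw [← commutatorElement_def]
    exact Subgroup.commutator_mem_commutator ha hb
  -- no elements of order `r` modulo the centraliser
  have hrC : ∀ x ∈ Db, x ^ r ∈ Subgroup.centralizer (V : Set G) →
      x ∈ Subgroup.centralizer (V : Set G) := by
    have hcommQ : ∀ x ∈ Db, ∀ y ∈ Db,
        Commute (QuotientGroup.mk x : G ⧸ Subgroup.centralizer (V : Set G)) (QuotientGroup.mk y) := by
      intro x hx y hy
      show (QuotientGroup.mk x : G ⧸ Subgroup.centralizer (V : Set G)) * QuotientGroup.mk y =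
        QuotientGroup.mk y * QuotientGroup.mk x
      rw [← QuotientGroup.mk_mul, ← QuotientGroup.mk_mul, QuotientGroup.eq]
      have h1 := hDab y⁻¹ (Db.inv_mem hy) x⁻¹ (Db.inv_mem hx)
      have e : (x * y)⁻¹ * (y * x) = y⁻¹ * x⁻¹ * y⁻¹⁻¹ * x⁻¹⁻¹ := by group
      rw [e]
      exact h1
    let R : Subgroup G :=
      { carrier := {x | x ∈ Db ∧ x ^ r ∈ Subgroup.centralizer (V : Set G)}
        one_mem' := ⟨Db.one_mem, by rw [one_pow]; exact Subgroup.one_mem _⟩
        mul_mem' := by
          rintro x y ⟨hx, hx'⟩ ⟨hy, hy'⟩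
          refine ⟨Db.mul_mem hx hy, ?_⟩
          rw [← QuotientGroup.eq_one_iff, QuotientGroup.mk_pow, QuotientGroup.mk_mul,
            (hcommQ x hx y hy).mul_pow, ← QuotientGroup.mk_pow, ← QuotientGroup.mk_pow,
            (QuotientGroup.eq_one_iff _).mpr hx', (QuotientGroup.eq_one_iff _).mpr hy', one_mul]
        inv_mem' := by
          rintro x ⟨hx, hx'⟩
          refine ⟨Db.inv_mem hx, ?_⟩
          rw [inv_pow]
          exact Subgroup.inv_mem _ hx' }
    have hRn : R.Normal := by
      constructor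
      rintro x ⟨hx, hx'⟩ g
      refine ⟨hDn.conj_mem x hx g, ?_⟩
      rw [conj_pow]
      exact (inferInstance : (Subgroup.centralizer (V : Set G)).Normal).conj_mem _ hx' g
    have hRinv : InvA φ R := by
      rintro a x ⟨hx, hx'⟩
      refine ⟨hDinv a x hx, ?_⟩
      rw [← map_pow]
      exact hCinv a _ hx'
    haveI := hRn
    have hZn : (V ⊓ Subgroup.centralizer (R : Set G)).Normal := inferInstance
    have hZinv : InvA φ (V ⊓ Subgroup.centralizer (R : Set G)) :=
      invA_inf φ hVinv (invA_centralizer φ _ hRinv)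
    have hZ1 : V ⊓ Subgroup.centralizer (R : Set G) ≠ ⊥ := by
      -- the fixed points of an `r`-group on `V`
      let f : ↥R →* MulAut ↥V := (MulAut.conjNormal (H := V)).comp R.subtype
      have hP : IsPGroup r ↥f.range := by
        rintro ⟨p, x, rfl⟩
        refine ⟨1, ?_⟩
        rw [pow_one]
        apply Subtype.ext
        show (f x) ^ r = 1
        rw [← map_pow]
        apply MulEquiv.ext
        intro v
        apply Subtype.ext
        show ((MulAut.conjNormal ((x ^ r : ↥R) : G) v : ↥V) : G) = v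
        rw [MulAut.conjNormal_apply]
        have h1 : ((x ^ r : ↥R) : G) ∈ Subgroup.centralizer (V : Set G) := by
          push_cast
          exact x.2.2
        rw [Subgroup.mem_centralizer_iff] at h1
        rw [← h1 v v.2, mul_inv_cancel_right]
      have hfix1 : (1 : ↥V) ∈ MulAction.fixedPoints ↥f.range ↥V := by
        intro p
        show (p : MulAut ↥V) 1 = 1
        exact map_one _
      obtain ⟨b, hb, hb1⟩ := hP.exists_fixed_point_of_prime_dvd_card_of_fixed_point ↥V hrdvd hfix1
      intro h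
      have h1 : (b : G) ∈ V ⊓ Subgroup.centralizer (R : Set G) := by
        refine Subgroup.mem_inf.mpr ⟨b.2, ?_⟩
        rw [Subgroup.mem_centralizer_iff]
        intro x hx
        have h2 : (⟨f ⟨x, hx⟩, ⟨x, hx⟩, rfl⟩ : ↥f.range) • b = b := hb _
        have h3 : f ⟨x, hx⟩ b = b := h2
        have h4 := congrArg Subtype.val h3
        have h5 : ((f ⟨x, hx⟩ b : ↥V) : G) = x * b * x⁻¹ := MulAut.conjNormal_apply _ _
        rw [h5] at h4
        calc x * (b : G) = (x * b * x⁻¹) * x := by group
          _ = b * x := by rw [h4]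
      rw [h, Subgroup.mem_bot] at h1
      exact hb1 (Subtype.ext h1).symm
    have hZV := (hmin _ hZn hZinv inf_le_left).resolve_left hZ1
    have hVle : V ≤ Subgroup.centralizer (R : Set G) := by
      rw [← hZV]
      exact inf_le_right
    have hle := Subgroup.le_centralizer_iff.mp hVle
    intro x hx hx'
    exact hle ⟨hx, hx'⟩
  exact glue φ hcop hfpf V Db hVinv hDinv r hr6 hVab hVexp hcommG hDab hmax hrC

theorem P1 : ∀ (n : ℕ) (G : Type u) [Group G] [Finite G], Nat.card G = n → Group.IsSolvable G →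
    (Nat.card G).Coprime 6 → ∀ φ : A3 →* MulAut G, (∀ g : G, (∀ a, φ a g = g) → g = 1) →
    Group.IsNilpotent (commutator G) := by
  intro n
  induction n using Nat.strong_induction_on with
  | _ n ih =>
  intro G _ _ hcard hsol hcop φ hfpf
  by_cases htriv : Subsingleton G
  · haveI := htriv
    infer_instance
  haveI : Nontrivial G := not_subsingleton_iff_nontrivial.mp htriv
  haveI := hsol
  -- a minimal invariant normal subgroup
  obtain ⟨V, hVmin⟩ := exists_minimal_of_wellFoundedLT
    (fun N : Subgroup G => N.Normal ∧ InvA φ N ∧ N ≠ ⊥)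
    ⟨⊤, inferInstance, fun _ x _ => Subgroup.mem_top _, top_ne_bot⟩
  obtain ⟨hVn, hVinv, hV1⟩ := hVmin.prop
  haveI := hVn
  have hmin : ∀ N : Subgroup G, N.Normal → InvA φ N → N ≤ V → N = ⊥ ∨ N = V := by
    intro N hNn hNinv hNV
    by_cases hN1 : N = ⊥
    · exact Or.inl hN1
    · exact Or.inr (le_antisymm hNV (hVmin.le_of_le ⟨hNn, hNinv, hN1⟩ hNV))
  have hP2 := P2 n G hcard hsol hcop φ hfpf V hVn hVinv hV1 hmin
  -- the derived subgroup centralises `V`
  have hGV : ∀ x ∈ commutator G, ∀ v ∈ V, x * v = v * x := by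
    have hle : commutator G ≤ Subgroup.centralizer (V : Set G) := by
      rw [commutator_def, Subgroup.commutator_le]
      intro a _ b _
      rw [commutatorElement_def]
      exact hP2 a b
    intro x hx v hv
    have h1 := hle hx
    rw [Subgroup.mem_centralizer_iff] at h1
    exact (h1 v hv).symm
  -- induction
  have hVcard : Nat.card V ≠ 1 := fun h => hV1 (Subgroup.card_eq_one.mp h)
  have hlt : Nat.card (G ⧸ V) < n := by
    rw [← hcard, Subgroup.card_eq_card_quotient_mul_card_subgroup V]
    apply lt_mul_of_one_lt_right Nat.card_pos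
    exact lt_of_le_of_ne Nat.card_pos (Ne.symm hVcard)
  have hcopQ : (Nat.card (G ⧸ V)).Coprime 6 :=
    Nat.Coprime.coprime_dvd_left (Subgroup.card_quotient_dvd_card V) hcop
  have hQnil : Group.IsNilpotent (commutator (G ⧸ V)) :=
    ih _ hlt (G ⧸ V) rfl inferInstance hcopQ (quotHom φ V hVinv) (fpf_quot φ hcop hfpf V hVinv)
  have hmap : ∀ x : commutator G, QuotientGroup.mk' V (x : G) ∈ commutator (G ⧸ V) := by
    intro x
    have h1 : (commutator G).map (QuotientGroup.mk' V) ≤ commutator (G ⧸ V) := by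
      rw [commutator_def, Subgroup.map_commutator, commutator_def]
      exact Subgroup.commutator_mono le_top le_top
    exact h1 (Subgroup.mem_map_of_mem _ x.2)
  let f : commutator G →* commutator (G ⧸ V) :=
    ((QuotientGroup.mk' V).comp (commutator G).subtype).codRestrict (commutator (G ⧸ V)) hmap
  apply Subgroup.isNilpotent_of_ker_le_center f
  intro x hx
  rw [MonoidHom.mem_ker] at hx
  have h1 : QuotientGroup.mk' V (x : G) = 1 := congrArg Subtype.val hx
  have h2 : (x : G) ∈ V := by
    rwa [QuotientGroup.mk'_apply, QuotientGroup.eq_one_iff] at h1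
  rw [Subgroup.mem_center_iff]
  intro y
  apply Subtype.ext
  exact hGV y y.2 x h2

end Cfsg.Agent.Helper1.S3F
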