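import Mathlib
import Cfsg.Agent.Lib.Helper15.S52Defs
import Cfsg.Agent.Lib.PL3.PL3ROOTS

/-!
# S3452 piece S52-PGLADD (helper1): an element of order `q + 1` in `PGL₂(F)`.
-/

set_option autoImplicit false
set_option linter.unusedVariables false

namespace Cfsg.Agent.Helper15.S52

open Cfsg.Agent.Helper2

theorem s52_pgladd_fac (q : ℕ) (hq : 1 < q) : q ^ 2 - 1 = (q + 1) * (q - 1) := by
  obtain ⟨r, rfl⟩ : ∃ r, q = r + 1 := ⟨q - 1, by omega⟩
  simp only [Nat.add_sub_cancel]
  apply Nat.sub_eq_of_eq_add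
  ring

/-- PIECE S52-PGLADD -/
theorem pgl_exists_add {F : Type*} [Field F] [Fintype F] :
    ∃ g : PGL2 F, orderOf g = Fintype.card F + 1 := by
  classical
  have : NeZero 2 := ⟨by omega⟩
  let p := ringChar F
  have : CharP F p := ringChar.charP F
  have : Fact p.Prime := ⟨CharP.char_is_prime F p⟩
  let K := FiniteField.Extension F p 2
  have hfr : Module.finrank F K = 2 := FiniteField.finrank_extension F p 2
  have hcK : Nat.card K = Fintype.card F ^ 2 := by
    rw [FiniteField.natCard_extension, Nat.card_eq_fintype_card]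
  obtain ⟨ζ, hζ⟩ := IsCyclic.exists_generator (α := Kˣ)
  have hζo : orderOf ζ = Fintype.card F ^ 2 - 1 := by
    rw [orderOf_eq_card_of_forall_mem_zpowers hζ, Nat.card_units, hcK]
  let b : Module.Basis (Fin 2) F K := Module.finBasisOfFinrankEq F K hfr
  let ψ := Algebra.leftMulMatrix b
  have hψinj : Function.Injective ψ := Algebra.leftMulMatrix_injective b
  have hscal : ∀ c : F, ψ (algebraMap F K c) = Matrix.scalar (Fin 2) c := by
    intro c
    rw [AlgHom.commutes, Algebra.algebraMap_eq_smul_one, Matrix.smul_one_eq_diagonal,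
      Matrix.scalar_apply]
  -- the unit
  let M : Matrix.GeneralLinearGroup (Fin 2) F :=
    ⟨ψ (ζ : K), ψ ((ζ⁻¹ : Kˣ) : K), by rw [← map_mul, Units.mul_inv, map_one],
      by rw [← map_mul, Units.inv_mul, map_one]⟩
  have hq : 1 < Fintype.card F := Fintype.one_lt_card
  have hfac := s52_pgladd_fac (Fintype.card F) hq
  have hkey : ∀ k : ℕ, (QuotientGroup.mk M : PGL2 F) ^ k = 1 ↔ (Fintype.card F + 1) ∣ k := by
    intro k
    rw [← QuotientGroup.mk_pow, QuotientGroup.eq_one_iff,
      Matrix.GeneralLinearGroup.mem_center_iff_val_mem_range_scalar]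
    have hval : (M ^ k).val = ψ ((ζ : K) ^ k) := by
      rw [Units.val_pow_eq_pow_val, map_pow]
    rw [hval]
    constructor
    · rintro ⟨c, hc⟩
      have h1 : algebraMap F K c = (ζ : K) ^ k := by
        apply hψinj
        rw [hscal]
        exact hc
      have hc0 : c ≠ 0 := by
        rintro rfl
        rw [map_zero] at h1
        exact (pow_ne_zero k ζ.ne_zero) h1.symm
      have h2 : c ^ (Fintype.card F - 1) = 1 := FiniteField.pow_card_sub_one_eq_one c hc0
      have h3 : ((ζ : K) ^ k) ^ (Fintype.card F - 1) = 1 := by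
        rw [← h1, ← map_pow, h2, map_one]
      have h4 : ζ ^ (k * (Fintype.card F - 1)) = 1 := by
        apply Units.ext
        rw [Units.val_pow_eq_pow_val, pow_mul, h3, Units.val_one]
      have h5 := orderOf_dvd_of_pow_eq_one h4
      rw [hζo, hfac] at h5
      exact Nat.dvd_of_mul_dvd_mul_right (by omega) h5
    · rintro ⟨j, rfl⟩
      have h1 : ((ζ : K) ^ (Fintype.card F + 1)) ^ (Fintype.card F - 1) = 1 := by
        rw [← pow_mul, ← hfac, ← hζo, ← Units.val_pow_eq_pow_val, pow_orderOf_eq_one, Units.val_one]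
      obtain ⟨a, _, ha⟩ := Cfsg.Agent.Helper21.PL3.mem_range_of_pow_eq_one (F := F) (K := K)
        (Fintype.card F - 1) (dvd_refl _) _ h1
      refine ⟨a ^ j, ?_⟩
      rw [← hscal, map_pow, ha, ← pow_mul]
  refine ⟨QuotientGroup.mk M, ?_⟩
  apply Nat.dvd_antisymm
  · exact orderOf_dvd_of_pow_eq_one ((hkey _).2 (dvd_refl _))
  · exact (hkey _).1 (pow_orderOf_eq_one _)

end Cfsg.Agent.Helper15.S52
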