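import Mathlib
import Cfsg.Agent.Lib.Helper15.S52Defs

/-!
# S3452 piece S52-PGLCHAR (helper1): an element of order `p` in `PGL₂(F)`.
-/

set_option autoImplicit false
set_option linter.unusedVariables false

namespace Cfsg.Agent.Helper15.S52

open Cfsg.Agent.Helper2

/-- the unitriangular unit `!![1, 1; 0, 1]` -/
def s52_pglchar_u (F : Type*) [Field F] : Matrix.GeneralLinearGroup (Fin 2) F where
  val := !![1, 1; 0, 1]
  inv := !![1, -1; 0, 1]
  val_inv := by
    ext i j; fin_cases i <;> fin_cases j <;> simp [Matrix.mul_apply, Fin.sum_univ_two]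
  inv_val := by
    ext i j; fin_cases i <;> fin_cases j <;> simp [Matrix.mul_apply, Fin.sum_univ_two]

theorem s52_pglchar_pow (F : Type*) [Field F] (k : ℕ) :
    ((s52_pglchar_u F ^ k : Matrix.GeneralLinearGroup (Fin 2) F) : Matrix (Fin 2) (Fin 2) F) =
      !![1, (k : F); 0, 1] := by
  induction k with
  | zero =>
    rw [pow_zero, Units.val_one]
    ext i j; fin_cases i <;> fin_cases j <;> simp
  | succ k ih =>
    rw [pow_succ, Units.val_mul, ih]
    show !![1, (k : F); 0, 1] * !![1, 1; 0, 1] = _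
    ext i j; fin_cases i <;> fin_cases j <;> simp [Matrix.mul_apply, Fin.sum_univ_two, add_comm]

/-- PIECE S52-PGLCHAR -/
theorem pgl_exists_char {F : Type*} [Field F] [Fintype F] (p : ℕ) [Fact p.Prime] [CharP F p] :
    ∃ g : PGL2 F, orderOf g = p := by
  refine ⟨QuotientGroup.mk (s52_pglchar_u F), ?_⟩
  apply orderOf_eq_prime
  · rw [← QuotientGroup.mk_pow]
    have h1 : s52_pglchar_u F ^ p = 1 := by
      apply Units.ext
      rw [s52_pglchar_pow, CharP.cast_eq_zero F p, Units.val_one]
      ext i j; fin_cases i <;> fin_cases j <;> simp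
    rw [h1]
    rfl
  · intro h
    rw [QuotientGroup.eq_one_iff,
      Matrix.GeneralLinearGroup.mem_center_iff_val_mem_range_scalar] at h
    obtain ⟨c, hc⟩ := h
    have h1 := congrFun (congrFun hc 0) 1
    have h2 : ((s52_pglchar_u F : Matrix.GeneralLinearGroup (Fin 2) F) :
        Matrix (Fin 2) (Fin 2) F) 0 1 = 1 := rfl
    rw [h2] at h1
    simp [Matrix.scalar_apply] at h1

end Cfsg.Agent.Helper15.S52
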