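import Mathlib
import Cfsg.Agent.Lib.Helper23.S61Defs
import Cfsg.Agent.Lib.Helper12.SL2Unip

/-!
# S2861 piece S61-SL2B (helper1): the unique nontrivial normal elementary abelian `p`-subgroup of the Borel
subgroup of `SL₂(F)`.
-/

set_option autoImplicit false
set_option linter.unusedVariables false

namespace Cfsg.Agent.Helper23.S61

open Cfsg Cfsg.Agent.Helper12
open scoped Pointwise

/-- an additive subgroup of a finite field stable under multiplication by non-zero squares is `0` or `F`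
(local copy of S61-SQSPAN) -/
theorem s61_sl2b_sq_span {F : Type*} [Field F] [Fintype F] (S : AddSubgroup F)
    (hS : ∀ x ∈ S, ∀ a : F, a ≠ 0 → a ^ 2 * x ∈ S) (hne : S ≠ ⊥) : S = ⊤ := by
  have hS' : ∀ x ∈ S, ∀ a : F, a ^ 2 * x ∈ S := by
    intro x hx a
    by_cases ha : a = 0
    · rw [ha, zero_pow two_ne_zero, zero_mul]; exact S.zero_mem
    · exact hS x hx a ha
  obtain ⟨⟨x₀, hx₀⟩, hne0⟩ := (AddSubgroup.ne_bot_iff_exists_ne_zero).1 hne
  have hx₀0 : x₀ ≠ 0 := fun h => hne0 (Subtype.ext h)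
  have hmul : ∀ r : F, r * x₀ ∈ S := by
    intro r
    by_cases h2 : (2 : F) = 0
    · have hchar : ringChar F = 2 :=
        CharP.ringChar_of_prime_eq_zero Nat.prime_two (by exact_mod_cast h2)
      obtain ⟨a, ha⟩ := FiniteField.isSquare_of_char_two hchar r
      rw [ha, ← sq]
      exact hS' x₀ hx₀ a
    · have h : r * x₀ = ((r + 1) / 2) ^ 2 * x₀ - ((r - 1) / 2) ^ 2 * x₀ := by
        field_simp
        ring
      rw [h]
      exact S.sub_mem (hS' x₀ hx₀ _) (hS' x₀ hx₀ _)
  rw [eq_top_iff]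
  intro y _
  have : y = (y / x₀) * x₀ := by field_simp
  rw [this]
  exact hmul _

/-- the `(0,0)` entry of a power of an upper triangular matrix -/
theorem s61_sl2b_pow_00 {F : Type*} [Field F] (v : Matrix (Fin 2) (Fin 2) F) (h10 : v 1 0 = 0)
    (k : ℕ) : (v ^ k) 0 0 = (v 0 0) ^ k := by
  induction k with
  | zero => simp
  | succ k ih =>
    rw [pow_succ, Matrix.mul_apply, Fin.sum_univ_two, ih, h10, mul_zero, add_zero, pow_succ]

/-- conjugation of a unitriangular matrix by a diagonal one -/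
theorem s61_sl2b_conj {F : Type*} [Field F] (a x : F) (ha : a ≠ 0) :
    borelMat a 0 ha * unipHom F (Multiplicative.ofAdd x) * (borelMat a 0 ha)⁻¹ =
      unipHom F (Multiplicative.ofAdd (a ^ 2 * x)) := by
  have h : borelMat a 0 ha * unipHom F (Multiplicative.ofAdd x) =
      unipHom F (Multiplicative.ofAdd (a ^ 2 * x)) * borelMat a 0 ha := by
    apply Subtype.ext
    rw [Matrix.SpecialLinearGroup.coe_mul, Matrix.SpecialLinearGroup.coe_mul, borelMat_coe,
      unipHom_apply, unipHom_apply, upperSL_coe, upperSL_coe]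
    ext i j
    fin_cases i <;> fin_cases j <;> simp [Matrix.mul_apply, Fin.sum_univ_two]
    field_simp
  rw [h, mul_inv_cancel_right]

/-- PIECE S61-SL2B -/
theorem sl2_std {F : Type*} [Field F] [Fintype F] (p : ℕ) [Fact p.Prime] [CharP F p]
    (V : Subgroup (Matrix.SpecialLinearGroup (Fin 2) F)) (hVB : V ≤ borelSL2 F)
    (hBV : ∀ b ∈ borelSL2 F, ∀ v ∈ V, b * v * b⁻¹ ∈ V) (hVel : IsElementaryAbelian p V)
    (hV : V ≠ ⊥) : V = unipSL2 F := by
  -- step 1: `V ≤ unipSL2`
  have h1 : V ≤ unipSL2 F := by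
    intro v hv
    have h10 : (v : Matrix (Fin 2) (Fin 2) F) 1 0 = 0 := (mem_borelSL2_iff v).1 (hVB hv)
    have hvp : v ^ p = 1 := hVel.2 v hv
    have h00p : ((v : Matrix (Fin 2) (Fin 2) F) 0 0) ^ p = 1 := by
      rw [← s61_sl2b_pow_00 _ h10 p, ← Matrix.SpecialLinearGroup.coe_pow, hvp,
        Matrix.SpecialLinearGroup.coe_one, Matrix.one_apply_eq]
    have h00 : (v : Matrix (Fin 2) (Fin 2) F) 0 0 = 1 := by
      have h2 : ((v : Matrix (Fin 2) (Fin 2) F) 0 0 - 1) ^ p = 0 := by
        rw [sub_pow_char, h00p, one_pow, sub_self]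
      exact sub_eq_zero.1 (pow_eq_zero_iff (Fact.out : p.Prime).ne_zero |>.1 h2)
    have hd := v.2
    rw [Matrix.det_fin_two, h10, h00, mul_zero, sub_zero, one_mul] at hd
    exact (mem_unipSL2_iff v).2 ⟨h10, h00, hd⟩
  apply le_antisymm h1
  -- step 2: the additive subgroup of the parameters
  let S : AddSubgroup F :=
    { carrier := {x | unipHom F (Multiplicative.ofAdd x) ∈ V}
      zero_mem' := by
        show unipHom F (Multiplicative.ofAdd 0) ∈ V
        rw [ofAdd_zero, map_one]; exact V.one_mem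
      add_mem' := by
        intro x y hx hy
        show unipHom F (Multiplicative.ofAdd (x + y)) ∈ V
        rw [ofAdd_add, map_mul]; exact V.mul_mem hx hy
      neg_mem' := by
        intro x hx
        show unipHom F (Multiplicative.ofAdd (-x)) ∈ V
        rw [ofAdd_neg, map_inv]; exact V.inv_mem hx }
  have hSmem : ∀ x : F, x ∈ S ↔ unipHom F (Multiplicative.ofAdd x) ∈ V := fun x => Iff.rfl
  have hSstab : ∀ x ∈ S, ∀ a : F, a ≠ 0 → a ^ 2 * x ∈ S := by
    intro x hx a ha
    rw [hSmem, ← s61_sl2b_conj a x ha]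
    exact hBV _ (borelMat_mem a 0 ha) _ ((hSmem x).1 hx)
  have hSne : S ≠ ⊥ := by
    obtain ⟨⟨v, hv⟩, hne1⟩ := (Subgroup.ne_bot_iff_exists_ne_one).1 hV
    have hv1 : v ≠ 1 := fun h => hne1 (Subtype.ext h)
    obtain ⟨x, hx⟩ := h1 hv
    intro hbot
    have hxS : Multiplicative.toAdd x ∈ S := by
      rw [hSmem, ofAdd_toAdd, hx]; exact hv
    rw [hbot, AddSubgroup.mem_bot] at hxS
    apply hv1
    rw [← hx]
    have : x = 1 := by
      apply Multiplicative.toAdd.injective
      rw [hxS, toAdd_one]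
    rw [this, map_one]
  have hStop := s61_sl2b_sq_span S hSstab hSne
  rintro u ⟨x, rfl⟩
  have : Multiplicative.toAdd x ∈ S := by rw [hStop]; exact AddSubgroup.mem_top _
  rw [hSmem, ofAdd_toAdd] at this
  exact this

end Cfsg.Agent.Helper23.S61
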