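import Mathlib
import Cfsg.Agent.Lib.Helper15.S62Defs

/-!
# S2362 piece S62-LAMBDA: a field with `Q^2` elements has an element of order `Q + 1`
-/

set_option autoImplicit false

open Polynomial

namespace Cfsg.Agent.Helper15.S62

universe u

section model

variable {F : Type u} [Field F]

/-- a generator of the unit group of a field with `(m+1)^2` elements -/
theorem s62_lambda_gen {K : Type*} [Field K] [Fintype K] (m : ℕ)
    (hK : Fintype.card K = (m + 1) ^ 2) : ∃ g : Kˣ, orderOf g = m * (m + 2) := by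
  classical
  obtain ⟨g, hg⟩ := IsCyclic.exists_generator (α := Kˣ)
  refine ⟨g, ?_⟩
  rw [orderOf_eq_card_of_forall_mem_zpowers hg, Nat.card_eq_fintype_card, Fintype.card_units, hK]
  have h1 : (m + 1) ^ 2 = m * (m + 2) + 1 := by ring
  omega

/-- PIECE S62-LAMBDA: `Kˣ` is cyclic of order `Q^2 - 1 = (Q - 1) * (Q + 1)`. -/
theorem exists_orderOf_eq {K : Type*} [Field K] [Fintype K] (Q : ℕ) (hQ : 2 ≤ Q)
    (hK : Fintype.card K = Q ^ 2) : ∃ l : K, orderOf l = Q + 1 := by
  obtain ⟨m, rfl⟩ : ∃ m, Q = m + 1 := ⟨Q - 1, by omega⟩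
  have hm : 1 ≤ m := by omega
  obtain ⟨g, hg⟩ := s62_lambda_gen m hK
  refine ⟨((g ^ m : Kˣ) : K), ?_⟩
  rw [orderOf_units, orderOf_pow' g (by omega : m ≠ 0), hg,
    Nat.gcd_eq_right (Dvd.intro _ rfl)]
  exact Nat.mul_div_cancel_left _ (by omega)

end model

end Cfsg.Agent.Helper15.S62
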