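import Mathlib
import Cfsg.Agent.Lib.Helper15.S62Defs

/-!
# S2362 piece S62-NORMFIB: fibres of the norm map `x ↦ x^(Q+1)` on a field with `Q^2` elements
-/

set_option autoImplicit false

open Polynomial

namespace Cfsg.Agent.Helper15.S62

universe u

section linalg

variable {F : Type u} [Field F] {V : Type u} [AddCommGroup V] [Module F V]

theorem s62_normfib_units {L : Type u} [Field L] [Fintype L] (m : ℕ)
    (hL : Fintype.card L = (m + 1) ^ 2) : Nat.card Lˣ = m * (m + 2) := by
  classical
  rw [Nat.card_eq_fintype_card, Fintype.card_units, hL]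
  have h1 : (m + 1) ^ 2 = m * (m + 2) + 1 := by ring
  omega

/-- PIECE S62-NORMFIB -/
theorem norm_fibres {L : Type u} [Field L] [Fintype L] (Q : ℕ) (hQ : 2 ≤ Q)
    (hL : Fintype.card L = Q ^ 2) :
    Nat.card {y : L // y ^ Q = y} = Q ∧
      ∀ y : L, y ≠ 0 → y ^ Q = y → Nat.card {x : L // x ^ (Q + 1) = y} = Q + 1 := by
  classical
  obtain ⟨m, rfl⟩ : ∃ m, Q = m + 1 := ⟨Q - 1, by omega⟩
  have hm : 1 ≤ m := by omega
  have hcard : Nat.card Lˣ = m * (m + 2) := s62_normfib_units m hL
  have hker1 : Nat.card (powMonoidHom m : Lˣ →* Lˣ).ker = m := by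
    rw [IsCyclic.card_powMonoidHom_ker, hcard]
    exact Nat.gcd_eq_right (Dvd.intro _ rfl)
  have hker2 : Nat.card (powMonoidHom (m + 2) : Lˣ →* Lˣ).ker = m + 2 := by
    rw [IsCyclic.card_powMonoidHom_ker, hcard]
    exact Nat.gcd_eq_right (Dvd.intro_left _ rfl)
  have hrange : Nat.card (powMonoidHom (m + 2) : Lˣ →* Lˣ).range = m := by
    rw [IsCyclic.card_powMonoidHom_range, hcard, Nat.gcd_eq_right (Dvd.intro_left _ rfl)]
    exact Nat.mul_div_cancel _ (by omega)
  -- solutions of `y^(m+1) = y`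
  have hmemker : ∀ y : L, ∀ h0 : y ≠ 0, y ^ (m + 1) = y →
      Units.mk0 y h0 ∈ (powMonoidHom m : Lˣ →* Lˣ).ker := by
    intro y h0 hy
    rw [MonoidHom.mem_ker, powMonoidHom_apply]
    apply Units.ext
    rw [Units.val_pow_eq_pow_val, Units.val_mk0, Units.val_one]
    rw [pow_succ] at hy
    exact mul_right_cancel₀ h0 (by rw [hy, one_mul])
  have hset1 : {y : L | y ^ (m + 1) = y} =
      insert 0 (Units.val '' ((powMonoidHom m : Lˣ →* Lˣ).ker : Set Lˣ)) := by
    ext y
    simp only [Set.mem_ofPred_eq, Set.mem_insert_iff, Set.mem_image, SetLike.mem_coe]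
    constructor
    · intro hy
      by_cases h0 : y = 0
      · left; exact h0
      · right
        exact ⟨Units.mk0 y h0, hmemker y h0 hy, rfl⟩
    · rintro (rfl | ⟨u, hu, rfl⟩)
      · exact zero_pow (by omega)
      · rw [MonoidHom.mem_ker, powMonoidHom_apply] at hu
        rw [pow_succ, ← Units.val_pow_eq_pow_val, hu, Units.val_one, one_mul]
  refine ⟨?_, ?_⟩
  · have h1 : Nat.card {y : L // y ^ (m + 1) = y} = Set.ncard {y : L | y ^ (m + 1) = y} :=
      Nat.card_coe_set_eq _
    have hnot : (0 : L) ∉ Units.val '' ((powMonoidHom m : Lˣ →* Lˣ).ker : Set Lˣ) := by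
      rintro ⟨u, _, hu⟩
      exact u.ne_zero hu
    rw [h1, hset1, Set.ncard_insert_of_notMem hnot,
      Set.ncard_image_of_injective _ Units.val_injective, ← Nat.card_coe_set_eq]
    exact congrArg (· + 1) hker1
  · intro y hy0 hy
    have huy := hmemker y hy0 hy
    -- range of the norm = kernel of `pow m`
    have hle : (powMonoidHom (m + 2) : Lˣ →* Lˣ).range ≤ (powMonoidHom m : Lˣ →* Lˣ).ker := by
      rintro _ ⟨x, rfl⟩
      rw [MonoidHom.mem_ker, powMonoidHom_apply, powMonoidHom_apply, ← pow_mul,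
        mul_comm, ← hcard]
      exact pow_card_eq_one'
    have heq : (powMonoidHom (m + 2) : Lˣ →* Lˣ).range = (powMonoidHom m : Lˣ →* Lˣ).ker :=
      Subgroup.eq_of_le_of_card_ge hle (by rw [hker1, hrange])
    rw [← heq] at huy
    obtain ⟨x0, hx0⟩ := huy
    rw [powMonoidHom_apply] at hx0
    have hset2 : {x : L | x ^ (m + 1 + 1) = y} = Units.val ''
        ((fun k => x0 * k) '' ((powMonoidHom (m + 2) : Lˣ →* Lˣ).ker : Set Lˣ)) := by
      ext x
      simp only [Set.mem_ofPred_eq, Set.mem_image, SetLike.mem_coe, exists_exists_and_eq_and]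
      constructor
      · intro hx
        have hx0' : x ≠ 0 := by
          rintro rfl
          rw [zero_pow (by omega)] at hx
          exact hy0 hx.symm
        have hu : (Units.mk0 x hx0') ^ (m + 2) = Units.mk0 y hy0 := by
          apply Units.ext
          rw [Units.val_pow_eq_pow_val, Units.val_mk0, Units.val_mk0]
          exact hx
        refine ⟨x0⁻¹ * Units.mk0 x hx0', ?_, ?_⟩
        · rw [MonoidHom.mem_ker, powMonoidHom_apply, mul_pow, inv_pow, hx0, hu, inv_mul_cancel]
        · rw [mul_inv_cancel_left, Units.val_mk0]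
      · rintro ⟨k, hk, rfl⟩
        rw [MonoidHom.mem_ker, powMonoidHom_apply] at hk
        rw [← Units.val_pow_eq_pow_val, mul_pow, hx0, hk, mul_one, Units.val_mk0]
    have h1 : Nat.card {x : L // x ^ (m + 1 + 1) = y} = Set.ncard {x : L | x ^ (m + 1 + 1) = y} :=
      Nat.card_coe_set_eq _
    rw [h1, hset2, Set.ncard_image_of_injective _ Units.val_injective,
      Set.ncard_image_of_injective _ (mul_right_injective x0), ← Nat.card_coe_set_eq]
    exact hker2

end linalg

end Cfsg.Agent.Helper15.S62
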