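import Mathlib
import Cfsg.Agent.Lib.Helper15.S62Defs

/-!
# S2362 piece S62-SIGMA: an involutive nontrivial automorphism of `𝔽_{q^{2k}}` over `𝔽_q` is
`x ↦ x^(q^k)`
-/

set_option autoImplicit false

open Polynomial

namespace Cfsg.Agent.Helper15.S62

universe u

section linalg

variable {F : Type u} [Field F] {V : Type u} [AddCommGroup V] [Module F V]

/-- PIECE S62-SIGMA -/
theorem sigma_eq_pow [Fintype F] {L : Type u} [Field L] [Algebra F L] [Finite L] (k : ℕ)
    (hk : 1 ≤ k) (hdim : Module.finrank F L = 2 * k) (σ : L →ₐ[F] L)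
    (hinv : ∀ x, σ (σ x) = x) (hne : ∃ x, σ x ≠ x) :
    ∀ x : L, σ x = x ^ (Fintype.card F ^ k) := by
  obtain ⟨⟨i, hi⟩, hi2⟩ := (FiniteField.bijective_frobeniusAlgHom_pow F L).2 σ
  simp only at hi2
  rw [hdim] at hi
  have hσx : ∀ x, σ x = x ^ (Fintype.card F ^ i) := by
    intro x
    rw [← hi2, AlgHom.coe_pow, FiniteField.coe_frobeniusAlgHom, pow_iterate]
  have hsq : FiniteField.frobeniusAlgHom F L ^ (2 * i) = 1 := by
    rw [two_mul, pow_add, hi2]
    ext x
    exact hinv x
  have hdvd : 2 * k ∣ 2 * i := by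
    rw [← hdim, ← FiniteField.orderOf_frobeniusAlgHom F L]
    exact orderOf_dvd_of_pow_eq_one hsq
  have hki : k ∣ i := (Nat.mul_dvd_mul_iff_left (by norm_num : 0 < 2)).mp hdvd
  obtain ⟨c, hc⟩ := hki
  have hc1 : c = 1 := by
    rcases c with _ | _ | c
    · exfalso
      rw [mul_zero] at hc
      obtain ⟨x, hx⟩ := hne
      apply hx
      rw [hσx, hc, pow_zero, pow_one]
    · rfl
    · exfalso
      have : 2 * k ≤ i := by
        rw [hc]
        nlinarith
      omega
  rw [hc1, mul_one] at hc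
  intro x
  rw [hσx, hc]

end linalg

end Cfsg.Agent.Helper15.S62
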