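import Mathlib
import Cfsg.Agent.Lib.Helper15.S62Defs

/-!
# S2362 piece S62-THETA: `θ ≠ 0` with `θ^Q = -θ` in a field with `Q^2` elements, `Q` odd
-/

set_option autoImplicit false

open Polynomial

namespace Cfsg.Agent.Helper15.S62

universe u

section model

variable {F : Type u} [Field F]

/-- PIECE S62-THETA: `Q` odd; `g` a generator of `Kˣ`, `θ = g ^ ((Q + 1) / 2)`:
`θ ^ (Q - 1) = g ^ ((Q^2 - 1) / 2) = -1`. -/
theorem exists_theta {K : Type*} [Field K] [Fintype K] (Q : ℕ) (hQ : Odd Q) (hQ3 : 3 ≤ Q)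
    (hK : Fintype.card K = Q ^ 2) : ∃ θ : K, θ ≠ 0 ∧ θ ^ Q = -θ := by
  classical
  obtain ⟨n, rfl⟩ := hQ
  have hn : 1 ≤ n := by omega
  -- `Q = 2n+1`, `Q - 1 = 2n`, `(Q+1)/2 = n+1`, `|Kˣ| = 4 n (n+1)`
  obtain ⟨g, hg⟩ := IsCyclic.exists_generator (α := Kˣ)
  have hog : orderOf g = 4 * n * (n + 1) := by
    rw [orderOf_eq_card_of_forall_mem_zpowers hg, Nat.card_eq_fintype_card, Fintype.card_units, hK]
    have h1 : (2 * n + 1) ^ 2 = 4 * n * (n + 1) + 1 := by ring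
    omega
  -- `z = g^(2 n (n+1))` has `z^2 = 1`, `z ≠ 1`
  set z : Kˣ := g ^ (2 * n * (n + 1)) with hz
  have hz2 : z ^ 2 = 1 := by
    rw [hz, ← pow_mul]
    have h1 : 2 * n * (n + 1) * 2 = orderOf g := by rw [hog]; ring
    rw [h1]
    exact pow_orderOf_eq_one g
  have hz1 : z ≠ 1 := by
    intro h
    rw [hz] at h
    have h1 := orderOf_dvd_of_pow_eq_one h
    rw [hog] at h1
    have h2 : 0 < 2 * n * (n + 1) := by positivity
    have h3 := Nat.le_of_dvd h2 h1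
    nlinarith
  have hzK : ((z : Kˣ) : K) = -1 := by
    have h1 : ((z : Kˣ) : K) ^ 2 = 1 := by
      rw [← Units.val_pow_eq_pow_val, hz2, Units.val_one]
    rcases sq_eq_one_iff.mp h1 with h | h
    · exact absurd (Units.ext h) hz1
    · exact h
  refine ⟨((g ^ (n + 1) : Kˣ) : K), Units.ne_zero _, ?_⟩
  have h4 : (g ^ (n + 1)) ^ (2 * n + 1) = z * g ^ (n + 1) := by
    rw [hz, ← pow_mul, ← pow_add]
    congr 1
    ring
  rw [← Units.val_pow_eq_pow_val, h4, Units.val_mul, hzK, neg_one_mul]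

end model

end Cfsg.Agent.Helper15.S62
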