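import Mathlib
import Cfsg.Agent.Lib.Helper15.S62Defs

/-!
# S2362 piece S62-WF1: degrees of the irreducible factors of `1 + X + ... + X^(r-1)`
-/

set_option autoImplicit false

open Polynomial

namespace Cfsg.Agent.Helper15.S62

universe u

section linalg

variable {F : Type u} [Field F] {V : Type u} [AddCommGroup V] [Module F V]

/-- PIECE S62-WF1 -/
theorem natDegree_factor [Fintype F] (r k : ℕ) (hr : r.Prime) (hrF : (r : F) ≠ 0)
    (hord : ∀ j : ℕ, 0 < j → r ∣ Fintype.card F ^ j - 1 → 2 * k ∣ j)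
    (f : F[X]) (hf : Irreducible f) (hdvd : f ∣ ∑ i ∈ Finset.range r, (X : F[X]) ^ i) :
    2 * k ∣ f.natDegree := by
  classical
  haveI : Fact (Irreducible f) := ⟨hf⟩
  let pb := AdjoinRoot.powerBasis hf.ne_zero
  haveI : Module.Finite F (AdjoinRoot f) := pb.finite
  haveI : Finite (AdjoinRoot f) := Module.finite_of_finite F
  haveI : Fintype (AdjoinRoot f) := Fintype.ofFinite _
  have hfin : Module.finrank F (AdjoinRoot f) = f.natDegree := by
    rw [pb.finrank, AdjoinRoot.powerBasis_dim]
  have hcard : Fintype.card (AdjoinRoot f) = Fintype.card F ^ f.natDegree := by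
    rw [Module.card_eq_pow_finrank (K := F) (V := AdjoinRoot f), hfin]
  have hdpos : 0 < f.natDegree := hf.natDegree_pos
  apply hord _ hdpos
  set ζ : AdjoinRoot f := AdjoinRoot.root f with hζ
  -- `∑ ζ^i = 0`
  have hsum : ∑ i ∈ Finset.range r, ζ ^ i = 0 := by
    obtain ⟨g, hg⟩ := hdvd
    have h1 := congrArg (fun p => Polynomial.aeval ζ p) hg
    simp only [map_sum, map_pow, aeval_X, map_mul] at h1
    rw [h1]
    have h2 : Polynomial.aeval ζ f = 0 := by
      rw [hζ, AdjoinRoot.aeval_eq, AdjoinRoot.mk_self]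
    rw [h2, zero_mul]
  have hζr : ζ ^ r = 1 := by
    have h1 := mul_geom_sum ζ r
    rw [hsum, mul_zero] at h1
    exact (sub_eq_zero.mp h1.symm)
  have hζ1 : ζ ≠ 1 := by
    intro h
    rw [h] at hsum
    simp only [one_pow, Finset.sum_const, Finset.card_range, nsmul_eq_mul, mul_one] at hsum
    apply hrF
    have h2 : algebraMap F (AdjoinRoot f) (r : F) = 0 := by
      rw [map_natCast]
      exact hsum
    exact (map_eq_zero _).mp h2
  have hord' : orderOf ζ = r := by
    have h1 := orderOf_dvd_of_pow_eq_one hζr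
    rcases (Nat.dvd_prime hr).mp h1 with h | h
    · exact absurd (orderOf_eq_one_iff.mp h) hζ1
    · exact h
  have hζ0 : ζ ≠ 0 := by
    intro h
    rw [h, zero_pow hr.ne_zero] at hζr
    exact zero_ne_one hζr
  rw [← hcard, ← hord']
  exact orderOf_dvd_of_pow_eq_one (FiniteField.pow_card_sub_one_eq_one ζ hζ0)

end linalg

end Cfsg.Agent.Helper15.S62
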