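import Mathlib
import Cfsg.Agent.Lib.Helper23.S63Defs

/-!
# S2863 piece S63-INTER, core: `(Y ⊓ A) ⊓ (Y^g ⊓ A) = C_Y(L)` given `Y ⊔ Y^g = L`
-/

set_option autoImplicit false
set_option linter.unusedVariables false

namespace Cfsg.Agent.Helper23.S63

open Cfsg
open scoped Pointwise

theorem s63_inter_mem_conj {G : Type*} [Group G] (Y : Subgroup G) (g x : G) :
    x ∈ (MulAut.conj g • Y : Subgroup G) ↔ g⁻¹ * x * g ∈ Y := by
  rw [Subgroup.mem_pointwise_smul_iff_inv_smul_mem, ← map_inv, MulAut.smul_def, MulAut.conj_apply,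
    inv_inv]

/-- core of S63-INTER: the generation statement `Y ⊔ Y^g = L` is a hypothesis -/
theorem s63_inter_core {G : Type*} [Group G] {L Y A : Subgroup G} (h : Ctx L Y A)
    (g : G) (hg : g ∈ L) (hgen : Y ⊔ (MulAut.conj g • Y : Subgroup G) = L) :
    (Y ⊓ A) ⊓ ((MulAut.conj g • Y : Subgroup G) ⊓ A) = Cc L Y := by
  apply le_antisymm
  · intro x hx
    have hxY : x ∈ Y := hx.1.1
    have hxYg : x ∈ (MulAut.conj g • Y : Subgroup G) := hx.2.1
    unfold Cc
    rw [Subgroup.mem_inf]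
    refine ⟨hxY, ?_⟩
    -- `Y` and `Y^g` centralize `x`
    have h1 : Y ≤ Subgroup.centralizer ({x} : Set G) := by
      intro y hy
      rw [Subgroup.mem_centralizer_iff]
      intro z hz
      rw [Set.mem_singleton_iff] at hz
      rw [hz]
      exact h.Ycomm x hxY y hy
    have h2 : (MulAut.conj g • Y : Subgroup G) ≤ Subgroup.centralizer ({x} : Set G) := by
      intro y hy
      rw [Subgroup.mem_centralizer_iff]
      intro z hz
      rw [Set.mem_singleton_iff] at hz
      rw [hz]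
      rw [s63_inter_mem_conj] at hy hxYg
      have hc := h.Ycomm _ hxYg _ hy
      -- `(g⁻¹ x g)(g⁻¹ y g) = (g⁻¹ y g)(g⁻¹ x g)`
      have e1 : x * y = g * ((g⁻¹ * x * g) * (g⁻¹ * y * g)) * g⁻¹ := by group
      have e2 : y * x = g * ((g⁻¹ * y * g) * (g⁻¹ * x * g)) * g⁻¹ := by group
      rw [e1, e2, hc]
    have h3 : L ≤ Subgroup.centralizer ({x} : Set G) := by
      rw [← hgen]
      exact sup_le h1 h2
    rw [Subgroup.mem_centralizer_iff]
    intro l hl
    have := (Subgroup.mem_centralizer_iff.1 (h3 hl)) x (Set.mem_singleton x)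
    exact this.symm
  · intro x hx
    have hxY : x ∈ Y := hx.1
    have hxC : x ∈ Subgroup.centralizer (L : Set G) := hx.2
    have hxA : x ∈ A := h.CA (Subgroup.mem_inf.2 ⟨hxY, hxC⟩)
    rw [Subgroup.mem_inf, Subgroup.mem_inf, Subgroup.mem_inf]
    refine ⟨⟨hxY, hxA⟩, ⟨?_, hxA⟩⟩
    rw [s63_inter_mem_conj]
    have hc : g * x = x * g := (Subgroup.mem_centralizer_iff.1 hxC) g hg
    have e : g⁻¹ * x * g = x := by
      rw [mul_assoc, ← hc, inv_mul_cancel_left]
    rw [e]
    exact hxY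

end Cfsg.Agent.Helper23.S63
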