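import Mathlib
import Cfsg.Agent.Lib.Helper23.S63Defs
import Cfsg.Agent.Lib.Helper1.S63INTERCore
import Cfsg.Agent.Lib.Helper27.S63GEN

/-!
# S2863 piece S63-INTER: `(Y ⊓ A) ⊓ (Y^g ⊓ A) = C_Y(L)` for `g ∈ L ∖ N(Y)`
(wrapper of `s63_inter_core` with S63-GEN `gen_of_not_mem`)
-/

set_option autoImplicit false
set_option linter.unusedVariables false

namespace Cfsg.Agent.Helper23.S63

open Cfsg
open scoped Pointwise

/-- PIECE S63-INTER -/
theorem inter_eq {G : Type*} [Group G] [Finite G] {L Y A : Subgroup G} (h : Ctx L Y A)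
    (g : G) (hg : g ∈ L) (hgN : g ∉ Subgroup.normalizer (Y : Set G)) :
    (Y ⊓ A) ⊓ ((MulAut.conj g • Y : Subgroup G) ⊓ A) = Cc L Y :=
  s63_inter_core h g hg (gen_of_not_mem h g hg hgN)

end Cfsg.Agent.Helper23.S63
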