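import Mathlib
import Cfsg.Agent.Lib.Helper15.S64Defs
import Cfsg.Agent.Lib.Helper2.SzTorus2
import Cfsg.Agent.Lib.Helper2.OutCongr

/-!
# S3664 piece S64-FPF13 (helper1): elements of order 13 of `L` fix no nonzero matrix.
-/

set_option autoImplicit false
set_option linter.unusedSectionVars false
set_option linter.unusedVariables false

namespace Cfsg.Agent.Helper15.S64

open Matrix Cfsg.Agent.Helper2 Cfsg.Agent.Helper2.Sz

variable {F : Type*} [Field F] [Fintype F] (S : SzData F 1)
  (hF : Fintype.card F = 2 ^ (2 * 1 + 1))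

/-- the right component of an element of order 13 is trivial -/
theorem s64_fpf13_right (x : Lgrp S hF) (hx : orderOf x = 13) : x.right = 1 := by
  haveI : Fact (Nat.Prime 2) := ⟨Nat.prime_two⟩
  have hcard : Nat.card (F ≃+* F) = 3 :=
    OutCongr.card_ringEquiv (p := 2) (n := 3) (by rw [hF])
  haveI := finite_aut (F := F)
  have h1 : orderOf (SemidirectProduct.rightHom x) ∣ 13 := by
    rw [← hx]; exact orderOf_map_dvd _ x
  have h2 : orderOf (SemidirectProduct.rightHom x) ∣ 3 := by
    rw [← hcard]; exact orderOf_dvd_natCard _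
  have h3 : orderOf (SemidirectProduct.rightHom x) = 1 := by
    have h4 := Nat.dvd_gcd h1 h2
    have h5 : Nat.gcd 13 3 = 1 := by norm_num
    rw [h5] at h4
    exact Nat.dvd_one.1 h4
  exact orderOf_eq_one_iff.1 h3

/-- conjugate matrices: from `M * X = X * B` with `X` a unit -/
theorem s64_fpf13_charpoly {M B X : Matrix (Fin 4) (Fin 4) F} (hX : IsUnit X)
    (h : M * X = X * B) : M.charpoly = B.charpoly := by
  obtain ⟨u, rfl⟩ := hX
  have hdet : IsUnit (u : Matrix (Fin 4) (Fin 4) F).det :=
    (Matrix.isUnit_iff_isUnit_det _).1 u.isUnit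
  have h1 : M = (u : Matrix (Fin 4) (Fin 4) F) * B * (u : Matrix (Fin 4) (Fin 4) F)⁻¹ := by
    rw [← h, Matrix.mul_assoc, Matrix.mul_nonsing_inv _ hdet, Matrix.mul_one]
  rw [h1, Matrix.charpoly_units_conj]

/-- PIECE S64-FPF13 -/
theorem fpf13
    (hK : ∀ {M : Matrix (Fin 4) (Fin 4) F}, IrrMat.IrrData M 13 →
      ¬ ∀ i : ℕ, (M.charpoly.coeff i) ^ 2 = M.charpoly.coeff i)
    (hI : ∀ {M B X : Matrix (Fin 4) (Fin 4) F} {p : ℕ}, IrrMat.IrrData M p → M * X = X * B →
      X ≠ 0 → IsUnit X)
    (x : Lgrp S hF) (hx : orderOf x = 13) (X : Matrix (Fin 4) (Fin 4) F) (hX : x • X = X) :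
    X = 0 := by
  by_contra hX0
  have hr : x.right = 1 := s64_fpf13_right S hF x hx
  have hxn : x = SemidirectProduct.inl x.left := by
    apply SemidirectProduct.ext
    · rfl
    · rw [hr]; rfl
  have hord : orderOf x.left = 13 := by
    rw [← hx]
    conv_rhs => rw [hxn]
    exact (orderOf_injective (SemidirectProduct.inl) SemidirectProduct.inl_injective x.left).symm
  have hirr : IrrMat.IrrData (mat x.left) 13 :=
    S.irrData_of_orderOf hF (ℓ := 13) (by norm_num) (by norm_num) (by norm_num) hord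
  have hmap1 : X.map (1 : F ≃+* F) = X := by
    ext i j; rfl
  have e1 : mat x.left * X * ((mat x.left).map (sq S))ᵀ = X := by
    have h := hX
    rw [smul_def, hr, hmap1] at h
    exact h
  have hXinv : x⁻¹ • X = X := by
    conv_lhs => rw [← hX]
    rw [smul_smul, inv_mul_cancel, one_smul]
  have hrinv : (x⁻¹).right = 1 := by
    rw [SemidirectProduct.inv_right, hr, inv_one]
  have hlinv : (x⁻¹).left = (x.left)⁻¹ := by
    rw [SemidirectProduct.inv_left, hr, inv_one]
    rfl
  have e2 : mat (x.left)⁻¹ * X * ((mat (x.left)⁻¹).map (sq S))ᵀ = X := by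
    have h := hXinv
    rw [smul_def, hrinv, hmap1, hlinv] at h
    exact h
  -- `M * M' = 1`
  have hMM' : mat x.left * mat (x.left)⁻¹ = 1 := by
    rw [← mat_mul, mul_inv_cancel, mat_one]
  have hM'M : mat (x.left)⁻¹ * mat x.left = 1 := by
    rw [← mat_mul, inv_mul_cancel, mat_one]
  have hA : mat x.left * X = X * ((mat (x.left)⁻¹).map (sq S))ᵀ := by
    conv_lhs => rw [← e2]
    rw [← Matrix.mul_assoc, ← Matrix.mul_assoc, hMM', Matrix.one_mul]
  have hB : mat (x.left)⁻¹ * X = X * ((mat x.left).map (sq S))ᵀ := by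
    conv_lhs => rw [← e1]
    rw [← Matrix.mul_assoc, ← Matrix.mul_assoc, hM'M, Matrix.one_mul]
  have hXu : IsUnit X := hI hirr hA hX0
  have hc1 : (mat x.left).charpoly = ((mat (x.left)⁻¹).charpoly).map (sq S) := by
    rw [s64_fpf13_charpoly hXu hA, Matrix.charpoly_transpose, Matrix.charpoly_map]
  have hc2 : (mat (x.left)⁻¹).charpoly = ((mat x.left).charpoly).map (sq S) := by
    rw [s64_fpf13_charpoly hXu hB, Matrix.charpoly_transpose, Matrix.charpoly_map]
  have hcard : Fintype.card F = 8 := by rw [hF]; norm_num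
  apply hK hirr
  intro i
  have h4 : (mat x.left).charpoly.coeff i = ((mat x.left).charpoly.coeff i) ^ 4 := by
    conv_lhs => rw [hc1, hc2]
    rw [Polynomial.coeff_map, Polynomial.coeff_map, sq_apply, sq_apply, ← pow_mul]
  have h8 : ((mat x.left).charpoly.coeff i) ^ 8 = (mat x.left).charpoly.coeff i := by
    have := FiniteField.pow_card ((mat x.left).charpoly.coeff i)
    rwa [hcard] at this
  calc ((mat x.left).charpoly.coeff i) ^ 2
      = (((mat x.left).charpoly.coeff i) ^ 4) ^ 2 := by rw [← h4]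
    _ = ((mat x.left).charpoly.coeff i) ^ 8 := by rw [← pow_mul]
    _ = (mat x.left).charpoly.coeff i := h8

end Cfsg.Agent.Helper15.S64
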