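import Mathlib
import Cfsg.Agent.Lib.Helper17.SLkDefs

/-!
# S2479 piece SLK-NUMC: the final numerical inequalities `num_three`, `num_two`
-/

open Polynomial

namespace Cfsg.Agent.Helper17.SLk

open Cfsg.Agent.Helper17.GLk

universe u

section pieces2

/-- geometric sum over distinct quotients `n / e` -/
theorem slknumc_geo (q n a : ℕ) (hq : 2 ≤ q) (hn : 0 < n) (ha : 1 ≤ a) (A : Finset ℕ)
    (hA : ∀ e ∈ A, e ∣ n ∧ a ≤ e) :
    (∑ e ∈ A, q ^ (n / e)) * (q - 1) + 1 ≤ q ^ (n / a + 1) := by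
  have hinj : Set.InjOn (fun e => n / e) (A : Set ℕ) := by
    intro e he e' he' h
    have h1 := Nat.div_div_self (hA e he).1 hn.ne'
    have h2 := Nat.div_div_self (hA e' he').1 hn.ne'
    have h3 : n / e = n / e' := h
    rw [← h1, h3, h2]
  have hsub : A.image (fun e => n / e) ⊆ Finset.range (n / a + 1) := by
    intro d hd
    obtain ⟨e, he, rfl⟩ := Finset.mem_image.mp hd
    rw [Finset.mem_range]
    have := Nat.div_le_div_left (a := n) (hA e he).2 ha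
    omega
  have hsum : ∑ e ∈ A, q ^ (n / e) = ∑ d ∈ A.image (fun e => n / e), q ^ d :=
    (Finset.sum_image (f := fun d => q ^ d) hinj).symm
  have hle : ∑ d ∈ A.image (fun e => n / e), q ^ d ≤ ∑ d ∈ Finset.range (n / a + 1), q ^ d :=
    Finset.sum_le_sum_of_subset hsub
  have hgeo := geom_sum_mul_add (q - 1) (n / a + 1)
  rw [Nat.sub_add_cancel (by omega : 1 ≤ q)] at hgeo
  rw [hsum, ← hgeo]
  have := Nat.mul_le_mul_right (q - 1) hle
  omega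

theorem slknumc_arith (q Q cn S2 S3 : ℕ) (hq : 3 ≤ q) (h1 : cn + 1 ≤ q * q * Q) (h2 : S2 ≤ Q)
    (h3 : S3 ≤ Q) : cn + (S2 + S3) ≤ (q - 1) * (q * Q + 3 * Q) := by
  obtain ⟨t, rfl⟩ : ∃ t, q = t + 3 := ⟨q - 3, by omega⟩
  have e : t + 3 - 1 = t + 2 := rfl
  rw [e]
  nlinarith [Nat.zero_le (t * Q), Nat.zero_le (t * t * Q)]

/-- the case `n ≥ 5`, `q ≥ 3` -/
theorem slknumc_big (q n : ℕ) (hq : 3 ≤ q) (hn : 5 ≤ n) (c : ℕ → ℕ)
    (cle : ∀ m, 1 ≤ m → c m + 1 ≤ q ^ m) :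
    c n + ∑ e ∈ (Nat.gcd (q - 1) n).divisors.filter (fun e => 2 ≤ e), (e ^ 2 - 1) * c (n / e)
      ≤ (q - 1) * (q ^ (n - 1) + 3 * q ^ (n - 2)) := by
  obtain ⟨k, rfl⟩ : ∃ k, n = k + 2 := ⟨n - 2, by omega⟩
  have hk : 3 ≤ k := by omega
  set Fs := (Nat.gcd (q - 1) (k + 2)).divisors.filter (fun e => 2 ≤ e) with hFs
  have hmem : ∀ e ∈ Fs, e ∣ (k + 2) ∧ e ∣ q - 1 ∧ 2 ≤ e := by
    intro e he
    rw [hFs, Finset.mem_filter, Nat.mem_divisors] at he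
    exact ⟨he.1.1.trans (Nat.gcd_dvd_right _ _), he.1.1.trans (Nat.gcd_dvd_left _ _), he.2⟩
  have hq1 : 1 ≤ q := by omega
  -- the term `e = 2`
  have hS2 : ∑ e ∈ Fs.filter (fun e => e = 2), (e ^ 2 - 1) * c ((k + 2) / e) ≤ q ^ k := by
    have hsub : Fs.filter (fun e => e = 2) ⊆ {2} := by
      intro e he
      rw [Finset.mem_filter] at he
      rw [Finset.mem_singleton]
      exact he.2
    refine (Finset.sum_le_sum_of_subset hsub).trans ?_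
    rw [Finset.sum_singleton]
    have h1 := cle ((k + 2) / 2) (by omega)
    have h2 : q ^ ((k + 2) / 2) ≤ q ^ (k - 1) := Nat.pow_le_pow_right hq1 (by omega)
    have h3 : q ^ (k - 1) * q = q ^ k := by
      rw [← pow_succ]
      congr 1
      omega
    have h4 : q ^ (k - 1) * 3 ≤ q ^ (k - 1) * q := Nat.mul_le_mul_left _ hq
    have h5 : (2 ^ 2 - 1 : ℕ) = 3 := by norm_num
    rw [h5]
    omega
  -- the terms `e ≥ 3`
  have hS3 : ∑ e ∈ Fs.filter (fun e => ¬ e = 2), (e ^ 2 - 1) * c ((k + 2) / e) ≤ q ^ k := by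
    set A := Fs.filter (fun e => ¬ e = 2) with hA
    have hAm : ∀ e ∈ A, e ∣ (k + 2) ∧ 3 ≤ e := by
      intro e he
      rw [hA, Finset.mem_filter] at he
      obtain ⟨h1, _, h3⟩ := hmem e he.1
      exact ⟨h1, by omega⟩
    have hgeo := slknumc_geo q (k + 2) 3 (by omega) (by omega) (by omega) A hAm
    have hterm : ∀ e ∈ A, (e ^ 2 - 1) * c ((k + 2) / e) ≤ q * (q ^ ((k + 2) / e) * (q - 1)) := by
      intro e he
      rw [hA, Finset.mem_filter] at he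
      obtain ⟨h1, h2, h3⟩ := hmem e he.1
      have he1 : e ≤ q - 1 := Nat.le_of_dvd (by omega) h2
      have he2 : e ≤ k + 2 := Nat.le_of_dvd (by omega) h1
      have hpos : 1 ≤ (k + 2) / e := Nat.div_pos he2 (by omega)
      have hc := cle ((k + 2) / e) hpos
      have h4 : e ^ 2 - 1 ≤ q * (q - 1) := by
        have : e ^ 2 ≤ q * (q - 1) := by
          rw [pow_two]
          exact Nat.mul_le_mul (by omega) he1
        omega
      have h5 : c ((k + 2) / e) ≤ q ^ ((k + 2) / e) := by omega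
      calc (e ^ 2 - 1) * c ((k + 2) / e) ≤ (q * (q - 1)) * q ^ ((k + 2) / e) :=
            Nat.mul_le_mul h4 h5
        _ = q * (q ^ ((k + 2) / e) * (q - 1)) := by ring
    have h6 : ∑ e ∈ A, (e ^ 2 - 1) * c ((k + 2) / e)
        ≤ q * ((∑ e ∈ A, q ^ ((k + 2) / e)) * (q - 1)) := by
      rw [Finset.sum_mul, Finset.mul_sum]
      exact Finset.sum_le_sum hterm
    have h7 : q * ((∑ e ∈ A, q ^ ((k + 2) / e)) * (q - 1)) ≤ q * q ^ ((k + 2) / 3 + 1) :=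
      Nat.mul_le_mul_left _ (by omega)
    have h8 : q * q ^ ((k + 2) / 3 + 1) = q ^ ((k + 2) / 3 + 2) := by
      rw [← pow_succ']
    have h9 : q ^ ((k + 2) / 3 + 2) ≤ q ^ k := Nat.pow_le_pow_right hq1 (by omega)
    omega
  rw [← Finset.sum_filter_add_sum_filter_not Fs (fun e => e = 2)]
  have e1 : k + 2 - 1 = k + 1 := rfl
  have e2 : k + 2 - 2 = k := rfl
  rw [e1, e2]
  have e3 : q ^ (k + 1) = q * q ^ k := pow_succ' q k
  have e4 : q ^ (k + 2) = q * q * q ^ k := by rw [pow_succ', pow_succ', mul_assoc]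
  have hcn := cle (k + 2) (by omega)
  rw [e4] at hcn
  rw [e3]
  exact slknumc_arith q (q ^ k) _ _ _ hq hcn hS2 hS3

theorem slknumc_filter1 : (Nat.divisors 1).filter (fun e => 2 ≤ e) = ∅ := by decide
theorem slknumc_filter2 : (Nat.divisors 2).filter (fun e => 2 ≤ e) = {2} := by decide
theorem slknumc_filter3 : (Nat.divisors 3).filter (fun e => 2 ≤ e) = {3} := by decide
theorem slknumc_filter4 : (Nat.divisors 4).filter (fun e => 2 ≤ e) = {2, 4} := by decide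

/-- the case `q = 2` -/
theorem slknumc_q2 (n : ℕ) (hn : 3 ≤ n) (c : ℕ → ℕ)
    (cle : ∀ m, 1 ≤ m → c m + 1 ≤ 2 ^ m) :
    c n + ∑ e ∈ (Nat.gcd (2 - 1) n).divisors.filter (fun e => 2 ≤ e), (e ^ 2 - 1) * c (n / e)
      ≤ (2 - 1) * (2 ^ (n - 1) + 3 * 2 ^ (n - 2)) := by
  obtain ⟨k, rfl⟩ : ∃ k, n = k + 2 := ⟨n - 2, by omega⟩
  have hg : Nat.gcd (2 - 1) (k + 2) = 1 := by simp
  rw [hg, slknumc_filter1, Finset.sum_empty]
  have e1 : k + 2 - 1 = k + 1 := rfl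
  have e2 : k + 2 - 2 = k := rfl
  rw [e1, e2]
  have hcn := cle (k + 2) (by omega)
  have e3 : 2 ^ (k + 1) = 2 * 2 ^ k := pow_succ' 2 k
  have e4 : 2 ^ (k + 2) = 4 * 2 ^ k := by rw [pow_succ', pow_succ']; ring
  omega

/-- the case `n = 3` -/
theorem slknumc_n3 (q : ℕ) (hq : 2 ≤ q) (c : ℕ → ℕ)
    (c1 : c 1 = q - 1) (c3 : c 3 = q ^ 3 - q) :
    c 3 + ∑ e ∈ (Nat.gcd (q - 1) 3).divisors.filter (fun e => 2 ≤ e), (e ^ 2 - 1) * c (3 / e)
      ≤ (q - 1) * (q ^ (3 - 1) + 3 * q ^ (3 - 2)) := by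
  have hg3 : Nat.gcd (q - 1) 3 ∣ 3 := Nat.gcd_dvd_right _ _
  have hgq : Nat.gcd (q - 1) 3 ∣ q - 1 := Nat.gcd_dvd_left _ _
  rcases (Nat.dvd_prime Nat.prime_three).mp hg3 with hg | hg
  · rw [hg, slknumc_filter1, Finset.sum_empty, c3]
    obtain ⟨t, rfl⟩ : ∃ t, q = t + 2 := ⟨q - 2, by omega⟩
    have e : t + 2 - 1 = t + 1 := rfl
    rw [e]
    have e' : (t + 2) ^ 3 - (t + 2) = t ^ 3 + 6 * t ^ 2 + 11 * t + 6 := by
      apply Nat.sub_eq_of_eq_add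
      ring
    rw [e']
    norm_num
    nlinarith [Nat.zero_le (t ^ 2), Nat.zero_le (t ^ 3)]
  · rw [hg] at hgq
    have hq4 : 4 ≤ q := by
      have := Nat.le_of_dvd (by omega) hgq
      omega
    rw [hg, slknumc_filter3, Finset.sum_singleton, c3, c1]
    obtain ⟨t, rfl⟩ : ∃ t, q = t + 4 := ⟨q - 4, by omega⟩
    have e : t + 4 - 1 = t + 3 := rfl
    rw [e]
    have e' : (t + 4) ^ 3 - (t + 4) = t ^ 3 + 12 * t ^ 2 + 47 * t + 60 := by
      apply Nat.sub_eq_of_eq_add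
      ring
    rw [e']
    norm_num
    nlinarith [Nat.zero_le (t ^ 2), Nat.zero_le (t ^ 3)]

/-- the case `n = 4` -/
theorem slknumc_n4 (q : ℕ) (hq : 2 ≤ q) (c : ℕ → ℕ)
    (c1 : c 1 = q - 1) (c2 : c 2 = q ^ 2 - 1) (c4 : c 4 + 1 ≤ q ^ 4) :
    c 4 + ∑ e ∈ (Nat.gcd (q - 1) 4).divisors.filter (fun e => 2 ≤ e), (e ^ 2 - 1) * c (4 / e)
      ≤ (q - 1) * (q ^ (4 - 1) + 3 * q ^ (4 - 2)) := by
  have hg4 : Nat.gcd (q - 1) 4 ∣ 4 := Nat.gcd_dvd_right _ _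
  have hgq : Nat.gcd (q - 1) 4 ∣ q - 1 := Nat.gcd_dvd_left _ _
  have hle : Nat.gcd (q - 1) 4 ≤ 4 := Nat.le_of_dvd (by norm_num) hg4
  have hcases : Nat.gcd (q - 1) 4 = 1 ∨ Nat.gcd (q - 1) 4 = 2 ∨ Nat.gcd (q - 1) 4 = 4 := by
    generalize Nat.gcd (q - 1) 4 = g at hg4 hle
    interval_cases g <;> simp_all
  rcases hcases with hg | hg | hg
  · rw [hg, slknumc_filter1, Finset.sum_empty]
    obtain ⟨t, rfl⟩ : ∃ t, q = t + 2 := ⟨q - 2, by omega⟩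
    have e : t + 2 - 1 = t + 1 := rfl
    rw [e]
    norm_num
    nlinarith [Nat.zero_le (t ^ 2), Nat.zero_le (t ^ 3), Nat.zero_le (t ^ 4)]
  · rw [hg] at hgq
    have hq3 : 3 ≤ q := by
      have := Nat.le_of_dvd (by omega) hgq
      omega
    rw [hg, slknumc_filter2, Finset.sum_singleton, c2]
    obtain ⟨t, rfl⟩ : ∃ t, q = t + 3 := ⟨q - 3, by omega⟩
    have e : t + 3 - 1 = t + 2 := rfl
    rw [e]
    have e' : (t + 3) ^ 2 - 1 = t ^ 2 + 6 * t + 8 := by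
      apply Nat.sub_eq_of_eq_add
      ring
    rw [e']
    norm_num
    nlinarith [Nat.zero_le (t ^ 2), Nat.zero_le (t ^ 3), Nat.zero_le (t ^ 4)]
  · rw [hg] at hgq
    have hq5 : 5 ≤ q := by
      have := Nat.le_of_dvd (by omega) hgq
      omega
    rw [hg, slknumc_filter4, Finset.sum_pair (by norm_num), c2, c1]
    obtain ⟨t, rfl⟩ : ∃ t, q = t + 5 := ⟨q - 5, by omega⟩
    have e : t + 5 - 1 = t + 4 := rfl
    rw [e]
    have e' : (t + 5) ^ 2 - 1 = t ^ 2 + 10 * t + 24 := by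
      apply Nat.sub_eq_of_eq_add
      ring
    rw [e']
    norm_num
    nlinarith [Nat.zero_le (t ^ 2), Nat.zero_le (t ^ 3), Nat.zero_le (t ^ 4)]

/-- PIECE SLK-NUMC: the final inequalities (see plans/S2479_plan.md for the case analysis
`n = 2, 3, 4, 5` and `n ≥ 6`).  Hypotheses: the facts of SLK-NUMB. -/
theorem num_three (q n : ℕ) (hq : 2 ≤ q) (hn : 3 ≤ n) (c : ℕ → ℕ)
    (c1 : c 1 = q - 1) (c2 : c 2 = q ^ 2 - 1) (c3 : c 3 = q ^ 3 - q)
    (cle : ∀ m, 1 ≤ m → c m + 1 ≤ q ^ m) :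
    c n + ∑ e ∈ (Nat.gcd (q - 1) n).divisors.filter (fun e => 2 ≤ e), (e ^ 2 - 1) * c (n / e)
      ≤ (q - 1) * (q ^ (n - 1) + 3 * q ^ (n - 2)) := by
  rcases Nat.lt_or_ge n 5 with h5 | h5
  · have hn34 : n = 3 ∨ n = 4 := by omega
    rcases hn34 with rfl | rfl
    · exact slknumc_n3 q hq c c1 c3
    · exact slknumc_n4 q hq c c1 c2 (cle 4 (by norm_num))
  · rcases Nat.lt_or_ge q 3 with h3 | h3
    · have hq2 : q = 2 := by omega
      subst hq2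
      exact slknumc_q2 n hn c cle
    · exact slknumc_big q n h3 h5 c cle

theorem num_two (q : ℕ) (hq : 2 ≤ q) (c : ℕ → ℕ)
    (c1 : c 1 = q - 1) (c2 : c 2 = q ^ 2 - 1) :
    2 * (c 2 + ∑ e ∈ (Nat.gcd (q - 1) 2).divisors.filter (fun e => 2 ≤ e), (e ^ 2 - 1) * c (2 / e))
      ≤ 5 * ((q - 1) * q) := by
  have hg2 : Nat.gcd (q - 1) 2 ∣ 2 := Nat.gcd_dvd_right _ _
  have hgq : Nat.gcd (q - 1) 2 ∣ q - 1 := Nat.gcd_dvd_left _ _
  rcases (Nat.dvd_prime Nat.prime_two).mp hg2 with hg | hg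
  · rw [hg, slknumc_filter1, Finset.sum_empty, c2]
    obtain ⟨t, rfl⟩ : ∃ t, q = t + 2 := ⟨q - 2, by omega⟩
    have e : t + 2 - 1 = t + 1 := rfl
    rw [e]
    have e' : (t + 2) ^ 2 - 1 = t ^ 2 + 4 * t + 3 := by
      apply Nat.sub_eq_of_eq_add
      ring
    rw [e']
    nlinarith [Nat.zero_le (t ^ 2)]
  · rw [hg] at hgq
    have hq3 : 3 ≤ q := by
      have := Nat.le_of_dvd (by omega) hgq
      omega
    rw [hg, slknumc_filter2, Finset.sum_singleton, c2, c1]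
    obtain ⟨t, rfl⟩ : ∃ t, q = t + 3 := ⟨q - 3, by omega⟩
    have e : t + 3 - 1 = t + 2 := rfl
    rw [e]
    have e' : (t + 3) ^ 2 - 1 = t ^ 2 + 6 * t + 8 := by
      apply Nat.sub_eq_of_eq_add
      ring
    rw [e']
    norm_num
    nlinarith [Nat.zero_le (t ^ 2)]

end pieces2

end Cfsg.Agent.Helper17.SLk
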