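import Mathlib
import Cfsg.Agent.Lib.Helper17.SLkDefs

/-!
# S2479 piece SLK-SC1: scaling the constant coefficient of one polynomial
-/

open Polynomial

namespace Cfsg.Agent.Helper17.SLk

open Cfsg.Agent.Helper17.GLk

universe u

section pieces2
variable {F : Type u} [Field F]

theorem slksc1_of_ne (c : F) (f : F[X]) (h : f.natDegree ≠ 0) :
    sc c f = f + C ((c - 1) * f.coeff 0) := by
  unfold sc
  rw [if_neg h]

/-- PIECE SLK-SC1: scaling the constant coefficient of one polynomial. -/
theorem sc_of_natDegree_eq_zero (c : F) (f : F[X]) (h : f.natDegree = 0) : sc c f = f := by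
  unfold sc
  rw [if_pos h]

theorem sc_natDegree (c : F) (f : F[X]) : (sc c f).natDegree = f.natDegree := by
  by_cases h : f.natDegree = 0
  · rw [sc_of_natDegree_eq_zero c f h]
  · rw [slksc1_of_ne c f h, Polynomial.natDegree_add_C]

theorem sc_monic (c : F) (f : F[X]) (hf : f.Monic) : (sc c f).Monic := by
  by_cases h : f.natDegree = 0
  · rw [sc_of_natDegree_eq_zero c f h]; exact hf
  · rw [slksc1_of_ne c f h]
    apply hf.add_of_left
    have h1 : (C ((c - 1) * f.coeff 0)).degree ≤ 0 := Polynomial.degree_C_le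
    have h2 : (0 : WithBot ℕ) < f.degree := by
      rw [← Polynomial.natDegree_pos_iff_degree_pos]
      omega
    exact lt_of_le_of_lt h1 h2

theorem sc_coeff_zero (c : F) (f : F[X]) (h : f.natDegree ≠ 0) :
    (sc c f).coeff 0 = c * f.coeff 0 := by
  rw [slksc1_of_ne c f h, Polynomial.coeff_add, Polynomial.coeff_C_zero]
  ring

theorem sc_sc (c c' : F) (f : F[X]) : sc c (sc c' f) = sc (c * c') f := by
  by_cases h : f.natDegree = 0
  · rw [sc_of_natDegree_eq_zero c' f h, sc_of_natDegree_eq_zero c f h,
      sc_of_natDegree_eq_zero (c * c') f h]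
  · have h' : (sc c' f).natDegree ≠ 0 := by rw [sc_natDegree]; exact h
    rw [slksc1_of_ne c _ h', sc_coeff_zero c' f h, slksc1_of_ne c' f h, slksc1_of_ne (c * c') f h,
      add_assoc, ← C_add]
    congr 2
    ring

theorem sc_one (f : F[X]) : sc 1 f = f := by
  by_cases h : f.natDegree = 0
  · exact sc_of_natDegree_eq_zero 1 f h
  · rw [slksc1_of_ne 1 f h]
    simp

theorem uconst_sc (c : F) (f : F[X]) (h : f.natDegree ≠ 0) : uconst (sc c f) = c * uconst f := by
  unfold uconst
  rw [sc_natDegree, sc_coeff_zero c f h]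
  ring

theorem sc_eq_one_iff (c : F) (f : F[X]) (hf : f.Monic) : sc c f = 1 ↔ f = 1 := by
  by_cases h : f.natDegree = 0
  · rw [sc_of_natDegree_eq_zero c f h]
  · constructor
    · intro h1
      exfalso
      apply h
      rw [← sc_natDegree c f, h1, Polynomial.natDegree_one]
    · intro h1
      exfalso
      apply h
      rw [h1, Polynomial.natDegree_one]

end pieces2

end Cfsg.Agent.Helper17.SLk
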