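import Mathlib
import Cfsg.Agent.Lib.Helper17.SLkDefs

/-!
# S2479 piece SLK-UCONST: `uconst_mul`, `uconst_one`, `uconst_normalize_pow`
-/

open Polynomial

namespace Cfsg.Agent.Helper17.SLk

open Cfsg.Agent.Helper17.GLk

universe u

section pieces
variable {F : Type u} [Field F]

/-- PIECE SLK-UCONST: `uconst` is multiplicative on nonzero polynomials, and the consequences. -/
theorem uconst_mul (f g : F[X]) (hf : f ≠ 0) (hg : g ≠ 0) :
    uconst (f * g) = uconst f * uconst g := by
  unfold uconst
  rw [Polynomial.natDegree_mul hf hg, Polynomial.mul_coeff_zero, pow_add]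
  ring

theorem uconst_one : uconst (1 : F[X]) = 1 := by
  simp [uconst]

theorem slkuconst_pow (f : F[X]) (hf : f ≠ 0) (e : ℕ) : uconst (f ^ e) = uconst f ^ e := by
  induction e with
  | zero => simp [uconst_one]
  | succ e ih =>
    rw [pow_succ, uconst_mul _ _ (pow_ne_zero e hf) hf, ih, pow_succ]

theorem slkuconst_nrm_pow (p : F[X]) (e : ℕ) : nrm (p ^ e) = nrm p ^ e := by
  classical
  unfold nrm
  show normalize (p ^ e) = normalize p ^ e
  exact map_pow (normalizeHom (α := F[X])) p e

theorem slkuconst_nrm_ne_zero (p : F[X]) (hp : p ≠ 0) : nrm p ≠ 0 := by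
  classical
  unfold nrm
  exact fun h => hp (normalize_eq_zero.mp h)

theorem uconst_normalize_pow (p : F[X]) (hp : p ≠ 0) (e : ℕ) :
    uconst (nrm (p ^ e)) = uconst (nrm p) ^ e := by
  rw [slkuconst_nrm_pow, slkuconst_pow _ (slkuconst_nrm_ne_zero p hp)]

end pieces

end Cfsg.Agent.Helper17.SLk
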