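import Mathlib
import Cfsg.Agent.Lib.Helper20.SchDefs

/-!
# S4395 piece SCH-FIELDISO: `exists_field_iso`
-/

set_option autoImplicit false

namespace Cfsg.Agent.Helper20.Sch

universe u

variable {p q : ℕ} [Fact p.Prime] [Fact q.Prime]

section moduleiso

/-- `a = ord_q(p)` is positive -/
theorem schfieldiso_a_pos (hpq : p ≠ q) {a : ℕ} (ha : a = orderOf (p : ZMod q)) : 0 < a := by
  have hp : p.Prime := Fact.out
  have hq : q.Prime := Fact.out
  have hpne : (p : ZMod q) ≠ 0 := by
    rw [Ne, ZMod.natCast_eq_zero_iff]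
    intro h
    exact hpq ((Nat.prime_dvd_prime_iff_eq hq hp).mp h).symm
  rw [ha]
  apply orderOf_pos_iff.mpr
  rw [isOfFinOrder_iff_pow_eq_one]
  exact ⟨q - 1, by have := hq.two_le; omega, ZMod.pow_card_sub_one_eq_one hpne⟩

/-- the field generated by an element of order `q` has `p ^ a` elements -/
theorem schfieldiso_card (hpq : p ≠ q) {a : ℕ} (ha : a = orderOf (p : ZMod q))
    (K : Type*) [Field K] [Fintype K] [Algebra (ZMod p) K] (ξ : K)
    (hξ : orderOf ξ = q) (hgen : Algebra.adjoin (ZMod p) {ξ} = ⊤) :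
    Fintype.card K = p ^ a := by
  classical
  have hp : p.Prime := Fact.out
  have hq : q.Prime := Fact.out
  haveI : CharP K p := charP_of_injective_algebraMap (algebraMap (ZMod p) K).injective p
  have hapos : 0 < a := schfieldiso_a_pos hpq ha
  have hpa1 : 1 ≤ p ^ a := Nat.one_le_pow _ _ hp.pos
  have hqa : q ∣ p ^ a - 1 := by
    rw [← ZMod.natCast_eq_zero_iff, Nat.cast_sub hpa1]
    push_cast
    rw [ha, pow_orderOf_eq_one]
    simp
  have hξq : ξ ^ q = 1 := by rw [← hξ]; exact pow_orderOf_eq_one ξ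
  have hξ0 : ξ ≠ 0 := by
    intro h
    rw [h, zero_pow hq.ne_zero] at hξq
    exact zero_ne_one hξq
  have hξa : ξ ^ p ^ a = ξ := by
    obtain ⟨m, hm⟩ := hqa
    have h1 : p ^ a = q * m + 1 := by omega
    rw [h1, pow_succ, pow_mul, hξq, one_pow, one_mul]
  have hall : ∀ z : K, z ^ p ^ a = z := by
    intro z
    have hz : z ∈ Algebra.adjoin (ZMod p) {ξ} := by rw [hgen]; exact Algebra.mem_top
    induction hz using Algebra.adjoin_induction with
    | mem x hx => rw [Set.mem_singleton_iff.mp hx]; exact hξa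
    | algebraMap r => rw [← map_pow, ZMod.pow_card_pow]
    | add x y _ _ hx hy => rw [add_pow_char_pow, hx, hy]
    | mul x y _ _ hx hy => rw [mul_pow, hx, hy]
  -- the cardinality is `p ^ d`
  set d := Module.finrank (ZMod p) K with hd
  have hcard : Fintype.card K = p ^ d := by
    have h1 := Module.card_eq_pow_finrank (K := ZMod p) (V := K)
    rw [ZMod.card] at h1
    exact h1
  have hpd1 : 1 ≤ p ^ d := Nat.one_le_pow _ _ hp.pos
  -- `q ∣ p ^ d - 1`
  have hqd : q ∣ p ^ d - 1 := by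
    rw [← hξ, ← hcard]
    exact orderOf_dvd_of_pow_eq_one (FiniteField.pow_card_sub_one_eq_one ξ hξ0)
  have hzd : (p : ZMod q) ^ d = 1 := by
    have h0 : ((p ^ d - 1 : ℕ) : ZMod q) = 0 := (ZMod.natCast_eq_zero_iff _ _).mpr hqd
    rw [Nat.cast_sub hpd1] at h0
    push_cast at h0
    exact sub_eq_zero.mp h0
  have had : a ∣ d := by rw [ha]; exact orderOf_dvd_of_pow_eq_one hzd
  have hdpos : 0 < d := Module.finrank_pos
  have hle1 : a ≤ d := Nat.le_of_dvd hdpos had
  -- `p ^ d ≤ p ^ a` from a generator of the unit group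
  obtain ⟨g, hg⟩ := IsCyclic.exists_generator (α := Kˣ)
  have hog : orderOf g = Fintype.card K - 1 := by
    rw [orderOf_eq_card_of_forall_mem_zpowers hg, Nat.card_eq_fintype_card, Fintype.card_units]
  have hg1 : g ^ (p ^ a - 1) = 1 := by
    apply Units.ext
    rw [Units.val_pow_eq_pow_val, Units.val_one]
    have h1 := hall (g : K)
    have h2 : p ^ a = (p ^ a - 1) + 1 := by omega
    rw [h2, pow_succ] at h1
    have h3 : (g : K) ≠ 0 := g.ne_zero
    exact mul_right_cancel₀ h3 (by rw [h1, one_mul])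
  have hdvd : Fintype.card K - 1 ∣ p ^ a - 1 := by rw [← hog]; exact orderOf_dvd_of_pow_eq_one hg1
  have hpa2 : 2 ≤ p ^ a := by
    calc 2 ≤ p := hp.two_le
      _ = p ^ 1 := (pow_one p).symm
      _ ≤ p ^ a := Nat.pow_le_pow_right hp.pos hapos
  have hle2 : Fintype.card K - 1 ≤ p ^ a - 1 := Nat.le_of_dvd (by omega) hdvd
  have hle3 : p ^ d ≤ p ^ a := by rw [← hcard]; omega
  have hle4 : d ≤ a := (Nat.pow_le_pow_iff_right hp.one_lt).mp hle3
  rw [hcard, le_antisymm hle4 hle1]

/-- SCH-FIELDISO : uniqueness of the field generated by an element of order `q`. -/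
theorem exists_field_iso (hpq : p ≠ q) {a : ℕ} (ha : a = orderOf (p : ZMod q))
    (K : Type*) [Field K] [Finite K] [Algebra (ZMod p) K] (ξ : K)
    (hξ : orderOf ξ = q) (hgen : Algebra.adjoin (ZMod p) {ξ} = ⊤)
    (F : Type*) [Field F] [Finite F] (hF : Nat.card F = p ^ a) (μ : F) (hμ : orderOf μ = q) :
    ∃ κ : K ≃+* F, ∃ j : ℕ, j.Coprime q ∧ κ (ξ ^ j) = μ := by
  classical
  have hq : q.Prime := Fact.out
  haveI : Fintype K := Fintype.ofFinite K
  haveI : Fintype F := Fintype.ofFinite F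
  have hK : Fintype.card K = p ^ a := schfieldiso_card hpq ha K ξ hξ hgen
  have hF' : Fintype.card F = p ^ a := by rw [← Nat.card_eq_fintype_card]; exact hF
  let κ : K ≃+* F := FiniteField.ringEquivOfCardEq (hK.trans hF'.symm)
  refine ⟨κ, ?_⟩
  have hord : orderOf (κ ξ) = q := by
    rw [← hξ]
    exact orderOf_injective (κ : K →* F) κ.injective ξ
  have hprim : IsPrimitiveRoot (κ ξ) q := by
    have := IsPrimitiveRoot.orderOf (κ ξ)
    rwa [hord] at this
  have hμq : μ ^ q = 1 := by rw [← hμ]; exact pow_orderOf_eq_one μ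
  haveI : NeZero q := ⟨hq.ne_zero⟩
  obtain ⟨j, _, hj⟩ := hprim.eq_pow_of_pow_eq_one hμq
  refine ⟨j, ?_, ?_⟩
  · apply Nat.Coprime.symm
    rw [Nat.Prime.coprime_iff_not_dvd hq]
    intro hdvd
    obtain ⟨m, rfl⟩ := hdvd
    rw [pow_mul, hprim.pow_eq_one, one_pow] at hj
    rw [← hj, orderOf_one] at hμ
    exact hq.one_lt.ne hμ
  · rw [map_pow]
    exact hj

end moduleiso

end Cfsg.Agent.Helper20.Sch
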