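import Mathlib
import Cfsg.Agent.Lib.Helper20.SchDefs

/-!
# S4395 piece SCH-FROB: `adjoint_cases`
-/

set_option autoImplicit false

namespace Cfsg.Agent.Helper20.Sch

universe u

variable {p q : ℕ} [Fact p.Prime] [Fact q.Prime]

section field

variable {a : ℕ} (F : Type*) [Field F] [Finite F]

variable {F}

/-- `a = ord_q(p)` is positive -/
theorem schfrob_a_pos (hpq : p ≠ q) (ha : a = orderOf (p : ZMod q)) : 0 < a := by
  have hp : p.Prime := Fact.out
  have hq : q.Prime := Fact.out
  have hpne : (p : ZMod q) ≠ 0 := by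
    rw [Ne, ZMod.natCast_eq_zero_iff]
    intro h
    exact hpq ((Nat.prime_dvd_prime_iff_eq hq hp).mp h).symm
  rw [ha]
  apply orderOf_pos_iff.mpr
  rw [isOfFinOrder_iff_pow_eq_one]
  exact ⟨q - 1, by have := hq.two_le; omega, ZMod.pow_card_sub_one_eq_one hpne⟩

/-- the characteristic of `F` is `p` -/
theorem schfrob_charP (hapos : 0 < a) (hF : Nat.card F = p ^ a) : CharP F p := by
  have hp : p.Prime := Fact.out
  haveI : Fintype F := Fintype.ofFinite F
  have hcard : Fintype.card F = p ^ a := by rw [← Nat.card_eq_fintype_card]; exact hF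
  obtain ⟨r, hr⟩ := CharP.exists F
  haveI := hr
  obtain ⟨n, hrp, hn⟩ := FiniteField.card F r
  have h1 : p ∣ r ^ (n : ℕ) := by rw [← hn, hcard]; exact dvd_pow_self p hapos.ne'
  have h2 : p ∣ r := hp.dvd_of_dvd_pow h1
  have h3 : p = r := (Nat.prime_dvd_prime_iff_eq hp hrp).mp h2
  rw [h3]; exact hr

/-- every ring automorphism of `F` is a power `x ↦ x ^ p ^ i` of Frobenius with `i < a` -/
theorem schfrob_exists_pow (hapos : 0 < a) (hF : Nat.card F = p ^ a) (τ : F ≃+* F) :
    ∃ i, i < a ∧ ∀ x, τ x = x ^ p ^ i := by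
  classical
  have hp : p.Prime := Fact.out
  haveI : Fintype F := Fintype.ofFinite F
  have hcard : Fintype.card F = p ^ a := by rw [← Nat.card_eq_fintype_card]; exact hF
  haveI : CharP F p := schfrob_charP hapos hF
  letI : Algebra (ZMod p) F := ZMod.algebra F p
  have hfr : Module.finrank (ZMod p) F = a := by
    have h1 := Module.card_eq_pow_finrank (K := ZMod p) (V := F)
    rw [ZMod.card, hcard] at h1
    exact (Nat.pow_right_injective hp.two_le h1).symm
  let τ' : F ≃ₐ[ZMod p] F := AlgEquiv.ofRingEquiv (f := τ) (by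
    intro r
    obtain ⟨n, rfl⟩ := ZMod.natCast_zmod_surjective r
    simp)
  obtain ⟨⟨i, hi⟩, hi2⟩ :=
    (FiniteField.bijective_frobeniusAlgEquivOfAlgebraic_pow (ZMod p) F).2 τ'
  refine ⟨i, hfr ▸ hi, ?_⟩
  intro x
  have h3 := DFunLike.congr_fun hi2 x
  simp only at h3
  rw [AlgEquiv.coe_pow, FiniteField.coe_frobeniusAlgEquivOfAlgebraic_iterate, ZMod.card] at h3
  exact h3.symm

/-- SCH-FROB : automorphisms are Frobenius powers; number theory. -/
theorem adjoint_cases (hpq : p ≠ q) (ha : a = orderOf (p : ZMod q))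
    (hF : Nat.card F = p ^ a) (μ : F) (hμ : orderOf μ = q)
    (τ : F ≃+* F) (hτ : τ μ = μ⁻¹) :
    (q = 2 ∧ a = 1) ∨ (a % 2 = 0 ∧ ∀ x, τ x = x ^ p ^ (a / 2)) := by
  have hp : p.Prime := Fact.out
  have hq : q.Prime := Fact.out
  have hapos : 0 < a := schfrob_a_pos hpq ha
  obtain ⟨i, hia, hτx⟩ := schfrob_exists_pow hapos hF τ
  have hμq : μ ^ q = 1 := by rw [← hμ]; exact pow_orderOf_eq_one μ
  have hμ0 : μ ≠ 0 := by
    intro h
    rw [h, zero_pow hq.ne_zero] at hμq
    exact zero_ne_one hμq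
  have hμ1 : μ ^ (p ^ i + 1) = 1 := by
    rw [pow_succ, ← hτx μ, hτ, inv_mul_cancel₀ hμ0]
  have hdvd : q ∣ p ^ i + 1 := by rw [← hμ]; exact orderOf_dvd_of_pow_eq_one hμ1
  have hz : (p : ZMod q) ^ i = -1 := by
    have h0 : ((p ^ i + 1 : ℕ) : ZMod q) = 0 := (ZMod.natCast_eq_zero_iff _ _).mpr hdvd
    push_cast at h0
    exact eq_neg_of_add_eq_zero_left h0
  rcases Nat.eq_zero_or_pos i with h0 | hpos
  · left
    subst h0
    have h2 : q ∣ 2 := by simpa using hdvd
    have hq2 : q = 2 := (Nat.prime_dvd_prime_iff_eq hq Nat.prime_two).mp h2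
    refine ⟨hq2, ?_⟩
    subst hq2
    have hodd : Odd p := by
      rcases hp.eq_two_or_odd' with h | h
      · exact absurd h hpq
      · exact h
    have h1 : (p : ZMod 2) = 1 := ZMod.natCast_eq_one_iff_odd.mpr hodd
    rw [ha, h1, orderOf_one]
  · right
    have h2i : (p : ZMod q) ^ (2 * i) = 1 := by
      rw [mul_comm, pow_mul, hz]
      norm_num
    have hdiv : a ∣ 2 * i := by rw [ha]; exact orderOf_dvd_of_pow_eq_one h2i
    have hai : 2 * i = a := by
      obtain ⟨k, hk⟩ := hdiv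
      have hk1 : k = 1 := by
        rcases k with _ | _ | k
        · omega
        · rfl
        · exfalso
          nlinarith
      rw [hk1, mul_one] at hk
      exact hk
    refine ⟨by omega, ?_⟩
    have h3 : a / 2 = i := by omega
    rw [h3]
    exact hτx

end field

end Cfsg.Agent.Helper20.Sch
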