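import Mathlib
import Cfsg.Agent.Lib.Helper1.PosetEuler
import Cfsg.Agent.Lib.Helper1.RelSubnormal
import Cfsg.Agent.Lib.Helper14.PReducedSub
import Cfsg.Agent.Lib.Helper14.SubnormalClosure

/-!
# Counting the subnormalizer of a `p`-subgroup (helper1's shared library)

Casolo's formula `#{g | H sn ⟨H, g⟩} = Σ_{Q ∈ Syl_p(G), H ≤ Q} #N_G(Q)` via signed chain counts of
the posets of `g`-invariant `p`-subgroups and a Webb-type orbit count (`webb`).
-/

set_option autoImplicit false

namespace Cfsg.Agent.Helper1.SubnCount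

open Subgroup PosetEuler
open Cfsg

universe u

section Defs

variable {G : Type u} [Group G] [Finite G] (p : ℕ)

/-- `p`-subgroups strictly above `V` normalized by `n`. -/
noncomputable def PS (V : Subgroup G) (n : G) : Finset (Subgroup G) :=
  (Set.toFinite {W : Subgroup G | IsPGroup p W ∧ V < W ∧ n ∈ normalizer (W : Set G)}).toFinset

theorem mem_PS {V W : Subgroup G} {n : G} :
    W ∈ PS p V n ↔ IsPGroup p W ∧ V < W ∧ n ∈ normalizer (W : Set G) := by
  unfold PS; rw [Set.Finite.mem_toFinset]; rfl

/-- `p`-subgroups strictly above `V` inside `N` normalized by `n`. -/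
noncomputable def PSN (V N : Subgroup G) (n : G) : Finset (Subgroup G) :=
  (Set.toFinite {W : Subgroup G | IsPGroup p W ∧ V < W ∧ W ≤ N ∧
    n ∈ normalizer (W : Set G)}).toFinset

theorem mem_PSN {V N W : Subgroup G} {n : G} :
    W ∈ PSN p V N n ↔ IsPGroup p W ∧ V < W ∧ W ≤ N ∧ n ∈ normalizer (W : Set G) := by
  unfold PSN; rw [Set.Finite.mem_toFinset]; rfl

/-- `p`-subgroups containing `H` normalized by `n`. -/
noncomputable def PH (H : Subgroup G) (n : G) : Finset (Subgroup G) :=
  (Set.toFinite {W : Subgroup G | IsPGroup p W ∧ H ≤ W ∧ n ∈ normalizer (W : Set G)}).toFinset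

theorem mem_PH {H W : Subgroup G} {n : G} :
    W ∈ PH p H n ↔ IsPGroup p W ∧ H ≤ W ∧ n ∈ normalizer (W : Set G) := by
  unfold PH; rw [Set.Finite.mem_toFinset]; rfl

/-- `p`-subgroups strictly above `V`. -/
noncomputable def P0 (V : Subgroup G) : Finset (Subgroup G) :=
  (Set.toFinite {W : Subgroup G | IsPGroup p W ∧ V < W}).toFinset

theorem mem_P0 {V W : Subgroup G} : W ∈ P0 p V ↔ IsPGroup p W ∧ V < W := by
  unfold P0; rw [Set.Finite.mem_toFinset]; rfl

/-- `p`-subgroups containing `H`. -/
noncomputable def PH0 (H : Subgroup G) : Finset (Subgroup G) :=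
  (Set.toFinite {W : Subgroup G | IsPGroup p W ∧ H ≤ W}).toFinset

theorem mem_PH0 {H W : Subgroup G} : W ∈ PH0 p H ↔ IsPGroup p W ∧ H ≤ W := by
  unfold PH0; rw [Set.Finite.mem_toFinset]; rfl

end Defs

section Basic

variable {G : Type u} [Group G] [Finite G] (p : ℕ) [hp : Fact p.Prime]

theorem lt_inf_normalizer {V W : Subgroup G} (hW : IsPGroup p W) (hVW : V < W) :
    V < W ⊓ normalizer (V : Set G) := by
  haveI : Group.IsNilpotent W := hW.isNilpotent
  have hnc := Group.normalizerCondition_of_isNilpotent (G := W)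
  have hlt : V.subgroupOf W < ⊤ := by
    rw [lt_top_iff_ne_top]
    intro h
    apply hVW.ne
    apply le_antisymm hVW.le
    rw [← Subgroup.subgroupOf_eq_top]; exact h
  have h2 := hnc (V.subgroupOf W) hlt
  rw [← Subgroup.subgroupOf_normalizer_eq hVW.le] at h2
  obtain ⟨x, hx1, hx2⟩ := SetLike.exists_of_lt h2
  refine lt_of_le_of_ne (le_inf hVW.le le_normalizer) ?_
  intro heq
  apply hx2
  rw [mem_subgroupOf] at hx1 ⊢
  rw [heq]; exact ⟨x.2, hx1⟩

/-- retraction `W ↦ N_W(V)` -/
theorem ech_PS_eq_PSN {V : Subgroup G} {n : G} (hn : n ∈ normalizer (V : Set G)) :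
    ech (PS p V n) = ech (PSN p V (normalizer (V : Set G)) n) := by
  classical
  rw [ech_eq_of_retraction (PS p V n) (fun W => W ⊓ normalizer (V : Set G))]
  · congr 1
    ext W
    simp only [Finset.mem_filter, mem_PS, mem_PSN, inf_eq_left]
    tauto
  · intro W hW
    obtain ⟨h1, h2, h3⟩ := (mem_PS p).mp hW
    refine (mem_PS p).mpr ⟨h1.to_le inf_le_left, lt_inf_normalizer p h1 h2, ?_⟩
    apply Subgroup.inf_normalizer_le_normalizer_inf
    exact Subgroup.mem_inf.mpr ⟨h3, le_normalizer hn⟩
  · intro W _; exact inf_le_left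
  · intro W _ W' _ h; exact inf_le_inf_right _ h
  · intro W _
    simp

/-- `Subgroup.map N.subtype` as an order embedding. -/
noncomputable def mapEmb (N : Subgroup G) : Subgroup N ↪o Subgroup G :=
  OrderEmbedding.ofMapLEIff (Subgroup.map N.subtype)
    (fun _ _ => Subgroup.map_le_map_iff_of_injective (Subgroup.subtype_injective N))

theorem mapEmb_apply (N : Subgroup G) (W : Subgroup N) : mapEmb N W = W.map N.subtype := rfl

/-- transport to the subgroup `N` as a group of its own -/
theorem ech_PSN_eq {N U : Subgroup G} (hUN : U ≤ N) (n : N) :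
    ech (PSN p U N (n : G)) = ech (PS p (U.subgroupOf N) n) := by
  classical
  rw [← ech_map (mapEmb N)]
  congr 1
  ext W
  simp only [Finset.mem_map, mem_PS, mem_PSN, RelEmbedding.coe_toEmbedding, mapEmb_apply]
  constructor
  · rintro ⟨h1, h2, h3, h4⟩
    refine ⟨W.subgroupOf N, ⟨h1.comap_subtype, ?_, ?_⟩, Subgroup.map_subgroupOf_eq_of_le h3⟩
    · refine lt_of_le_of_ne ?_ ?_
      · intro x hx; exact h2.le hx
      · intro heq
        apply h2.ne
        have := congrArg (Subgroup.map N.subtype) heq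
        rwa [Subgroup.map_subgroupOf_eq_of_le hUN, Subgroup.map_subgroupOf_eq_of_le h3] at this
    · have := Subgroup.subgroupOf_normalizer_eq h3
      rw [← this, mem_subgroupOf]
      exact h4
  · rintro ⟨W', ⟨h1, h2, h3⟩, rfl⟩
    refine ⟨h1.map _, ?_, Subgroup.map_subtype_le _, ?_⟩
    · have h5 : U = (U.subgroupOf N).map N.subtype := (Subgroup.map_subgroupOf_eq_of_le hUN).symm
      rw [h5]
      exact (mapEmb N).strictMono h2
    · have := Subgroup.le_normalizer_map (H := W') N.subtype
      exact this ⟨n, h3, rfl⟩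

end Basic

section Webb

variable (p : ℕ) [hp : Fact p.Prime]

/-- index of a `p`-subgroup in its normalizer vs. in the group, mod `p` -/
theorem dvd_index_iff {K : Type u} [Group K] [Finite K] {U : Subgroup K} (hU : IsPGroup p U) :
    p ∣ (U.subgroupOf (normalizer (U : Set K))).index ↔ p ∣ U.index := by
  obtain ⟨k, hk⟩ := hU.exists_card_eq
  have h := Sylow.card_quotient_normalizer_modEq_card_quotient hk
  rw [Subgroup.index_eq_card, Subgroup.index_eq_card]
  exact h.dvd_iff dvd_rfl

/-- The Webb-type statement for a group `K` and a normal `p`-subgroup `V` of index `m`. -/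
def WebbAt (m : ℕ) : Prop :=
  ∀ (K : Type u) [Group K] [Fintype K] (V : Subgroup K), V.Normal → IsPGroup p V → V.index = m →
    ∑ n : K, ech (PS p V n) = if p ∣ m then 0 else (Nat.card K : ℤ)

open Classical in
/-- The sum over the normalizer of a `p`-subgroup `U`, given the Webb-type statement for the section
`N(U)/U`. -/
theorem inner_sum {K : Type u} [Group K] [Fintype K] {U : Subgroup K} (hU : IsPGroup p U)
    (hW : WebbAt.{u} p (U.subgroupOf (normalizer (U : Set K))).index) :
    ∑ n ∈ Finset.univ.filter (fun n => n ∈ normalizer (U : Set K)), ech (PS p U n) =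
      if p ∣ U.index then 0 else (Nat.card (normalizer (U : Set K)) : ℤ) := by
  letI : Fintype (normalizer (U : Set K)) := Fintype.ofFinite _
  have h1 : ∑ n ∈ Finset.univ.filter (fun n => n ∈ normalizer (U : Set K)), ech (PS p U n) =
      ∑ n : normalizer (U : Set K), ech (PS p (U.subgroupOf (normalizer (U : Set K))) n) := by
    rw [Finset.sum_subtype (Finset.univ.filter (fun n => n ∈ normalizer (U : Set K)))
      (p := fun n => n ∈ normalizer (U : Set K)) (fun x => by simp)]
    apply Finset.sum_congr rfl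
    intro n _
    rw [ech_PS_eq_PSN p n.2, ech_PSN_eq p le_normalizer n]
  rw [h1]
  haveI : (U.subgroupOf (normalizer (U : Set K))).Normal := Subgroup.normal_in_normalizer
  rw [hW (normalizer (U : Set K)) (U.subgroupOf (normalizer (U : Set K))) inferInstance
    hU.comap_subtype rfl]
  simp only [dvd_index_iff p hU]

theorem sum_card_normalizer_sylow {K : Type u} [Group K] [Fintype K] :
    ∑ Q : Sylow p K, (Nat.card (normalizer ((Q : Subgroup K) : Set K)) : ℤ) = Nat.card K := by
  classical
  have hn : ∀ Q : Sylow p K, (Nat.card (normalizer ((Q : Subgroup K) : Set K)) : ℤ)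
      * (Nat.card (Sylow p K) : ℤ) = Nat.card K := by
    intro Q
    rw [Sylow.card_eq_index_normalizer Q]
    exact_mod_cast Subgroup.card_mul_index (normalizer ((Q : Subgroup K) : Set K))
  have hpos : (Nat.card (Sylow p K) : ℤ) ≠ 0 := by
    have : 0 < Nat.card (Sylow p K) := Nat.card_pos
    exact_mod_cast this.ne'
  apply mul_right_cancel₀ hpos
  rw [Finset.sum_mul, Finset.sum_congr rfl (fun Q _ => hn Q), Finset.sum_const, Finset.card_univ,
    ← Nat.card_eq_fintype_card]
  simp [mul_comm]

open Classical in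
theorem sum_sylow_eq {K : Type u} [Group K] [Fintype K] (S : Finset (Subgroup K))
    (hS : ∀ U ∈ S, IsPGroup p U) (f : Subgroup K → ℤ) :
    ∑ U ∈ S, (if p ∣ U.index then 0 else f U) =
      ∑ Q : Sylow p K, if (Q : Subgroup K) ∈ S then f Q else 0 := by
  have hite : ∀ U ∈ S, (if p ∣ U.index then (0 : ℤ) else f U) = if ¬ p ∣ U.index then f U else 0 :=
    fun U _ => by rw [ite_not]
  rw [Finset.sum_congr rfl hite, ← Finset.sum_filter, ← Finset.sum_filter]
  refine Finset.sum_bij' (fun U hU => (hS U (Finset.mem_filter.mp hU).1).toSylow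
      (Finset.mem_filter.mp hU).2)
    (fun Q _ => (Q : Subgroup K)) ?_ ?_ ?_ ?_ ?_
  · intro U hU
    simp only [Finset.mem_filter, Finset.mem_univ, true_and, IsPGroup.toSylow_coe]
    exact (Finset.mem_filter.mp hU).1
  · intro Q hQ
    simp only [Finset.mem_filter, Finset.mem_univ, true_and] at hQ
    exact Finset.mem_filter.mpr ⟨hQ, Q.not_dvd_index⟩
  · intro U hU
    rfl
  · intro Q hQ
    apply Sylow.ext
    rfl
  · intro U hU
    rfl

theorem webb : ∀ m : ℕ, WebbAt.{u} p m := by
  intro m
  induction m using Nat.strong_induction_on with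
  | _ m ih =>
  intro K _ _ V hVn hVp hm
  classical
  have h1 : ∀ n : K, ech (PS p V n) = 1 - ∑ U ∈ PS p V n, ech (PS p U n) := by
    intro n
    rw [ech_eq_one_sub_sum]
    congr 1
    apply Finset.sum_congr rfl
    intro U hU
    congr 1
    ext W
    simp only [Finset.mem_filter, mem_PS]
    have := (mem_PS p).mp hU
    constructor
    · rintro ⟨⟨hW, _, hn⟩, hlt⟩; exact ⟨hW, hlt, hn⟩
    · rintro ⟨hW, hlt, hn⟩; exact ⟨⟨hW, this.2.1.trans hlt, hn⟩, hlt⟩
  have h2 : ∑ n : K, ∑ U ∈ PS p V n, ech (PS p U n) =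
      ∑ U ∈ P0 p V, ∑ n ∈ Finset.univ.filter (fun n => n ∈ normalizer (U : Set K)),
        ech (PS p U n) := by
    apply Finset.sum_comm'
    intro n U
    simp only [Finset.mem_univ, mem_PS, true_and, mem_P0, Finset.mem_filter]
    tauto
  have hidx : ∀ U ∈ P0 p V, (U.subgroupOf (normalizer (U : Set K))).index < m := by
    intro U hU
    obtain ⟨hUp, hVU⟩ := (mem_P0 p).mp hU
    have h3 : (U.subgroupOf (normalizer (U : Set K))).index ∣ U.index :=
      Subgroup.relIndex_dvd_index_of_le le_normalizer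
    have h4 : U.index ≠ 0 := Subgroup.index_ne_zero_of_finite
    have h5 : V.relIndex U * U.index = V.index := Subgroup.relIndex_mul_index hVU.le
    have h6 : V.relIndex U ≠ 1 := by
      intro h
      exact hVU.not_ge (Subgroup.relIndex_eq_one.mp h)
    have h7 : V.relIndex U ≠ 0 := by
      intro h
      rw [h, zero_mul] at h5
      exact (Subgroup.index_ne_zero_of_finite (H := V)) h5.symm
    have h8 : (U.subgroupOf (normalizer (U : Set K))).index ≤ U.index :=
      Nat.le_of_dvd (Nat.pos_of_ne_zero h4) h3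
    have h9 : 2 ≤ V.relIndex U := by omega
    have : U.index < V.index := by
      rw [← h5]
      have : 0 < U.index := Nat.pos_of_ne_zero h4
      nlinarith
    omega
  have h3 : ∀ U ∈ P0 p V, ∑ n ∈ Finset.univ.filter (fun n => n ∈ normalizer (U : Set K)),
      ech (PS p U n) = if p ∣ U.index then 0 else (Nat.card (normalizer (U : Set K)) : ℤ) := by
    intro U hU
    exact inner_sum p ((mem_P0 p).mp hU).1 (ih _ (hidx U hU))
  have h4 : ∑ n : K, ech (PS p V n) = (Nat.card K : ℤ) -
      ∑ Q : Sylow p K, if (Q : Subgroup K) ∈ P0 p V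
        then (Nat.card (normalizer ((Q : Subgroup K) : Set K)) : ℤ) else 0 := by
    rw [Finset.sum_congr rfl (fun n _ => h1 n), Finset.sum_sub_distrib, h2,
      Finset.sum_congr rfl h3, sum_sylow_eq p (P0 p V) (fun U hU => ((mem_P0 p).mp hU).1)
        (fun U => (Nat.card (normalizer (U : Set K)) : ℤ))]
    simp [Nat.card_eq_fintype_card]
  rw [h4]
  by_cases hdvd : p ∣ m
  · rw [if_pos hdvd]
    have : ∀ Q : Sylow p K, (Q : Subgroup K) ∈ P0 p V := by
      intro Q
      refine (mem_P0 p).mpr ⟨Q.isPGroup', lt_of_le_of_ne (hVp.le_sylow_of_normal Q) ?_⟩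
      intro heq
      have := Q.not_dvd_index
      rw [← heq, hm] at this
      exact this hdvd
    simp only [this, if_true]
    rw [sum_card_normalizer_sylow p, sub_self]
  · rw [if_neg hdvd]
    have : ∀ Q : Sylow p K, (Q : Subgroup K) ∉ P0 p V := by
      intro Q hQ
      obtain ⟨_, hlt⟩ := (mem_P0 p).mp hQ
      have hVS := hVp.toSylow (by rw [hm]; exact hdvd)
      have := (hVp.toSylow (by rw [hm]; exact hdvd)).is_maximal' Q.isPGroup' hlt.le
      exact hlt.ne this.symm
    simp only [this, if_false]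
    simp

open Classical in
/-- the sum over the normalizer of a `p`-subgroup `U` -/
theorem inner_sum' {K : Type u} [Group K] [Fintype K] {U : Subgroup K} (hU : IsPGroup p U) :
    ∑ n ∈ Finset.univ.filter (fun n => n ∈ normalizer (U : Set K)), ech (PS p U n) =
      if p ∣ U.index then 0 else (Nat.card (normalizer (U : Set K)) : ℤ) :=
  inner_sum p hU (webb p _)

end Webb

section Casolo

variable {G : Type u} [Group G] [Finite G] (p : ℕ) [hp : Fact p.Prime]

theorem sn_iff {H : Subgroup G} (hH : IsPGroup p H) (g : G) :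
    (H.subgroupOf (H ⊔ zpowers g)).IsSubnormal ↔ (PH p H g).Nonempty := by
  constructor
  · intro hsn
    set T := H ⊔ zpowers g with hT
    have hgT : g ∈ T := (le_sup_right : zpowers g ≤ T) (mem_zpowers g)
    have hle : H.subgroupOf T ≤ pCore p T :=
      Cfsg.Agent.Helper14.subnormal_isPGroup_le_pCore hsn hH.comap_subtype
    refine ⟨(pCore p T).map T.subtype, (mem_PH p).mpr ⟨?_, ?_, ?_⟩⟩
    · exact (Cfsg.Agent.Helper14.pCore_isPGroup p T).map _
    · intro h hh
      have hhT : h ∈ T := (le_sup_left : H ≤ T) hh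
      exact ⟨⟨h, hhT⟩, hle (mem_subgroupOf.mpr hh), rfl⟩
    · have hn : (pCore p T).Normal := Subgroup.sSup_normal _ (fun K hK => hK.1)
      have h1 := Subgroup.le_normalizer_map (H := pCore p T) T.subtype
      apply h1
      refine ⟨⟨g, hgT⟩, ?_, rfl⟩
      rw [Subgroup.normalizer_eq_top_iff.mpr hn]
      exact mem_top _
  · rintro ⟨W, hW⟩
    obtain ⟨hWp, hHW, hg⟩ := (mem_PH p).mp hW
    have h1 : (W.subgroupOf (W ⊔ zpowers g)).IsSubnormal :=
      sn_of_le_normalizer le_sup_left (sup_le le_normalizer ((zpowers_le).mpr hg))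
    haveI : Group.IsNilpotent W := hWp.isNilpotent
    have h2 : (H.subgroupOf W).IsSubnormal :=
      Cfsg.Agent.Helper14.isSubnormal_of_isNilpotent _
    have h3 := sn_trans hHW le_sup_left h2 h1
    exact sn_mono (sup_le (hHW.trans le_sup_left) le_sup_right) h3

open Classical in
theorem indicator_eq {H : Subgroup G} (hH : IsPGroup p H) (g : G) :
    (if (H.subgroupOf (H ⊔ zpowers g)).IsSubnormal then (1 : ℤ) else 0) =
      ∑ V ∈ PH p H g, ech (PS p V g) := by
  have key : ech (PH p H g) = 1 - ∑ V ∈ PH p H g, ech (PS p V g) := by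
    rw [ech_eq_one_sub_sum]
    congr 1
    apply Finset.sum_congr rfl
    intro U hU
    congr 1
    ext W
    simp only [Finset.mem_filter, mem_PS, mem_PH]
    have := (mem_PH p).mp hU
    constructor
    · rintro ⟨⟨hW, _, hn⟩, hlt⟩; exact ⟨hW, hlt, hn⟩
    · rintro ⟨hW, hlt, hn⟩; exact ⟨⟨hW, this.2.1.trans hlt.le, hn⟩, hlt⟩
  by_cases hsn : (H.subgroupOf (H ⊔ zpowers g)).IsSubnormal
  · rw [if_pos hsn]
    have hne := (sn_iff p hH g).mp hsn
    obtain ⟨W₀, hW₀⟩ := hne
    have hcone : ech (PH p H g) = 0 := by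
      apply ech_eq_zero_of_cone _ (m := sInf (↑(PH p H g) : Set (Subgroup G)))
      · refine (mem_PH p).mpr ⟨?_, ?_, ?_⟩
        · exact ((mem_PH p).mp hW₀).1.to_le (sInf_le (Finset.mem_coe.mpr hW₀))
        · apply le_sInf
          intro W hW
          exact ((mem_PH p).mp (Finset.mem_coe.mp hW)).2.1
        · rw [Subgroup.mem_normalizer_iff]
          intro h
          rw [Subgroup.mem_sInf, Subgroup.mem_sInf]
          constructor
          · intro hh W hW
            have hgW := ((mem_PH p).mp (Finset.mem_coe.mp hW)).2.2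
            exact (Subgroup.mem_normalizer_iff.mp hgW h).mp (hh W hW)
          · intro hh W hW
            have hgW := ((mem_PH p).mp (Finset.mem_coe.mp hW)).2.2
            exact (Subgroup.mem_normalizer_iff.mp hgW h).mpr (hh W hW)
      · intro W hW
        left
        exact sInf_le (Finset.mem_coe.mpr hW)
    rw [hcone] at key
    linarith
  · rw [if_neg hsn]
    have : PH p H g = ∅ := by
      rw [← Finset.not_nonempty_iff_eq_empty]
      intro h
      exact hsn ((sn_iff p hH g).mpr h)
    rw [this, Finset.sum_empty]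

open Classical in
theorem card_subn_eq [Fintype G] {H : Subgroup G} (hH : IsPGroup p H) :
    (Nat.card {g : G // (H.subgroupOf (H ⊔ zpowers g)).IsSubnormal} : ℤ) =
      ∑ Q : Sylow p G, if H ≤ (Q : Subgroup G)
        then (Nat.card (normalizer ((Q : Subgroup G) : Set G)) : ℤ) else 0 := by
  have h0 : (Nat.card {g : G // (H.subgroupOf (H ⊔ zpowers g)).IsSubnormal} : ℤ) =
      ∑ g : G, if (H.subgroupOf (H ⊔ zpowers g)).IsSubnormal then (1 : ℤ) else 0 := by
    rw [Nat.card_eq_fintype_card, Fintype.card_subtype, Finset.card_filter]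
    push_cast
    rfl
  rw [h0, Finset.sum_congr rfl (fun g _ => indicator_eq p hH g)]
  have h2 : ∑ g : G, ∑ V ∈ PH p H g, ech (PS p V g) =
      ∑ V ∈ PH0 p H, ∑ g ∈ Finset.univ.filter (fun g => g ∈ normalizer (V : Set G)),
        ech (PS p V g) := by
    apply Finset.sum_comm'
    intro n U
    simp only [Finset.mem_univ, mem_PH, true_and, mem_PH0, Finset.mem_filter]
    tauto
  rw [h2, Finset.sum_congr rfl (fun V hV => inner_sum' p ((mem_PH0 p).mp hV).1),
    sum_sylow_eq p (PH0 p H) (fun U hU => ((mem_PH0 p).mp hU).1)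
      (fun U => (Nat.card (normalizer (U : Set G)) : ℤ))]
  apply Finset.sum_congr rfl
  intro Q _
  have : (Q : Subgroup G) ∈ PH0 p H ↔ H ≤ (Q : Subgroup G) := by
    rw [mem_PH0]
    exact ⟨fun h => h.2, fun h => ⟨Q.isPGroup', h⟩⟩
  simp only [this]

theorem card_normalizer_sylow_eq (P Q : Sylow p G) :
    Nat.card (normalizer ((Q : Subgroup G) : Set G)) =
      Nat.card (normalizer ((P : Subgroup G) : Set G)) := by
  have h1 := Subgroup.card_mul_index (normalizer ((Q : Subgroup G) : Set G))
  have h2 := Subgroup.card_mul_index (normalizer ((P : Subgroup G) : Set G))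
  have hQ : (normalizer ((Q : Subgroup G) : Set G)).index = Nat.card (Sylow p G) :=
    (Sylow.card_eq_index_normalizer Q).symm
  have hP : (normalizer ((P : Subgroup G) : Set G)).index = Nat.card (Sylow p G) :=
    (Sylow.card_eq_index_normalizer P).symm
  rw [hQ] at h1
  rw [hP] at h2
  have hpos : 0 < Nat.card (Sylow p G) := Nat.card_pos
  exact Nat.eq_of_mul_eq_mul_right hpos (h1.trans h2.symm)

/-- **Casolo's formula.** -/
theorem card_subnormalizer {H : Subgroup G} (hH : IsPGroup p H) (P : Sylow p G) :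
    Nat.card {g : G // (H.subgroupOf (H ⊔ zpowers g)).IsSubnormal} =
      Nat.card {Q : Sylow p G // H ≤ (Q : Subgroup G)} *
        Nat.card (normalizer ((P : Subgroup G) : Set G)) := by
  classical
  letI : Fintype G := Fintype.ofFinite G
  have h := card_subn_eq p hH
  have h2 : ∑ Q : Sylow p G, (if H ≤ (Q : Subgroup G)
        then (Nat.card (normalizer ((Q : Subgroup G) : Set G)) : ℤ) else 0) =
      (Nat.card {Q : Sylow p G // H ≤ (Q : Subgroup G)} : ℤ) *
        (Nat.card (normalizer ((P : Subgroup G) : Set G)) : ℤ) := by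
    rw [Nat.card_eq_fintype_card, Fintype.card_subtype, ← Finset.sum_filter]
    rw [Finset.sum_congr rfl (fun Q _ => by rw [card_normalizer_sylow_eq p P Q])]
    rw [Finset.sum_const]
    simp
  rw [h2] at h
  exact_mod_cast h

end Casolo

section Transporter

/-- Counting the elements carrying `a` into `S` under an action: orbit points in `S` times the
stabilizer. -/
theorem card_transporter {G α : Type*} [Group G] (act : G → α → α)
    (hmul : ∀ x y b, act (x * y) b = act x (act y b)) (hone : ∀ b, act 1 b = b) (a : α) (S : Set α) :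
    Nat.card {x : G // act x a ∈ S} =
      Nat.card {b : α // b ∈ S ∧ ∃ x, act x a = b} * Nat.card {x : G // act x a = a} := by
  classical
  rw [← Nat.card_prod]
  apply Nat.card_congr
  let r : {b : α // b ∈ S ∧ ∃ x, act x a = b} → G := fun b => b.2.2.choose
  have hr : ∀ b, act (r b) a = b.1 := fun b => b.2.2.choose_spec
  have hinv : ∀ x b, act x⁻¹ (act x b) = b := by
    intro x b
    rw [← hmul, inv_mul_cancel, hone]
  refine ⟨fun x => (⟨act x.1 a, x.2, x.1, rfl⟩,
      ⟨(r ⟨act x.1 a, x.2, x.1, rfl⟩)⁻¹ * x.1, ?_⟩),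
    fun bs => ⟨r bs.1 * bs.2.1, ?_⟩, ?_, ?_⟩
  · rw [hmul]
    have := hr ⟨act x.1 a, x.2, x.1, rfl⟩
    exact (congrArg (act (r ⟨act x.1 a, x.2, x.1, rfl⟩)⁻¹) this).symm.trans (hinv _ a)
  · rw [hmul, bs.2.2, hr]
    exact bs.1.2.1
  · intro x
    apply Subtype.ext
    simp
  · rintro ⟨b, s⟩
    have h1 : act (r b * s.1) a = b.1 := by rw [hmul, s.2, hr]
    apply Prod.ext
    · apply Subtype.ext
      exact h1
    · apply Subtype.ext
      simp only
      have : (⟨act (r b * s.1) a, (h1 ▸ b.2.1 : act (r b * s.1) a ∈ S), r b * s.1, rfl⟩ :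
          {b : α // b ∈ S ∧ ∃ x, act x a = b}) = b := Subtype.ext h1
      rw [this]
      group

end Transporter

end Cfsg.Agent.Helper1.SubnCount
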