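import Mathlib

set_option autoImplicit false

namespace Cfsg.Agent.Helper1

open Subgroup MulAction Sylow Pointwise

/-- Two Sylow subgroups of `G` contained in a subgroup `M` are conjugate by an element of `M`. -/
theorem exists_mem_smul_eq_of_le {G : Type*} [Group G] [Finite G] {p : ℕ} [Fact p.Prime]
    (P Q : Sylow p G) (M : Subgroup G) (hP : (P : Subgroup G) ≤ M) (hQ : (Q : Subgroup G) ≤ M) :
    ∃ c ∈ M, c • P = Q := by
  obtain ⟨h, hh⟩ := exists_smul_eq M (P.subtype hP) (Q.subtype hQ)
  simp_rw [smul_subtype, Subgroup.smul_def] at hh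
  exact ⟨h, h.2, subtype_injective hh⟩

/-- Membership in a conjugate Sylow subgroup. -/
theorem mem_smul_sylow_iff {G : Type*} [Group G] {p : ℕ} (P : Sylow p G) (g x : G) :
    x ∈ g • P ↔ g⁻¹ * x * g ∈ P := by
  change x ∈ (MulAut.conj g • (P : Subgroup G)) ↔ _
  rw [Subgroup.mem_pointwise_smul_iff_inv_smul_mem]
  simp [MulAut.smul_def]
  rfl

/-- `map (conj g)` agrees with the pointwise action. -/
theorem map_conj_eq_smul {G : Type*} [Group G] (H : Subgroup G) (g : G) :
    H.map (MulAut.conj g).toMonoidHom = MulAut.conj g • H := rfl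

theorem mem_map_conj_iff {G : Type*} [Group G] (H : Subgroup G) (g x : G) :
    x ∈ H.map (MulAut.conj g).toMonoidHom ↔ g⁻¹ * x * g ∈ H := by
  rw [map_conj_eq_smul, Subgroup.mem_pointwise_smul_iff_inv_smul_mem]
  simp [MulAut.smul_def]

end Cfsg.Agent.Helper1
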