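import Mathlib
import Cfsg.Agent.Lib.Helper1.SubnCount
import Cfsg.Agent.Lib.Helper1.SylowBasic
import Cfsg.Agent.Lib.Helper21.SylowCount

/-!
# The subnormalizer count along a normal `p`/`p'`-series (helper1's shared library)

`Bset H P M = {x | x H x⁻¹ ≤ P M}` for normal `M`; its cardinality is unchanged along a `p`-factor
(`Bset_eq_of_pPow`) and changes by `#C_{M'/M}(H) / #(M'/M)` along a `p'`-factor (`card_Bset_step`).
-/

set_option autoImplicit false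

namespace Cfsg.Agent.Helper1.SubnSolv

open Subgroup
open scoped Pointwise

variable {G : Type*} [Group G]

/-- the transporter of `H` into `P ⊔ M` -/
def Bset (H P M : Subgroup G) : Set G := {x | ∀ h ∈ H, x * h * x⁻¹ ∈ P ⊔ M}

/-- the preimage in `M'` of the centralizer of `H` in `M'/M`, as a subgroup -/
def Csub (H M M' : Subgroup G) [M.Normal] : Subgroup G where
  carrier := {u | u ∈ M' ∧ ∀ h ∈ H, h * u * h⁻¹ * u⁻¹ ∈ M}
  one_mem' := ⟨one_mem _, fun h _ => by simp⟩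
  mul_mem' := by
    rintro u v ⟨hu, hu'⟩ ⟨hv, hv'⟩
    refine ⟨mul_mem hu hv, fun h hh => ?_⟩
    have : h * (u * v) * h⁻¹ * (u * v)⁻¹ = (h * u * h⁻¹ * u⁻¹) * (u * (h * v * h⁻¹ * v⁻¹) * u⁻¹) := by
      group
    rw [this]
    exact mul_mem (hu' h hh) (‹M.Normal›.conj_mem _ (hv' h hh) u)
  inv_mem' := by
    rintro u ⟨hu, hu'⟩
    refine ⟨inv_mem hu, fun h hh => ?_⟩
    have : h * u⁻¹ * h⁻¹ * u⁻¹⁻¹ = u⁻¹ * (h * u * h⁻¹ * u⁻¹)⁻¹ * u⁻¹⁻¹ := by group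
    rw [this]
    exact ‹M.Normal›.conj_mem _ (inv_mem (hu' h hh)) u⁻¹

theorem mem_Csub {H M M' : Subgroup G} [M.Normal] {u : G} :
    u ∈ Csub H M M' ↔ u ∈ M' ∧ ∀ h ∈ H, h * u * h⁻¹ * u⁻¹ ∈ M := Iff.rfl

theorem le_Csub {H M M' : Subgroup G} [M.Normal] (hMM' : M ≤ M') : M ≤ Csub H M M' := by
  intro u hu
  refine ⟨hMM' hu, fun h _ => ?_⟩
  exact mul_mem (‹M.Normal›.conj_mem _ hu h) (inv_mem hu)

theorem map_conj_le_iff_mem_Bset (H P M : Subgroup G) (x : G) :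
    H.map (MulAut.conj x).toMonoidHom ≤ P ⊔ M ↔ x ∈ Bset H P M := by
  constructor
  · intro h y hy
    exact h ⟨y, hy, rfl⟩
  · rintro h _ ⟨y, hy, rfl⟩
    exact h y hy

section Finite

variable [Finite G] {p : ℕ} [Fact p.Prime]

/-- A `p`-subgroup of `K ≥ P` is `K`-conjugate into the Sylow subgroup `P`. -/
theorem exists_conj_mem_sylow (P : Sylow p G) {K H' : Subgroup G} (hPK : (P : Subgroup G) ≤ K)
    (hH' : IsPGroup p H') (hH'K : H' ≤ K) : ∃ k ∈ K, ∀ h ∈ H', k⁻¹ * h * k ∈ P := by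
  obtain ⟨Q', hQ'⟩ := (hH'.comap_subtype (K := K)).exists_le_sylow
  obtain ⟨k, hk⟩ := MulAction.exists_smul_eq K (P.subtype hPK) Q'
  refine ⟨k, k.2, fun h hh => ?_⟩
  have h1 : (⟨h, hH'K hh⟩ : K) ∈ Q' := hQ' (mem_subgroupOf.mpr hh)
  rw [← hk, Cfsg.Agent.Helper1.mem_smul_sylow_iff] at h1
  have h2 : (k⁻¹ * ⟨h, hH'K hh⟩ * k : K) ∈ ((P.subtype hPK : Sylow p K) : Subgroup K) := h1
  rw [Sylow.coe_subtype, mem_subgroupOf] at h2
  exact h2

/-- along a `p`-factor `M'/M`, `P M' = P M` -/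
theorem sup_le_of_pPow (P : Sylow p G) {M M' : Subgroup G} [M.Normal] [M'.Normal] (hMM' : M ≤ M')
    {m : ℕ} (hidx : M.relIndex M' = p ^ m) : (P : Subgroup G) ⊔ M' ≤ (P : Subgroup G) ⊔ M := by
  set A := (P : Subgroup G) ⊔ M with hA
  have hAA' : A ⊔ M' = (P : Subgroup G) ⊔ M' := by
    rw [hA, sup_assoc, sup_of_le_right hMM']
  rw [← hAA']
  apply sup_le le_rfl
  have h1 : A.relIndex (A ⊔ M') = A.relIndex M' :=
    Cfsg.Agent.Helper21.relIndex_sup_eq_of_le_normalizer A M' (by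
      rw [Subgroup.normalizer_eq_top]; exact le_top)
  have h2 : A.relIndex M' ∣ p ^ m := by
    rw [← hidx]
    exact Subgroup.relIndex_dvd_of_le_left M' (le_sup_right : M ≤ A)
  have h3 : A.relIndex (A ⊔ M') ∣ (P : Subgroup G).index := by
    have h4 : A.relIndex (A ⊔ M') ∣ (P : Subgroup G).relIndex (A ⊔ M') :=
      Subgroup.relIndex_dvd_of_le_left _ (le_sup_left : (P : Subgroup G) ≤ A)
    exact h4.trans (Subgroup.relIndex_dvd_index_of_le (le_sup_left.trans le_sup_left))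
  have h5 : A.relIndex M' = 1 := by
    rw [h1] at h3
    have hcop : Nat.Coprime (p ^ m) (P : Subgroup G).index :=
      Nat.Coprime.pow_left m ((Nat.Prime.coprime_iff_not_dvd (Fact.out)).mpr P.not_dvd_index)
    exact Nat.eq_one_of_dvd_coprimes hcop h2 h3
  exact Subgroup.relIndex_eq_one.mp h5

theorem Bset_eq_of_pPow (H : Subgroup G) (P : Sylow p G) {M M' : Subgroup G} [M.Normal] [M'.Normal]
    (hMM' : M ≤ M') {m : ℕ} (hidx : M.relIndex M' = p ^ m) :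
    Bset H (P : Subgroup G) M' = Bset H (P : Subgroup G) M := by
  have : (P : Subgroup G) ⊔ M' = (P : Subgroup G) ⊔ M :=
    le_antisymm (sup_le_of_pPow P hMM' hidx) (sup_le_sup_left hMM' _)
  unfold Bset
  rw [this]

/-- along a `p'`-factor `M'/M`, `M' ∩ P M = M` -/
theorem inf_sup_le_of_coprime (P : Sylow p G) {M M' : Subgroup G} [M.Normal] (hMM' : M ≤ M')
    (hcop : (M.relIndex M').Coprime p) : M' ⊓ ((P : Subgroup G) ⊔ M) ≤ M := by
  set D := M' ⊓ ((P : Subgroup G) ⊔ M) with hD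
  have hMD : M ≤ D := le_inf hMM' le_sup_right
  have h1 : M.relIndex D ∣ M.relIndex M' :=
    Dvd.intro _ (Subgroup.relIndex_mul_relIndex M D M' hMD inf_le_left)
  have h2 : M.relIndex D ∣ M.relIndex ((P : Subgroup G) ⊔ M) :=
    Dvd.intro _ (Subgroup.relIndex_mul_relIndex M D _ hMD inf_le_right)
  rw [Subgroup.relIndex_sup_right] at h2
  have h3 : M.relIndex (P : Subgroup G) ∣ Nat.card (P : Subgroup G) := Subgroup.relIndex_dvd_card M (P : Subgroup G)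
  obtain ⟨k, hk⟩ := P.isPGroup'.exists_card_eq
  rw [hk] at h3
  have h4 : M.relIndex D = 1 := by
    have hcop' : Nat.Coprime (p ^ k) (M.relIndex M') := Nat.Coprime.pow_left k hcop.symm
    exact Nat.eq_one_of_dvd_coprimes hcop' (h2.trans h3) h1
  exact Subgroup.relIndex_eq_one.mp h4

variable (H : Subgroup G) (P : Sylow p G) {M M' : Subgroup G} [hM : M.Normal] [hM' : M'.Normal]

theorem Bset_mul_Csub {x w : G} (hx : x ∈ Bset H (P : Subgroup G) M) (hw : w ∈ Csub H M M') :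
    x * w ∈ Bset H (P : Subgroup G) M := by
  intro h hh
  have : x * w * h * (x * w)⁻¹ = (x * (h * w * h⁻¹ * w⁻¹)⁻¹ * x⁻¹) * (x * h * x⁻¹) := by group
  rw [this]
  refine mul_mem ?_ (hx h hh)
  exact (le_sup_right : M ≤ (P : Subgroup G) ⊔ M) (hM.conj_mem _ (inv_mem (hw.2 h hh)) x)

theorem Bset_mul_mem (hMM' : M ≤ M') {x u : G} (hx : x ∈ Bset H (P : Subgroup G) M) (hu : u ∈ M') :
    x * u ∈ Bset H (P : Subgroup G) M' := by
  intro h hh
  have : x * u * h * (x * u)⁻¹ = (x * (u * (h * u⁻¹ * h⁻¹)) * x⁻¹) * (x * h * x⁻¹) := by group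
  rw [this]
  refine mul_mem ?_ (sup_le_sup_left hMM' _ (hx h hh))
  apply (le_sup_right : M' ≤ (P : Subgroup G) ⊔ M')
  exact hM'.conj_mem _ (mul_mem hu (hM'.conj_mem _ (inv_mem hu) h)) x

theorem mem_Csub_of_Bset (hMM' : M ≤ M') (hcop : (M.relIndex M').Coprime p) {x y : G}
    (hx : x ∈ Bset H (P : Subgroup G) M) (hy : y ∈ Bset H (P : Subgroup G) M) (hv : x⁻¹ * y ∈ M') :
    x⁻¹ * y ∈ Csub H M M' := by
  refine ⟨hv, fun h hh => ?_⟩
  set v := x⁻¹ * y with hvdef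
  have hyx : y = x * v := by rw [hvdef]; group
  have h1 : x * (v * h * v⁻¹ * h⁻¹) * x⁻¹ ∈ (P : Subgroup G) ⊔ M := by
    have : x * (v * h * v⁻¹ * h⁻¹) * x⁻¹ = (y * h * y⁻¹) * (x * h * x⁻¹)⁻¹ := by
      rw [hyx]; group
    rw [this]
    exact mul_mem (hy h hh) (inv_mem (hx h hh))
  have h2 : x * (v * h * v⁻¹ * h⁻¹) * x⁻¹ ∈ M' := by
    apply hM'.conj_mem
    have : v * h * v⁻¹ * h⁻¹ = v * (h * v⁻¹ * h⁻¹) := by group
    rw [this]
    exact mul_mem hv (hM'.conj_mem _ (inv_mem hv) h)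
  have h3 := inf_sup_le_of_coprime P hMM' hcop (Subgroup.mem_inf.mpr ⟨h2, h1⟩)
  have h4 : v * h * v⁻¹ * h⁻¹ ∈ M := by
    have := hM.conj_mem _ h3 x⁻¹
    have e : x⁻¹ * (x * (v * h * v⁻¹ * h⁻¹) * x⁻¹) * x⁻¹⁻¹ = v * h * v⁻¹ * h⁻¹ := by group
    rwa [e] at this
  have : h * v * h⁻¹ * v⁻¹ = (v * h * v⁻¹ * h⁻¹)⁻¹ := by group
  rw [this]
  exact inv_mem h4

theorem exists_Bset_of_Bset (hH : IsPGroup p H) {x' : G} (hx' : x' ∈ Bset H (P : Subgroup G) M') :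
    ∃ x ∈ Bset H (P : Subgroup G) M, x'⁻¹ * x ∈ M' := by
  have hH' : IsPGroup p (H.map (MulAut.conj x').toMonoidHom) := hH.map _
  have hle : H.map (MulAut.conj x').toMonoidHom ≤ (P : Subgroup G) ⊔ M' :=
    (map_conj_le_iff_mem_Bset H _ M' x').mpr hx'
  obtain ⟨k, hk, hkP⟩ := exists_conj_mem_sylow P le_sup_left hH' hle
  have hk' : k ∈ ((M' ⊔ (P : Subgroup G) : Subgroup G) : Set G) := by
    rw [sup_comm]; exact hk
  rw [Subgroup.normal_mul] at hk'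
  obtain ⟨v, hv, a, ha, rfl⟩ := hk'
  refine ⟨v⁻¹ * x', ?_, ?_⟩
  · intro h hh
    apply (le_sup_left : (P : Subgroup G) ≤ (P : Subgroup G) ⊔ M)
    have h1 := hkP (x' * h * x'⁻¹) ⟨h, hh, rfl⟩
    have h2 : v⁻¹ * x' * h * (v⁻¹ * x')⁻¹ = a * ((v * a)⁻¹ * (x' * h * x'⁻¹) * (v * a)) * a⁻¹ := by
      group
    rw [h2]
    exact mul_mem (mul_mem ha h1) (inv_mem ha)
  · have : x'⁻¹ * (v⁻¹ * x') = x'⁻¹ * v⁻¹ * x'⁻¹⁻¹ := by group
    rw [this]
    exact hM'.conj_mem _ (inv_mem hv) _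

/-- the coprime step: `#B(M) · #M' = #B(M') · #C` -/
theorem card_Bset_step (hH : IsPGroup p H) (hMM' : M ≤ M') (hcop : (M.relIndex M').Coprime p) :
    Nat.card (Bset H (P : Subgroup G) M) * Nat.card M' =
      Nat.card (Bset H (P : Subgroup G) M') * Nat.card (Csub H M M') := by
  classical
  rw [← Nat.card_prod, ← Nat.card_prod]
  apply Nat.card_congr
  have hs : ∀ x' : Bset H (P : Subgroup G) M', ∃ x ∈ Bset H (P : Subgroup G) M, x'.1⁻¹ * x ∈ M' :=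
    fun x' => exists_Bset_of_Bset H P hH x'.2
  choose s hs1 hs2 using hs
  have hCM' : ∀ w : Csub H M M', w.1 ∈ M' := fun w => w.2.1
  refine ⟨fun xu => (⟨xu.1.1 * xu.2.1, Bset_mul_mem H P hMM' xu.1.2 xu.2.2⟩,
      ⟨(s ⟨xu.1.1 * xu.2.1, Bset_mul_mem H P hMM' xu.1.2 xu.2.2⟩)⁻¹ * xu.1.1, ?_⟩),
    fun xw => (⟨s xw.1 * xw.2.1, Bset_mul_Csub H P (hs1 xw.1) xw.2.2⟩,
      ⟨(s xw.1 * xw.2.1)⁻¹ * xw.1.1, ?_⟩), ?_, ?_⟩
  · apply mem_Csub_of_Bset H P hMM' hcop (hs1 _) xu.1.2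
    have h1 := hs2 ⟨xu.1.1 * xu.2.1, Bset_mul_mem H P hMM' xu.1.2 xu.2.2⟩
    simp only at h1
    have : (s ⟨xu.1.1 * xu.2.1, Bset_mul_mem H P hMM' xu.1.2 xu.2.2⟩)⁻¹ * xu.1.1 =
        ((xu.1.1 * xu.2.1)⁻¹ * s ⟨xu.1.1 * xu.2.1, Bset_mul_mem H P hMM' xu.1.2 xu.2.2⟩)⁻¹ *
          xu.2.1⁻¹ := by group
    rw [this]
    exact mul_mem (inv_mem h1) (inv_mem xu.2.2)
  · have h1 := hs2 xw.1
    have : (s xw.1 * xw.2.1)⁻¹ * xw.1.1 = xw.2.1⁻¹ * (xw.1.1⁻¹ * s xw.1)⁻¹ := by group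
    rw [this]
    exact mul_mem (inv_mem (hCM' xw.2)) (inv_mem h1)
  · rintro ⟨x, u⟩
    apply Prod.ext
    · apply Subtype.ext
      simp
    · apply Subtype.ext
      simp only
      group
  · rintro ⟨x', w⟩
    have h1 : s x' * w.1 * ((s x' * w.1)⁻¹ * x'.1) = x'.1 := by group
    have h2 : (⟨s x' * w.1 * ((s x' * w.1)⁻¹ * x'.1),
        Bset_mul_mem H P hMM' (Bset_mul_Csub H P (hs1 x') w.2)
          (by
            have h1 := hs2 x'
            have : (s x' * w.1)⁻¹ * x'.1 = w.1⁻¹ * (x'.1⁻¹ * s x')⁻¹ := by group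
            rw [this]
            exact mul_mem (inv_mem (hCM' w)) (inv_mem h1))⟩ :
        Bset H (P : Subgroup G) M') = x' := Subtype.ext h1
    apply Prod.ext
    · exact h2
    · apply Subtype.ext
      simp only
      rw [h2]
      group

end Finite

end Cfsg.Agent.Helper1.SubnSolv
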