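import Mathlib
import Cfsg.Agent.Lib.Helper1.CoprimeProd
import Cfsg.Agent.Lib.Helper1.SubnSolv
import Cfsg.Agent.Lib.Helper1.QuotientCard
import Cfsg.Agent.S0001

/-!
# The conjugation action on a normal section `M'/M` (helper1)

`secAct M M' : G →* MulAut (M' ⧸ M)` for normal subgroups `M, M'` of `G`, and the identification of
its fixed points with `SubnSolv.Csub`.
-/

set_option autoImplicit false

namespace Cfsg.Agent.Helper1.SectionAct

open Subgroup Cfsg.Agent.Helper1.CoprimeProd Cfsg.Agent.Helper1.SubnSolv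

universe u

variable {G : Type u} [Group G] (M M' : Subgroup G) [hM : M.Normal] [hM' : M'.Normal]

/-- the section `M'/M` -/
abbrev Sec := ↥M' ⧸ M.subgroupOf M'

theorem map_conjNormal (g : G) :
    (M.subgroupOf M').map ((MulAut.conjNormal g : M' ≃* M') : M' →* M') = M.subgroupOf M' := by
  ext x
  rw [Subgroup.map_equiv_eq_comap_symm, Subgroup.mem_comap, mem_subgroupOf, mem_subgroupOf]
  change (((MulAut.conjNormal g : M' ≃* M').symm x : M') : G) ∈ M ↔ _
  rw [MulAut.conjNormal_symm_apply]
  constructor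
  · intro h
    have := hM.conj_mem _ h g
    have e : g * (g⁻¹ * (x : G) * g) * g⁻¹ = x := by group
    rwa [e] at this
  · intro h
    have := hM.conj_mem _ h g⁻¹
    simpa using this

/-- conjugation action of `G` on the section `M'/M` -/
noncomputable def secAct : G →* MulAut (Sec M M') where
  toFun g := QuotientGroup.congr _ _ (MulAut.conjNormal g) (map_conjNormal M M' g)
  map_one' := by
    ext q
    induction q using QuotientGroup.induction_on with
    | H u =>
      rw [QuotientGroup.congr_mk, map_one]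
      rfl
  map_mul' a b := by
    ext q
    induction q using QuotientGroup.induction_on with
    | H u =>
      rw [QuotientGroup.congr_mk, map_mul]
      rfl

theorem secAct_mk (g : G) (u : M') :
    secAct M M' g (QuotientGroup.mk u) = QuotientGroup.mk (MulAut.conjNormal g u) := rfl

theorem mk_mem_fixSub_iff (g : G) (u : M') :
    (QuotientGroup.mk u : Sec M M') ∈ fixSub (secAct M M' g) ↔
      g * (u : G) * g⁻¹ * (u : G)⁻¹ ∈ M := by
  rw [mem_fixSub, secAct_mk, QuotientGroup.eq, mem_subgroupOf]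
  have e : (((MulAut.conjNormal g u)⁻¹ * u : M') : G) =
      (u : G)⁻¹ * (g * (u : G) * g⁻¹ * (u : G)⁻¹)⁻¹ * (u : G) := by
    rw [Subgroup.coe_mul, Subgroup.coe_inv, MulAut.conjNormal_apply]
    group
  rw [e]
  constructor
  · intro h
    have := hM.conj_mem _ h (u : G)
    have e2 : (u : G) * ((u : G)⁻¹ * (g * (u : G) * g⁻¹ * (u : G)⁻¹)⁻¹ * (u : G)) * (u : G)⁻¹ =
        (g * (u : G) * g⁻¹ * (u : G)⁻¹)⁻¹ := by group
    rw [e2] at this
    exact inv_mem_iff.mp this
  · intro h
    have := hM.conj_mem _ (inv_mem h) (u : G)⁻¹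
    simpa using this

/-- common fixed points of a subgroup `H` of `G` on the section -/
noncomputable def fixOf (H : Subgroup G) : Subgroup (Sec M M') := ⨅ h : H, fixSub (secAct M M' h)

theorem Csub_eq (H : Subgroup G) :
    Csub H M M' = ((fixOf M M' H).comap (QuotientGroup.mk' (M.subgroupOf M'))).map M'.subtype := by
  ext u
  rw [mem_Csub, Subgroup.mem_map]
  constructor
  · rintro ⟨hu, h⟩
    refine ⟨⟨u, hu⟩, ?_, rfl⟩
    rw [Subgroup.mem_comap, fixOf, Subgroup.mem_iInf]
    intro x
    exact (mk_mem_fixSub_iff M M' x ⟨u, hu⟩).mpr (h x x.2)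
  · rintro ⟨v, hv, rfl⟩
    refine ⟨v.2, fun h hh => ?_⟩
    rw [Subgroup.mem_comap, fixOf, Subgroup.mem_iInf] at hv
    exact (mk_mem_fixSub_iff M M' h v).mp (hv ⟨h, hh⟩)

theorem card_Csub [Finite G] (hMM' : M ≤ M') (H : Subgroup G) :
    Nat.card (Csub H M M') = Nat.card M * Nat.card (fixOf M M' H) := by
  rw [Csub_eq, Subgroup.card_map_of_injective (Subgroup.subtype_injective M'),
    Cfsg.Agent.Helper1.card_comap_mk', Cfsg.Agent.S0001.card_subgroupOf_of_le hMM']

theorem fixSub_le_fixSub_zpow {N : Type u} [Group N] (γ : MulAut N) (k : ℤ) :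
    fixSub γ ≤ fixSub (γ ^ k) := by
  intro n hn
  have hinv : γ⁻¹ n = n := by
    rw [mem_fixSub] at hn
    nth_rw 1 [← hn]
    simp
  induction k using Int.induction_on with
  | zero => simp [mem_fixSub]
  | succ k ih =>
    rw [mem_fixSub] at ih ⊢
    rw [zpow_add, zpow_one, MulAut.mul_apply, (mem_fixSub.mp hn), ih]
  | pred k ih =>
    rw [mem_fixSub] at ih ⊢
    rw [zpow_sub, zpow_one, MulAut.mul_apply, hinv, ih]

theorem fixOf_zpowers (x : G) : fixOf M M' (zpowers x) = fixSub (secAct M M' x) := by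
  apply le_antisymm
  · exact iInf_le _ (⟨x, mem_zpowers x⟩ : zpowers x)
  · apply le_iInf
    rintro ⟨h, hh⟩
    obtain ⟨k, rfl⟩ := mem_zpowers_iff.mp hh
    rw [map_zpow]
    exact fixSub_le_fixSub_zpow _ k

theorem fixOf_eq_fixAll (P : Subgroup G) :
    fixOf M M' P = fixAll ((secAct M M').comp P.subtype) := rfl

theorem card_sec : Nat.card (Sec M M') = M.relIndex M' := rfl

end Cfsg.Agent.Helper1.SectionAct
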