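import Mathlib
import Cfsg.Agent.Lib.Helper27.SyDefs

/-!
# S1774 PIECE SY-B (helper1): `Q ⊓ Qa = ⟨a⟩`, `[D, E] ≤ ⟨a⟩`, no twist (under `z ∉ Qa`).
-/

set_option autoImplicit false
set_option linter.unusedVariables false

namespace Cfsg.Agent.Helper27.Sy

variable {G : Type*} [Group G]

section B
variable {z a x0 : G} {Q Qa : Subgroup G}

/-- aux: an involution is its own inverse -/
theorem syb_inv_eq {x : G} (h : x * x = 1) : x⁻¹ = x := by
  rw [inv_eq_iff_mul_eq_one]; exact h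

theorem Cfg1.inter (h : Cfg1 z a Q Qa x0) (hz : z ∉ Qa) {x : G} (hxQ : x ∈ Q) (hxQa : x ∈ Qa) :
    x = 1 ∨ x = a := by
  -- `x` is an involution or trivial
  have hxx : x * x = 1 := by
    rcases h.S.sq x hxQ with h1 | h1
    · exact h1
    · rcases h.Sa.sq x hxQa with h2 | h2
      · exact h2
      · exfalso
        exact h.ne (by rw [← h2, h1])
  -- `x` centralizes `D`
  have hD : ∀ d ∈ Q, d * a = a * d → x * d = d * x := by
    intro d hd hda
    rcases h.S.comm x hxQ d hd with h1 | h1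
    · exact h1
    · exfalso
      apply hz
      have hc : x * d * x⁻¹ * d⁻¹ = z := by
        rw [h1]; group
      have hmem : x * d * x⁻¹ * d⁻¹ ∈ Qa := by
        have h2 : d * x⁻¹ * d⁻¹ ∈ Qa := h.Sa.nrm d hda x⁻¹ (Qa.inv_mem hxQa)
        have : x * d * x⁻¹ * d⁻¹ = x * (d * x⁻¹ * d⁻¹) := by group
        rw [this]
        exact Qa.mul_mem hxQa h2
      rwa [hc] at hmem
  rcases h.invD x hxQ hD hxx with h1 | h1 | h1 | h1
  · exact Or.inl h1
  · exfalso; apply hz; rw [← h1]; exact hxQa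
  · exact Or.inr h1
  · exfalso
    apply hz
    have : z = x * a⁻¹ := by rw [h1]; group
    rw [this]
    exact Qa.mul_mem hxQa (Qa.inv_mem h.Sa.zQ)

theorem Cfg1.commDE (h : Cfg1 z a Q Qa x0) (hz : z ∉ Qa) {d e : G} (hd : d ∈ Q)
    (hda : d * a = a * d) (he : e ∈ Qa) (hez : e * z = z * e) :
    d * e * d⁻¹ * e⁻¹ = 1 ∨ d * e * d⁻¹ * e⁻¹ = a := by
  apply h.inter hz
  · have h2 : e * d⁻¹ * e⁻¹ ∈ Q := h.S.nrm e hez d⁻¹ (Q.inv_mem hd)
    have : d * e * d⁻¹ * e⁻¹ = d * (e * d⁻¹ * e⁻¹) := by group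
    rw [this]
    exact Q.mul_mem hd h2
  · have h2 : d * e * d⁻¹ ∈ Qa := h.Sa.nrm d hda e he
    exact Qa.mul_mem h2 (Qa.inv_mem he)

theorem Cfg1.noTwist (h : Cfg1 z a Q Qa x0) (hz : z ∉ Qa) {y : G} (hy : y ∈ Qa) :
    z * y * z⁻¹ ≠ a * y := by
  intro htw
  apply hz
  have haa : a * a = 1 := h.Sa.zz
  have hzz : z * z = 1 := h.S.zz
  have hainv : a⁻¹ = a := syb_inv_eq haa
  have hzinv : z⁻¹ = z := syb_inv_eq hzz
  have haz : a * z = z * a := h.S.cen a h.aQ
  have hx0z : x0 * z = z * x0 := h.S.cen x0 h.x0Q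
  have hya : y * a = a * y := h.Sa.cen y hy
  -- `y z y⁻¹ = a z`
  have h1 : y * z * y⁻¹ = a * z := by
    have e1 : z * y = a * y * z := by
      calc z * y = (z * y * z⁻¹) * z := by group
        _ = a * y * z := by rw [htw]
    have e2 : y * z = a * (z * y) := by
      calc y * z = a⁻¹ * (a * y * z) := by group
        _ = a⁻¹ * (z * y) := by rw [e1]
        _ = a * (z * y) := by rw [hainv]
    calc y * z * y⁻¹ = a * (z * y) * y⁻¹ := by rw [e2]
      _ = a * z := by group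
  -- `n = x0 y` conjugates `z` to `a`
  have hx0z' : x0 * z * x0⁻¹ = z := by rw [hx0z]; group
  have hn : (x0 * y) * z * (x0 * y)⁻¹ = a := by
    calc (x0 * y) * z * (x0 * y)⁻¹ = x0 * (y * z * y⁻¹) * x0⁻¹ := by group
      _ = x0 * (a * z) * x0⁻¹ := by rw [h1]
      _ = (x0 * a * x0⁻¹) * (x0 * z * x0⁻¹) := by group
      _ = (z * a) * z := by rw [h.x0a, hx0z']
      _ = z * (a * z) := by group
      _ = z * (z * a) := by rw [haz]
      _ = (z * z) * a := by group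
      _ = a := by rw [hzz, one_mul]
  have h2 := h.tr (x0 * y) hn a h.aQ
  have h3 : (x0 * y) * a * (x0 * y)⁻¹ = z * a := by
    calc (x0 * y) * a * (x0 * y)⁻¹ = x0 * ((y * a) * y⁻¹) * x0⁻¹ := by group
      _ = x0 * ((a * y) * y⁻¹) * x0⁻¹ := by rw [hya]
      _ = x0 * a * x0⁻¹ := by group
      _ = z * a := h.x0a
  rw [h3] at h2
  have : z = (z * a) * a⁻¹ := by group
  rw [this]
  exact Qa.mul_mem h2 (Qa.inv_mem h.Sa.zQ)

theorem Cfg1.toCfg2 (h : Cfg1 z a Q Qa x0) (hz : z ∉ Qa) : Cfg2 z a Q Qa x0 :=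
  { toCfg1 := h
    hz := hz
    inter := fun x hxQ hxQa => h.inter hz hxQ hxQa
    commDE := fun d hd hda e he hez => h.commDE hz hd hda he hez
    noTwist := fun y hy => h.noTwist hz hy }

end B

end Cfsg.Agent.Helper27.Sy
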