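import Mathlib
import Cfsg.Agent.Lib.Helper27.SyDefs

/-!
# S1774 PIECE SY-D (helper1): squares and commutators of `D = C_Q(a)` act trivially on `Qa / ⟨a⟩`,
hence are `≠ z`.
-/

set_option autoImplicit false
set_option linter.unusedVariables false

namespace Cfsg.Agent.Helper27.Sy

variable {G : Type*} [Group G]

/-- equality modulo `⟨a⟩` (on the left) -/
def sydR (a X Y : G) : Prop := X = Y ∨ X = a * Y

theorem sydR_refl (a X : G) : sydR a X X := Or.inl rfl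

theorem sydR_symm {a X Y : G} (haa : a * a = 1) (h : sydR a X Y) : sydR a Y X := by
  rcases h with h | h
  · exact Or.inl h.symm
  · right
    rw [h, ← mul_assoc, haa, one_mul]

theorem sydR_trans {a X Y Z : G} (haa : a * a = 1) (h1 : sydR a X Y) (h2 : sydR a Y Z) :
    sydR a X Z := by
  rcases h1 with h1 | h1 <;> rcases h2 with h2 | h2
  · exact Or.inl (h1.trans h2)
  · exact Or.inr (h1.trans h2)
  · right; rw [h1, h2]
  · left; rw [h1, h2, ← mul_assoc, haa, one_mul]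

theorem sydR_mul_left {a X Y c : G} (hc : c * a = a * c) (h : sydR a X Y) :
    sydR a (c * X) (c * Y) := by
  rcases h with h | h
  · left; rw [h]
  · right
    rw [h, ← mul_assoc, hc, mul_assoc]

theorem sydR_mul_right {a X Y : G} (c : G) (h : sydR a X Y) : sydR a (X * c) (Y * c) := by
  rcases h with h | h
  · left; rw [h]
  · right; rw [h, mul_assoc]

section D
variable {z a x0 : G} {Q Qa : Subgroup G}

/-- `d e d⁻¹ ≡ e` for `d ∈ D`, `e ∈ E` -/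
theorem syd_conjE (h : Cfg3 z a Q Qa x0) {d e : G} (hd : d ∈ Q) (hda : d * a = a * d)
    (he : e ∈ Qa) (hez : e * z = z * e) : sydR a (d * e * d⁻¹) e := by
  rcases h.commDE d hd hda e he hez with h1 | h1
  · left
    calc d * e * d⁻¹ = (d * e * d⁻¹ * e⁻¹) * e := by group
      _ = e := by rw [h1, one_mul]
  · right
    calc d * e * d⁻¹ = (d * e * d⁻¹ * e⁻¹) * e := by group
      _ = a * e := by rw [h1]

/-- the element `w = y⁻¹ (d y d⁻¹)` lies in `E` -/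
theorem syd_w (h : Cfg3 z a Q Qa x0) {y d : G} (hy : y ∈ Qa) (hd : d ∈ Q) (hda : d * a = a * d) :
    y⁻¹ * (d * y * d⁻¹) ∈ Qa ∧ (y⁻¹ * (d * y * d⁻¹)) * z = z * (y⁻¹ * (d * y * d⁻¹)) :=
  ⟨Qa.mul_mem (Qa.inv_mem hy) (h.Sa.nrm d hda y hy), (h.D1 y hy d hd hda).symm⟩

/-- `d d' y (d d')⁻¹ ≡ y w w'` -/
theorem syd_two (h : Cfg3 z a Q Qa x0) {y d d' : G} (hy : y ∈ Qa) (hd : d ∈ Q)
    (hda : d * a = a * d) (hd' : d' ∈ Q) (hda' : d' * a = a * d') :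
    sydR a ((d * d') * y * (d * d')⁻¹)
      (y * ((y⁻¹ * (d * y * d⁻¹)) * (y⁻¹ * (d' * y * d'⁻¹)))) := by
  obtain ⟨hwQ, hwz⟩ := syd_w h hy hd hda
  obtain ⟨hw'Q, hw'z⟩ := syd_w h hy hd' hda'
  have e1 : (d * d') * y * (d * d')⁻¹ =
      (y * (y⁻¹ * (d * y * d⁻¹))) * (d * (y⁻¹ * (d' * y * d'⁻¹)) * d⁻¹) := by group
  have hyw : (y * (y⁻¹ * (d * y * d⁻¹))) * a = a * (y * (y⁻¹ * (d * y * d⁻¹))) :=
    h.Sa.cen _ (Qa.mul_mem hy hwQ)
  have h1 := sydR_mul_left hyw (syd_conjE h hd hda hw'Q hw'z)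
  rw [← e1] at h1
  have e2 : (y * (y⁻¹ * (d * y * d⁻¹))) * (y⁻¹ * (d' * y * d'⁻¹)) =
      y * ((y⁻¹ * (d * y * d⁻¹)) * (y⁻¹ * (d' * y * d'⁻¹))) := by group
  rwa [e2] at h1

theorem Cfg3.quad_sq (h : Cfg3 z a Q Qa x0) {y d : G} (hy : y ∈ Qa) (hd : d ∈ Q)
    (hda : d * a = a * d) :
    (d * d) * y * (d * d)⁻¹ = y ∨ (d * d) * y * (d * d)⁻¹ = a * y := by
  have haa : a * a = 1 := h.Sa.zz
  obtain ⟨hwQ, hwz⟩ := syd_w h hy hd hda
  have h1 := syd_two h hy hd hda hd hda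
  have hya : y * a = a * y := h.Sa.cen y hy
  have h2 : sydR a (y * ((y⁻¹ * (d * y * d⁻¹)) * (y⁻¹ * (d * y * d⁻¹)))) y := by
    rcases h.Sa.sq _ hwQ with h3 | h3
    · left; rw [h3, mul_one]
    · right; rw [h3, hya]
  exact sydR_trans haa h1 h2

/-- `d d'` and `d' d` act in the same way modulo `⟨a⟩` -/
theorem syd_swap (h : Cfg3 z a Q Qa x0) {y d d' : G} (hy : y ∈ Qa) (hd : d ∈ Q)
    (hda : d * a = a * d) (hd' : d' ∈ Q) (hda' : d' * a = a * d') :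
    sydR a ((d * d') * y * (d * d')⁻¹) ((d' * d) * y * (d' * d)⁻¹) := by
  have haa : a * a = 1 := h.Sa.zz
  obtain ⟨hwQ, hwz⟩ := syd_w h hy hd hda
  obtain ⟨hw'Q, hw'z⟩ := syd_w h hy hd' hda'
  have h1 := syd_two h hy hd hda hd' hda'
  have h2 := syd_two h hy hd' hda' hd hda
  have hya : y * a = a * y := h.Sa.cen y hy
  have h3 : sydR a ((y⁻¹ * (d * y * d⁻¹)) * (y⁻¹ * (d' * y * d'⁻¹)))
      ((y⁻¹ * (d' * y * d'⁻¹)) * (y⁻¹ * (d * y * d⁻¹))) := h.Sa.comm _ hwQ _ hw'Q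
  have h4 := sydR_mul_left hya h3
  exact sydR_trans haa h1 (sydR_trans haa h4 (sydR_symm haa h2))

theorem Cfg3.quad_comm (h : Cfg3 z a Q Qa x0) {y d d' : G} (hy : y ∈ Qa) (hd : d ∈ Q)
    (hda : d * a = a * d) (hd' : d' ∈ Q) (hda' : d' * a = a * d') :
    (d * d' * d⁻¹ * d'⁻¹) * y * (d * d' * d⁻¹ * d'⁻¹)⁻¹ = y ∨
      (d * d' * d⁻¹ * d'⁻¹) * y * (d * d' * d⁻¹ * d'⁻¹)⁻¹ = a * y := by
  -- `(d' d)⁻¹` commutes with `a`, hence normalizes `Qa`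
  have hca : (d' * d)⁻¹ * a = a * (d' * d)⁻¹ := by
    have e : (d' * d) * a = a * (d' * d) := by
      calc (d' * d) * a = d' * (d * a) := by group
        _ = d' * (a * d) := by rw [hda]
        _ = (d' * a) * d := by group
        _ = (a * d') * d := by rw [hda']
        _ = a * (d' * d) := by group
    calc (d' * d)⁻¹ * a = (d' * d)⁻¹ * (a * (d' * d)) * (d' * d)⁻¹ := by group
      _ = (d' * d)⁻¹ * ((d' * d) * a) * (d' * d)⁻¹ := by rw [e]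
      _ = a * (d' * d)⁻¹ := by group
  have hy' : (d' * d)⁻¹ * y * ((d' * d)⁻¹)⁻¹ ∈ Qa := h.Sa.nrm _ hca y hy
  have h1 := syd_swap h hy' hd hda hd' hda'
  have e1 : (d * d') * ((d' * d)⁻¹ * y * ((d' * d)⁻¹)⁻¹) * (d * d')⁻¹ =
      (d * d' * d⁻¹ * d'⁻¹) * y * (d * d' * d⁻¹ * d'⁻¹)⁻¹ := by group
  have e2 : (d' * d) * ((d' * d)⁻¹ * y * ((d' * d)⁻¹)⁻¹) * (d' * d)⁻¹ = y := by group
  rw [e1, e2] at h1
  exact h1

/-- if `t = z` acts trivially on `Qa / ⟨a⟩` then (no twist) `z` centralizes `Qa`, so `z ∈ Qa`. -/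
theorem Cfg3.ne_z_of_quad (h : Cfg3 z a Q Qa x0) {t : G}
    (ht : ∀ y ∈ Qa, t * y * t⁻¹ = y ∨ t * y * t⁻¹ = a * y) : t ≠ z := by
  intro htz
  subst htz
  apply h.hz
  apply h.Sa.self t (h.S.cen a h.aQ).symm
  intro y hy
  rcases ht y hy with h1 | h1
  · calc t * y = (t * y * t⁻¹) * t := by group
      _ = y * t := by rw [h1]
  · exact absurd h1 (h.noTwist y hy)

theorem Cfg3.toCfg4 (h : Cfg3 z a Q Qa x0) : Cfg4 z a Q Qa x0 :=
  { toCfg3 := h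
    notSq := fun d hd hda => h.ne_z_of_quad (fun y hy => h.quad_sq hy hd hda)
    notComm := fun d hd hda d' hd' hda' =>
      h.ne_z_of_quad (fun y hy => h.quad_comm hy hd hda hd' hda') }

end D

end Cfsg.Agent.Helper27.Sy
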