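import Mathlib
import Cfsg.Agent.Lib.Helper14.TC27Defs
import Cfsg.Agent.Lib.Helper14.TC27Core

/-!
# S3701, piece INDVAL (helper1): the induced function on `T^#`.
-/

set_option autoImplicit false
set_option linter.unusedSectionVars false
set_option linter.unusedVariables false

namespace Cfsg.Agent.Helper14.TC27

open Cfsg
open scoped ComplexConjugate

universe u v

section Chr

variable {G : Type u} [Group G] [Fintype G] {T : Sylow 3 G}

theorem indval_ext_of_not_mem (H : Subgroup G) (δ : ↥H → ℂ) {x : G} (hx : x ∉ H) :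
    extendByZero H δ x = 0 := by
  unfold extendByZero
  rw [Function.extend_apply']
  · rfl
  · rintro ⟨y, hy⟩
    exact hx (hy ▸ y.2)

/-- PIECE INDVAL: the induced function on `T^#`. -/
theorem indFun_apply_of_mem (h : Hyp T) (c : Cfg T)
    (φ : Fin 4 × ↥(T : Subgroup G) ≃ ↥(Subgroup.normalizer ((T : Subgroup G) : Set G)))
    (hφ : ∀ (i : Fin 4) (s : ↥(T : Subgroup G)),
      ((φ (i, s) : ↥(Subgroup.normalizer ((T : Subgroup G) : Set G))) : G) = c.E i * s)
    (δ : ↥(T : Subgroup G) → ℂ) {t : G} (ht : t ∈ (T : Subgroup G)) (ht1 : t ≠ 1) :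
    indFun (T : Subgroup G) δ t =
      ∑ i : Fin 4, extendByZero (T : Subgroup G) δ ((c.E i)⁻¹ * t * c.E i) := by
  classical
  haveI : Fintype ↥(T : Subgroup G) := Fintype.ofFinite _
  haveI : Fintype ↥(Subgroup.normalizer ((T : Subgroup G) : Set G)) := Fintype.ofFinite _
  set f : G → ℂ := fun x => extendByZero (T : Subgroup G) δ (x⁻¹ * t * x) with hf
  -- only `x ∈ Subgroup.normalizer ((T : Subgroup G) : Set G)` contribute
  have hzero : ∀ x : G, f x ≠ 0 → x ∈ Subgroup.normalizer ((T : Subgroup G) : Set G) := by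
    intro x hx
    by_contra hxN
    apply hx
    apply indval_ext_of_not_mem
    intro hmem
    apply hxN
    have h1 : x⁻¹ ∈ Subgroup.normalizer ((T : Subgroup G) : Set G) := by
      apply mem_normalizer_of_conj h ht ht1
      simpa using hmem
    simpa using Subgroup.inv_mem _ h1
  have hsum1 : ∑ x : G, f x = ∑ x : ↥(Subgroup.normalizer ((T : Subgroup G) : Set G)), f (x : G) := by
    rw [← Finset.sum_filter_of_ne (p := fun x => x ∈ Subgroup.normalizer ((T : Subgroup G) : Set G)) (fun x _ hx => hzero x hx)]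
    exact Finset.sum_subtype _ (fun x => by simp) f
  have hsum2 : ∑ x : ↥(Subgroup.normalizer ((T : Subgroup G) : Set G)), f (x : G) = ∑ p : Fin 4 × ↥(T : Subgroup G), f ((φ p : ↥(Subgroup.normalizer ((T : Subgroup G) : Set G))) : G) :=
    (Equiv.sum_comp φ (fun x : ↥(Subgroup.normalizer ((T : Subgroup G) : Set G)) => f (x : G))).symm
  -- each term
  have hterm : ∀ (i : Fin 4) (s : ↥(T : Subgroup G)),
      f ((φ (i, s) : ↥(Subgroup.normalizer ((T : Subgroup G) : Set G))) : G) = extendByZero (T : Subgroup G) δ ((c.E i)⁻¹ * t * c.E i) := by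
    intro i s
    rw [hφ i s]
    simp only [hf]
    congr 1
    -- `E_i` normalizes `T`
    have hE : c.E i ∈ Subgroup.normalizer ((T : Subgroup G) : Set G) := by
      have := (φ (i, 1)).2
      have h2 : ((φ (i, (1 : ↥(T : Subgroup G))) : ↥(Subgroup.normalizer ((T : Subgroup G) : Set G))) : G) = c.E i := by
        rw [hφ]; simp
      rw [← h2]; exact this
    have hu : (c.E i)⁻¹ * t * c.E i ∈ (T : Subgroup G) := by
      have h1 := (Subgroup.mem_normalizer_iff.mp (Subgroup.inv_mem _ hE) t).mp ht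
      simpa using h1
    have hcomm := h.comm _ hu (s : G) s.2
    calc (c.E i * (s : G))⁻¹ * t * (c.E i * (s : G))
        = (s : G)⁻¹ * ((c.E i)⁻¹ * t * c.E i * (s : G)) := by group
      _ = (s : G)⁻¹ * ((s : G) * ((c.E i)⁻¹ * t * c.E i)) := by rw [hcomm]
      _ = (c.E i)⁻¹ * t * c.E i := by group
  unfold indFun
  change (Nat.card ↥(T : Subgroup G) : ℂ)⁻¹ * ∑ x : G, f x = _
  rw [hsum1, hsum2, Fintype.sum_prod_type]
  simp only [hterm, Finset.sum_const, Finset.card_univ, nsmul_eq_mul]
  rw [← Finset.mul_sum, ← mul_assoc, ← Nat.card_eq_fintype_card, h.card]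
  norm_num

end Chr

end Cfsg.Agent.Helper14.TC27
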