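import Mathlib
import Cfsg.Agent.Lib.Helper14.TC27Defs
import Cfsg.Agent.Lib.Helper14.TC27Core

/-!
# S3701, piece NORM (helper1): `N_G(T) = ⨆ E_i T`, four distinct cosets; `|N_G(T)| = 108`.
-/

set_option autoImplicit false
set_option linter.unusedSectionVars false
set_option linter.unusedVariables false

namespace Cfsg.Agent.Helper14.TC27

open Cfsg
open scoped ComplexConjugate

universe u v

section Grp

variable {G : Type u} [Group G] [Finite G] {T : Sylow 3 G}

theorem norm_E_mem (c : Cfg T) (i : Fin 4) :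
    c.E i ∈ Subgroup.normalizer ((T : Subgroup G) : Set G) := by
  fin_cases i
  · exact Subgroup.one_mem _
  · exact c.ha
  · exact c.hb
  · exact Subgroup.mul_mem _ c.ha c.hb

theorem norm_t1_ne (c : Cfg T) : c.t1⁻¹ ≠ c.t1 := by
  intro h
  have h2 : c.t1 ^ 2 = 1 := by
    rw [pow_two]
    calc c.t1 * c.t1 = c.t1⁻¹ * c.t1 := by rw [h]
      _ = 1 := inv_mul_cancel _
  have := c.rel.inj 2 0 0 0 0 0 (by simpa using h2)
  exact absurd this.1 (by decide)

theorem norm_t2_ne (c : Cfg T) : c.t2⁻¹ ≠ c.t2 := by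
  intro h
  have h2 : c.t2 ^ 2 = 1 := by
    rw [pow_two]
    calc c.t2 * c.t2 = c.t2⁻¹ * c.t2 := by rw [h]
      _ = 1 := inv_mul_cancel _
  have := c.rel.inj 0 2 0 0 0 0 (by simpa using h2)
  exact absurd this.2.1 (by decide)

/-- a nontrivial word in `a, b` does not lie in `T` -/
theorem norm_not_mem (h : Hyp T) (c : Cfg T) {x : G} (hx : x ∈ (T : Subgroup G))
    (hcase : x = c.a ∨ x = c.b ∨ x = c.a * c.b) : False := by
  have hc1 : x * c.t1 * x⁻¹ = c.t1 := by
    rw [h.comm x hx c.t1 c.ht1]; group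
  have hc2 : x * c.t2 * x⁻¹ = c.t2 := by
    rw [h.comm x hx c.t2 c.ht2]; group
  rcases hcase with rfl | rfl | rfl
  · rw [c.rel.a1] at hc1; exact norm_t1_ne c hc1
  · rw [c.rel.b1] at hc1; exact norm_t1_ne c hc1
  · have : c.a * c.b * c.t2 * (c.a * c.b)⁻¹ = c.a * (c.b * c.t2 * c.b⁻¹) * c.a⁻¹ := by group
    rw [this, c.rel.b2, c.rel.a2] at hc2
    exact norm_t2_ne c hc2

theorem norm_a_inv (c : Cfg T) : c.a⁻¹ = c.a := inv_eq_of_mul_eq_one_left c.rel.aa

theorem norm_b_inv (c : Cfg T) : c.b⁻¹ = c.b := inv_eq_of_mul_eq_one_left c.rel.bb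

/-- `E_j⁻¹ E_i` is `1` (if `i = j`) or one of `a, b, ab` -/
theorem norm_quot (c : Cfg T) (i j : Fin 4) (hij : i ≠ j) :
    (c.E j)⁻¹ * c.E i = c.a ∨ (c.E j)⁻¹ * c.E i = c.b ∨ (c.E j)⁻¹ * c.E i = c.a * c.b := by
  have haa := c.rel.aa
  have hbb := c.rel.bb
  have hab := c.rel.ab
  have hai := norm_a_inv c
  have hbi := norm_b_inv c
  have e0 : c.E 0 = 1 := rfl
  have e1 : c.E 1 = c.a := rfl
  have e2 : c.E 2 = c.b := rfl
  have e3 : c.E 3 = c.a * c.b := rfl
  fin_cases i <;> fin_cases j <;> first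
    | exact absurd rfl hij
    | skip
  all_goals simp only [Fin.zero_eta, Fin.mk_one, Fin.reduceFinMk, e0, e1, e2, e3, inv_one, one_mul,
    mul_one, mul_inv_rev, hai, hbi]
  · -- i = 0, j = 1
    left; trivial
  · right; left; trivial
  · right; right; exact hab.symm
  · left; trivial
  · right; right; exact hab.symm
  · right; left
    calc c.b * c.a * c.a = c.b * (c.a * c.a) := by group
      _ = c.b := by rw [haa, mul_one]
  · right; left; trivial
  · right; right; trivial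
  · left
    calc c.b * c.a * c.b = c.a * c.b * c.b := by rw [hab]
      _ = c.a * (c.b * c.b) := by group
      _ = c.a := by rw [hbb, mul_one]
  · right; right; trivial
  · right; left
    calc c.a * (c.a * c.b) = (c.a * c.a) * c.b := by group
      _ = c.b := by rw [haa, one_mul]
  · left
    calc c.b * (c.a * c.b) = c.b * (c.b * c.a) := by rw [hab]
      _ = (c.b * c.b) * c.a := by group
      _ = c.a := by rw [hbb, one_mul]

/-- PIECE NORM: `N_G(T) = ⨆ E_i T`, four distinct cosets. -/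
theorem normalizer_equiv (h : Hyp T) (c : Cfg T) :
    ∃ φ : Fin 4 × ↥(T : Subgroup G) ≃ ↥(Subgroup.normalizer ((T : Subgroup G) : Set G)),
      ∀ (i : Fin 4) (s : ↥(T : Subgroup G)), ((φ (i, s) : ↥(Subgroup.normalizer ((T : Subgroup G) : Set G))) : G) = c.E i * s := by
  classical
  have hTN : (T : Subgroup G) ≤ Subgroup.normalizer ((T : Subgroup G) : Set G) :=
    Subgroup.le_normalizer
  let f : Fin 4 × ↥(T : Subgroup G) → ↥(Subgroup.normalizer ((T : Subgroup G) : Set G)) :=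
    fun p => ⟨c.E p.1 * p.2, Subgroup.mul_mem _ (norm_E_mem c p.1) (hTN p.2.2)⟩
  have hinj : Function.Injective f := by
    rintro ⟨i, s⟩ ⟨j, s'⟩ hfe
    have he : c.E i * (s : G) = c.E j * (s' : G) := congrArg (fun x : ↥(Subgroup.normalizer ((T : Subgroup G) : Set G)) => (x : G)) hfe
    have hq : (c.E j)⁻¹ * c.E i = (s' : G) * (s : G)⁻¹ := by
      have : c.E i = c.E j * (s' : G) * (s : G)⁻¹ := by rw [← he]; group
      rw [this]; group
    have hqT : (c.E j)⁻¹ * c.E i ∈ (T : Subgroup G) := by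
      rw [hq]; exact Subgroup.mul_mem _ s'.2 (Subgroup.inv_mem _ s.2)
    have hij : i = j := by
      by_contra hne
      exact norm_not_mem h c hqT (norm_quot c i j hne)
    subst hij
    have hs : (s : G) = (s' : G) := mul_left_cancel he
    exact Prod.ext rfl (Subtype.ext hs)
  have hsurj : Function.Surjective f := by
    rintro ⟨n, hn⟩
    obtain ⟨i, j, k, e, f', hnf⟩ := c.nrm n hn
    set s0 : G := c.t1 ^ (i : ℕ) * c.t2 ^ (j : ℕ) * c.t3 ^ (k : ℕ) with hs0
    have hs0T : s0 ∈ (T : Subgroup G) :=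
      Subgroup.mul_mem _ (Subgroup.mul_mem _ (Subgroup.pow_mem _ c.ht1 _)
        (Subgroup.pow_mem _ c.ht2 _)) (Subgroup.pow_mem _ c.ht3 _)
    -- the word in `a, b` is some `E m`
    have hw : ∃ m : Fin 4, c.a ^ (e : ℕ) * c.b ^ (f' : ℕ) = c.E m := by
      fin_cases e <;> fin_cases f'
      · exact ⟨0, by simp [Cfg.E]⟩
      · exact ⟨2, by simp [Cfg.E]⟩
      · exact ⟨1, by simp [Cfg.E]⟩
      · exact ⟨3, by simp [Cfg.E]⟩
    obtain ⟨m, hm⟩ := hw
    have hEm := norm_E_mem c m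
    have hconj : (c.E m)⁻¹ * s0 * c.E m ∈ (T : Subgroup G) := by
      have h1 := (Subgroup.mem_normalizer_iff.mp (Subgroup.inv_mem _ hEm) s0).mp hs0T
      simpa using h1
    refine ⟨(m, ⟨(c.E m)⁻¹ * s0 * c.E m, hconj⟩), ?_⟩
    apply Subtype.ext
    change c.E m * ((c.E m)⁻¹ * s0 * c.E m) = n
    rw [hnf, ← hm]
    group
  exact ⟨Equiv.ofBijective f ⟨hinj, hsurj⟩, fun i s => rfl⟩

/-- PIECE NORM: the order of the normalizer -/
theorem card_normalizer (h : Hyp T) (c : Cfg T) :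
    Nat.card (Subgroup.normalizer ((T : Subgroup G) : Set G)) = 108 := by
  obtain ⟨φ, -⟩ := normalizer_equiv h c
  rw [← Nat.card_congr φ, Nat.card_prod, h.card, Nat.card_eq_fintype_card, Fintype.card_fin]

end Grp

end Cfsg.Agent.Helper14.TC27
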