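import Mathlib
import Cfsg.Agent.Lib.Helper20.TCDefs

/-!
# S3104 piece AUT48 (helper1): `|MulAut M| < 60` for `M` elementary abelian of order 3, 5, 7, 9.
-/

set_option autoImplicit false

namespace Cfsg.Agent.Helper20.TC

open Cfsg

namespace AUT48

/-- prime order: the automorphism group has `p - 1` elements -/
theorem card_prime (M : Type) [Group M] [Finite M] (p : ℕ) (hp : p.Prime) (h : Nat.card M = p) :
    Nat.card (MulAut M) = p - 1 := by
  haveI : Fact p.Prime := ⟨hp⟩
  haveI : IsCyclic M := isCyclic_of_prime_card h
  rw [IsCyclic.card_mulAut M, h, Nat.totient_prime hp]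

/-- the elementary abelian group of order 9: an automorphism is determined by the images of two
generators, which are two different non-identity elements -/
theorem card_nine (M : Type) [Group M] [Finite M] (h : Nat.card M = 9) (h3 : ∀ a : M, a ^ 3 = 1) :
    Nat.card (MulAut M) ≤ 56 := by
  classical
  haveI : Fintype M := Fintype.ofFinite M
  haveI : Nontrivial M := by
    rw [← Finite.one_lt_card_iff_nontrivial, h]; norm_num
  obtain ⟨a, ha⟩ := exists_ne (1 : M)
  have hoa : orderOf a = 3 := by
    have hd : orderOf a ∣ 3 := orderOf_dvd_of_pow_eq_one (h3 a)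
    rcases (Nat.dvd_prime Nat.prime_three).mp hd with h1 | h1
    · exact absurd (orderOf_eq_one_iff.mp h1) ha
    · exact h1
  have hza : Nat.card (Subgroup.zpowers a) = 3 := by rw [Nat.card_zpowers, hoa]
  have hex : ∃ b : M, b ∉ Subgroup.zpowers a := by
    by_contra hno
    push Not at hno
    have : Subgroup.zpowers a = ⊤ := by
      rw [Subgroup.eq_top_iff']; exact hno
    rw [this, Subgroup.card_top, h] at hza
    omega
  obtain ⟨b, hb⟩ := hex
  have hb1 : b ≠ 1 := fun hb1 => hb (hb1 ▸ Subgroup.one_mem _)
  have hab : a ≠ b := fun hab => hb (hab ▸ Subgroup.mem_zpowers a)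
  -- the subgroup generated by `a, b` is everything
  have hcl : Subgroup.closure ({a, b} : Set M) = ⊤ := by
    set H := Subgroup.closure ({a, b} : Set M) with hH
    have haH : a ∈ H := Subgroup.subset_closure (by simp)
    have hbH : b ∈ H := Subgroup.subset_closure (by simp)
    have hle : Subgroup.zpowers a ≤ H := by
      rw [Subgroup.zpowers_le]; exact haH
    have hlt : Subgroup.zpowers a < H := lt_of_le_of_ne hle (fun heq => hb (heq ▸ hbH))
    have hd1 : Nat.card H ∣ 9 := h ▸ Subgroup.card_subgroup_dvd_card H
    have hlt' : Nat.card (Subgroup.zpowers a) < Nat.card H := by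
      apply Set.ncard_lt_ncard (show ((Subgroup.zpowers a : Subgroup M) : Set M) ⊂ (H : Set M) from hlt)
        (Set.toFinite _)
    rw [hza] at hlt'
    have h9 : Nat.card H = 9 := by
      have hle9 : Nat.card H ≤ 9 := Nat.le_of_dvd (by norm_num) hd1
      interval_cases hc : Nat.card H <;> simp_all
    apply Subgroup.eq_top_of_card_eq
    rw [h9, h]
  -- the injection
  let S : Finset (M × M) := (Finset.univ.erase (1 : M)).offDiag
  have hS : S.card = 56 := by
    simp only [S, Finset.offDiag_card, Finset.card_erase_of_mem (Finset.mem_univ _), Finset.card_univ]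
    rw [← Nat.card_eq_fintype_card, h]
  let F : MulAut M → M × M := fun φ => (φ a, φ b)
  have hF : ∀ φ : MulAut M, F φ ∈ S := by
    intro φ
    simp only [S, F, Finset.mem_offDiag, Finset.mem_erase, Finset.mem_univ, and_true]
    refine ⟨?_, ?_, ?_⟩
    · intro h1; exact ha ((map_eq_one_iff φ φ.injective).mp h1)
    · intro h1; exact hb1 ((map_eq_one_iff φ φ.injective).mp h1)
    · intro h1; exact hab (φ.injective h1)
  have hinj : Function.Injective F := by
    intro φ ψ hφψ
    simp only [F, Prod.mk.injEq] at hφψ
    have heq : (φ.toMonoidHom : M →* M) = ψ.toMonoidHom := by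
      apply MonoidHom.eq_of_eqOn_dense hcl
      intro x hx
      simp only [Set.mem_insert_iff, Set.mem_singleton_iff] at hx
      rcases hx with rfl | rfl
      · exact hφψ.1
      · exact hφψ.2
    ext x
    exact DFunLike.congr_fun heq x
  have hle : Nat.card (MulAut M) ≤ Nat.card S := by
    apply Nat.card_le_card_of_injective (fun φ => (⟨F φ, hF φ⟩ : S))
    intro φ ψ hφψ
    exact hinj (Subtype.mk.inj hφψ)
  have hS' : Nat.card S = 56 := by
    rw [Nat.card_eq_fintype_card, Fintype.card_coe, hS]
  rw [hS'] at hle
  exact hle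

end AUT48

theorem aut48 : Aut48 := by
  intro M _ _ _ hcard h9
  rcases hcard with h | h | h | h
  · rw [AUT48.card_prime M 3 Nat.prime_three h]; norm_num
  · rw [AUT48.card_prime M 5 Nat.prime_five h]; norm_num
  · rw [AUT48.card_prime M 7 (by norm_num) h]; norm_num
  · exact lt_of_le_of_lt (AUT48.card_nine M h (h9 h)) (by norm_num)

end Cfsg.Agent.Helper20.TC
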