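import Mathlib
import Cfsg.Agent.Lib.Helper20.TCDefs
import Cfsg.Agent.Lib.Helper12.Small60

/-!
# S3104 piece CENTNS (helper1): the centralizer of the small normal subgroup `M` in the
nonsolvable group `K` is not solvable.
-/

set_option autoImplicit false

namespace Cfsg.Agent.Helper20.TC

open Cfsg Cfsg.Agent.Helper20.GL4Sub

theorem cent_not_solvable (hA : Aut48) (K M : Subgroup A8) (hns : ¬ Group.IsSolvable ↥K)
    (hMK : M ≤ K) (hnorm : K ≤ Subgroup.normalizer (M : Set A8))
    (hc : ∀ a ∈ M, ∀ b ∈ M, a * b = b * a)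
    (hcard : Nat.card M = 3 ∨ Nat.card M = 5 ∨ Nat.card M = 7 ∨ Nat.card M = 9)
    (h9 : Nat.card M = 9 → ∀ a ∈ M, a ^ 3 = 1) :
    ¬ Group.IsSolvable ↥(K ⊓ Subgroup.centralizer (M : Set A8)) := by
  intro hsol
  apply hns
  haveI hN : (M.subgroupOf K).Normal := Subgroup.normal_subgroupOf_of_le_normalizer hnorm
  have hcardN : Nat.card (M.subgroupOf K) = Nat.card M :=
    Nat.card_congr (Subgroup.subgroupOfEquivOfLe hMK).toEquiv
  -- the automorphism group is small
  have hsmall : Nat.card (MulAut ↥(M.subgroupOf K)) < 60 := by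
    apply hA
    · intro a b
      apply Subtype.ext
      apply Subtype.ext
      have := hc a.1.1 (Subgroup.mem_subgroupOf.mp a.2) b.1.1 (Subgroup.mem_subgroupOf.mp b.2)
      simpa using this
    · rw [hcardN]; exact hcard
    · intro h a
      rw [hcardN] at h
      apply Subtype.ext
      apply Subtype.ext
      have := h9 h a.1.1 (Subgroup.mem_subgroupOf.mp a.2)
      simpa using this
  have hfinAut : Finite (MulAut ↥(M.subgroupOf K)) := by
    apply Nat.finite_of_card_ne_zero
    intro h0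
    -- the identity automorphism shows the type is nonempty; an infinite type has card 0
    have hfin : Finite (MulAut ↥(M.subgroupOf K)) :=
      Finite.of_injective (fun φ : MulAut ↥(M.subgroupOf K) => (φ : ↥(M.subgroupOf K) → ↥(M.subgroupOf K)))
        (fun φ ψ h => DFunLike.coe_injective h)
    exact (Nat.card_pos (α := MulAut ↥(M.subgroupOf K))).ne' h0
  have hsolAut : Group.IsSolvable (MulAut ↥(M.subgroupOf K)) :=
    Cfsg.Agent.Helper12.Small60.isSolvable_of_card_lt _ _ rfl hsmall
  have hsol' := hsol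
  let φ : ↥K →* MulAut ↥(M.subgroupOf K) := MulAut.conjNormal
  let f : ↥(K ⊓ Subgroup.centralizer (M : Set A8)) →* ↥K := Subgroup.inclusion inf_le_left
  apply solvable_of_ker_le_range f φ
  intro x hx
  rw [MonoidHom.mem_ker] at hx
  have hxC : (x : A8) ∈ K ⊓ Subgroup.centralizer (M : Set A8) := by
    refine ⟨x.2, ?_⟩
    show (x : A8) ∈ Subgroup.centralizer (M : Set A8)
    rw [Subgroup.mem_centralizer_iff]
    intro m hm
    have h1 := DFunLike.congr_fun hx (⟨⟨m, hMK hm⟩, Subgroup.mem_subgroupOf.mpr hm⟩ : ↥(M.subgroupOf K))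
    have h2 := congrArg (fun y : ↥(M.subgroupOf K) => ((y : ↥K) : A8)) h1
    simp only [φ, MulAut.conjNormal_apply, MulAut.one_apply, Subgroup.coe_mul, Subgroup.coe_inv] at h2
    -- h2 : x * m * x⁻¹ = m
    calc m * (x : A8) = ((x : A8) * m * (x : A8)⁻¹) * (x : A8) := by rw [h2]
      _ = (x : A8) * m := by group
  exact ⟨⟨(x : A8), hxC⟩, Subtype.ext rfl⟩

end Cfsg.Agent.Helper20.TC
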