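import Mathlib
import Cfsg.Agent.Lib.Helper11.TGBase
import Cfsg.Agent.Lib.Lead.TwD4Grp

/-!
# S2407 piece D4GEN (helper1): the generators of `³D₄(q)` are class elements

`twistedD4 K q` is generated by the `σ`-fixed elements `x_{±p₂}(t)` (`t^q = t`) and by the class elements
`x_{±p₁}(t) x_{±p₃}(t^q) x_{±p₄}(t^{q²}) = yC 3 (x_{±p₁}(t))`.
-/

set_option autoImplicit false
set_option linter.unusedVariables false
set_option linter.unusedSectionVars false

namespace Cfsg.Agent.Helper11.TG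

open Cfsg Cfsg.Lie Cfsg.Agent.Lead.Chev Cfsg.Agent.Lead.Tw Cfsg.Agent.Helper11.CG
open scoped commutatorElement

section D4

variable {K : Type*} [Field K] [Fintype K] {q : ℕ} (hq : 1 < q) (hK : Fintype.card K = q ^ 3)
  (f : K ≃+* K) (hf : ∀ t, f t = t ^ q)

theorem d4gen_rho (r r' : ℕ) (h : Cfsg.Agent.Helper6.ChevC.GD4a.gp.π r = r') :
    (D4.tw f).ρ r = r' := h

theorem d4gen_c (r : ℕ) (h : Cfsg.Agent.Helper6.ChevC.GD4a.gp.ε r = 1) (t : K) :
    (D4.tw f).c r t = f t := by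
  show ((Cfsg.Agent.Helper6.ChevC.GD4a.gp.ε r : ℤ) : K) * f t = f t
  rw [h]
  simp

include hf in
theorem d4gen_fixed_long (r : ℕ) (hr : r < chevD4.nroots) (hρ : (D4.tw f).ρ r = r)
    (hc : ∀ t, (D4.tw f).c r t = f t) (t : K) (ht : t ^ q = t) :
    (D4.tw f).σ (xGL chevD4 (D4.hF (K := K)).xadd r t) = xGL chevD4 (D4.hF (K := K)).xadd r t := by
  rw [(D4.tw f).map_x r hr, hρ, hc, hf, ht]

include hf in
theorem d4gen_tri (r1 r2 r3 : ℕ) (h1 : r1 < chevD4.nroots) (h2 : r2 < chevD4.nroots)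
    (hρ1 : (D4.tw f).ρ r1 = r2) (hρ2 : (D4.tw f).ρ r2 = r3)
    (hc1 : ∀ t, (D4.tw f).c r1 t = f t) (hc2 : ∀ t, (D4.tw f).c r2 t = f t) (t : K) :
    yC D4.hF (D4.tw f) 3 (xGL chevD4 (D4.hF (K := K)).xadd r1 t) =
      xGL chevD4 (D4.hF (K := K)).xadd r1 t * xGL chevD4 (D4.hF (K := K)).xadd r2 (t ^ q) *
        xGL chevD4 (D4.hF (K := K)).xadd r3 (t ^ (q ^ 2)) := by
  have e : (t ^ q) ^ q = t ^ (q ^ 2) := by rw [← pow_mul, ← pow_two]
  rw [yC_three, (D4.tw f).map_x r1 h1, hρ1, hc1, (D4.tw f).map_x r2 h2, hρ2, hc2]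
  simp only [hf]
  rw [e]

include hK hf in
theorem d4_gens (H : Subgroup (GL chevD4.Idx K))
    (h18 : FullS D4.hF (D4.tw f) 3 H 18) (h5 : FullS D4.hF (D4.tw f) 3 H 5)
    (h14 : FullL D4.hF (D4.tw f) H 14) (h9 : FullL D4.hF (D4.tw f) H 9) :
    twistedD4 K q ≤ H := by
  have hn : chevD4.nroots = 24 := by decide +kernel
  have hρ14 : (D4.tw f).ρ 14 = 14 := d4gen_rho f 14 14 (by decide +kernel)
  have hρ9 : (D4.tw f).ρ 9 = 9 := d4gen_rho f 9 9 (by decide +kernel)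
  have hρ18 : (D4.tw f).ρ 18 = 13 := d4gen_rho f 18 13 (by decide +kernel)
  have hρ13 : (D4.tw f).ρ 13 = 12 := d4gen_rho f 13 12 (by decide +kernel)
  have hρ5 : (D4.tw f).ρ 5 = 10 := d4gen_rho f 5 10 (by decide +kernel)
  have hρ10 : (D4.tw f).ρ 10 = 11 := d4gen_rho f 10 11 (by decide +kernel)
  have hc14 : ∀ t, (D4.tw f).c 14 t = f t := d4gen_c f 14 (by decide +kernel)
  have hc9 : ∀ t, (D4.tw f).c 9 t = f t := d4gen_c f 9 (by decide +kernel)
  have hc18 : ∀ t, (D4.tw f).c 18 t = f t := d4gen_c f 18 (by decide +kernel)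
  have hc13 : ∀ t, (D4.tw f).c 13 t = f t := d4gen_c f 13 (by decide +kernel)
  have hc5 : ∀ t, (D4.tw f).c 5 t = f t := d4gen_c f 5 (by decide +kernel)
  have hc10 : ∀ t, (D4.tw f).c 10 t = f t := d4gen_c f 10 (by decide +kernel)
  unfold twistedD4 ChevalleyDatum.genSubgroup
  rw [Subgroup.closure_le]
  rintro g ⟨w, hw, hg⟩
  rcases hw with ⟨t, ht, r, hr, rfl⟩ | ⟨t, rs, hrs, rfl⟩
  · have hg' : g = xGL chevD4 (D4.hF (K := K)).xadd r t := by
      apply Units.ext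
      rw [hg, xGL_val]
      simp [ChevalleyDatum.wordMat]
    rw [List.mem_cons, List.mem_singleton] at hr
    rw [SetLike.mem_coe, hg']
    rcases hr with rfl | rfl
    · exact h14 t (d4gen_fixed_long f hf 14 (by rw [hn]; norm_num) hρ14 hc14 t ht)
    · exact h9 t (d4gen_fixed_long f hf 9 (by rw [hn]; norm_num) hρ9 hc9 t ht)
  · have hg' : g = xGL chevD4 (D4.hF (K := K)).xadd rs.1 t *
        xGL chevD4 (D4.hF (K := K)).xadd rs.2.1 (t ^ q) *
        xGL chevD4 (D4.hF (K := K)).xadd rs.2.2 (t ^ (q ^ 2)) := by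
      apply Units.ext
      rw [hg]
      simp [ChevalleyDatum.wordMat, mul_assoc]
    rw [List.mem_cons, List.mem_singleton] at hrs
    rw [SetLike.mem_coe, hg']
    rcases hrs with rfl | rfl
    · have := h18 t
      rw [d4gen_tri f hf 18 13 12 (by rw [hn]; norm_num) (by rw [hn]; norm_num) hρ18 hρ13 hc18
        hc13 t] at this
      exact this
    · have := h5 t
      rw [d4gen_tri f hf 5 10 11 (by rw [hn]; norm_num) (by rw [hn]; norm_num) hρ5 hρ10 hc5
        hc10 t] at this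
      exact this

end D4

end Cfsg.Agent.Helper11.TG
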