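import Mathlib

/-!
# S2406 piece FF2 (helper1): the trace of a quadratic extension of finite fields is onto

`|K| = q²`, `v ^ q = v`  ⟹  `v = t + t ^ q` for some `t`.  Proof: `q` is a power of the characteristic, so
`x ↦ x ^ q` is additive; `X ^ q + X` has at most `q < q²` roots, so some `c` has `w = c + c ^ q ≠ 0`; then
`w ^ q = w` and `t = (v / w) c` works.
-/

set_option autoImplicit false
set_option linter.style.haveILetI false

namespace Cfsg.Agent.Helper11.TG

/-- `q` is a power of the characteristic -/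
theorem ff2_exists_pow {K : Type*} [Field K] [Fintype K] {q : ℕ} (hK : Fintype.card K = q ^ 2) :
    ∃ p m : ℕ, p.Prime ∧ CharP K p ∧ q = p ^ m := by
  haveI hc : CharP K (ringChar K) := ringChar.charP K
  obtain ⟨n, hp, hn⟩ := FiniteField.card K (ringChar K)
  have hdvd : q ∣ ringChar K ^ (n : ℕ) := by
    rw [← hn, hK]
    exact dvd_pow_self q two_ne_zero
  obtain ⟨m, -, hm⟩ := (Nat.dvd_prime_pow hp).1 hdvd
  exact ⟨ringChar K, m, hp, hc, hm⟩

/-- some element is not a root of `X ^ q + X` -/
theorem ff2_exists_ne {K : Type*} [Field K] [Fintype K] {q : ℕ} (hq : 1 < q)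
    (hK : Fintype.card K = q ^ 2) : ∃ c : K, c + c ^ q ≠ 0 := by
  classical
  by_contra hcon
  push Not at hcon
  have hdeg : (Polynomial.X ^ q + Polynomial.X : Polynomial K).natDegree = q := by
    apply Polynomial.natDegree_eq_of_degree_eq_some
    rw [Polynomial.degree_add_eq_left_of_degree_lt]
    · exact Polynomial.degree_X_pow q
    · rw [Polynomial.degree_X_pow, Polynomial.degree_X]
      exact_mod_cast hq
  have h0 : (Polynomial.X ^ q + Polynomial.X : Polynomial K) = 0 := by
    apply Polynomial.eq_zero_of_natDegree_lt_card_of_eval_eq_zero' _ (Finset.univ : Finset K)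
    · intro c _
      rw [Polynomial.eval_add, Polynomial.eval_pow, Polynomial.eval_X, add_comm]
      exact hcon c
    · rw [hdeg, Finset.card_univ, hK]
      nlinarith
  rw [h0, Polynomial.natDegree_zero] at hdeg
  omega

theorem trace2_surj {K : Type*} [Field K] [Fintype K] {q : ℕ} (hq : 1 < q)
    (hK : Fintype.card K = q ^ 2) (v : K) (hv : v ^ q = v) : ∃ t : K, t + t ^ q = v := by
  obtain ⟨p, m, hp, hc, hm⟩ := ff2_exists_pow hK
  haveI := hc
  haveI : Fact p.Prime := ⟨hp⟩
  obtain ⟨c, hcne⟩ := ff2_exists_ne hq hK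
  have hadd : ∀ x y : K, (x + y) ^ q = x ^ q + y ^ q := by
    intro x y
    rw [hm]
    exact add_pow_char_pow x y p m
  have hcc : (c ^ q) ^ q = c := by
    rw [← pow_mul, ← pow_two, ← hK]
    exact FiniteField.pow_card c
  have hw : (c + c ^ q) ^ q = c + c ^ q := by
    rw [hadd, hcc, add_comm]
  refine ⟨v / (c + c ^ q) * c, ?_⟩
  rw [mul_pow, div_pow, hv, hw]
  field_simp

end Cfsg.Agent.Helper11.TG
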