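import Mathlib
import Cfsg.Agent.Lib.Helper5.TIAlgDefs

/-!
# S1786 sub-project TI-ALG, piece TIALG-RALT (core): right alternative law from the left alternative
law applied to `Dᵐᵒᵖ` (the statement of `alg_left_alt` is a hypothesis here)
-/

set_option autoImplicit false

namespace Cfsg.Agent.Helper26.TI

universe u

open MulOpposite in
theorem tialgralt_core
    (hLALT : ∀ {E : Type u} [NonAssocRing E] [Finite E],
      (∀ x : E, x + x = 0) → (∀ x y : E, x * y = 0 → x = 0 ∨ y = 0) →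
      (∀ x₁ x₂ : E, x₁ ≠ 0 → x₂ ≠ 0 →
        (∀ y₁ y₂ : E, x₁ * y₁ = x₂ * y₂ → y₁ + y₂ = 0) ∨
        (∃ x₃ : E, ∀ y₁ y₂ : E, x₁ * y₁ = x₂ * y₂ → x₃ * (y₁ + y₂) = x₁ * y₁)) →
      ∀ x y : E, x * (x * y) = x * x * y)
    {D : Type u} [NonAssocRing D] [Finite D]
    (h2 : ∀ x : D, x + x = 0)
    (hnz : ∀ x y : D, x * y = 0 → x = 0 ∨ y = 0)
    (hR : ∀ y₁ y₂ : D, y₁ ≠ 0 → y₂ ≠ 0 →
      (∀ x₁ x₂ : D, x₁ * y₁ = x₂ * y₂ → x₁ + x₂ = 0) ∨
      (∃ y₃ : D, ∀ x₁ x₂ : D, x₁ * y₁ = x₂ * y₂ → (x₁ + x₂) * y₃ = x₁ * y₁)) :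
    ∀ x y : D, y * x * x = y * (x * x) := by
  have h2' : ∀ x : Dᵐᵒᵖ, x + x = 0 := by
    intro x
    apply unop_injective
    rw [unop_add, unop_zero]
    exact h2 _
  have hnz' : ∀ x y : Dᵐᵒᵖ, x * y = 0 → x = 0 ∨ y = 0 := by
    intro x y hxy
    have h1 : unop y * unop x = 0 := by
      rw [← unop_mul, hxy, unop_zero]
    rcases hnz _ _ h1 with h | h
    · right
      exact unop_injective (by rw [h, unop_zero])
    · left
      exact unop_injective (by rw [h, unop_zero])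
  have hL' : ∀ x₁ x₂ : Dᵐᵒᵖ, x₁ ≠ 0 → x₂ ≠ 0 →
      (∀ y₁ y₂ : Dᵐᵒᵖ, x₁ * y₁ = x₂ * y₂ → y₁ + y₂ = 0) ∨
      (∃ x₃ : Dᵐᵒᵖ, ∀ y₁ y₂ : Dᵐᵒᵖ, x₁ * y₁ = x₂ * y₂ → x₃ * (y₁ + y₂) = x₁ * y₁) := by
    intro x₁ x₂ hx1 hx2
    have hb1 : unop x₁ ≠ 0 := fun h => hx1 (unop_injective (by rw [h, unop_zero]))
    have hb2 : unop x₂ ≠ 0 := fun h => hx2 (unop_injective (by rw [h, unop_zero]))
    rcases hR _ _ hb1 hb2 with h | ⟨y₃, h⟩
    · left
      intro y₁ y₂ hy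
      have h1 : unop y₁ * unop x₁ = unop y₂ * unop x₂ := by
        rw [← unop_mul, ← unop_mul, hy]
      apply unop_injective
      rw [unop_add, unop_zero]
      exact h _ _ h1
    · right
      refine ⟨op y₃, ?_⟩
      intro y₁ y₂ hy
      have h1 : unop y₁ * unop x₁ = unop y₂ * unop x₂ := by
        rw [← unop_mul, ← unop_mul, hy]
      apply unop_injective
      rw [unop_mul, unop_mul, unop_add, unop_op]
      exact h _ _ h1
  haveI : Finite Dᵐᵒᵖ := Finite.of_injective unop unop_injective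
  intro x y
  have h3 := hLALT h2' hnz' hL' (op x) (op y)
  have h4 := congrArg unop h3
  simpa only [unop_mul, unop_op] using h4

end Cfsg.Agent.Helper26.TI
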