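import Mathlib
import Cfsg.Agent.Lib.Helper5.TIAlgDefs
import Cfsg.Agent.Lib.Helper23.TIALGLALT
import Cfsg.Agent.Lib.Helper1.TIALGRALTCore

/-!
# S1786 sub-project TI-ALG, piece TIALG-RALT: right alternative law
-/

set_option autoImplicit false

namespace Cfsg.Agent.Helper26.TI

/-! ### TIALG-RALT (right alternative law from `hR`: apply LALT to `Dᵐᵒᵖ`) -/
theorem alg_right_alt {D : Type*} [NonAssocRing D] [Finite D]
    (h2 : ∀ x : D, x + x = 0)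
    (hnz : ∀ x y : D, x * y = 0 → x = 0 ∨ y = 0)
    (hR : ∀ y₁ y₂ : D, y₁ ≠ 0 → y₂ ≠ 0 →
      (∀ x₁ x₂ : D, x₁ * y₁ = x₂ * y₂ → x₁ + x₂ = 0) ∨
      (∃ y₃ : D, ∀ x₁ x₂ : D, x₁ * y₁ = x₂ * y₂ → (x₁ + x₂) * y₃ = x₁ * y₁)) :
    ∀ x y : D, y * x * x = y * (x * x) :=
  tialgralt_core (fun h2' hnz' hL' => alg_left_alt h2' hnz' hL') h2 hnz hR

end Cfsg.Agent.Helper26.TI
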