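import Mathlib
import Cfsg.Agent.Lib.Helper5.TIAlgDefs

/-!
# S1786 sub-project TI-ALG, piece TIALG-SEMI: the semifield `D` on `V` built from `β`
-/

set_option autoImplicit false

namespace Cfsg.Agent.Helper26.TI

universe uU uA uV u

/-- the ring structure on `V` given by a biadditive product with a two-sided unit -/
@[reducible] noncomputable def tialgsemi_ring {V : Type uV} [inst : AddCommGroup V] (m : V → V → V) (e : V)
    (hl : ∀ x y z, m x (y + z) = m x y + m x z) (hr : ∀ x y z, m (x + y) z = m x z + m y z)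
    (h1 : ∀ y, m e y = y) (h2 : ∀ x, m x e = x) : NonAssocRing V :=
  { inst with
    mul := m
    left_distrib := hl
    right_distrib := hr
    zero_mul := fun x => by
      have h := hr 0 0 x
      rw [add_zero] at h
      exact left_eq_add.mp h
    mul_zero := fun x => by
      have h := hl x 0 0
      rw [add_zero] at h
      exact left_eq_add.mp h
    one := e
    one_mul := h1
    mul_one := h2 }

section
variable {U : Type uU} {A : Type uA} {V : Type uV}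
  [AddCommGroup U] [AddCommGroup A] [AddCommGroup V]

theorem tialgsemi_L (β : U →+ A →+ V) (ρ : U ≃+ V) (lam : A ≃+ V)
    (hA : ∀ u₁ u₂ : U, u₁ ≠ 0 → u₂ ≠ 0 →
      (∀ a₁ a₂ : A, β u₁ a₁ = β u₂ a₂ → a₁ + a₂ = 0) ∨
      (∃ u₃ : U, ∀ a₁ a₂ : A, β u₁ a₁ = β u₂ a₂ → β u₃ (a₁ + a₂) = β u₁ a₁))
    (x₁ x₂ : V) (h1 : x₁ ≠ 0) (h2 : x₂ ≠ 0) :
    (∀ y₁ y₂ : V, β (ρ.symm x₁) (lam.symm y₁) = β (ρ.symm x₂) (lam.symm y₂) → y₁ + y₂ = 0) ∨
    (∃ x₃ : V, ∀ y₁ y₂ : V, β (ρ.symm x₁) (lam.symm y₁) = β (ρ.symm x₂) (lam.symm y₂) →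
      β (ρ.symm x₃) (lam.symm (y₁ + y₂)) = β (ρ.symm x₁) (lam.symm y₁)) := by
  have hu1 : ρ.symm x₁ ≠ 0 := fun h => h1 (by simpa using congrArg ρ h)
  have hu2 : ρ.symm x₂ ≠ 0 := fun h => h2 (by simpa using congrArg ρ h)
  rcases hA _ _ hu1 hu2 with h | ⟨u₃, h⟩
  · left
    intro y₁ y₂ hy
    have h3 := h _ _ hy
    rw [← map_add] at h3
    simpa using congrArg lam h3
  · right
    refine ⟨ρ u₃, ?_⟩
    intro y₁ y₂ hy
    rw [AddEquiv.symm_apply_apply, map_add]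
    exact h _ _ hy

theorem tialgsemi_R (β : U →+ A →+ V) (ρ : U ≃+ V) (lam : A ≃+ V)
    (hU : ∀ a₁ a₂ : A, a₁ ≠ 0 → a₂ ≠ 0 →
      (∀ u₁ u₂ : U, β u₁ a₁ = β u₂ a₂ → u₁ + u₂ = 0) ∨
      (∃ a₃ : A, ∀ u₁ u₂ : U, β u₁ a₁ = β u₂ a₂ → β (u₁ + u₂) a₃ = β u₁ a₁))
    (y₁ y₂ : V) (h1 : y₁ ≠ 0) (h2 : y₂ ≠ 0) :
    (∀ x₁ x₂ : V, β (ρ.symm x₁) (lam.symm y₁) = β (ρ.symm x₂) (lam.symm y₂) → x₁ + x₂ = 0) ∨
    (∃ y₃ : V, ∀ x₁ x₂ : V, β (ρ.symm x₁) (lam.symm y₁) = β (ρ.symm x₂) (lam.symm y₂) →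
      β (ρ.symm (x₁ + x₂)) (lam.symm y₃) = β (ρ.symm x₁) (lam.symm y₁)) := by
  have ha1 : lam.symm y₁ ≠ 0 := fun h => h1 (by simpa using congrArg lam h)
  have ha2 : lam.symm y₂ ≠ 0 := fun h => h2 (by simpa using congrArg lam h)
  rcases hU _ _ ha1 ha2 with h | ⟨a₃, h⟩
  · left
    intro x₁ x₂ hx
    have h3 := h _ _ hx
    rw [← map_add] at h3
    simpa using congrArg ρ h3
  · right
    refine ⟨lam a₃, ?_⟩
    intro x₁ x₂ hx
    rw [AddEquiv.symm_apply_apply, map_add]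
    exact h _ _ hx

end

/-! ### TIALG-SEMI (the semifield `D` on `V` built from `β`, base points `u₀, a₀`) -/
theorem alg_exists_semifield {U : Type uU} {A : Type uA} {V : Type uV}
    [AddCommGroup U] [AddCommGroup A] [AddCommGroup V] [Finite V] [Nontrivial V]
    (hUV : Nat.card U = Nat.card V) (hAV : Nat.card A = Nat.card V)
    (h2 : ∀ v : V, v + v = 0)
    (β : U →+ A →+ V)
    (hnd : ∀ u a, β u a = 0 → u = 0 ∨ a = 0)
    (hA : ∀ u₁ u₂ : U, u₁ ≠ 0 → u₂ ≠ 0 →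
      (∀ a₁ a₂ : A, β u₁ a₁ = β u₂ a₂ → a₁ + a₂ = 0) ∨
      (∃ u₃ : U, ∀ a₁ a₂ : A, β u₁ a₁ = β u₂ a₂ → β u₃ (a₁ + a₂) = β u₁ a₁))
    (hU : ∀ a₁ a₂ : A, a₁ ≠ 0 → a₂ ≠ 0 →
      (∀ u₁ u₂ : U, β u₁ a₁ = β u₂ a₂ → u₁ + u₂ = 0) ∨
      (∃ a₃ : A, ∀ u₁ u₂ : U, β u₁ a₁ = β u₂ a₂ → β (u₁ + u₂) a₃ = β u₁ a₁)) :
    ∃ (D : Type uV) (_ : NonAssocRing D) (_ : Finite D) (_ : Nontrivial D)
      (eU : U ≃+ D) (eA : A ≃+ D) (eV : V ≃+ D),
      (∀ u a, eV (β u a) = eU u * eA a) ∧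
      (∀ x : D, x + x = 0) ∧
      (∀ x y : D, x * y = 0 → x = 0 ∨ y = 0) ∧
      (∀ x₁ x₂ : D, x₁ ≠ 0 → x₂ ≠ 0 →
        (∀ y₁ y₂ : D, x₁ * y₁ = x₂ * y₂ → y₁ + y₂ = 0) ∨
        (∃ x₃ : D, ∀ y₁ y₂ : D, x₁ * y₁ = x₂ * y₂ → x₃ * (y₁ + y₂) = x₁ * y₁)) ∧
      (∀ y₁ y₂ : D, y₁ ≠ 0 → y₂ ≠ 0 →
        (∀ x₁ x₂ : D, x₁ * y₁ = x₂ * y₂ → x₁ + x₂ = 0) ∨
        (∃ y₃ : D, ∀ x₁ x₂ : D, x₁ * y₁ = x₂ * y₂ → (x₁ + x₂) * y₃ = x₁ * y₁)) := by
  classical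
  have hV1 : 1 < Nat.card V := Finite.one_lt_card
  haveI : Finite U := Nat.finite_of_card_ne_zero (by omega)
  haveI : Finite A := Nat.finite_of_card_ne_zero (by omega)
  haveI : Nontrivial U := Finite.one_lt_card_iff_nontrivial.mp (by omega)
  haveI : Nontrivial A := Finite.one_lt_card_iff_nontrivial.mp (by omega)
  obtain ⟨u₀, hu₀⟩ := exists_ne (0 : U)
  obtain ⟨a₀, ha₀⟩ := exists_ne (0 : A)
  -- ρ : u ↦ β u a₀
  let ρ₀ : U →+ V := (AddMonoidHom.eval a₀).comp β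
  have hρ₀ : ∀ u, ρ₀ u = β u a₀ := fun u => rfl
  have hρinj : Function.Injective ρ₀ := by
    rw [injective_iff_map_eq_zero]
    intro u hu
    rw [hρ₀] at hu
    rcases hnd u a₀ hu with h | h
    · exact h
    · exact absurd h ha₀
  have hρbij : Function.Bijective ρ₀ := hρinj.bijective_of_nat_card_le (by omega)
  let ρ : U ≃+ V := AddEquiv.ofBijective ρ₀ hρbij
  have hρ : ∀ u, ρ u = β u a₀ := fun u => rfl
  -- lam : a ↦ β u₀ a
  let lam₀ : A →+ V := β u₀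
  have hlinj : Function.Injective lam₀ := by
    rw [injective_iff_map_eq_zero]
    intro a ha
    rcases hnd u₀ a ha with h | h
    · exact absurd h hu₀
    · exact h
  have hlbij : Function.Bijective lam₀ := hlinj.bijective_of_nat_card_le (by omega)
  let lam : A ≃+ V := AddEquiv.ofBijective lam₀ hlbij
  have hlam : ∀ a, lam a = β u₀ a := fun a => rfl
  -- the product
  let m : V → V → V := fun x y => β (ρ.symm x) (lam.symm y)
  have hsymρ : ρ.symm (β u₀ a₀) = u₀ := by rw [← hρ, AddEquiv.symm_apply_apply]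
  have hsyml : lam.symm (β u₀ a₀) = a₀ := by rw [← hlam, AddEquiv.symm_apply_apply]
  let R : NonAssocRing V := tialgsemi_ring m (β u₀ a₀)
    (fun x y z => by show β _ (lam.symm (y + z)) = _; rw [map_add, map_add])
    (fun x y z => by
      show β (ρ.symm (x + y)) _ = _
      rw [map_add, map_add]
      rfl)
    (fun y => by
      show β (ρ.symm (β u₀ a₀)) (lam.symm y) = y
      rw [hsymρ, ← hlam, AddEquiv.apply_symm_apply])
    (fun x => by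
      show β (ρ.symm x) (lam.symm (β u₀ a₀)) = x
      rw [hsyml, ← hρ, AddEquiv.apply_symm_apply])
  refine ⟨V, R, inferInstance, inferInstance, ρ, lam, AddEquiv.refl V, ?_, ?_, ?_, ?_, ?_⟩
  · intro u a
    show β u a = β (ρ.symm (ρ u)) (lam.symm (lam a))
    rw [AddEquiv.symm_apply_apply, AddEquiv.symm_apply_apply]
  · exact h2
  · intro x y hxy
    have h3 : β (ρ.symm x) (lam.symm y) = 0 := hxy
    rcases hnd _ _ h3 with h | h
    · left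
      simpa using congrArg ρ h
    · right
      simpa using congrArg lam h
  · exact fun x₁ x₂ h1 h2 => tialgsemi_L β ρ lam hA x₁ x₂ h1 h2
  · exact fun y₁ y₂ h1 h2 => tialgsemi_R β ρ lam hU y₁ y₂ h1 h2

end Cfsg.Agent.Helper26.TI
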