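import Mathlib
import Cfsg.Agent.Lib.Helper26.TIDefs2

/-!
# S1786 piece TI-CALC: class-2 calculus in `P`, transport of `Loc` by conjugation
-/

set_option autoImplicit false

namespace Cfsg.Agent.Helper26.TI

variable {G : Type*} [Group G]

section Calc
variable {V P : Subgroup G}

theorem Loc.comm_central (h : Loc V P) {x y z : G} (hx : x ∈ P) (hy : y ∈ P) (hz : z ∈ P) :
    (x * y * x⁻¹ * y⁻¹) * z = z * (x * y * x⁻¹ * y⁻¹) :=
  (h.cent z hz _ (h.comm x hx y hy)).symm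

theorem Loc.comm_mul_left (h : Loc V P) {x y z : G} (hx : x ∈ P) (hy : y ∈ P) (hz : z ∈ P) :
    (x * y) * z * (x * y)⁻¹ * z⁻¹ = (x * z * x⁻¹ * z⁻¹) * (y * z * y⁻¹ * z⁻¹) := by
  have h1 : (y * z * y⁻¹ * z⁻¹) * (z * x⁻¹ * z⁻¹) = (z * x⁻¹ * z⁻¹) * (y * z * y⁻¹ * z⁻¹) :=
    h.comm_central hy hz (P.mul_mem (P.mul_mem hz (P.inv_mem hx)) (P.inv_mem hz))
  calc (x * y) * z * (x * y)⁻¹ * z⁻¹
      = x * ((y * z * y⁻¹ * z⁻¹) * (z * x⁻¹ * z⁻¹)) := by group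
    _ = x * ((z * x⁻¹ * z⁻¹) * (y * z * y⁻¹ * z⁻¹)) := by rw [h1]
    _ = (x * z * x⁻¹ * z⁻¹) * (y * z * y⁻¹ * z⁻¹) := by group

theorem Loc.comm_mul_right (h : Loc V P) {x y z : G} (hx : x ∈ P) (hy : y ∈ P) (hz : z ∈ P) :
    x * (y * z) * x⁻¹ * (y * z)⁻¹ = (x * y * x⁻¹ * y⁻¹) * (x * z * x⁻¹ * z⁻¹) := by
  have h1 : (x * z * x⁻¹ * z⁻¹) * y⁻¹ = y⁻¹ * (x * z * x⁻¹ * z⁻¹) :=
    h.comm_central hx hz (P.inv_mem hy)
  calc x * (y * z) * x⁻¹ * (y * z)⁻¹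
      = x * y * x⁻¹ * ((x * z * x⁻¹ * z⁻¹) * y⁻¹) := by group
    _ = x * y * x⁻¹ * (y⁻¹ * (x * z * x⁻¹ * z⁻¹)) := by rw [h1]
    _ = (x * y * x⁻¹ * y⁻¹) * (x * z * x⁻¹ * z⁻¹) := by group

theorem Loc.comm_symm (h : Loc V P) {x y : G} (hx : x ∈ P) (hy : y ∈ P) :
    y * x * y⁻¹ * x⁻¹ = x * y * x⁻¹ * y⁻¹ := by
  have h1 := h.base.sq _ (h.comm x hx y hy)
  have h2 : (x * y * x⁻¹ * y⁻¹)⁻¹ = x * y * x⁻¹ * y⁻¹ := inv_eq_of_mul_eq_one_right h1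
  rw [← h2]
  group

theorem Loc.comm_inv_left (h : Loc V P) {x y : G} (hx : x ∈ P) (hy : y ∈ P) :
    x⁻¹ * y * x * y⁻¹ = x * y * x⁻¹ * y⁻¹ := by
  have h1 : (y * x * y⁻¹ * x⁻¹) * x = x * (y * x * y⁻¹ * x⁻¹) := h.comm_central hy hx hx
  calc x⁻¹ * y * x * y⁻¹ = x⁻¹ * ((y * x * y⁻¹ * x⁻¹) * x) := by group
    _ = x⁻¹ * (x * (y * x * y⁻¹ * x⁻¹)) := by rw [h1]
    _ = y * x * y⁻¹ * x⁻¹ := by group
    _ = x * y * x⁻¹ * y⁻¹ := h.comm_symm hx hy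

theorem Loc.comm_inv_right (h : Loc V P) {x y : G} (hx : x ∈ P) (hy : y ∈ P) :
    x * y⁻¹ * x⁻¹ * y = x * y * x⁻¹ * y⁻¹ := by
  have h1 : (y * x * y⁻¹ * x⁻¹) * y = y * (y * x * y⁻¹ * x⁻¹) := h.comm_central hy hx hy
  calc x * y⁻¹ * x⁻¹ * y = y⁻¹ * ((y * x * y⁻¹ * x⁻¹) * y) := by group
    _ = y⁻¹ * (y * (y * x * y⁻¹ * x⁻¹)) := by rw [h1]
    _ = y * x * y⁻¹ * x⁻¹ := by group
    _ = x * y * x⁻¹ * y⁻¹ := h.comm_symm hx hy

theorem ticalc_cj_cj_eq (g x : G) (K : Subgroup G) :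
    cj x (cj g K) = cj g (cj (g⁻¹ * x * g) K) := by
  rw [cj_cj, cj_cj]
  congr 1
  group

theorem ticalc_base_conj (h : Base V) (g : G) : Base (cj g V) where
  comm := by
    intro v hv w hw
    rw [mem_cj] at hv hw
    obtain ⟨v0, hv0, rfl⟩ := hv
    obtain ⟨w0, hw0, rfl⟩ := hw
    have h1 := h.comm v0 hv0 w0 hw0
    calc g * v0 * g⁻¹ * (g * w0 * g⁻¹) = g * (v0 * w0) * g⁻¹ := by group
      _ = g * (w0 * v0) * g⁻¹ := by rw [h1]
      _ = g * w0 * g⁻¹ * (g * v0 * g⁻¹) := by group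
  sq := by
    intro v hv
    rw [mem_cj] at hv
    obtain ⟨v0, hv0, rfl⟩ := hv
    have h1 := h.sq v0 hv0
    calc g * v0 * g⁻¹ * (g * v0 * g⁻¹) = g * (v0 * v0) * g⁻¹ := by group
      _ = 1 := by rw [h1]; group
  ti := by
    intro x
    rw [ticalc_cj_cj_eq]
    rcases h.ti (g⁻¹ * x * g) with h1 | h1
    · left
      rw [h1]
    · right
      rw [← cj_inf, h1, cj_bot]

/-- transport of the local structure by conjugation. -/
theorem Loc.conj (h : Loc V P) (g : G) : Loc (cj g V) (cj g P) where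
  base := ticalc_base_conj h.base g
  V_le := cj_mono h.V_le
  pgrp := h.pgrp.map _
  cent := by
    intro x hx v hv
    rw [mem_cj] at hx hv
    obtain ⟨x0, hx0, rfl⟩ := hx
    obtain ⟨v0, hv0, rfl⟩ := hv
    have h1 := h.cent x0 hx0 v0 hv0
    calc g * x0 * g⁻¹ * (g * v0 * g⁻¹) = g * (x0 * v0) * g⁻¹ := by group
      _ = g * (v0 * x0) * g⁻¹ := by rw [h1]
      _ = g * v0 * g⁻¹ * (g * x0 * g⁻¹) := by group
  norm := by
    intro m hm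
    rw [ticalc_cj_cj_eq] at hm ⊢
    have h1 : cj (g⁻¹ * m * g) V = V := by
      have h2 := congrArg (cj g⁻¹) hm
      rwa [cj_inv_cj, cj_inv_cj] at h2
    rw [h.norm _ h1]
  center := by
    intro x hx hc
    rw [mem_cj'] at hx ⊢
    apply h.center _ hx
    intro y hy
    have h1 := hc (g * y * g⁻¹) (conj_mem_cj hy)
    calc g⁻¹ * x * g * y = g⁻¹ * (x * (g * y * g⁻¹)) * g := by group
      _ = g⁻¹ * ((g * y * g⁻¹) * x) * g := by rw [h1]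
      _ = y * (g⁻¹ * x * g) := by group
  comm := by
    intro x hx y hy
    rw [mem_cj'] at hx hy ⊢
    have h1 := h.comm _ hx _ hy
    have h2 : g⁻¹ * (x * y * x⁻¹ * y⁻¹) * g
        = (g⁻¹ * x * g) * (g⁻¹ * y * g) * (g⁻¹ * x * g)⁻¹ * (g⁻¹ * y * g)⁻¹ := by group
    rw [h2]
    exact h1
  sq := by
    intro x hx
    rw [mem_cj'] at hx ⊢
    have h1 := h.sq _ hx
    have h2 : g⁻¹ * (x * x) * g = (g⁻¹ * x * g) * (g⁻¹ * x * g) := by group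
    rw [h2]
    exact h1
  self := by
    intro c hcV hcP
    rw [mem_cj']
    apply h.self
    · intro v hv
      have h1 := hcV (g * v * g⁻¹) (conj_mem_cj hv)
      calc g⁻¹ * c * g * v = g⁻¹ * (c * (g * v * g⁻¹)) * g := by group
        _ = g⁻¹ * ((g * v * g⁻¹) * c) * g := by rw [h1]
        _ = v * (g⁻¹ * c * g) := by group
    · intro x hx
      have h1 := hcP (g * x * g⁻¹) (conj_mem_cj hx)
      calc g⁻¹ * c * g * x = g⁻¹ * (c * (g * x * g⁻¹)) * g := by group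
        _ = g⁻¹ * ((g * x * g⁻¹) * c) * g := by rw [h1]
        _ = x * (g⁻¹ * c * g) := by group
  nonab := by
    intro x hne hle
    rw [ticalc_cj_cj_eq] at hne hle
    have hne0 : cj (g⁻¹ * x * g) V ≠ V := by
      intro h0
      apply hne
      rw [h0]
    have hle0 : cj (g⁻¹ * x * g) V ≤ P := cj_le_cj_iff.mp hle
    obtain ⟨m0, hm0, b0, hb0, c0, hc0, hbc⟩ := h.nonab _ hne0 hle0
    refine ⟨g * m0 * g⁻¹, ?_, g * b0 * g⁻¹, ?_, g * c0 * g⁻¹, ?_, ?_⟩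
    · rw [cj_cj]
      have h1 : g * m0 * g⁻¹ * g = g * m0 := by group
      rw [h1, ← cj_cj, hm0]
    · rw [ticalc_cj_cj_eq]
      exact conj_mem_cj hb0
    · have h1 : cj (g * m0 * g⁻¹) (cj x (cj g V)) = cj g (cj m0 (cj (g⁻¹ * x * g) V)) := by
        rw [cj_cj, cj_cj, cj_cj, cj_cj]
        congr 1
        group
      rw [h1]
      exact conj_mem_cj hc0
    · intro h1
      apply hbc
      calc b0 * c0 = g⁻¹ * ((g * b0 * g⁻¹) * (g * c0 * g⁻¹)) * g := by group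
        _ = g⁻¹ * ((g * c0 * g⁻¹) * (g * b0 * g⁻¹)) * g := by rw [h1]
        _ = c0 * b0 := by group
end Calc

end Cfsg.Agent.Helper26.TI
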