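import Mathlib
import Cfsg.Agent.Lib.Helper8.TIG5Defs

/-!
# S1786 Part G, step G5, piece TI-G5-6B: `D ≤ V A`
-/

set_option autoImplicit false

namespace Cfsg.Agent.Helper26.TI

variable {G : Type*} [Group G] {V A P PA U : Subgroup G}

/-- in a group, elements of a subgroup of exponent 2 commute -/
theorem tig56b_comm {D : Subgroup G} (hsq : ∀ d ∈ D, d * d = 1) {x d : G} (hx : x ∈ D)
    (hd : d ∈ D) : x * d = d * x := by
  have h1 := hsq x hx
  have h2 := hsq d hd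
  have h3 := hsq (x * d) (D.mul_mem hx hd)
  have hx' : x⁻¹ = x := inv_eq_of_mul_eq_one_right h1
  have hd' : d⁻¹ = d := inv_eq_of_mul_eq_one_right h2
  have h4 : (x * d)⁻¹ = x * d := inv_eq_of_mul_eq_one_right h3
  rw [mul_inv_rev, hx', hd'] at h4
  exact h4.symm

/-- TI-G5-6B.  `D ≤ V A`. -/
theorem g5_D_le_W (h : G5Data V A P PA U)
    (hcD : ∀ x ∈ g5D A P, (∀ d ∈ g5D A P, x * d = d * x) → ∃ v ∈ V, ∃ a ∈ A, x = v * a)
    (hDsq : ∀ d ∈ g5D A P, d * d = 1) :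
    ∀ d ∈ g5D A P, ∃ v ∈ V, ∃ a ∈ A, d = v * a := by
  intro x hx
  exact hcD x hx (fun d hd => tig56b_comm hDsq hx hd)

end Cfsg.Agent.Helper26.TI
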