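import Mathlib
import Cfsg.Agent.Lib.Helper26.TIDefs2

/-!
# S1786 piece TI-INVADD (G9), core: `Cfg8.invAdd` with `Cfg8.match1` (both sides) and `Cfg1.decomp`
as hypotheses
-/

set_option autoImplicit false

namespace Cfsg.Agent.Helper26.TI

variable {G : Type*} [Group G]

section Sym
variable {V P A PA U U' : Subgroup G}

theorem tiinvadd_A_ne (h : Cfg V P A PA) : ∃ a ∈ A, a ≠ 1 := by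
  by_contra hcon
  push_neg at hcon
  have hA : A = ⊥ := by
    ext a
    rw [Subgroup.mem_bot]
    exact ⟨hcon a, fun h' => h' ▸ A.one_mem⟩
  obtain ⟨g, hg, -⟩ := h.conj
  have hV : V = ⊥ := by
    have h1 : cj g⁻¹ A = V := by rw [hg, cj_inv_cj]
    rw [← h1, hA, cj_bot]
  exact h.ne (hA.trans hV.symm)

theorem tiinvadd_core (h : Cfg8 V P A PA U U')
    (hm1 : ∀ {x : G}, x ∈ P → (∃ a ∈ A, x * a ≠ a * x) →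
      ∃ y ∈ PA, ∀ v ∈ V, ∀ a ∈ A, (x * a * x⁻¹ = v * a ↔ y * v * y⁻¹ = a * v))
    (hm2 : ∀ {x : G}, x ∈ PA → (∃ a ∈ V, x * a ≠ a * x) →
      ∃ y ∈ P, ∀ v ∈ A, ∀ a ∈ V, (x * a * x⁻¹ = v * a ↔ y * v * y⁻¹ = a * v))
    (hdec : ∀ {x : G}, x ∈ P → ∃ u ∈ U, ∀ a ∈ A, (u⁻¹ * x) * a = a * (u⁻¹ * x))
    {u₁ u₂ : G} (h1 : u₁ ∈ U) (h11 : u₁ ≠ 1) (h2 : u₂ ∈ U) (h21 : u₂ ≠ 1) :
    (∀ a₁ ∈ A, ∀ a₂ ∈ A, u₁ * a₁ * u₁⁻¹ * a₁⁻¹ = u₂ * a₂ * u₂⁻¹ * a₂⁻¹ → a₁ * a₂ = 1) ∨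
    (∃ u₃ ∈ U, ∀ a₁ ∈ A, ∀ a₂ ∈ A, u₁ * a₁ * u₁⁻¹ * a₁⁻¹ = u₂ * a₂ * u₂⁻¹ * a₂⁻¹ →
      u₃ * (a₁ * a₂) * u₃⁻¹ * (a₁ * a₂)⁻¹ = u₁ * a₁ * u₁⁻¹ * a₁⁻¹) := by
  obtain ⟨a0, ha0, ha01⟩ := tiinvadd_A_ne h.left.toCfg
  have hu1P : u₁ ∈ P := h.left.U_le h1
  have hu2P : u₂ ∈ P := h.left.U_le h2
  obtain ⟨y₁, hy1, hy1m⟩ := hm1 hu1P ⟨a0, ha0, h.left.U_nc u₁ h1 h11 a0 ha0 ha01⟩
  obtain ⟨y₂, hy2, hy2m⟩ := hm1 hu2P ⟨a0, ha0, h.left.U_nc u₂ h2 h21 a0 ha0 ha01⟩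
  have hAP : A ≤ P := h.left.le
  have key : ∀ a₁ ∈ A, ∀ a₂ ∈ A, u₁ * a₁ * u₁⁻¹ * a₁⁻¹ = u₂ * a₂ * u₂⁻¹ * a₂⁻¹ →
      (u₁ * a₁ * u₁⁻¹ * a₁⁻¹ ∈ V) ∧
        (y₁ * y₂) * (u₁ * a₁ * u₁⁻¹ * a₁⁻¹) * (y₁ * y₂)⁻¹
          = (a₁ * a₂) * (u₁ * a₁ * u₁⁻¹ * a₁⁻¹) := by
    intro a₁ ha1 a₂ ha2 heq
    have hvV : u₁ * a₁ * u₁⁻¹ * a₁⁻¹ ∈ V := h.left.loc.comm u₁ hu1P a₁ (hAP ha1)
    refine ⟨hvV, ?_⟩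
    generalize hv : u₁ * a₁ * u₁⁻¹ * a₁⁻¹ = v at hvV heq
    have e1 : u₁ * a₁ * u₁⁻¹ = v * a₁ := by rw [← hv]; group
    have e2 : u₂ * a₂ * u₂⁻¹ = v * a₂ := by rw [heq]; group
    have f1 : y₁ * v * y₁⁻¹ = a₁ * v := (hy1m v hvV a₁ ha1).mp e1
    have f2 : y₂ * v * y₂⁻¹ = a₂ * v := (hy2m v hvV a₂ ha2).mp e2
    have c1 : y₁ * a₂ = a₂ * y₁ := h.right.loc.cent y₁ hy1 a₂ ha2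
    calc (y₁ * y₂) * v * (y₁ * y₂)⁻¹ = y₁ * (y₂ * v * y₂⁻¹) * y₁⁻¹ := by group
      _ = y₁ * (a₂ * v) * y₁⁻¹ := by rw [f2]
      _ = (y₁ * a₂) * y₁⁻¹ * (y₁ * v * y₁⁻¹) := by group
      _ = (a₂ * y₁) * y₁⁻¹ * (a₁ * v) := by rw [c1, f1]
      _ = (a₂ * a₁) * v := by group
      _ = (a₁ * a₂) * v := by rw [h.right.loc.base.comm a₂ ha2 a₁ ha1]
  by_cases hc : ∀ v ∈ V, (y₁ * y₂) * v = v * (y₁ * y₂)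
  · left
    intro a₁ ha1 a₂ ha2 heq
    obtain ⟨hvV, hk⟩ := key a₁ ha1 a₂ ha2 heq
    have h3 := hc _ hvV
    generalize u₁ * a₁ * u₁⁻¹ * a₁⁻¹ = v at hk h3
    have h4 : (a₁ * a₂) * v = v := by
      rw [← hk, h3]
      group
    exact mul_eq_right.mp h4
  · right
    push_neg at hc
    obtain ⟨v0, hv0, hne⟩ := hc
    obtain ⟨x₃, hx3, hx3m⟩ := hm2 (PA.mul_mem hy1 hy2) ⟨v0, hv0, hne⟩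
    obtain ⟨u₃, hu3, hu3c⟩ := hdec hx3
    refine ⟨u₃, hu3, ?_⟩
    intro a₁ ha1 a₂ ha2 heq
    obtain ⟨hvV, hk⟩ := key a₁ ha1 a₂ ha2 heq
    have ha12 : a₁ * a₂ ∈ A := A.mul_mem ha1 ha2
    generalize u₁ * a₁ * u₁⁻¹ * a₁⁻¹ = v at hk hvV
    have g1 : x₃ * (a₁ * a₂) * x₃⁻¹ = v * (a₁ * a₂) := (hx3m (a₁ * a₂) ha12 v hvV).mp hk
    have g2 := hu3c (a₁ * a₂) ha12
    have g3 : u₃ * (a₁ * a₂) * u₃⁻¹ = x₃ * (a₁ * a₂) * x₃⁻¹ := by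
      calc u₃ * (a₁ * a₂) * u₃⁻¹ = u₃ * ((a₁ * a₂) * (u₃⁻¹ * x₃)) * x₃⁻¹ := by group
        _ = u₃ * ((u₃⁻¹ * x₃) * (a₁ * a₂)) * x₃⁻¹ := by rw [g2]
        _ = x₃ * (a₁ * a₂) * x₃⁻¹ := by group
    rw [g3, g1]
    group
end Sym

end Cfsg.Agent.Helper26.TI
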