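import Mathlib
import Cfsg.Agent.Lib.Helper26.TIDefs2
import Cfsg.Agent.Lib.Helper27.TIPHI2
import Cfsg.Agent.Lib.Helper4.TISYM
import Cfsg.Agent.Lib.Helper1.TIINVADDCore

/-!
# S1786 piece TI-INVADD (G9): `Cfg8.invAdd`
-/

set_option autoImplicit false

namespace Cfsg.Agent.Helper26.TI

variable {G : Type*} [Group G]

section Sym
variable {V P A PA U U' : Subgroup G}

/-- TI-INVADD (G9): the inverse maps `phi_u⁻¹` are closed under pointwise product. -/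
theorem Cfg8.invAdd [Finite G] (h : Cfg8 V P A PA U U') {u₁ u₂ : G} (h1 : u₁ ∈ U) (h11 : u₁ ≠ 1)
    (h2 : u₂ ∈ U) (h21 : u₂ ≠ 1) :
    (∀ a₁ ∈ A, ∀ a₂ ∈ A, u₁ * a₁ * u₁⁻¹ * a₁⁻¹ = u₂ * a₂ * u₂⁻¹ * a₂⁻¹ → a₁ * a₂ = 1) ∨
    (∃ u₃ ∈ U, ∀ a₁ ∈ A, ∀ a₂ ∈ A, u₁ * a₁ * u₁⁻¹ * a₁⁻¹ = u₂ * a₂ * u₂⁻¹ * a₂⁻¹ →
      u₃ * (a₁ * a₂) * u₃⁻¹ * (a₁ * a₂)⁻¹ = u₁ * a₁ * u₁⁻¹ * a₁⁻¹) := by
  have hsw : Cfg8 A PA V P U' U := ⟨h.right, h.left⟩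
  exact tiinvadd_core h (fun hx hxA => h.match1 hx hxA) (fun hx hxA => hsw.match1 hx hxA)
    (fun hx => h.left.decomp hx) h1 h11 h2 h21
end Sym

end Cfsg.Agent.Helper26.TI
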