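import Mathlib
import Cfsg.Agent.Lib.Helper10.TMDefs

/-!
# S2930 piece MAIN2 (helper1, for helper10): the core, with the statements of the other pieces
(ORB `ncard_orb_pow`, CASE1, CASE2C, CASE3) as explicit hypotheses.
-/

set_option autoImplicit false

namespace Cfsg.Agent.Helper10.TM

open Equiv Equiv.Perm Cfsg.Agent.Helper11.AutAlt
open scoped Pointwise

variable {n : ℕ}

theorem main2_mem_orb_self (S : Subgroup (Alt n)) (x : Fin n) : x ∈ orb S x :=
  ⟨1, S.one_mem, by simp⟩

theorem main2_orb_eq_of_mem {S : Subgroup (Alt n)} {x y : Fin n} (h : y ∈ orb S x) :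
    orb S y = orb S x := by
  obtain ⟨s, hs, hsx⟩ := h
  ext z
  constructor
  · rintro ⟨t, ht, htz⟩
    refine ⟨t * s, S.mul_mem ht hs, ?_⟩
    rw [← htz, ← hsx]
    simp
  · rintro ⟨t, ht, htz⟩
    refine ⟨t * s⁻¹, S.mul_mem ht (S.inv_mem hs), ?_⟩
    rw [← htz, ← hsx]
    simp

theorem main2_pow_ge {i : ℕ} (hi : 2 ≤ i) : 9 ≤ 3 ^ i := by
  calc 9 = 3 ^ 2 := by norm_num
    _ ≤ 3 ^ i := Nat.pow_le_pow_right (by norm_num) hi

theorem main2_pow_ge3 {i : ℕ} (hi : 1 ≤ i) : 3 ≤ 3 ^ i := by
  calc 3 = 3 ^ 1 := by norm_num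
    _ ≤ 3 ^ i := Nat.pow_le_pow_right (by norm_num) hi

/-- MAIN2, core -/
theorem main2_core (hn : 5 ≤ n) (S : Subgroup (Alt n))
    (hpow : ∀ x : Fin n, ∃ k : ℕ, (orb S x).ncard = 3 ^ k)
    (h1 : ∀ x y z : Fin n, y ∉ orb S x → z ∉ orb S x → z ∉ orb S y → False)
    (h2 : ∀ x y : Fin n, (∀ z, z ∈ orb S x ∨ z ∈ orb S y) → y ∉ orb S x →
      9 ≤ (orb S x).ncard → 3 ≤ (orb S y).ncard → False)
    (h3 : (∀ x y : Fin n, y ∈ orb S x) → 12 ≤ n → False) :
    n = 6 ∨ n = 9 ∨ ∃ a : ℕ, 2 ≤ a ∧ n = 3 ^ a + 1 := by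
  have hn0 : 0 < n := by omega
  set x₀ : Fin n := ⟨0, hn0⟩ with hx₀
  obtain ⟨i, hi⟩ := hpow x₀
  by_cases hall : ∀ y : Fin n, y ∈ orb S x₀
  · -- transitive
    have huniv : orb S x₀ = Set.univ := Set.eq_univ_of_forall hall
    have hni : n = 3 ^ i := by
      rw [← hi, huniv, Set.ncard_univ, Nat.card_fin]
    have htr : ∀ x y : Fin n, y ∈ orb S x := by
      intro x y
      rw [main2_orb_eq_of_mem (hall x)]
      exact hall y
    by_cases hi3 : 3 ≤ i
    · exfalso
      apply h3 htr
      rw [hni]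
      calc 12 ≤ 3 ^ 3 := by norm_num
        _ ≤ 3 ^ i := Nat.pow_le_pow_right (by norm_num) hi3
    · have hi2 : i ≤ 2 := by omega
      interval_cases i
      · omega
      · omega
      · right; left; rw [hni]; norm_num
  · push_neg at hall
    obtain ⟨y, hy⟩ := hall
    obtain ⟨j, hj⟩ := hpow y
    have hx₀y : x₀ ∉ orb S y := by
      intro h
      apply hy
      rw [main2_orb_eq_of_mem h]
      exact main2_mem_orb_self S y
    by_cases hall2 : ∀ z : Fin n, z ∈ orb S x₀ ∨ z ∈ orb S y
    · have hdisj : Disjoint (orb S x₀) (orb S y) := by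
        rw [Set.disjoint_left]
        intro z hz1 hz2
        apply hy
        rw [← main2_orb_eq_of_mem hz1, main2_orb_eq_of_mem hz2]
        exact main2_mem_orb_self S y
      have hun : orb S x₀ ∪ orb S y = Set.univ := by
        apply Set.eq_univ_of_forall
        intro z
        exact hall2 z
      have hnij : n = 3 ^ i + 3 ^ j := by
        rw [← hi, ← hj, ← Set.ncard_union_eq hdisj (Set.toFinite _) (Set.toFinite _), hun,
          Set.ncard_univ, Nat.card_fin]
      rcases Nat.eq_zero_or_pos i with rfl | hi1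
      · right; right
        refine ⟨j, ?_, ?_⟩
        · by_contra hlt
          have hj1 : j ≤ 1 := by omega
          interval_cases j <;> omega
        · rw [hnij]; ring
      rcases Nat.eq_zero_or_pos j with rfl | hj1
      · right; right
        refine ⟨i, ?_, ?_⟩
        · by_contra hlt
          have hi1' : i ≤ 1 := by omega
          interval_cases i <;> omega
        · rw [hnij, pow_zero]
      by_cases hij : i = 1 ∧ j = 1
      · left
        rw [hnij, hij.1, hij.2]
        norm_num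
      · exfalso
        by_cases hle : j ≤ i
        · have hi2 : 2 ≤ i := by omega
          apply h2 x₀ y hall2 hy
          · rw [hi]; exact main2_pow_ge hi2
          · rw [hj]; exact main2_pow_ge3 hj1
        · have hj2 : 2 ≤ j := by omega
          apply h2 y x₀ (fun z => (hall2 z).symm) hx₀y
          · rw [hj]; exact main2_pow_ge hj2
          · rw [hi]; exact main2_pow_ge3 hi1
    · push_neg at hall2
      obtain ⟨z, hz1, hz2⟩ := hall2
      exact (h1 x₀ y z hy hz1 hz2).elim

end Cfsg.Agent.Helper10.TM
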