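import Mathlib
import Cfsg.Agent.Lib.Helper1.TMMAIN2Core
import Cfsg.Agent.Lib.Lead.TMORB
import Cfsg.Agent.Lib.Helper19.TMCASE1
import Cfsg.Agent.Lib.Helper19.TMCASE2C
import Cfsg.Agent.Lib.Helper17.TMCASE3

/-!
# S2930 piece MAIN2 (helper1, for helper10): `main2` (exact skeleton signature).
-/

set_option autoImplicit false

namespace Cfsg.Agent.Helper10.TM

open Equiv Equiv.Perm Cfsg.Agent.Helper11.AutAlt
open scoped Pointwise

variable {n : ℕ}

/-- MAIN2 -/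
theorem main2 (hn : 5 ≤ n) (S : Subgroup (Alt n)) (hS : IsPGroup 3 S) (hU : Unq S) :
    n = 6 ∨ n = 9 ∨ ∃ a : ℕ, 2 ≤ a ∧ n = 3 ^ a + 1 :=
  main2_core hn S (ncard_orb_pow S hS) (case1 hn S hU) (case2c S hS hU) (case3 S hS hU)

end Cfsg.Agent.Helper10.TM
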