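import Mathlib
import Cfsg.Prelude.Def_LocalEven
import Cfsg.Agent.Lib.Helper10.TMDefs
import Cfsg.Agent.Lib.Helper7.FStar
import Cfsg.Agent.Lib.Helper15.PMinimal

/-!
# S2930 piece P1 (helper1, for helper10): the core, with the statement of AUTINNER (`aut_inner`)
as an explicit hypothesis.
-/

set_option autoImplicit false

namespace Cfsg.Agent.Helper10.TM

open Equiv Equiv.Perm Cfsg.Agent.Helper11.AutAlt
open scoped Pointwise

variable {n : ℕ}

/-- (A): an element of `3`-power order lies in `F*(X)`. -/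
theorem p1_mem_of_pow {X : Type*} [Group X] [Finite X]
    (haut : ∀ (φ : MulAut (Alt n)) (k : ℕ), φ ^ (3 ^ k) = 1 →
      ∃ a : Alt n, ∀ g : Alt n, φ g = a * g * a⁻¹)
    (e : ↥(Cfsg.generalizedFittingSubgroup X) ≃* Alt n) (x : X) (k : ℕ) (hx : x ^ (3 ^ k) = 1) :
    x ∈ Cfsg.generalizedFittingSubgroup X := by
  haveI : (Cfsg.generalizedFittingSubgroup X).Normal :=
    Cfsg.Agent.Helper7.generalizedFittingSubgroup_normal
  set F := Cfsg.generalizedFittingSubgroup X with hF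
  set ψ : MulAut ↥F := MulAut.conjNormal x with hψ
  have hψk : ψ ^ (3 ^ k) = 1 := by
    rw [hψ, ← map_pow, hx, map_one]
  set φ : MulAut (Alt n) := MulAut.congr e ψ with hφ
  have hφk : φ ^ (3 ^ k) = 1 := by
    rw [hφ, ← map_pow, hψk, map_one]
  obtain ⟨a, ha⟩ := haut φ k hφk
  set f : ↥F := e.symm a with hf
  have hconj : ∀ h : ↥F, x * (h : X) * x⁻¹ = (f : X) * (h : X) * (f : X)⁻¹ := by
    intro h
    have h1 : φ (e h) = a * e h * a⁻¹ := ha (e h)
    have h2 : φ (e h) = e (ψ h) := by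
      rw [hφ]
      simp [MulAut.congr]
    rw [h2] at h1
    have h3 : ψ h = f * h * f⁻¹ := by
      apply e.injective
      rw [h1, map_mul, map_mul, map_inv, hf, MulEquiv.apply_symm_apply]
    have h4 : ((ψ h : ↥F) : X) = x * (h : X) * x⁻¹ := MulAut.conjNormal_apply x h
    rw [← h4, h3]
    simp
  have hcen : (f : X)⁻¹ * x ∈ Subgroup.centralizer (F : Set X) := by
    rw [Subgroup.mem_centralizer_iff]
    intro h hh
    have := hconj ⟨h, hh⟩
    simp only at this
    -- x h x⁻¹ = f h f⁻¹  ⇒  h (f⁻¹ x) = (f⁻¹ x) h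
    calc h * ((f : X)⁻¹ * x) = (f : X)⁻¹ * ((f : X) * h * (f : X)⁻¹) * x := by group
      _ = (f : X)⁻¹ * (x * h * x⁻¹) * x := by rw [this]
      _ = (f : X)⁻¹ * x * h := by group
  have hmem : (f : X)⁻¹ * x ∈ F :=
    Cfsg.Agent.Helper7.centralizer_generalizedFittingSubgroup_le hcen
  have : x = (f : X) * ((f : X)⁻¹ * x) := by group
  rw [this]
  exact F.mul_mem f.2 hmem

/-- P1, core -/
theorem fstar_eq_top_core {X : Type*} [Group X] [Finite X] (hX : Cfsg.IsPMinimal 3 X)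
    (haut : ∀ (φ : MulAut (Alt n)) (k : ℕ), φ ^ (3 ^ k) = 1 →
      ∃ a : Alt n, ∀ g : Alt n, φ g = a * g * a⁻¹)
    (e : ↥(Cfsg.generalizedFittingSubgroup X) ≃* Alt n) :
    Cfsg.generalizedFittingSubgroup X = ⊤ := by
  haveI : Fact (Nat.Prime 3) := Nat.fact_prime_three
  haveI : (Cfsg.generalizedFittingSubgroup X).Normal :=
    Cfsg.Agent.Helper7.generalizedFittingSubgroup_normal
  set F := Cfsg.generalizedFittingSubgroup X with hF
  have S : Sylow 3 X := default
  have hSF : (S : Subgroup X) ≤ F := by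
    intro x hx
    obtain ⟨k, hk⟩ := S.isPGroup' ⟨x, hx⟩
    have hk' : x ^ (3 ^ k) = 1 := by
      have := congrArg Subtype.val hk
      simpa using this
    exact p1_mem_of_pow haut e x k hk'
  by_contra hne
  obtain ⟨hSn, M, ⟨hM, hSM⟩, -⟩ := hX S
  have hFM : F ≤ M := Cfsg.Agent.Helper15.pMin_le_of_sylow_le hX S hM hSM hSF hne
  have hNne : Subgroup.normalizer ((S : Subgroup X) : Set X) ≠ ⊤ := by
    intro h
    exact hSn (Subgroup.normalizer_eq_top_iff.mp h)
  have hNM : Subgroup.normalizer ((S : Subgroup X) : Set X) ≤ M :=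
    Cfsg.Agent.Helper15.pMin_le_of_sylow_le hX S hM hSM Subgroup.le_normalizer hNne
  have htop : Subgroup.normalizer ((S : Subgroup X) : Set X) ⊔ F = ⊤ :=
    Sylow.normalizer_sup_eq_top' S hSF
  have : (⊤ : Subgroup X) ≤ M := by
    rw [← htop]
    exact sup_le hNM hFM
  exact hM.1 (top_le_iff.mp this)

end Cfsg.Agent.Helper10.TM
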