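import Mathlib
import Cfsg.Agent.Lib.Helper1.TMP1Core
import Cfsg.Agent.Lib.Helper4.TMAUTINNER

/-!
# S2930 piece P1 (helper1, for helper10): `fstar_eq_top` (exact skeleton signature).
-/

set_option autoImplicit false

namespace Cfsg.Agent.Helper10.TM

open Equiv Equiv.Perm Cfsg.Agent.Helper11.AutAlt
open scoped Pointwise

variable {n : ℕ}

/-- P1 -/
theorem fstar_eq_top {X : Type*} [Group X] [Finite X] (hX : Cfsg.IsPMinimal 3 X) (hn : 5 ≤ n)
    (e : ↥(Cfsg.generalizedFittingSubgroup X) ≃* Alt n) :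
    Cfsg.generalizedFittingSubgroup X = ⊤ :=
  fstar_eq_top_core hX (fun φ k hφ => aut_inner hn φ k hφ) e

end Cfsg.Agent.Helper10.TM
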