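import Mathlib
import Cfsg.Agent.Lib.Helper17.TSLDefs

/-!
# S3366 PIECE TSL-MAT, core (helper1): an element `k` commuting with `t` acts on `x, y` by a matrix
of `SL(2,3)`; INVNF and ZCENT are hypotheses here.
-/

set_option autoImplicit false
set_option linter.unusedVariables false

namespace Cfsg.Agent.Helper17.TSL

section generic

variable {G : Type*} [Group G]

theorem mat_A (x y z : G) (hzx : Commute z x) (hxy : x * y = z * (y * x)) (a : ℕ) :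
    x ^ a * y = z ^ a * (y * x ^ a) := by
  induction a with
  | zero => simp
  | succ a ih =>
    have c1 : Commute (z ^ a) x := hzx.pow_left a
    calc x ^ (a + 1) * y = x * (x ^ a * y) := by rw [pow_succ', mul_assoc]
      _ = x * (z ^ a * (y * x ^ a)) := by rw [ih]
      _ = z ^ a * (x * y) * x ^ a := by rw [← mul_assoc x, ← c1.eq]; simp only [mul_assoc]
      _ = z ^ a * (z * (y * x)) * x ^ a := by rw [hxy]
      _ = z ^ (a + 1) * (y * x ^ (a + 1)) := by rw [pow_succ, pow_succ']; simp only [mul_assoc]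

theorem mat_B (x y z : G) (hzx : Commute z x) (hzy : Commute z y) (hxy : x * y = z * (y * x))
    (a b : ℕ) : x ^ a * y ^ b = z ^ (a * b) * (y ^ b * x ^ a) := by
  induction b with
  | zero => simp
  | succ b ih =>
    have c1 : Commute (z ^ a) (y ^ b) := hzy.pow_pow a b
    calc x ^ a * y ^ (b + 1) = (x ^ a * y ^ b) * y := by rw [pow_succ, mul_assoc]
      _ = z ^ (a * b) * (y ^ b * x ^ a) * y := by rw [ih]
      _ = z ^ (a * b) * (y ^ b * (x ^ a * y)) := by simp only [mul_assoc]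
      _ = z ^ (a * b) * (y ^ b * (z ^ a * (y * x ^ a))) := by rw [mat_A x y z hzx hxy a]
      _ = z ^ (a * b) * (z ^ a * y ^ b * (y * x ^ a)) := by rw [c1.eq]; simp only [mul_assoc]
      _ = z ^ (a * (b + 1)) * (y ^ (b + 1) * x ^ a) := by
        rw [Nat.mul_succ, pow_add, pow_succ]; simp only [mul_assoc]

theorem mat_C (x y z : G) (hzx : Commute z x) (hzy : Commute z y) (hxy : x * y = z * (y * x))
    (a b c a' b' c' : ℕ) :
    z ^ (a' * b) * ((x ^ a * y ^ b * z ^ c) * (x ^ a' * y ^ b' * z ^ c')) =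
      z ^ (c + c') * (x ^ (a + a') * y ^ (b + b')) := by
  have hB := mat_B x y z hzx hzy hxy a' b
  have k1 : Commute (z ^ c) (x ^ a' * y ^ b') := (hzx.pow_pow c a').mul_right (hzy.pow_pow c b')
  have k2 : Commute (z ^ (a' * b)) (x ^ a) := hzx.pow_pow _ _
  have k3 : Commute (z ^ (c + c')) (x ^ (a + a') * y ^ (b + b')) :=
    (hzx.pow_pow _ _).mul_right (hzy.pow_pow _ _)
  calc z ^ (a' * b) * ((x ^ a * y ^ b * z ^ c) * (x ^ a' * y ^ b' * z ^ c'))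
      = z ^ (a' * b) * (x ^ a * y ^ b * (z ^ c * (x ^ a' * y ^ b')) * z ^ c') := by
        simp only [mul_assoc]
    _ = z ^ (a' * b) * (x ^ a * y ^ b * ((x ^ a' * y ^ b') * z ^ c) * z ^ c') := by rw [k1.eq]
    _ = (z ^ (a' * b) * x ^ a) * (y ^ b * x ^ a') * y ^ b' * (z ^ c * z ^ c') := by
        simp only [mul_assoc]
    _ = (x ^ a * z ^ (a' * b)) * (y ^ b * x ^ a') * y ^ b' * (z ^ c * z ^ c') := by rw [k2.eq]
    _ = x ^ a * (z ^ (a' * b) * (y ^ b * x ^ a')) * y ^ b' * (z ^ c * z ^ c') := by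
        simp only [mul_assoc]
    _ = x ^ a * (x ^ a' * y ^ b) * y ^ b' * (z ^ c * z ^ c') := by rw [← hB]
    _ = (x ^ (a + a') * y ^ (b + b')) * z ^ (c + c') := by
        rw [pow_add, pow_add, pow_add]; simp only [mul_assoc]
    _ = z ^ (c + c') * (x ^ (a + a') * y ^ (b + b')) := k3.eq.symm

theorem mat_comm_eq (u v w : G) (h : u * v * u⁻¹ * v⁻¹ = w) : u * v = w * (v * u) := by
  rw [← h]; group

/-- the determinant congruence: if `[u, v] = z` for `u = x^a y^b z^c`, `v = x^a' y^b' z^c'` then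
`a' b + 1 ≡ a b'  (mod 3)` -/
theorem mat_det (x y z : G) (hzx : Commute z x) (hzy : Commute z y) (hxy : x * y = z * (y * x))
    (hz3 : z ^ 3 = 1) (hz1 : z ≠ 1) (a b c a' b' c' : ℕ)
    (hcomm : (x ^ a * y ^ b * z ^ c) * (x ^ a' * y ^ b' * z ^ c') *
      (x ^ a * y ^ b * z ^ c)⁻¹ * (x ^ a' * y ^ b' * z ^ c')⁻¹ = z) :
    a' * b + 1 ≡ a * b' [MOD 3] := by
  have h1 := mat_C x y z hzx hzy hxy a b c a' b' c'
  have h2 := mat_C x y z hzx hzy hxy a' b' c' a b c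
  rw [add_comm c' c, add_comm a' a, add_comm b' b] at h2
  have huv : (x ^ a * y ^ b * z ^ c) * (x ^ a' * y ^ b' * z ^ c') =
      z * ((x ^ a' * y ^ b' * z ^ c') * (x ^ a * y ^ b * z ^ c)) :=
    mat_comm_eq _ _ _ hcomm
  have h3 : z ^ (a' * b + 1) * ((x ^ a' * y ^ b' * z ^ c') * (x ^ a * y ^ b * z ^ c)) =
      z ^ (a * b') * ((x ^ a' * y ^ b' * z ^ c') * (x ^ a * y ^ b * z ^ c)) := by
    rw [h2, ← h1, huv, pow_succ]; simp only [mul_assoc]
  have h4 : z ^ (a' * b + 1) = z ^ (a * b') := mul_right_cancel h3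
  haveI : Fact (Nat.Prime 3) := ⟨by norm_num⟩
  have ho : orderOf z = 3 := orderOf_eq_prime hz3 hz1
  have := pow_eq_pow_iff_modEq.mp h4
  rwa [ho] at this

end generic

theorem mat_core {X : Type*} [Group X] [Finite X] (S : Setup X)
    (t : X) (x y : X) (hx : x ∈ S.R) (hy : y ∈ S.R) (hxt : t * x * t⁻¹ = x⁻¹) (hyt : t * y * t⁻¹ = y⁻¹)
    (hxy : x * y * x⁻¹ * y⁻¹ ≠ 1) (k : X) (hk : k * t = t * k)
    (hinv : ∀ i ∈ S.R, t * i * t⁻¹ = i⁻¹ →
      ∃ a b : ZMod 3, i = x ^ a.val * y ^ b.val * (x * y * x⁻¹ * y⁻¹) ^ (a * b).val)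
    (hZc : ∀ g w : X, w ∈ S.Z → g * w = w * g) :
    ∃ m : SL23, ActsBy x y k m := by
  have hzZ : x * y * x⁻¹ * y⁻¹ ∈ S.Z := S.comm_mem x hx y hy
  obtain ⟨hzR, hzc⟩ := (S.mem_Z _).mp hzZ
  have hzx : Commute (x * y * x⁻¹ * y⁻¹) x := (hzc x hx).symm
  have hzy : Commute (x * y * x⁻¹ * y⁻¹) y := (hzc y hy).symm
  have hxy' : x * y = (x * y * x⁻¹ * y⁻¹) * (y * x) := by group
  have hz3 : (x * y * x⁻¹ * y⁻¹) ^ 3 = 1 := S.exp_R _ hzR
  -- conjugates are inverted by t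
  have hkt' : t * k = k * t := hk.symm
  have hkinv : k⁻¹ * t⁻¹ = t⁻¹ * k⁻¹ := by
    rw [← mul_inv_rev, ← mul_inv_rev, hk]
  have hu : t * (k * x * k⁻¹) * t⁻¹ = (k * x * k⁻¹)⁻¹ := by
    calc t * (k * x * k⁻¹) * t⁻¹ = (t * k) * x * (k⁻¹ * t⁻¹) := by group
      _ = (k * t) * x * (t⁻¹ * k⁻¹) := by rw [hkt', hkinv]
      _ = k * (t * x * t⁻¹) * k⁻¹ := by group
      _ = k * x⁻¹ * k⁻¹ := by rw [hxt]
      _ = (k * x * k⁻¹)⁻¹ := by group
  have hv : t * (k * y * k⁻¹) * t⁻¹ = (k * y * k⁻¹)⁻¹ := by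
    calc t * (k * y * k⁻¹) * t⁻¹ = (t * k) * y * (k⁻¹ * t⁻¹) := by group
      _ = (k * t) * y * (t⁻¹ * k⁻¹) := by rw [hkt', hkinv]
      _ = k * (t * y * t⁻¹) * k⁻¹ := by group
      _ = k * y⁻¹ * k⁻¹ := by rw [hyt]
      _ = (k * y * k⁻¹)⁻¹ := by group
  obtain ⟨α, γ, hα⟩ := hinv _ (S.normal.conj_mem x hx k) hu
  obtain ⟨β, δ, hβ⟩ := hinv _ (S.normal.conj_mem y hy k) hv
  -- k centralises z
  have hkz : k * (x * y * x⁻¹ * y⁻¹) * k⁻¹ = x * y * x⁻¹ * y⁻¹ := by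
    rw [hZc k _ hzZ]; group
  have hcomm : (k * x * k⁻¹) * (k * y * k⁻¹) * (k * x * k⁻¹)⁻¹ * (k * y * k⁻¹)⁻¹ =
      x * y * x⁻¹ * y⁻¹ := by
    rw [← hkz]; group
  rw [hα, hβ] at hcomm
  have hmod := mat_det x y (x * y * x⁻¹ * y⁻¹) hzx hzy hxy' hz3 hxy
    α.val γ.val (α * γ).val β.val δ.val (β * δ).val hcomm
  have hcast : ((β.val * γ.val + 1 : ℕ) : ZMod 3) = ((α.val * δ.val : ℕ) : ZMod 3) :=
    (ZMod.natCast_eq_natCast_iff _ _ 3).mpr hmod
  push_cast at hcast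
  rw [ZMod.natCast_zmod_val, ZMod.natCast_zmod_val, ZMod.natCast_zmod_val,
    ZMod.natCast_zmod_val] at hcast
  have hdet : Matrix.det !![α, β; γ, δ] = 1 := by
    rw [Matrix.det_fin_two_of, ← hcast]; ring
  refine ⟨⟨!![α, β; γ, δ], hdet⟩, ?_, ?_⟩
  · exact hα
  · exact hβ

end Cfsg.Agent.Helper17.TSL
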