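import Mathlib
import Cfsg.Agent.Lib.Helper17.TSLDefs
import Cfsg.Agent.Lib.Helper1.TSLMATCore
import Cfsg.Agent.Lib.Helper2.TSLZCENT
import Cfsg.Agent.Lib.Helper19.TSLINVNF

/-!
# S3366 PIECE TSL-MAT (helper1): `k` commuting with `t` acts on `x, y` by a matrix of `SL(2,3)`.
-/

set_option autoImplicit false

namespace Cfsg.Agent.Helper17.TSL

variable {X : Type*} [Group X] [Finite X] (S : Setup X)

theorem exists_mat (t : X) (ht : t * t = 1) (hπ : S.π t = negOne)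
    (x y : X) (hx : x ∈ S.R) (hy : y ∈ S.R) (hxt : t * x * t⁻¹ = x⁻¹) (hyt : t * y * t⁻¹ = y⁻¹)
    (hxy : x * y * x⁻¹ * y⁻¹ ≠ 1) (k : X) (hk : k * t = t * k) :
    ∃ m : SL23, ActsBy x y k m :=
  mat_core S t x y hx hy hxt hyt hxy k hk
    (fun i hi hit => inv_normal_form S t ht hπ x y hx hy hxt hyt hxy i hi hit)
    (fun g w hw => Z_central S g w hw)

end Cfsg.Agent.Helper17.TSL
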