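import Mathlib
import Cfsg.Agent.Lib.Helper17.TSLDefs

/-!
# S3366 PIECE TSL-XY, core (helper1): `t`-inverted non-commuting `x, y` in `R`,
with the existence half of LIFT as a hypothesis.
-/

set_option autoImplicit false
set_option linter.unusedVariables false

namespace Cfsg.Agent.Helper17.TSL

/-- aux: `R` is not abelian -/
theorem xy_nonab {X : Type*} [Group X] [Finite X] (S : Setup X) :
    ∃ r ∈ S.R, ∃ s ∈ S.R, r * s ≠ s * r := by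
  by_contra hcon
  push_neg at hcon
  have hZR : S.Z = S.R := by
    ext w
    rw [S.mem_Z]
    constructor
    · exact fun h => h.1
    · intro hw
      exact ⟨hw, fun r hr => hcon r hr w hw⟩
  have h1 : Nat.card S.Z = Nat.card S.R := by rw [hZR]
  rw [S.card_Z, S.card_R] at h1
  omega

theorem xy_core {X : Type*} [Group X] [Finite X] (S : Setup X) (t : X)
    (hlift : ∀ r ∈ S.R, ∃ i : X, (i ∈ S.R ∧ t * i * t⁻¹ = i⁻¹) ∧ i⁻¹ * r ∈ S.Z) :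
    ∃ x ∈ S.R, ∃ y ∈ S.R, t * x * t⁻¹ = x⁻¹ ∧ t * y * t⁻¹ = y⁻¹ ∧ x * y * x⁻¹ * y⁻¹ ≠ 1 := by
  obtain ⟨r, hr, s, hs, hrs⟩ := xy_nonab S
  obtain ⟨i, ⟨hiR, hit⟩, hiw⟩ := hlift r hr
  obtain ⟨j, ⟨hjR, hjt⟩, hjv⟩ := hlift s hs
  refine ⟨i, hiR, j, hjR, hit, hjt, ?_⟩
  intro hc
  apply hrs
  have hij : i * j = j * i := by
    calc i * j = (i * j * i⁻¹ * j⁻¹) * (j * i) := by group
      _ = j * i := by rw [hc, one_mul]
  obtain ⟨hwR, hwc⟩ := (S.mem_Z _).mp hiw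
  obtain ⟨hvR, hvc⟩ := (S.mem_Z _).mp hjv
  have e1 : j * (i⁻¹ * r) = (i⁻¹ * r) * j := hwc j hjR
  have e2 : i * (j⁻¹ * s) = (j⁻¹ * s) * i := hvc i hiR
  have e3 : (j⁻¹ * s) * (i⁻¹ * r) = (i⁻¹ * r) * (j⁻¹ * s) := hwc _ hvR
  calc r * s = i * ((i⁻¹ * r) * j) * (j⁻¹ * s) := by group
    _ = i * (j * (i⁻¹ * r)) * (j⁻¹ * s) := by rw [e1]
    _ = (i * j) * ((i⁻¹ * r) * (j⁻¹ * s)) := by group
    _ = (j * i) * ((j⁻¹ * s) * (i⁻¹ * r)) := by rw [hij, e3]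
    _ = j * (i * (j⁻¹ * s)) * (i⁻¹ * r) := by group
    _ = j * ((j⁻¹ * s) * i) * (i⁻¹ * r) := by rw [e2]
    _ = s * r := by group

end Cfsg.Agent.Helper17.TSL
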