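import Mathlib
import Cfsg.Agent.Lib.Helper17.TSLDefs
import Cfsg.Agent.Lib.Helper1.TSLXYCore
import Cfsg.Agent.Lib.Helper2.TSLLIFT

/-!
# S3366 PIECE TSL-XY (helper1): `t`-inverted non-commuting `x, y` in `R`.
-/

set_option autoImplicit false

namespace Cfsg.Agent.Helper17.TSL

variable {X : Type*} [Group X] [Finite X] (S : Setup X)

theorem exists_xy (t : X) (ht : t * t = 1) (hπ : S.π t = negOne) :
    ∃ x ∈ S.R, ∃ y ∈ S.R, t * x * t⁻¹ = x⁻¹ ∧ t * y * t⁻¹ = y⁻¹ ∧ x * y * x⁻¹ * y⁻¹ ≠ 1 :=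
  xy_core S t (fun r hr => (lift_unique S t ht hπ r hr).exists)

end Cfsg.Agent.Helper17.TSL
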