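import Mathlib
import Cfsg.Prelude.Def_Transfer
import Cfsg.Agent.Lib.Helper1.Tate

/-!
# Tate's theorem, general form `P ≤ V ≤ G` (helper1's shared library)

If `P ∩ O^p(G) ≤ V'` then `P ∩ O^p(G) ≤ O^p(V)`.
-/

set_option autoImplicit false

namespace Cfsg.Agent.Helper1

open Subgroup
open scoped Pointwise commutatorElement

section CentralComplement2

variable {T : Type*} [Group T] {p : ℕ} [Fact p.Prime]

/-- With a central subgroup `K` and a complement `H`, any homomorphism into `T` sends the derived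
subgroup into `H`. -/
theorem commutator_le_comap_of_central_complement (K H : Subgroup T) (hK : K ≤ center T)
    (hc : IsComplement' K H) {V' : Type*} [Group V'] (f : V' →* T) :
    _root_.commutator V' ≤ H.comap f := by
  haveI := normal_of_central_complement K H hK hc
  have hrep : ∀ a : T ⧸ H, ∃ k ∈ K, a = QuotientGroup.mk' H k := by
    intro a
    obtain ⟨t, rfl⟩ := QuotientGroup.mk'_surjective H a
    obtain ⟨k, hk, h, hh, rfl⟩ := exists_mul_of_central_complement K H hK hc t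
    refine ⟨k, hk, ?_⟩
    rw [map_mul]
    have : QuotientGroup.mk' H h = 1 := (QuotientGroup.eq_one_iff h).mpr hh
    rw [this, mul_one]
  have hcomm : ∀ a b : T ⧸ H, a * b = b * a := by
    intro a b
    obtain ⟨k₁, hk₁, rfl⟩ := hrep a
    obtain ⟨k₂, hk₂, rfl⟩ := hrep b
    rw [← map_mul, ← map_mul, Subgroup.mem_center_iff.mp (hK hk₁) k₂]
  rw [_root_.commutator_def, Subgroup.commutator_le]
  intro a _ b _
  rw [Subgroup.mem_comap, map_commutatorElement]
  apply (QuotientGroup.eq_one_iff _).mp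
  have : ((⁅f a, f b⁆ : T) : T ⧸ H) = ⁅(f a : T ⧸ H), (f b : T ⧸ H)⁆ := by
    rw [commutatorElement_def, commutatorElement_def]; rfl
  rw [this, commutatorElement_eq_one_iff_mul_comm]
  exact hcomm _ _

end CentralComplement2

section AbstractStep

variable {G : Type*} [Group G] {S : Type*} [Group S] (P V M : Subgroup G) (hPV : P ≤ V)
  (σ : V →* S) (Z : Subgroup S)

/-- `y ↦ (y, σ y)` on `P`. -/
def aDiag : P →* G × S := MonoidHom.prod P.subtype (σ.comp (Subgroup.inclusion hPV))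

/-- `v ↦ (v, σ v)` on `V`. -/
def aDiagV : V →* G × S := MonoidHom.prod V.subtype σ

/-- `1 × Z`. -/
def aK : Subgroup (G × S) := Subgroup.prod ⊥ Z

/-- `M × Z`. -/
def aW : Subgroup (G × S) := Subgroup.prod M Z

/-- The diagonal copy of `P`. -/
def aA : Subgroup (G × S) := (aDiag P V hPV σ).range

/-- The fibre product group. -/
def aG : Subgroup (G × S) := aW M Z ⊔ aA P V hPV σ

variable {P V M hPV σ Z}

omit [Group G] in
theorem aK_le_center (hZc : Z ≤ center S) [Group G] : aK (G := G) Z ≤ center (G × S) := by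
  intro z hz
  obtain ⟨h1, h2⟩ := Subgroup.mem_prod.mp hz
  rw [Subgroup.mem_bot] at h1
  rw [Subgroup.mem_center_iff]
  intro x
  have h3 := Subgroup.mem_center_iff.mp (hZc h2) x.2
  ext
  · simp [h1]
  · simpa using h3

theorem aK_pow {p : ℕ} (hZp : ∀ z ∈ Z, z ^ p = 1) : ∀ z ∈ aK (G := G) Z, z ^ p = 1 := by
  intro z hz
  obtain ⟨h1, h2⟩ := Subgroup.mem_prod.mp hz
  rw [Subgroup.mem_bot] at h1
  ext
  · simp [h1]
  · simpa using hZp z.2 h2

theorem aK_le_aW : aK (G := G) Z ≤ aW M Z := by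
  intro z hz
  obtain ⟨h1, h2⟩ := Subgroup.mem_prod.mp hz
  rw [Subgroup.mem_bot] at h1
  exact Subgroup.mem_prod.mpr ⟨by rw [h1]; exact M.one_mem, h2⟩

theorem aK_le_aG : aK (G := G) Z ≤ aG P V M hPV σ Z := le_trans aK_le_aW le_sup_left

theorem aA_le_aG : aA P V hPV σ ≤ aG P V M hPV σ Z := le_sup_right

theorem aA_inf_aK : aA P V hPV σ ⊓ aK (G := G) Z = ⊥ := by
  rw [eq_bot_iff]
  rintro z ⟨⟨y, rfl⟩, hz⟩
  obtain ⟨h1, -⟩ := Subgroup.mem_prod.mp hz
  rw [Subgroup.mem_bot] at h1 ⊢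
  have hy : y = 1 := by
    apply Subtype.ext
    simpa [aDiag] using h1
  rw [hy, map_one]

theorem aW_normal [M.Normal] (hZc : Z ≤ center S) : (aW M Z).Normal := by
  haveI : Z.Normal := normal_of_le_center' _ hZc
  unfold aW
  infer_instance

/-- Elements of the fibre product whose first coordinate lies in `P` are in `K̃ Ã`. -/
theorem aG_inf_comap_le [M.Normal] (hZc : Z ≤ center S)
    (h1 : ∀ y : P, (y : G) ∈ M → σ (Subgroup.inclusion hPV y) ∈ Z) :
    aG P V M hPV σ Z ⊓ (P.comap (MonoidHom.fst G S)) ≤ aK (G := G) Z ⊔ aA P V hPV σ := by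
  haveI := aW_normal (M := M) hZc
  rintro z ⟨hz1, hz2⟩
  obtain ⟨w, a, ha, rfl⟩ := exists_mul_of_mem_normal_sup (aW M Z) (aA P V hPV σ) hz1
  obtain ⟨y, rfl⟩ := ha
  obtain ⟨hw1, hw2⟩ := Subgroup.mem_prod.mp w.2
  have hwP : (w : G × S).1 ∈ P := by
    have h3 : (w : G × S).1 * (y : G) ∈ P := by
      simpa [aDiag] using hz2
    have := P.mul_mem h3 (P.inv_mem y.2)
    simpa using this
  set m : P := ⟨(w : G × S).1, hwP⟩ with hm
  have hmZ : σ (Subgroup.inclusion hPV m) ∈ Z := h1 m hw1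
  have h4 : (w : G × S) = ((1 : G), (σ (Subgroup.inclusion hPV m))⁻¹ * (w : G × S).2) *
      aDiag P V hPV σ m := by
    ext
    · simp [aDiag, hm]
    · simp only [aDiag, MonoidHom.prod_apply, MonoidHom.comp_apply, Prod.snd_mul]
      have := Subgroup.mem_center_iff.mp (hZc hw2) ((σ (Subgroup.inclusion hPV m)))⁻¹
      rw [this]
      simp
  rw [h4]
  apply Subgroup.mul_mem
  · apply Subgroup.mul_mem
    · apply Subgroup.mem_sup_left
      refine Subgroup.mem_prod.mpr ⟨Subgroup.mem_bot.mpr rfl, ?_⟩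
      exact Subgroup.mul_mem _ (Subgroup.inv_mem _ hmZ) hw2
    · exact Subgroup.mem_sup_right ⟨m, rfl⟩
  · exact Subgroup.mem_sup_right ⟨y, rfl⟩


/-- **General Tate step.** -/
theorem tate_step_general [Finite G] [Finite S] {p : ℕ} [Fact p.Prime] (hidx : ¬ p ∣ P.index)
    (hM : M = Cfsg.pResidual p G) (hS : IsPGroup p S)
    (hZc : Z ≤ center S) (hZp : ∀ z ∈ Z, z ^ p = 1)
    (h1 : ∀ y : P, (y : G) ∈ M → σ (Subgroup.inclusion hPV y) ∈ Z)
    (h2 : ∀ y : P, (y : G) ∈ M → Subgroup.inclusion hPV y ∈ _root_.commutator V) :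
    ∀ y : P, (y : G) ∈ M → σ (Subgroup.inclusion hPV y) = 1 := by
  have hp : p.Prime := Fact.out
  haveI hMn : M.Normal := by rw [hM]; exact Cfsg.Agent.Helper22.pResidual_normal
  set Gt := aG P V M hPV σ Z with hGt
  set K' : Subgroup Gt := (aK (G := G) Z).subgroupOf Gt with hK'
  set A' : Subgroup Gt := (aA P V hPV σ).subgroupOf Gt with hA'
  set U' : Subgroup Gt := (aK (G := G) Z ⊔ aA P V hPV σ).subgroupOf Gt with hU'
  have hKc : K' ≤ center Gt := by
    intro z hz
    rw [mem_center_iff]; intro x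
    have := mem_center_iff.mp (aK_le_center hZc (mem_subgroupOf.mp hz)) (x : G × S)
    exact Subtype.ext this
  have hKp : ∀ k ∈ K', k ^ p = 1 := by
    intro k hk
    apply Subtype.ext
    have := aK_pow hZp _ (mem_subgroupOf.mp hk)
    simpa using this
  haveI : K'.Normal := normal_of_le_center' K' hKc
  haveI : IsMulCommutative K' :=
    ⟨⟨fun a b => by
      apply Subtype.ext
      rw [Subgroup.coe_mul, Subgroup.coe_mul]
      exact mem_center_iff.mp (hKc b.2) a⟩⟩
  have hKpg : IsPGroup p K' := by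
    intro k
    refine ⟨1, ?_⟩
    rw [pow_one]
    apply Subtype.ext
    have := hKp k k.2
    simpa using this
  have hnd : ¬ p ∣ U'.index := by
    have d1 : (aK (G := G) Z ⊔ aA P V hPV σ).relIndex Gt ∣
        (Gt ⊓ P.comap (MonoidHom.fst G S)).relIndex Gt :=
      relIndex_dvd_of_le_left Gt (aG_inf_comap_le hZc h1)
    have d2 : (Gt ⊓ P.comap (MonoidHom.fst G S)).relIndex Gt =
        (P.comap (MonoidHom.fst G S)).relIndex Gt := by
      rw [inf_comm, inf_relIndex_right]
    have d3 : (P.comap (MonoidHom.fst G S)).relIndex Gt =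
        P.relIndex (Gt.map (MonoidHom.fst G S)) := relIndex_comap _ _ _
    have d4 : P ≤ Gt.map (MonoidHom.fst G S) := by
      intro y hy
      exact ⟨aDiag P V hPV σ ⟨y, hy⟩, aA_le_aG ⟨⟨y, hy⟩, rfl⟩, rfl⟩
    have d5 : P.relIndex (Gt.map (MonoidHom.fst G S)) ∣ P.index :=
      Dvd.intro _ (relIndex_mul_index d4)
    intro hdvd
    apply hidx
    refine dvd_trans hdvd (dvd_trans ?_ d5)
    rw [← d3, ← d2]
    exact d1
  have hcop : (Nat.card K').Coprime U'.index := by
    obtain ⟨n, hn⟩ := hKpg.exists_card_eq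
    rw [hn]
    exact Nat.Coprime.pow_left n ((Nat.Prime.coprime_iff_not_dvd hp).mpr hnd)
  have hKU : K' ≤ U' := by
    intro x hx
    exact mem_subgroupOf.mpr (mem_sup_left (mem_subgroupOf.mp hx))
  have hAK : A' ⊓ K' = ⊥ := by
    rw [eq_bot_iff]
    rintro x ⟨h1, h2⟩
    have : (x : G × S) ∈ aA P V hPV σ ⊓ aK (G := G) Z :=
      ⟨mem_subgroupOf.mp h1, mem_subgroupOf.mp h2⟩
    rw [aA_inf_aK, mem_bot] at this
    rw [mem_bot]
    exact Subtype.ext this
  have hKA : K' ⊔ A' = U' := (subgroupOf_sup aK_le_aG aA_le_aG).symm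
  obtain ⟨H', hH'⟩ := gaschutz_exists K' U' hKU hcop A' hAK hKA
  have hb := mem_of_coprime_of_central_complement K' H' hKc hKp hH'
  -- p'-elements of `V` map into `M × 1`
  have hV1 : ∀ v : V, (orderOf v).Coprime p → aDiagV V σ v ∈ Gt := by
    intro v hv
    apply mem_sup_left
    have hσ : σ v = 1 := by
      obtain ⟨k, hk⟩ := hS (σ v)
      have d1 : orderOf (σ v) ∣ p ^ k := orderOf_dvd_of_pow_eq_one hk
      have d2 : orderOf (σ v) ∣ orderOf v := orderOf_map_dvd _ v
      exact orderOf_eq_one_iff.mp (Nat.eq_one_of_dvd_coprimes (Nat.Coprime.pow_right k hv) d2 d1)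
    refine mem_prod.mpr ⟨?_, ?_⟩
    · change (v : G) ∈ M
      rw [hM]
      apply Subgroup.subset_closure
      change (orderOf (v : G)).Coprime p
      rw [Subgroup.orderOf_coe]
      exact hv
    · change σ v ∈ Z
      rw [hσ]; exact Z.one_mem
  have hVall : ∀ v : V, aDiagV V σ v ∈ Gt := by
    have hle : (P.subgroupOf V) ⊔ Cfsg.pResidual p V ≤ Gt.comap (aDiagV V σ) := by
      apply sup_le
      · intro v hv
        rw [mem_comap]
        apply aA_le_aG
        refine ⟨⟨v, mem_subgroupOf.mp hv⟩, ?_⟩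
        rfl
      · unfold Cfsg.pResidual
        rw [closure_le]
        intro v hv
        exact hV1 v hv
    have htop : (P.subgroupOf V) ⊔ Cfsg.pResidual p V = ⊤ := by
      apply Cfsg.Agent.Helper22.sup_pResidual_eq_top
      intro hd
      apply hidx
      have : (P.subgroupOf V).index ∣ P.index := by
        change P.relIndex V ∣ P.index
        exact Subgroup.relIndex_dvd_index_of_le hPV
      exact dvd_trans hd this
    intro v
    have : v ∈ (P.subgroupOf V) ⊔ Cfsg.pResidual p V := by rw [htop]; exact mem_top v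
    exact hle this
  set f : V →* Gt := (aDiagV V σ).codRestrict Gt hVall with hf
  have hcm := commutator_le_comap_of_central_complement K' H' hKc hH' f
  set j : G →* G × S := MonoidHom.inl G S with hj
  have hjG : ∀ m ∈ M, j m ∈ Gt := by
    intro m hm
    apply mem_sup_left
    exact mem_prod.mpr ⟨hm, Subgroup.one_mem _⟩
  have hMH : M ≤ (H'.map Gt.subtype).comap j := by
    have hMc : M = Subgroup.closure {g : G | (orderOf g).Coprime p} := hM
    rw [hMc, closure_le]
    intro g hgc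
    have hgM : g ∈ M := by rw [hMc]; exact Subgroup.subset_closure hgc
    refine ⟨⟨j g, hjG g hgM⟩, ?_, rfl⟩
    apply hb
    have hjinj : Function.Injective j := fun a b hab => by
      have := congrArg Prod.fst hab
      simpa [hj] using this
    rw [Subgroup.orderOf_mk, orderOf_injective j hjinj g]
    exact hgc
  intro w hwM
  obtain ⟨h₁, hh₁, hh₁j⟩ := hMH hwM
  have hfw : f (Subgroup.inclusion hPV w) ∈ H' := hcm (h2 w hwM)
  have ht : h₁⁻¹ * f (Subgroup.inclusion hPV w) ∈ H' := H'.mul_mem (H'.inv_mem hh₁) hfw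
  have hval : ((h₁⁻¹ * f (Subgroup.inclusion hPV w) : Gt) : G × S) =
      ((1 : G), σ (Subgroup.inclusion hPV w)) := by
    have e1 : (h₁ : G × S) = j w := hh₁j
    rw [Subgroup.coe_mul, Subgroup.coe_inv, e1]
    ext
    · simp [hj, hf, aDiagV]
    · simp [hj, hf, aDiagV]
  have htK : h₁⁻¹ * f (Subgroup.inclusion hPV w) ∈ K' := by
    rw [hK', mem_subgroupOf, hval]
    exact mem_prod.mpr ⟨Subgroup.mem_bot.mpr rfl, h1 w hwM⟩
  have h3 : K' ⊓ H' = ⊥ := disjoint_iff.mp hH'.disjoint
  have h4 : h₁⁻¹ * f (Subgroup.inclusion hPV w) ∈ K' ⊓ H' := ⟨htK, ht⟩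
  rw [h3, mem_bot] at h4
  have h5 := congrArg Subtype.val h4
  rw [hval] at h5
  have := congrArg Prod.snd h5
  simpa using this

end AbstractStep


section GeneralMain

theorem map_mk_le_center {T : Type*} [Group T] (R R' : Subgroup T) [R'.Normal]
    (hc : ⁅R, (⊤ : Subgroup T)⁆ ≤ R') : R.map (QuotientGroup.mk' R') ≤ center (T ⧸ R') := by
  rintro v ⟨r, hr, rfl⟩
  rw [Subgroup.mem_center_iff]
  intro x
  obtain ⟨y, rfl⟩ := QuotientGroup.mk'_surjective R' x
  rw [← map_mul, ← map_mul]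
  apply (QuotientGroup.eq).mpr
  have h2 : (y * r)⁻¹ * (r * y) = ⁅r⁻¹, y⁻¹⁆ := by
    rw [commutatorElement_def]; group
  rw [h2]
  apply hc
  exact Subgroup.commutator_mem_commutator (R.inv_mem hr) (mem_top _)

theorem map_mk_pow {T : Type*} [Group T] (R R' : Subgroup T) [R'.Normal] {p : ℕ}
    (hpow : ∀ r ∈ R, r ^ p ∈ R') : ∀ v ∈ R.map (QuotientGroup.mk' R'), v ^ p = 1 := by
  rintro v ⟨r, hr, rfl⟩
  rw [← map_pow]
  exact (QuotientGroup.eq_one_iff _).mpr (hpow r hr)

variable {G : Type*} [Group G] [Finite G] {p : ℕ} [Fact p.Prime]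

/-- **Tate's theorem, general form.** If `P ≤ V ≤ G` with `P` a Sylow `p`-subgroup of `G` and
`P ∩ O^p(G) ≤ V'`, then `P ∩ O^p(G) ≤ O^p(V)`. -/
theorem tate_general (P : Sylow p G) (V : Subgroup G) (hPV : (P : Subgroup G) ≤ V)
    (h : (P : Subgroup G) ⊓ Cfsg.pResidual p G ≤ ⁅V, V⁆) :
    (P : Subgroup G) ⊓ Cfsg.pResidual p G ≤ (Cfsg.pResidual p V).map V.subtype := by
  classical
  haveI hLn : (Cfsg.pResidual p V).Normal := Cfsg.Agent.Helper22.pResidual_normal
  have hT : IsPGroup p (V ⧸ Cfsg.pResidual p V) := Cfsg.Agent.Helper22.isPGroup_quotient_pResidual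
  set τ : V →* V ⧸ Cfsg.pResidual p V := QuotientGroup.mk' (Cfsg.pResidual p V) with hτ
  set M : Subgroup G := Cfsg.pResidual p G with hM
  let S : Set (Subgroup (V ⧸ Cfsg.pResidual p V)) :=
    {R | R.Normal ∧ ∀ y : (P : Subgroup G), (y : G) ∈ M → τ (Subgroup.inclusion hPV y) ∈ R}
  have hSne : S.Nonempty := ⟨⊤, inferInstance, fun y _ => mem_top _⟩
  have hSfin : S.Finite := Set.toFinite S
  obtain ⟨R, hRS, hRmin⟩ := hSfin.exists_minimal hSne
  obtain ⟨hRn, hRC⟩ := hRS
  by_cases hR : R = ⊥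
  · rintro y ⟨hyP, hyM⟩
    have := hRC ⟨y, hyP⟩ hyM
    rw [hR, mem_bot, hτ, QuotientGroup.mk'_apply, QuotientGroup.eq_one_iff] at this
    exact ⟨_, this, rfl⟩
  · exfalso
    obtain ⟨R', hR'n, hlt, hc, hpow⟩ := exists_central_step hT R hR
    have hstep := tate_step_general (P := (P : Subgroup G)) (V := V) (M := M) (hPV := hPV)
      (σ := (QuotientGroup.mk' R').comp τ) (Z := R.map (QuotientGroup.mk' R'))
      P.not_dvd_index rfl (hT.to_quotient R') (map_mk_le_center R R' hc) (map_mk_pow R R' hpow)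
      (fun y hy => ⟨_, hRC y hy, rfl⟩)
      (fun y hy => by
        have h1 : (y : G) ∈ ⁅V, V⁆ := h ⟨y.2, hy⟩
        rw [← Subgroup.map_subtype_commutator] at h1
        obtain ⟨v, hv, hvy⟩ := h1
        have : v = Subgroup.inclusion hPV y := Subtype.ext hvy
        rw [← this]
        exact hv)
    have hR'S : R' ∈ S := by
      refine ⟨hR'n, fun y hy => ?_⟩
      have := hstep y hy
      rw [MonoidHom.comp_apply, QuotientGroup.mk'_apply, QuotientGroup.eq_one_iff] at this
      exact this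
    have := hRmin hR'S hlt.le
    exact absurd hlt (not_lt_of_ge this)

end GeneralMain

end Cfsg.Agent.Helper1
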