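import Mathlib
import Cfsg.Agent.Lib.Helper4.GTAbstract
import Cfsg.Agent.Lib.Helper4.ZJElementary
import Cfsg.Agent.Lib.Helper27.ThompsonQuot
import Cfsg.Agent.Lib.Helper7.Frattini

set_option autoImplicit false

/-! Thompson's normal `p`-complement theorem: basic transport lemmas for the hypothesis
"`N_G(J(P))` and `C_G(Z(P))` have normal `p`-complements". -/

namespace Cfsg.Agent.Helper1.TNPC

universe u

open Cfsg Cfsg.Agent.Helper10 Cfsg.Agent.Helper4.NPCB

/-- The centre of a subgroup, inside the ambient group. -/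
def zOf {X : Type u} [Group X] (R : Subgroup X) : Subgroup X :=
  R ⊓ Subgroup.centralizer (R : Set X)

/-- the hypothesis of Thompson's theorem, for a subgroup `R` of `X` -/
def Hyp (p : ℕ) (X : Type u) [Group X] (R : Subgroup X) : Prop :=
  NPC p ↥(Subgroup.normalizer (Cfsg.thompsonSubgroupOf p R : Set X)) ∧
  NPC p ↥(Subgroup.centralizer (zOf R : Set X))

section basic

variable {X : Type u} [Group X] {Y : Type u} [Group Y]

theorem mem_zOf {R : Subgroup X} {x : X} : x ∈ zOf R ↔ x ∈ R ∧ ∀ r ∈ R, r * x = x * r := by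
  unfold zOf
  rw [Subgroup.mem_inf, Subgroup.mem_centralizer_iff]
  rfl

theorem zOf_le (R : Subgroup X) : zOf R ≤ R := inf_le_left

theorem jOf_le (p : ℕ) (R : Subgroup X) : Cfsg.thompsonSubgroupOf p R ≤ R :=
  Subgroup.map_subtype_le _

theorem zOf_map (f : X →* Y) (R : Subgroup X) (hf : Set.InjOn f R) :
    zOf (R.map f) = (zOf R).map f := by
  apply le_antisymm
  · intro y hy
    obtain ⟨⟨x, hx, rfl⟩, hy2⟩ := mem_zOf.mp hy
    refine ⟨x, mem_zOf.mpr ⟨hx, ?_⟩, rfl⟩
    intro r hr
    have h1 := hy2 (f r) ⟨r, hr, rfl⟩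
    rw [← map_mul, ← map_mul] at h1
    exact hf (R.mul_mem hr hx) (R.mul_mem hx hr) h1
  · rintro _ ⟨x, hx, rfl⟩
    obtain ⟨hx1, hx2⟩ := mem_zOf.mp hx
    refine mem_zOf.mpr ⟨⟨x, hx1, rfl⟩, ?_⟩
    rintro _ ⟨r, hr, rfl⟩
    rw [← map_mul, ← map_mul, hx2 r hr]

theorem jOf_map (p : ℕ) (f : X →* Y) (R : Subgroup X) (hf : Set.InjOn f R) :
    Cfsg.thompsonSubgroupOf p (R.map f) = (Cfsg.thompsonSubgroupOf p R).map f := by
  refine (Cfsg.Agent.Helper27.map_thompsonSubgroupOf f R ?_ p).symm
  intro x hx hx1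
  exact hf hx R.one_mem (by rw [hx1, map_one])

theorem normalizer_le_of_map (W : Subgroup X → Subgroup X)
    (hW : ∀ (g : X) (R : Subgroup X), W (R.map (MulAut.conj g).toMonoidHom) =
      (W R).map (MulAut.conj g).toMonoidHom) (R : Subgroup X) :
    Subgroup.normalizer (R : Set X) ≤ Subgroup.normalizer (W R : Set X) := by
  intro n hn
  rw [Subgroup.mem_normalizer_iff_map_conj_eq] at hn ⊢
  have h1 : R.map (MulAut.conj n).toMonoidHom = R := hn
  have h2 := hW n R
  rw [h1] at h2
  exact h2.symm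

theorem normalizer_le_zOf (R : Subgroup X) :
    Subgroup.normalizer (R : Set X) ≤ Subgroup.normalizer (zOf R : Set X) :=
  normalizer_le_of_map zOf (fun g R => zOf_map _ R (MulAut.conj g).injective.injOn) R

theorem normalizer_le_jOf (p : ℕ) (R : Subgroup X) :
    Subgroup.normalizer (R : Set X) ≤
      Subgroup.normalizer (Cfsg.thompsonSubgroupOf p R : Set X) :=
  normalizer_le_of_map (Cfsg.thompsonSubgroupOf p)
    (fun g R => jOf_map p _ R (MulAut.conj g).injective.injOn) R

theorem centralizer_map_equiv (φ : X ≃* Y) (A : Subgroup X) :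
    Subgroup.centralizer ((A.map φ.toMonoidHom : Subgroup Y) : Set Y) =
      (Subgroup.centralizer (A : Set X)).map φ.toMonoidHom := by
  ext y
  constructor
  · intro hy
    refine ⟨φ.symm y, ?_, by simp⟩
    show φ.symm y ∈ Subgroup.centralizer (A : Set X)
    rw [Subgroup.mem_centralizer_iff]
    intro a ha
    apply φ.injective
    have := Subgroup.mem_centralizer_iff.mp hy (φ a) ⟨a, ha, rfl⟩
    simpa using this
  · rintro ⟨x, hx, rfl⟩
    rw [Subgroup.mem_centralizer_iff]
    rintro _ ⟨a, ha, rfl⟩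
    have := Subgroup.mem_centralizer_iff.mp hx a ha
    show φ a * φ x = φ x * φ a
    rw [← map_mul, ← map_mul, this]

theorem zOf_ne_bot [Finite X] {p : ℕ} [Fact p.Prime] (R : Subgroup X) (hR : IsPGroup p R)
    (hR1 : R ≠ ⊥) : zOf R ≠ ⊥ := by
  have : Nontrivial ↥R := (Subgroup.nontrivial_iff_ne_bot R).mpr hR1
  have hc := hR.center_nontrivial
  obtain ⟨⟨z, hz⟩, hz1⟩ := (Subgroup.ne_bot_iff_exists_ne_one
    (H := Subgroup.center ↥R)).mp ((Subgroup.nontrivial_iff_ne_bot _).mp hc)
  intro h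
  have hmem : (z : X) ∈ zOf R := by
    refine mem_zOf.mpr ⟨z.2, ?_⟩
    intro r hr
    have := Subgroup.mem_center_iff.mp hz ⟨r, hr⟩
    exact congrArg Subtype.val this
  rw [h, Subgroup.mem_bot] at hmem
  apply hz1
  apply Subtype.ext
  apply Subtype.ext
  exact hmem

theorem jOf_ne_bot [Finite X] {p : ℕ} [hp : Fact p.Prime] (R : Subgroup X) (hR : IsPGroup p R)
    (hR1 : R ≠ ⊥) : Cfsg.thompsonSubgroupOf p R ≠ ⊥ := by
  have : Nontrivial ↥R := (Subgroup.nontrivial_iff_ne_bot R).mpr hR1
  -- an element of order `p`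
  have hdvd : p ∣ Nat.card ↥R := by
    obtain ⟨k, hk⟩ := IsPGroup.iff_card.mp hR
    have hk0 : k ≠ 0 := by
      rintro rfl
      rw [pow_zero] at hk
      have : 1 < Nat.card ↥R := Finite.one_lt_card
      omega
    rw [hk]; exact dvd_pow_self p hk0
  obtain ⟨x, hx⟩ := exists_prime_orderOf_dvd_card' p hdvd
  obtain ⟨A, hA⟩ := Cfsg.Agent.Helper4.ZJ.famE_nonempty (p := p) R
  obtain ⟨hAR, hAe, hAmax⟩ := Cfsg.Agent.Helper4.ZJ.mem_famE.mp hA
  have hxp : (x : X) ^ p = 1 := by
    have : x ^ p = 1 := by rw [← hx]; exact pow_orderOf_eq_one x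
    simpa using congrArg Subtype.val this
  have hz : Cfsg.IsElementaryAbelian p (Subgroup.zpowers (x : X)) :=
    Cfsg.Agent.Helper3.isElementaryAbelian_zpowers hxp
  have hle : Subgroup.zpowers (x : X) ≤ R := Subgroup.zpowers_le.mpr x.2
  have hcard := hAmax _ hle hz
  have hcz : Nat.card (Subgroup.zpowers (x : X)) = p := by
    rw [Nat.card_zpowers, Subgroup.orderOf_coe, hx]
  intro h
  have hAJ : A ≤ Cfsg.thompsonSubgroupOf p R := Cfsg.Agent.Helper4.ZJ.le_thompsonSubgroupOf hA
  rw [h, le_bot_iff] at hAJ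
  rw [hAJ, Subgroup.card_bot, hcz] at hcard
  exact absurd hcard (by have := hp.out.one_lt; omega)

end basic

section transport

variable {G : Type u} [Group G] [Finite G] {p : ℕ} [hpp : Fact p.Prime]

theorem Hyp.conj {R : Subgroup G} (h : Hyp p G R) (g : G) :
    Hyp p G (R.map (MulAut.conj g).toMonoidHom) := by
  obtain ⟨h1, h2⟩ := h
  constructor
  · rw [jOf_map p _ R (MulAut.conj g).injective.injOn, ← Subgroup.map_equiv_normalizer_eq]
    exact npc_map_conj _ g h1
  · rw [zOf_map _ R (MulAut.conj g).injective.injOn, centralizer_map_equiv]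
    exact npc_map_conj _ g h2

theorem Hyp.sylow_conj (P : Sylow p G) (h : Hyp p G (P : Subgroup G)) (P' : Sylow p G) :
    Hyp p G (P' : Subgroup G) := by
  obtain ⟨g, hg⟩ := MulAction.exists_smul_eq G P P'
  have h1 : (P' : Subgroup G) = (P : Subgroup G).map (MulAut.conj g).toMonoidHom := by
    rw [← hg]; rfl
  rw [h1]
  exact h.conj g

theorem Hyp.of_map_subtype (L : Subgroup G) (S : Subgroup ↥L)
    (h : Hyp p G (S.map L.subtype)) : Hyp p ↥L S := by
  obtain ⟨h1, h2⟩ := h
  have hinj : Set.InjOn L.subtype (S : Set ↥L) := (Subgroup.subtype_injective L).injOn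
  constructor
  · rw [jOf_map p L.subtype S hinj] at h1
    let f : ↥(Subgroup.normalizer (Cfsg.thompsonSubgroupOf p S : Set ↥L)) →*
        ↥(Subgroup.normalizer
          (((Cfsg.thompsonSubgroupOf p S).map L.subtype : Subgroup G) : Set G)) :=
      (L.subtype.comp (Subgroup.normalizer
        (Cfsg.thompsonSubgroupOf p S : Set ↥L)).subtype).codRestrict _
        (fun x => Subgroup.le_normalizer_map L.subtype ⟨x, x.2, rfl⟩)
    have hf : Function.Injective f := by
      intro x y hxy
      have := congrArg Subtype.val hxy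
      exact Subtype.ext (Subtype.ext this)
    exact npc_of_injective f hf h1
  · rw [zOf_map L.subtype S hinj] at h2
    let f : ↥(Subgroup.centralizer (zOf S : Set ↥L)) →*
        ↥(Subgroup.centralizer (((zOf S).map L.subtype : Subgroup G) : Set G)) :=
      (L.subtype.comp (Subgroup.centralizer (zOf S : Set ↥L)).subtype).codRestrict _
        (fun x => by
          rw [Subgroup.mem_centralizer_iff]
          rintro _ ⟨z, hz, rfl⟩
          have := Subgroup.mem_centralizer_iff.mp x.2 z hz
          exact congrArg Subtype.val this)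
    have hf : Function.Injective f := by
      intro x y hxy
      have := congrArg Subtype.val hxy
      exact Subtype.ext (Subtype.ext this)
    exact npc_of_injective f hf h2

theorem Hyp.quotient (K : Subgroup G) [K.Normal] (hK : (Nat.card K).Coprime p)
    {R : Subgroup G} (hR : IsPGroup p R) (h : Hyp p G R) :
    Hyp p (G ⧸ K) (R.map (QuotientGroup.mk' K)) := by
  obtain ⟨h1, h2⟩ := h
  have hinj := Cfsg.Agent.S0667.injOn_mk' hR hK
  constructor
  · rw [jOf_map p _ R hinj,
      Cfsg.Agent.Helper7.normalizer_map_mk'_eq (hR.to_le (jOf_le p R)) hK]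
    exact npc_of_surjective ((QuotientGroup.mk' K).subgroupMap _)
      ((QuotientGroup.mk' K).subgroupMap_surjective _) h1
  · rw [zOf_map _ R hinj,
      Cfsg.Agent.Helper7.centralizer_map_mk'_eq (hR.to_le (zOf_le R)) hK]
    exact npc_of_surjective ((QuotientGroup.mk' K).subgroupMap _)
      ((QuotientGroup.mk' K).subgroupMap_surjective _) h2

end transport

end Cfsg.Agent.Helper1.TNPC
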