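import Mathlib
import Cfsg.Agent.Lib.Helper1.ThompsonNPCBasic

set_option autoImplicit false

/-! Thompson's normal `p`-complement theorem: the reduction steps for a minimal
counterexample (after Helper4's `GTAbstract`). -/

namespace Cfsg.Agent.Helper1.TNPC

universe u

open Cfsg Cfsg.Agent.Helper10 Cfsg.Agent.Helper4.NPCB Cfsg.Agent.Helper4.GT

variable {p : ℕ} [hpp : Fact p.Prime] {G : Type u} [Group G] [Finite G]

/-- the induction hypothesis, for subgroups -/
theorem npc_subgroup_of_ih {n : ℕ}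
    (ih : ∀ m < n, ∀ (X : Type u) [Group X] [Finite X], Nat.card X = m → ∀ P : Sylow p X,
      Hyp p X (P : Subgroup X) → NPC p X)
    (L : Subgroup G) (hL : Nat.card L < n) (S : Sylow p ↥L)
    (h : Hyp p G ((S : Subgroup ↥L).map L.subtype)) : NPC p ↥L :=
  ih _ hL ↥L rfl S (Hyp.of_map_subtype L _ h)

section minimal

variable {n : ℕ} (hcard : Nat.card G = n)
  (ih : ∀ m < n, ∀ (X : Type u) [Group X] [Finite X], Nat.card X = m → ∀ P : Sylow p X,
      Hyp p X (P : Subgroup X) → NPC p X)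
  (hall : ∀ P' : Sylow p G, Hyp p G (P' : Subgroup G))

include hcard ih hall

/-- Step 1: a bad subgroup with `ν` maximal is normal. -/
theorem stepA (H : Subgroup G) (hHp : IsPGroup p H) (hH1 : H ≠ ⊥)
    (hHbad : ¬ NPC p ↥(Subgroup.normalizer (H : Set G)))
    (hmax : ∀ Q : Subgroup G, IsPGroup p Q → Q ≠ ⊥ →
      ¬ NPC p ↥(Subgroup.normalizer (Q : Set G)) → nu p Q ≤ nu p H) :
    Subgroup.normalizer (H : Set G) = ⊤ := by
  by_contra hne
  set N := Subgroup.normalizer (H : Set G) with hN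
  have hNlt : Nat.card N < n := hcard ▸ card_lt_of_ne_top N hne
  obtain R : Sylow p ↥N := default
  set RG : Subgroup G := (R : Subgroup ↥N).map N.subtype with hRG
  have hRGp : IsPGroup p RG := R.isPGroup'.map _
  have hbad2 : ¬ Hyp p G RG :=
    fun h => hHbad (npc_subgroup_of_ih ih N hNlt R h)
  have hHR : H ≤ RG := by
    have : (H.subgroupOf N).Normal := Subgroup.normal_in_normalizer
    have h1 := Cfsg.Agent.Helper23.PSolv.normal_pGroup_le_sylow (H.subgroupOf N)
      hHp.comap_subtype R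
    intro x hx
    exact ⟨⟨x, Subgroup.le_normalizer hx⟩, h1 (Subgroup.mem_subgroupOf.mpr hx), rfl⟩
  have hRG1 : RG ≠ ⊥ := fun h => hH1 (eq_bot_iff.mpr (h ▸ hHR))
  have hcardR : Nat.card RG = p ^ nu p H := by
    rw [hRG, Subgroup.card_map_of_injective (Subgroup.subtype_injective _),
      R.card_eq_multiplicity]
    rfl
  obtain ⟨P₁, hP₁⟩ := hRGp.exists_le_sylow
  by_cases hle : (P₁ : Subgroup G) ≤ RG
  · have heq : RG = P₁ := le_antisymm hP₁ hle
    rw [heq] at hbad2
    exact hbad2 (hall P₁)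
  · obtain ⟨x, hxP, hxN, hxR⟩ :=
      Cfsg.Agent.S0658.exists_normalizer_growth (P₁ : Subgroup G) RG P₁.2 hP₁ hle
    set X : Subgroup G := (P₁ : Subgroup G) ⊓ Subgroup.normalizer (RG : Set G) with hX
    have hXp : IsPGroup p X := P₁.2.to_le inf_le_left
    have hlt : Nat.card RG < Nat.card X :=
      Cfsg.Agent.S0658.card_lt_of_lt (le_inf hP₁ Subgroup.le_normalizer)
        (Subgroup.mem_inf.2 ⟨hxP, hxN⟩) hxR
    -- the key: a bad characteristic subgroup of `RG` contradicts the maximality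
    have key : ∀ W : Subgroup G, W ≤ RG → W ≠ ⊥ →
        Subgroup.normalizer (RG : Set G) ≤ Subgroup.normalizer (W : Set G) →
        ¬ NPC p ↥(Subgroup.normalizer (W : Set G)) → False := by
      intro W hWR hW1 hWN hWbad
      have hWp : IsPGroup p W := hRGp.to_le hWR
      have hν := hmax _ hWp hW1 hWbad
      have hXN : X ≤ Subgroup.normalizer (W : Set G) := inf_le_right.trans hWN
      have h1 := card_le_of_le (Subgroup.normalizer (W : Set G)) X hXp hXN
      have h2 : p ^ nu p W ≤ p ^ nu p H := Nat.pow_le_pow_right hpp.out.pos hν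
      have h1' : Nat.card X ≤ p ^ nu p W := h1
      omega
    rcases not_and_or.mp hbad2 with hJ | hZ
    · exact key _ (jOf_le p RG) (jOf_ne_bot RG hRGp hRG1) (normalizer_le_jOf p RG) hJ
    · refine key _ (zOf_le RG) (zOf_ne_bot RG hRGp hRG1) (normalizer_le_zOf RG) ?_
      intro h
      exact hZ (npc_of_le (Subgroup.centralizer_le_normalizer _) h)

omit hall in
/-- Step 2: the quotient by `O_p(G)` has a normal `p`-complement. -/
theorem stepB (P : Sylow p G) (hO1 : pCore p G ≠ ⊥) (hPO : ¬ (P : Subgroup G) ≤ pCore p G)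
    (hb : ∀ Q : Subgroup G, IsPGroup p Q → (P : Subgroup G) ≤ Subgroup.normalizer (Q : Set G) →
      Nat.card (pCore p G) < Nat.card Q → NPC p ↥(Subgroup.normalizer (Q : Set G))) :
    NPC p (G ⧸ pCore p G) := by
  set O := pCore p G with hO
  have hsurj := QuotientGroup.mk'_surjective O
  have hlt : Nat.card (G ⧸ O) < n := hcard ▸ card_quotient_lt O hO1
  set Pb : Sylow p (G ⧸ O) := P.mapSurjective hsurj with hPb
  have hPbcoe : (Pb : Subgroup (G ⧸ O)) = (P : Subgroup G).map (QuotientGroup.mk' O) :=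
    Sylow.coe_mapSurjective hsurj P
  have hOP : O ≤ P := Cfsg.Agent.Helper23.PSolv.pCore_le_sylow P
  have hPb1 : (Pb : Subgroup (G ⧸ O)) ≠ ⊥ := by
    intro h
    rw [hPbcoe, Subgroup.map_eq_bot_iff, QuotientGroup.ker_mk'] at h
    exact hPO h
  have key : ∀ Wb : Subgroup (G ⧸ O), Wb ≠ ⊥ → Wb ≤ Pb →
      (Pb : Subgroup (G ⧸ O)) ≤ Subgroup.normalizer (Wb : Set (G ⧸ O)) →
      NPC p ↥(Subgroup.normalizer (Wb : Set (G ⧸ O))) := by
    intro Wb hWb1 hWbP hPbN
    set H₁ : Subgroup G := Wb.comap (QuotientGroup.mk' O) with hH₁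
    have hOH₁ : O ≤ H₁ := by
      intro x hx
      rw [hH₁, Subgroup.mem_comap]
      have : QuotientGroup.mk' O x = 1 := (QuotientGroup.eq_one_iff x).mpr hx
      rw [this]; exact Subgroup.one_mem _
    have hH₁P : H₁ ≤ P := by
      have h1 : H₁ ≤ ((P : Subgroup G).map (QuotientGroup.mk' O)).comap (QuotientGroup.mk' O) :=
        Subgroup.comap_mono (hPbcoe ▸ hWbP)
      rwa [QuotientGroup.comap_map_mk', sup_eq_right.mpr hOP] at h1
    have hH₁p : IsPGroup p H₁ := P.2.to_le hH₁P
    have hcardlt : Nat.card O < Nat.card H₁ := by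
      obtain ⟨⟨w, hw⟩, hw1⟩ := (Subgroup.ne_bot_iff_exists_ne_one (H := Wb)).mp hWb1
      obtain ⟨x, rfl⟩ := hsurj w
      refine Cfsg.Agent.S0658.card_lt_of_lt hOH₁ (x := x) hw ?_
      intro hxO
      apply hw1
      apply Subtype.ext
      exact (QuotientGroup.eq_one_iff x).mpr hxO
    have hPN : (P : Subgroup G) ≤ Subgroup.normalizer (H₁ : Set G) := by
      rw [hH₁, ← Subgroup.comap_normalizer_eq_of_surjective Wb hsurj]
      intro x hx
      rw [Subgroup.mem_comap]
      apply hPbN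
      rw [hPbcoe]
      exact Subgroup.mem_map_of_mem _ hx
    have hnpc := hb H₁ hH₁p hPN hcardlt
    have hNeq : Subgroup.normalizer (Wb : Set (G ⧸ O)) =
        (Subgroup.normalizer (H₁ : Set G)).map (QuotientGroup.mk' O) := by
      rw [hH₁, ← Subgroup.comap_normalizer_eq_of_surjective Wb hsurj,
        Subgroup.map_comap_eq_self_of_surjective hsurj]
    rw [hNeq]
    exact npc_of_surjective ((QuotientGroup.mk' O).subgroupMap _)
      ((QuotientGroup.mk' O).subgroupMap_surjective _) hnpc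
  apply ih _ hlt (G ⧸ O) rfl Pb
  constructor
  · exact key _ (jOf_ne_bot _ Pb.2 hPb1) (jOf_le p _)
      (Subgroup.le_normalizer.trans (normalizer_le_jOf p _))
  · exact npc_of_le (Subgroup.centralizer_le_normalizer _)
      (key _ (zOf_ne_bot _ Pb.2 hPb1) (zOf_le _)
        (Subgroup.le_normalizer.trans (normalizer_le_zOf _)))

/-- Step 3: `O_{p'}(G) = 1`. -/
theorem stepC (P : Sylow p G) (hnot : ¬ NPC p G) : pPrimeCore p G = ⊥ := by
  by_contra hK
  have hKc : (Nat.card (pPrimeCore p G)).Coprime p :=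
    Cfsg.Agent.Helper22.card_pPrimeCore_coprime p
  have hlt : Nat.card (G ⧸ pPrimeCore p G) < n := hcard ▸ card_quotient_lt _ hK
  have hsurj := QuotientGroup.mk'_surjective (pPrimeCore p G)
  apply hnot
  apply npc_of_quotient (pPrimeCore p G) hKc
  apply ih _ hlt (G ⧸ pPrimeCore p G) rfl (P.mapSurjective hsurj)
  rw [Sylow.coe_mapSurjective]
  exact Hyp.quotient _ hKc P.2 (hall P)

/-- Step 5: `P` is a maximal subgroup of `G`. -/
theorem stepE (P : Sylow p G)
    (hcent : Subgroup.centralizer (pCore p G : Set G) ≤ pCore p G) (L : Subgroup G)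
    (hPL : (P : Subgroup G) ≤ L) (hL : L ≠ ⊤) : L ≤ P := by
  have hLlt : Nat.card L < n := hcard ▸ card_lt_of_ne_top L hL
  set S : Sylow p ↥L := P.subtype hPL with hS
  have hSmap : (S : Subgroup ↥L).map L.subtype = P := by
    rw [hS, Sylow.coe_subtype, Subgroup.map_subgroupOf_eq_of_le hPL]
  have hnpc : NPC p ↥L := npc_subgroup_of_ih ih L hLlt S (by rw [hSmap]; exact hall P)
  have hOP : pCore p G ≤ P := Cfsg.Agent.Helper23.PSolv.pCore_le_sylow P
  have hOn : ((pCore p G).subgroupOf L).Normal :=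
    Subgroup.Normal.subgroupOf inferInstance L
  have hpg : IsPGroup p ↥L :=
    isPGroup_of_npc_of_centralizer_le hnpc ((pCore p G).subgroupOf L)
      ((Cfsg.Agent.Helper10.pCore_isPGroup p).comap_subtype) (by
        intro x hx
        rw [Subgroup.mem_subgroupOf]
        apply hcent
        rw [Subgroup.mem_centralizer_iff] at hx ⊢
        intro o ho
        have := hx ⟨o, hPL (hOP ho)⟩ (Subgroup.mem_subgroupOf.mpr ho)
        exact congrArg Subtype.val this)
  exact (P.is_maximal' (Q := L) hpg hPL).le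

end minimal

end Cfsg.Agent.Helper1.TNPC
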