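import Mathlib
import Cfsg.Agent.Lib.Helper1.ThompsonNPCSteps
import Cfsg.Agent.S0599
import Cfsg.Agent.S0606

set_option autoImplicit false

/-! Thompson's normal `p`-complement theorem: the final contradiction and the induction. -/

namespace Cfsg.Agent.Helper1.TNPC

universe u

open Cfsg Cfsg.Agent.Helper10 Cfsg.Agent.Helper4.NPCB Cfsg.Agent.Helper4.GT
open scoped commutatorElement

section coprime

variable {G : Type u} [Group G]

/-- A `p'`-element normalizing an abelian `p`-group `B` and centralizing `Ω₁(B)`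
centralizes `B`. -/
theorem centralizes_of_centralizes_omega {p : ℕ} [hpp : Fact p.Prime] (B : Subgroup G)
    (hBc : ∀ a ∈ B, ∀ b ∈ B, a * b = b * a) (x : G) (hx : ∀ b ∈ B, x * b * x⁻¹ ∈ B)
    (hxo : (orderOf x).Coprime p) (hxΩ : ∀ b ∈ B, b ^ p = 1 → x * b * x⁻¹ = b) :
    ∀ k : ℕ, ∀ b ∈ B, b ^ p ^ k = 1 → x * b * x⁻¹ = b := by
  intro k
  induction k with
  | zero =>
    intro b _ hb1
    rw [pow_zero, pow_one] at hb1
    rw [hb1]; group
  | succ k ih =>
    intro b hb hbk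
    have hbp : (b ^ p) ^ p ^ k = 1 := by rw [← pow_mul, ← pow_succ']; exact hbk
    have h1 : x * b ^ p * x⁻¹ = b ^ p := ih (b ^ p) (B.pow_mem hb p) hbp
    obtain ⟨z, hz⟩ : ∃ z, z = x * b * x⁻¹ * b⁻¹ := ⟨_, rfl⟩
    have hzB : z ∈ B := hz ▸ B.mul_mem (hx b hb) (B.inv_mem hb)
    have hcomm : Commute (x * b * x⁻¹) b⁻¹ := hBc _ (hx b hb) _ (B.inv_mem hb)
    have hzp : z ^ p = 1 := by
      rw [hz, hcomm.mul_pow, conj_pow, h1, inv_pow, mul_inv_cancel]
    have hxz : x * z * x⁻¹ = z := hxΩ z hzB hzp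
    have hxb : x * b * x⁻¹ = z * b := by rw [hz]; group
    -- iterate
    have hiter : ∀ m : ℕ, x ^ m * b * (x ^ m)⁻¹ = z ^ m * b := by
      intro m
      induction m with
      | zero => simp
      | succ m ihm =>
        have h2 : x ^ (m + 1) * b * (x ^ (m + 1))⁻¹ = x * (x ^ m * b * (x ^ m)⁻¹) * x⁻¹ := by
          rw [pow_succ']; group
        rw [h2, ihm]
        have h3 : x * (z ^ m * b) * x⁻¹ = (x * z * x⁻¹) ^ m * (x * b * x⁻¹) := by
          rw [conj_pow]; group
        rw [h3, hxz, hxb, pow_succ, mul_assoc]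
    have h4 := hiter (orderOf x)
    rw [pow_orderOf_eq_one] at h4
    have h5 : z ^ orderOf x = 1 := by
      have : b = z ^ orderOf x * b := by simpa using h4
      exact (mul_eq_right (a := z ^ orderOf x) (b := b)).mp this.symm
    have h6 : orderOf z = 1 :=
      Nat.eq_one_of_dvd_coprimes hxo (orderOf_dvd_of_pow_eq_one h5) (orderOf_dvd_of_pow_eq_one hzp)
    have h7 : z = 1 := orderOf_eq_one_iff.mp h6
    rw [hxb, h7, one_mul]

end coprime

section omega

variable {G : Type u} [Group G]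

/-- `Ω₁(Z(H))`, as a subgroup of the ambient group -/
def omegaZ (p : ℕ) (H : Subgroup G) : Subgroup G where
  carrier := {x | x ∈ zOf H ∧ x ^ p = 1}
  one_mem' := ⟨Subgroup.one_mem _, one_pow _⟩
  mul_mem' := by
    rintro a b ⟨ha, ha'⟩ ⟨hb, hb'⟩
    refine ⟨Subgroup.mul_mem _ ha hb, ?_⟩
    have hc : Commute a b := (mem_zOf.mp hb).2 a (mem_zOf.mp ha).1
    rw [hc.mul_pow, ha', hb', one_mul]
  inv_mem' := by
    rintro a ⟨ha, ha'⟩
    exact ⟨Subgroup.inv_mem _ ha, by rw [inv_pow, ha', inv_one]⟩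

theorem mem_omegaZ {p : ℕ} {H : Subgroup G} {x : G} :
    x ∈ omegaZ p H ↔ x ∈ zOf H ∧ x ^ p = 1 := Iff.rfl

theorem omegaZ_le_zOf (p : ℕ) (H : Subgroup G) : omegaZ p H ≤ zOf H := fun _ hx => hx.1

theorem zOf_normal (H : Subgroup G) [hH : H.Normal] : (zOf H).Normal := by
  rw [← Subgroup.normalizer_eq_top_iff, eq_top_iff]
  exact (Subgroup.normalizer_eq_top_iff.mpr hH).symm.le.trans (normalizer_le_zOf H)

theorem omegaZ_normal (p : ℕ) (H : Subgroup G) [hH : H.Normal] : (omegaZ p H).Normal := by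
  have hz := zOf_normal H
  constructor
  intro x hx g
  obtain ⟨hx1, hx2⟩ := hx
  exact ⟨hz.conj_mem x hx1 g, by rw [conj_pow, hx2]; group⟩

theorem omegaZ_isElementaryAbelian (p : ℕ) (H : Subgroup G) :
    Cfsg.IsElementaryAbelian p (omegaZ p H) := by
  refine ⟨⟨⟨?_⟩⟩, fun a ha => ha.2⟩
  rintro ⟨a, ha⟩ ⟨b, hb⟩
  apply Subtype.ext
  exact ((mem_zOf.mp hb.1).2 a (mem_zOf.mp ha.1).1)

end omega

section thompson

variable {G : Type u} [Group G] [Finite G] {p : ℕ}

/-- `J(H) = J(P)` whenever `J(P) ≤ H ≤ P`. -/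
theorem jOf_eq_of_le {H P : Subgroup G} (hHP : H ≤ P)
    (hJ : Cfsg.thompsonSubgroupOf p P ≤ H) :
    Cfsg.thompsonSubgroupOf p H = Cfsg.thompsonSubgroupOf p P := by
  obtain ⟨A, hA⟩ := Cfsg.Agent.Helper4.ZJ.famE_nonempty (p := p) P
  have hAH : A ≤ H := (Cfsg.Agent.Helper4.ZJ.le_thompsonSubgroupOf hA).trans hJ
  have hA' : A ∈ Cfsg.Agent.Helper4.ZJ.famE p H :=
    (Cfsg.Agent.Helper4.ZJ.famE_mono hHP hA hAH).1
  obtain ⟨-, hAe, hAmax⟩ := Cfsg.Agent.Helper4.ZJ.mem_famE.mp hA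
  have hfam : Cfsg.Agent.Helper4.ZJ.famE p H = Cfsg.Agent.Helper4.ZJ.famE p P := by
    ext B
    constructor
    · intro hB
      obtain ⟨hBH, hBe, hBmax⟩ := Cfsg.Agent.Helper4.ZJ.mem_famE.mp hB
      refine Cfsg.Agent.Helper4.ZJ.mem_famE.mpr ⟨hBH.trans hHP, hBe, fun A'' h1 h2 => ?_⟩
      exact (hAmax A'' h1 h2).trans (hBmax A hAH hAe)
    · intro hB
      have hBH : B ≤ H := (Cfsg.Agent.Helper4.ZJ.le_thompsonSubgroupOf hB).trans hJ
      exact (Cfsg.Agent.Helper4.ZJ.famE_mono hHP hB hBH).1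
  rw [Cfsg.Agent.Helper4.ZJ.thompsonSubgroupOf_eq, Cfsg.Agent.Helper4.ZJ.thompsonSubgroupOf_eq,
    hfam]

/-- A member of `famE p P`, for a Sylow subgroup `P`, is an elementary abelian subgroup of
largest order of the whole group. -/
theorem mem_max_of_mem_famE [hpp : Fact p.Prime] (P : Sylow p G) {A : Subgroup G}
    (hA : A ∈ Cfsg.Agent.Helper4.ZJ.famE p (P : Subgroup G)) :
    A ∈ Cfsg.maxElementaryAbelianSubgroups p G := by
  obtain ⟨-, hAe, hAmax⟩ := Cfsg.Agent.Helper4.ZJ.mem_famE.mp hA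
  obtain ⟨A₀, hA₀, hA₀P⟩ := Cfsg.Agent.Helper3.exists_max_le_sylow P
  refine ⟨hAe, fun B hB => ?_⟩
  exact (hA₀.2 B hB).trans (hAmax A₀ hA₀P hA₀.1)

end thompson

section final

variable {G : Type u} [Group G] [Finite G] {p : ℕ} [hpp : Fact p.Prime]

/-- The final contradiction for the minimal counterexample. -/
theorem final_contradiction (hp : p ≠ 2) (P : Sylow p G) (hnot : ¬ NPC p G)
    (hP : Hyp p G (P : Subgroup G))
    (hE : ∀ L : Subgroup G, (P : Subgroup G) ≤ L → L ≠ ⊤ → L ≤ P)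
    (hcent : Subgroup.centralizer (pCore p G : Set G) ≤ pCore p G)
    (M : Subgroup G) (st : Cfsg.Agent.Helper4.QS.Struc p G (pCore p G) M) : False := by
  have hst := Cfsg.Agent.Helper4.QS.stab_of_struc st hp
  set H := pCore p G with hH
  have hHn : H.Normal := st.hHn
  have hMn : M.Normal := st.hMn
  have hHp : IsPGroup p H := st.hHp
  have hHP : H ≤ P := Cfsg.Agent.Helper23.PSolv.pCore_le_sylow P
  -- `G` is not a `p`-group
  have hGp : ¬ IsPGroup p G := fun h => hnot (npc_of_isPGroup h)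
  have hPtop : ¬ (⊤ : Subgroup G) ≤ P := by
    intro h
    apply hGp
    have h1 := P.2
    rw [top_le_iff.mp h] at h1
    exact h1.of_equiv Subgroup.topEquiv
  -- `N_G(J(P)) = P`
  have hNJ : Subgroup.normalizer (Cfsg.thompsonSubgroupOf p (P : Subgroup G) : Set G) ≤ P := by
    apply hE _ (Subgroup.le_normalizer.trans (normalizer_le_jOf p _))
    intro h
    have h1 := hP.1
    rw [h] at h1
    exact hnot (npc_top_iff.mp h1)
  -- `C_G(Z(P)) = P`
  have hCZ : Subgroup.centralizer (zOf (P : Subgroup G) : Set G) ≤ P := by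
    apply hE
    · intro x hx
      rw [Subgroup.mem_centralizer_iff]
      intro z hz
      exact ((mem_zOf.mp hz).2 x hx).symm
    · intro h
      have h1 := hP.2
      rw [h] at h1
      exact hnot (npc_top_iff.mp h1)
  -- `M` is not a `p`-group
  have hMp : ¬ IsPGroup p M := by
    intro h
    apply hGp
    obtain ⟨k, hk⟩ := st.hidx
    obtain ⟨j, hj⟩ := IsPGroup.iff_card.mp h
    rw [IsPGroup.iff_card]
    refine ⟨j + k, ?_⟩
    rw [← M.card_mul_index, hj, hk, pow_add]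
  -- `Z(P) ≤ Z(H)`
  have hZPH : zOf (P : Subgroup G) ≤ zOf H := by
    intro z hz
    obtain ⟨hz1, hz2⟩ := mem_zOf.mp hz
    have hzH : z ∈ H := by
      apply hcent
      rw [Subgroup.mem_centralizer_iff]
      intro h hh
      exact hz2 h (hHP hh)
    exact mem_zOf.mpr ⟨hzH, fun r hr => hz2 r (hHP hr)⟩
  -- the module `V = Ω₁(Z(H))`
  set V := omegaZ p H with hV
  have hVn : V.Normal := omegaZ_normal p H
  have hVe : Cfsg.IsElementaryAbelian p V := omegaZ_isElementaryAbelian p H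
  have hVH : V ≤ H := (omegaZ_le_zOf p H).trans (zOf_le H)
  have hVp : IsPGroup p V := hHp.to_le hVH
  set C := Subgroup.centralizer (V : Set G) with hC
  have hCn : C.Normal := inferInstance
  have hHC : H ≤ C := by
    intro x hx
    rw [hC, Subgroup.mem_centralizer_iff]
    intro v hv
    exact ((mem_zOf.mp hv.1).2 x hx).symm
  have hzn : (zOf H).Normal := zOf_normal H
  -- `M ∩ C = H`
  have hMC : M ⊓ C = H := by
    rcases st.hchief (M ⊓ C) inferInstance (le_inf st.hHM hHC) inf_le_left with h | h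
    · exact h
    · exfalso
      have hMleC : M ≤ C := by rw [← h]; exact inf_le_right
      apply hMp
      rintro ⟨m, hm⟩
      obtain ⟨a, b, hb, hab⟩ := Nat.exists_eq_pow_mul_and_not_dvd (orderOf_pos m).ne' p
        hpp.out.ne_one
      have hxord : orderOf (m ^ p ^ a) = b := by
        rw [orderOf_pow_of_dvd (pow_ne_zero a hpp.out.ne_zero) (hab ▸ dvd_mul_right _ _), hab,
          Nat.mul_div_cancel_left _ (pow_pos hpp.out.pos a)]
      have hxo : (orderOf (m ^ p ^ a)).Coprime p := by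
        rw [hxord]
        exact ((Nat.Prime.coprime_iff_not_dvd hpp.out).mpr hb).symm
      have hxM : m ^ p ^ a ∈ M := M.pow_mem hm _
      have hxC : m ^ p ^ a ∈ C := hMleC hxM
      have hcen : ∀ b ∈ zOf H, (m ^ p ^ a) * b * (m ^ p ^ a)⁻¹ = b := by
        intro b hb
        obtain ⟨k, hk⟩ := hHp ⟨b, zOf_le H hb⟩
        have hk' : b ^ p ^ k = 1 := by simpa using congrArg Subtype.val hk
        refine centralizes_of_centralizes_omega (zOf H)
          (fun a ha b hb => (mem_zOf.mp hb).2 a (mem_zOf.mp ha).1) (m ^ p ^ a)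
          (fun b hb => hzn.conj_mem b hb _) hxo ?_ k b hb hk'
        intro v hv hvp
        have hvV : v ∈ V := ⟨hv, hvp⟩
        have h1 := Subgroup.mem_centralizer_iff.mp hxC v hvV
        rw [← h1]; group
      have hxCZ : m ^ p ^ a ∈ Subgroup.centralizer (zOf (P : Subgroup G) : Set G) := by
        rw [Subgroup.mem_centralizer_iff]
        intro z hz
        have h1 := hcen z (hZPH hz)
        calc z * m ^ p ^ a = (m ^ p ^ a * z * (m ^ p ^ a)⁻¹) * m ^ p ^ a := by rw [h1]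
          _ = m ^ p ^ a * z := by group
      have hxP : m ^ p ^ a ∈ (P : Subgroup G) := hCZ hxCZ
      obtain ⟨k, hk⟩ := P.2 ⟨m ^ p ^ a, hxP⟩
      have hk' : (m ^ p ^ a) ^ p ^ k = 1 := by simpa using congrArg Subtype.val hk
      have h2 : orderOf (m ^ p ^ a) ∣ p ^ k := orderOf_dvd_of_pow_eq_one hk'
      have h3 : orderOf (m ^ p ^ a) = 1 :=
        Nat.Coprime.eq_one_of_dvd (Nat.Coprime.pow_right k hxo) h2
      refine ⟨a, ?_⟩
      apply Subtype.ext
      simpa using orderOf_eq_one_iff.mp h3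
  -- `C = H`
  have hCM : C ≤ M := by
    intro g hg
    apply st.mem_of_centralizes g
    intro m hm
    rw [← hMC]
    refine Subgroup.mem_inf.mpr ⟨?_, ?_⟩
    · have : m * g * m⁻¹ * g⁻¹ = m * (g * m⁻¹ * g⁻¹) := by group
      rw [this]
      exact M.mul_mem hm (hMn.conj_mem _ (M.inv_mem hm) g)
    · exact C.mul_mem (hCn.conj_mem g hg m) (C.inv_mem hg)
  have hCH : C ≤ H := by
    intro g hg
    rw [← hMC]
    exact Subgroup.mem_inf.mpr ⟨hCM hg, hg⟩
  -- `O_p(G / C) = 1`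
  have hkey : ∀ a : G, (QuotientGroup.mk a : G ⧸ C) ∈ pCore p (G ⧸ C) → a ∈ C := by
    intro a ha
    set D : Subgroup G := (pCore p (G ⧸ C)).comap (QuotientGroup.mk' C) with hD
    have hDn : D.Normal := Subgroup.Normal.comap inferInstance _
    have hDp : IsPGroup p D := by
      apply IsPGroup.comap_of_ker_isPGroup (Cfsg.Agent.Helper10.pCore_isPGroup p)
      rw [QuotientGroup.ker_mk']
      exact hHp.to_le hCH
    exact hHC (st.hHmax D hDn hDp ha)
  -- a member of `famE p P` outside `H`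
  have hexA : ∃ A ∈ Cfsg.Agent.Helper4.ZJ.famE p (P : Subgroup G), ¬ A ≤ H := by
    by_contra hcon
    push Not at hcon
    have hJH : Cfsg.thompsonSubgroupOf p (P : Subgroup G) ≤ H :=
      Cfsg.Agent.Helper4.ZJ.thompsonSubgroupOf_le hcon
    have hJeq := jOf_eq_of_le (p := p) hHP hJH
    have h1 : Subgroup.normalizer (Cfsg.thompsonSubgroupOf p (P : Subgroup G) : Set G) = ⊤ := by
      rw [← hJeq, eq_top_iff, ← Subgroup.normalizer_eq_top_iff.mpr hHn]
      exact normalizer_le_jOf p H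
    rw [h1] at hNJ
    exact hPtop hNJ
  obtain ⟨A, hA, hAH⟩ := hexA
  have hAmax := mem_max_of_mem_famE P hA
  have hAe : Cfsg.IsElementaryAbelian p A := hAmax.1
  have hbest : Cfsg.IsBestOffenderOn p V A := Cfsg.Agent.S0606.result V hVe A hAmax
  have hAV : A ≤ Subgroup.normalizer (V : Set G) := by
    rw [Subgroup.normalizer_eq_top_iff.mpr hVn]; exact le_top
  obtain ⟨-, -, hb3⟩ := Cfsg.Agent.S0599.result V A hVe hAV hbest V le_rfl
  have hVA : ⁅V, A⁆ ≠ ⊥ := by
    intro h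
    rw [Subgroup.commutator_comm, Subgroup.commutator_eq_bot_iff_le_centralizer] at h
    exact hAH (h.trans hCH)
  apply hb3 hVA
  rw [Subgroup.commutator_comm, Subgroup.commutator_eq_bot_iff_le_centralizer]
  intro a ha
  obtain ⟨haA, haC⟩ := Subgroup.mem_inf.mp ha
  apply hkey a
  apply hst V hVp a ⟨1, by rw [pow_one]; exact hAe.2 a haA⟩
  rw [eq_bot_iff]
  have hz : Subgroup.zpowers a ≤ A ⊓ Subgroup.centralizer ((⁅V, A⁆ : Subgroup G) : Set G) :=
    Subgroup.zpowers_le.mpr ha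
  have h1 : ⁅⁅V, Subgroup.zpowers a⁆, Subgroup.zpowers a⁆ ≤
      ⁅⁅V, A⁆, A ⊓ Subgroup.centralizer ((⁅V, A⁆ : Subgroup G) : Set G)⁆ :=
    Subgroup.commutator_mono (Subgroup.commutator_mono le_rfl (hz.trans inf_le_left)) hz
  refine h1.trans ?_
  rw [le_bot_iff, Subgroup.commutator_comm, Subgroup.commutator_eq_bot_iff_le_centralizer]
  exact inf_le_right

end final

end Cfsg.Agent.Helper1.TNPC
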