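import Mathlib
import Cfsg.Agent.Lib.Helper1.ThompsonNPCFinal

set_option autoImplicit false

/-! Thompson's normal `p`-complement theorem (`p` odd): if `N_G(J(P))` and `C_G(Z(P))` have
normal `p`-complements, so does `G`. -/

namespace Cfsg.Agent.Helper1.TNPC

universe u

open Cfsg Cfsg.Agent.Helper10 Cfsg.Agent.Helper4.NPCB Cfsg.Agent.Helper4.GT

theorem thompson_aux {p : ℕ} [hpp : Fact p.Prime] (hp : p ≠ 2) :
    ∀ n : ℕ, ∀ (G : Type u) [Group G] [Finite G], Nat.card G = n →
    ∀ P : Sylow p G, Hyp p G (P : Subgroup G) → NPC p G := by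
  intro n
  induction n using Nat.strong_induction_on with
  | _ n ih =>
  intro G _ _ hcard P hP
  by_contra hnot
  have hall := Hyp.sylow_conj P hP
  -- the bad subgroups
  let Bad : Subgroup G → Prop := fun Q =>
    IsPGroup p Q ∧ Q ≠ ⊥ ∧ ¬ NPC p ↥(Subgroup.normalizer (Q : Set G))
  have hne : ∃ Q, Bad Q := by
    by_contra h
    push Not at h
    apply hnot
    apply npc_of_local
    intro Q hQ hQ1
    by_contra hb
    exact h Q ⟨hQ, hQ1, hb⟩
  let f : Subgroup G → ℕ := fun Q => nu p Q * (Nat.card G + 1) + Nat.card Q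
  obtain ⟨H, hHbad, hHmax⟩ := Set.exists_max_image {Q | Bad Q} f (Set.toFinite _) hne
  have hcardle : ∀ Q : Subgroup G, Nat.card Q ≤ Nat.card G := fun Q =>
    Subgroup.card_le_card_group Q
  have hmax1 : ∀ Q, Bad Q → nu p Q ≤ nu p H := by
    intro Q hQ
    by_contra hlt
    push Not at hlt
    have h1 : f Q ≤ f H := hHmax Q hQ
    have h2 : (nu p H + 1) * (Nat.card G + 1) ≤ nu p Q * (Nat.card G + 1) :=
      Nat.mul_le_mul_right _ hlt
    have h3 := hcardle H
    simp only [f] at h1
    rw [add_mul, one_mul] at h2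
    omega
  have hmax2 : ∀ Q, Bad Q → nu p Q = nu p H → Nat.card Q ≤ Nat.card H := by
    intro Q hQ heq
    have h1 : f Q ≤ f H := hHmax Q hQ
    simp only [f] at h1
    rw [heq] at h1
    omega
  have hHn : Subgroup.normalizer (H : Set G) = ⊤ :=
    stepA hcard ih hall H hHbad.1 hHbad.2.1 hHbad.2.2
      (fun Q h1 h2 h3 => hmax1 Q ⟨h1, h2, h3⟩)
  have hHnormal : H.Normal := Subgroup.normalizer_eq_top_iff.mp hHn
  have hHO : H ≤ pCore p G := le_sSup ⟨hHnormal, hHbad.1⟩
  have hO1 : pCore p G ≠ ⊥ := fun h => hHbad.2.1 (eq_bot_iff.mpr (h ▸ hHO))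
  have hνH : nu p H = (Nat.card G).factorization p := by
    unfold nu
    rw [hHn, Subgroup.card_top]
  have hOP : pCore p G ≤ P := Cfsg.Agent.Helper23.PSolv.pCore_le_sylow P
  have hPO : ¬ (P : Subgroup G) ≤ pCore p G := by
    intro h
    have hPeq : (P : Subgroup G) = pCore p G := le_antisymm h hOP
    have hPn : (P : Subgroup G).Normal := hPeq ▸ inferInstance
    have h1 : Subgroup.normalizer (Cfsg.thompsonSubgroupOf p (P : Subgroup G) : Set G) = ⊤ := by
      rw [eq_top_iff, ← Subgroup.normalizer_eq_top_iff.mpr hPn]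
      exact normalizer_le_jOf p _
    have h2 := hP.1
    rw [h1] at h2
    exact hnot (npc_top_iff.mp h2)
  have hb : ∀ Q : Subgroup G, IsPGroup p Q →
      (P : Subgroup G) ≤ Subgroup.normalizer (Q : Set G) →
      Nat.card (pCore p G) < Nat.card Q → NPC p ↥(Subgroup.normalizer (Q : Set G)) := by
    intro Q hQ hPQ hlt
    by_contra hbad
    have hQ1 : Q ≠ ⊥ := by
      rintro rfl
      rw [Subgroup.card_bot] at hlt
      have : 0 < Nat.card (pCore p G) := Nat.card_pos
      omega
    have hBadQ : Bad Q := ⟨hQ, hQ1, hbad⟩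
    have h1 := hmax1 Q hBadQ
    have h2 : nu p H ≤ nu p Q := by
      have h3 := card_le_of_le (Subgroup.normalizer (Q : Set G)) (P : Subgroup G) P.2 hPQ
      rw [P.card_eq_multiplicity] at h3
      rw [hνH]
      exact (Nat.pow_le_pow_iff_right hpp.out.one_lt).mp h3
    have h3 := hmax2 Q hBadQ (le_antisymm h1 h2)
    have h4 : Nat.card H ≤ Nat.card (pCore p G) := Subgroup.card_le_of_le hHO
    omega
  obtain ⟨Nb, hNbn, hNbc, k, hk⟩ := stepB hcard ih P hO1 hPO hb
  have hK := stepC hcard ih hall P hnot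
  have hcent := stepD hK Nb hNbn hNbc k hk
  have hE := stepE hcard ih hall P hcent
  have st := stepF hnot P hE Nb hNbn hNbc k hk
  exact final_contradiction hp P hnot hP hE hcent _ st

/-- **Thompson's normal `p`-complement theorem.** -/
theorem thompson {p : ℕ} [Fact p.Prime] (hp : p ≠ 2) {G : Type u} [Group G] [Finite G]
    (P : Sylow p G) (h : Hyp p G (P : Subgroup G)) : NPC p G :=
  thompson_aux hp _ G rfl P h

end Cfsg.Agent.Helper1.TNPC
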