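import Mathlib
import Cfsg.Agent.Lib.Helper1.Tate
import Cfsg.Agent.Lib.Helper22.MetacyclicCrit
import Cfsg.Agent.Lib.Helper22.PResidual
import Cfsg.Agent.Lib.Helper22.PPrimeCore
import Cfsg.Agent.Lib.Helper7.Cores

/-!
# Two-generated Sylow subgroups and Tate's theorem (helper1)

If `P` is a `p`-group with `|P : Φ(P)| ≤ p ^ 2` and `D ⊴ P` is not inside `Φ(P)`, then `P / D` is
cyclic.  Combined with Tate's theorem this gives strong restrictions on normal subgroups.
-/

set_option autoImplicit false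

namespace Cfsg.Agent.Helper1.TwoGenSyl

open scoped commutatorElement

section PGroup

variable {Q : Type*} [Group Q] [Finite Q] {p : ℕ} [hp : Fact p.Prime]

theorem exists_gen_of_not_le_frattini (hQ : IsPGroup p Q) (hidx : (frattini Q).index ≤ p ^ 2)
    (D : Subgroup Q) (hD : ¬ D ≤ frattini Q) : ∃ y : Q, D ⊔ Subgroup.zpowers y = ⊤ := by
  obtain ⟨x, hxD, hxΦ⟩ := SetLike.not_le_iff_exists.mp hD
  have hidx' : Nat.card Q ≤ p ^ 2 * Nat.card (frattini Q) := by
    rw [← Subgroup.card_mul_index (frattini Q), mul_comm]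
    exact Nat.mul_le_mul_right _ hidx
  obtain ⟨y, hy⟩ := Cfsg.Agent.Helper22.exists_two_gen hQ hidx' x hxΦ
  refine ⟨y, ?_⟩
  rw [eq_top_iff, ← hy, Subgroup.closure_le]
  intro z hz
  rcases hz with rfl | hz
  · exact (le_sup_left : D ≤ _) hxD
  · rw [Set.mem_singleton_iff] at hz
    rw [hz]
    exact (le_sup_right : Subgroup.zpowers y ≤ _) (Subgroup.mem_zpowers y)

omit [Finite Q] hp in
theorem commutator_le_of_sup_zpowers (D : Subgroup Q) [D.Normal] (y : Q)
    (h : D ⊔ Subgroup.zpowers y = ⊤) : commutator Q ≤ D := by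
  have hz : Subgroup.zpowers (QuotientGroup.mk y : Q ⧸ D) = ⊤ := by
    have h1 := congrArg (Subgroup.map (QuotientGroup.mk' D)) h
    rw [Subgroup.map_sup, QuotientGroup.map_mk'_self, bot_sup_eq, MonoidHom.map_zpowers,
      Subgroup.map_top_of_surjective _ (QuotientGroup.mk'_surjective D)] at h1
    exact h1
  have hgen : ∀ a : Q ⧸ D, ∃ i : ℤ, (QuotientGroup.mk y : Q ⧸ D) ^ i = a := by
    intro a
    have : a ∈ Subgroup.zpowers (QuotientGroup.mk y : Q ⧸ D) := by rw [hz]; trivial
    exact Subgroup.mem_zpowers_iff.mp this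
  rw [commutator_def, Subgroup.commutator_le]
  intro g₁ _ g₂ _
  rw [← QuotientGroup.eq_one_iff, ← QuotientGroup.mk'_apply, map_commutatorElement,
    commutatorElement_eq_one_iff_mul_comm]
  obtain ⟨i, hi⟩ := hgen (QuotientGroup.mk' D g₁)
  obtain ⟨j, hj⟩ := hgen (QuotientGroup.mk' D g₂)
  rw [← hi, ← hj, ← zpow_add, ← zpow_add, add_comm]

end PGroup

section Subgroup

variable {G : Type*} [Group G] [Finite G] {p : ℕ} [hp : Fact p.Prime]

/-- If `P` is a `p`-subgroup with `|P : Φ(P)| ≤ p ^ 2` normalising `A`, and `A ∩ P` is not inside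
`Φ(P)`, then `P' ≤ A` and `P = (A ∩ P)⟨y⟩` for some `y`. -/
theorem commutator_le_of_not_le_frattini (P : Subgroup G) (hP : IsPGroup p P)
    (hidx : (frattini ↥P).index ≤ p ^ 2) (A : Subgroup G)
    (hPA : P ≤ Subgroup.normalizer (A : Set G))
    (hT : ¬ A ⊓ P ≤ (frattini ↥P).map P.subtype) :
    ⁅P, P⁆ ≤ A ∧ ∃ y ∈ P, ∀ g ∈ P, ∃ a ∈ A ⊓ P, ∃ i : ℤ, g = a * y ^ i := by
  haveI hDn : (A.subgroupOf P).Normal := by
    constructor
    intro n hn g
    rw [Subgroup.mem_subgroupOf] at hn ⊢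
    exact (Subgroup.mem_normalizer_iff.mp (hPA g.2) n).mp hn
  have hD : ¬ A.subgroupOf P ≤ frattini ↥P := by
    intro h
    apply hT
    rintro z ⟨hzA, hzP⟩
    exact ⟨⟨z, hzP⟩, h (Subgroup.mem_subgroupOf.mpr hzA), rfl⟩
  obtain ⟨y, hy⟩ := exists_gen_of_not_le_frattini hP hidx (A.subgroupOf P) hD
  constructor
  · have h1 := commutator_le_of_sup_zpowers (A.subgroupOf P) y hy
    rw [← Subgroup.map_subtype_commutator]
    intro z hz
    obtain ⟨w, hw, rfl⟩ := hz
    exact Subgroup.mem_subgroupOf.mp (h1 hw)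
  · refine ⟨y, y.2, fun g hg => ?_⟩
    have hmem : (⟨g, hg⟩ : P) ∈ ((A.subgroupOf P ⊔ Subgroup.zpowers y : Subgroup P) : Set P) := by
      rw [hy]; trivial
    rw [Subgroup.normal_mul] at hmem
    obtain ⟨d, hd, z, hz, hdz⟩ := Set.mem_mul.mp hmem
    obtain ⟨i, hi⟩ := Subgroup.mem_zpowers_iff.mp hz
    refine ⟨d, ⟨Subgroup.mem_subgroupOf.mp hd, d.2⟩, i, ?_⟩
    have := congrArg Subtype.val hdz
    rw [← hi] at this
    simpa using this.symm

omit [Finite G] hp in
/-- A perfect finite group is generated by its `p'`-elements. -/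
theorem pResidual_eq_top_of_perfect {Y : Type*} [Group Y] [Finite Y] {p : ℕ} [Fact p.Prime]
    (hY : commutator Y = ⊤) : Cfsg.pResidual p Y = ⊤ := by
  haveI hn : (Cfsg.pResidual p Y).Normal := Cfsg.Agent.Helper22.pResidual_normal
  have hpq : IsPGroup p (Y ⧸ Cfsg.pResidual p Y) :=
    Cfsg.Agent.Helper22.isPGroup_quotient_pResidual
  haveI : Group.IsNilpotent (Y ⧸ Cfsg.pResidual p Y) := hpq.isNilpotent
  by_contra hne
  haveI : Nontrivial (Y ⧸ Cfsg.pResidual p Y) := by
    rw [QuotientGroup.nontrivial_iff]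
    exact hne
  have h1 := IsSolvable.commutator_lt_top_of_nontrivial (Y ⧸ Cfsg.pResidual p Y)
  have h2 : commutator (Y ⧸ Cfsg.pResidual p Y) = ⊤ := by
    rw [commutator_def, ← Subgroup.map_top_of_surjective _
      (QuotientGroup.mk'_surjective (Cfsg.pResidual p Y)), ← Subgroup.map_commutator,
      ← commutator_def, hY]
  rw [h2] at h1
  exact lt_irrefl _ h1

/-- Tate: a normal subgroup `N ≠ 1` meets `P` outside `Φ(P)`, when `O_{p'}(G) = 1` and `Φ(P)` is
core-free. -/
theorem not_le_frattini_of_normal (P : Sylow p G) (hcore : Cfsg.pPrimeCore p G = ⊥)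
    (hfrat : ((frattini ↥(P : Subgroup G)).map (P : Subgroup G).subtype).normalCore = ⊥)
    (N : Subgroup G) [hNn : N.Normal] (hN : N ≠ ⊥) :
    ¬ N ⊓ (P : Subgroup G) ≤ (frattini ↥(P : Subgroup G)).map (P : Subgroup G).subtype := by
  intro h
  have h1 := tate_pResidual P N h
  haveI hMn : ((Cfsg.pResidual p N).map N.subtype).Normal := map_pResidual_normal N
  have hcard : Nat.card ((Cfsg.pResidual p N).map N.subtype) = Nat.card (Cfsg.pResidual p N) :=
    Subgroup.card_map_of_injective (Subgroup.subtype_injective N)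
  have hcop : (Nat.card ((Cfsg.pResidual p N).map N.subtype)).Coprime p := by
    rw [hcard]
    exact ((Nat.Prime.coprime_iff_not_dvd hp.out).mpr h1).symm
  have h2 := Cfsg.Agent.Helper22.le_pPrimeCore p _ hMn hcop
  rw [hcore, le_bot_iff, Subgroup.map_eq_bot_iff_of_injective _ (Subgroup.subtype_injective N)]
    at h2
  have hNp : IsPGroup p N := by
    intro n
    obtain ⟨a, ha⟩ := Cfsg.Agent.Helper22.exists_pow_mem_pResidual (p := p) n
    rw [h2, Subgroup.mem_bot] at ha
    exact ⟨a, ha⟩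
  have hNP : N ≤ (P : Subgroup G) := hNp.le_sylow_of_normal P
  have h3 : N ≤ (frattini ↥(P : Subgroup G)).map (P : Subgroup G).subtype := by
    intro n hn
    exact h ⟨hn, hNP hn⟩
  have h4 := (Subgroup.normal_le_normalCore (N := N)).mpr h3
  rw [hfrat, le_bot_iff] at h4
  exact hN h4

/-- Tate, local version: a perfect subgroup `A` of order divisible by `p` normalised by the Sylow
`p`-subgroup `P` meets `P` outside `Φ(P)`. -/
theorem not_le_frattini_of_perfect (P : Sylow p G) (A : Subgroup G)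
    (hPA : (P : Subgroup G) ≤ Subgroup.normalizer (A : Set G)) (hperf : ⁅A, A⁆ = A)
    (hdvd : p ∣ Nat.card A) :
    ¬ A ⊓ (P : Subgroup G) ≤ (frattini ↥(P : Subgroup G)).map (P : Subgroup G).subtype := by
  intro h
  set X : Subgroup G := Subgroup.normalizer (A : Set G) with hX
  have hAX : A ≤ X := Subgroup.le_normalizer
  set Q : Sylow p ↥X := P.subtype hPA with hQ
  set A' : Subgroup ↥X := A.subgroupOf X with hA'
  haveI : A'.Normal := Subgroup.normal_in_normalizer
  have hQcoe : (Q : Subgroup ↥X) = (P : Subgroup G).subgroupOf X := rfl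
  have h1 : A' ⊓ (Q : Subgroup ↥X) ≤ (frattini ↥(Q : Subgroup ↥X)).map (Q : Subgroup ↥X).subtype := by
    rintro w ⟨hwA, hwQ⟩
    have hwA' : (w : G) ∈ A := Subgroup.mem_subgroupOf.mp hwA
    have hwP : (w : G) ∈ (P : Subgroup G) := Subgroup.mem_subgroupOf.mp hwQ
    obtain ⟨u, hu, huw⟩ := h ⟨hwA', hwP⟩
    let e : ↥((P : Subgroup G).subgroupOf X) ≃* ↥(P : Subgroup G) :=
      Subgroup.subgroupOfEquivOfLe hPA
    have hsurj : Function.Surjective e.symm.toMonoidHom := e.symm.surjective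
    have hfr := frattini_le_comap_frattini_of_surjective hsurj hu
    refine ⟨e.symm u, hfr, ?_⟩
    apply Subtype.ext
    rw [← huw]
    rfl
  have h2 := tate_pResidual Q A' h1
  apply h2
  have hperf' : commutator ↥A' = ⊤ := by
    have hA'A : ⁅A', A'⁆ = A' := by
      apply Subgroup.map_injective (Subgroup.subtype_injective X)
      rw [Subgroup.map_commutator, hA', Subgroup.map_subgroupOf_eq_of_le hAX, hperf]
    apply Subgroup.map_injective (Subgroup.subtype_injective A')
    rw [Subgroup.map_subtype_commutator, hA'A, ← MonoidHom.range_eq_map, Subgroup.range_subtype]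
  rw [pResidual_eq_top_of_perfect hperf', Subgroup.card_top, hA',
    Cfsg.Agent.Helper7.card_subgroupOf_of_le hAX]
  exact hdvd

end Subgroup

end Cfsg.Agent.Helper1.TwoGenSyl
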