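import Mathlib
import Cfsg.Agent.Lib.Helper14.SylowNormal

/-!
# A transfer lemma and an averaging lemma (helper1)

* `mem_commutator_of_central_normal` : `Z(E) ∩ E' ∩ P ≤ P'` for a perfect normal subgroup `E`.
* `exists_centralized` : averaging a `P`-fixed element of an abelian normal subgroup over `K / P`.
-/

set_option autoImplicit false

namespace Cfsg.Agent.Helper1.TwoGenSyl

open scoped commutatorElement

section Transfer

/-- `Z(X) ∩ X' ∩ T ≤ T'` for a Sylow `p`-subgroup `T` of `X`. -/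
theorem mem_commutator_sylow_of_central {X : Type*} [Group X] [Finite X] {p : ℕ} [hp : Fact p.Prime]
    (T : Sylow p X) (z : X) (hzT : z ∈ (T : Subgroup X)) (hzc : z ∈ Subgroup.center X)
    (hzd : z ∈ commutator X) : z ∈ ⁅(T : Subgroup X), (T : Subgroup X)⁆ := by
  let ϕ : (T : Subgroup X) →* Abelianization (T : Subgroup X) := Abelianization.of
  have h1 : MonoidHom.transfer ϕ z = 1 :=
    Abelianization.commutator_subset_ker (MonoidHom.transfer ϕ) hzd
  have key : ∀ (k : ℕ) (g₀ : X), g₀⁻¹ * z ^ k * g₀ ∈ (T : Subgroup X) →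
      g₀⁻¹ * z ^ k * g₀ = z ^ k := by
    intro k g₀ _
    have hc : z ^ k ∈ Subgroup.center X := Subgroup.pow_mem _ hzc k
    rw [Subgroup.mem_center_iff] at hc
    rw [mul_assoc, ← hc g₀, inv_mul_cancel_left]
  have h2 := MonoidHom.transfer_eq_pow ϕ z key
  rw [h1] at h2
  have h3 : (⟨z ^ (T : Subgroup X).index, MonoidHom.transfer_eq_pow_aux z key⟩ :
      (T : Subgroup X)) ∈ commutator (T : Subgroup X) := by
    rw [← Abelianization.ker_of, MonoidHom.mem_ker]
    exact h2.symm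
  have h4 : z ^ (T : Subgroup X).index ∈ ⁅(T : Subgroup X), (T : Subgroup X)⁆ := by
    rw [← Subgroup.map_subtype_commutator]
    exact ⟨_, h3, rfl⟩
  obtain ⟨k, hk⟩ := (IsPGroup.iff_orderOf.mp T.isPGroup') ⟨z, hzT⟩
  rw [Subgroup.orderOf_mk] at hk
  have hcop : ((T : Subgroup X).index).Coprime (orderOf z) := by
    rw [hk]
    apply Nat.Coprime.pow_right
    exact ((Nat.Prime.coprime_iff_not_dvd hp.out).mpr T.not_dvd_index).symm
  obtain ⟨m, hm⟩ := exists_pow_eq_self_of_coprime hcop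
  rw [← hm]
  exact Subgroup.pow_mem _ h4 m

variable {G : Type*} [Group G] [Finite G] {p : ℕ} [hp : Fact p.Prime]

/-- `Z(E) ∩ P ≤ P'` for a perfect normal subgroup `E` and a Sylow `p`-subgroup `P` of `G`. -/
theorem mem_commutator_of_central_normal (P : Sylow p G) (E : Subgroup G) [hE : E.Normal]
    (hperf : ⁅E, E⁆ = E) (z : G) (hzP : z ∈ (P : Subgroup G)) (hzE : z ∈ E)
    (hzc : ∀ e ∈ E, e * z = z * e) : z ∈ ⁅(P : Subgroup G), (P : Subgroup G)⁆ := by
  obtain ⟨P', hP'⟩ := Cfsg.Agent.Helper14.isSylowOf_inf_normal P hE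
  have hz' : (⟨z, hzE⟩ : E) ∈ (P' : Subgroup E) := by
    have : z ∈ (P' : Subgroup E).map E.subtype := by rw [hP']; exact ⟨hzP, hzE⟩
    obtain ⟨w, hw, hwz⟩ := this
    have : w = ⟨z, hzE⟩ := Subtype.ext hwz
    rw [← this]; exact hw
  have hzc' : (⟨z, hzE⟩ : E) ∈ Subgroup.center E := by
    rw [Subgroup.mem_center_iff]
    intro e
    exact Subtype.ext (hzc e e.2)
  have hzd' : (⟨z, hzE⟩ : E) ∈ commutator E := by
    have : z ∈ (commutator E).map E.subtype := by
      rw [Subgroup.map_subtype_commutator, hperf]; exact hzE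
    obtain ⟨w, hw, hwz⟩ := this
    have : w = ⟨z, hzE⟩ := Subtype.ext hwz
    rw [← this]; exact hw
  have h1 := mem_commutator_sylow_of_central P' ⟨z, hzE⟩ hz' hzc' hzd'
  have h2 : z ∈ (⁅(P' : Subgroup E), (P' : Subgroup E)⁆).map E.subtype := ⟨_, h1, rfl⟩
  rw [Subgroup.map_commutator, hP'] at h2
  exact Subgroup.commutator_mono inf_le_left inf_le_left h2

end Transfer

section Averaging

variable {G : Type*} [Group G] [Finite G] {p : ℕ} [hp : Fact p.Prime]

/-- Averaging: if `c` lies in the abelian normal subgroup `R`, is centralised by the Sylow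
`p`-subgroup `P ≤ K`, and `K` centralises `c` modulo the normal subgroup `N₀`, then some
`c ^ m * n` (`m` prime to `p`, `n ∈ N₀`) is centralised by `K`. -/
theorem exists_centralized (P : Sylow p G) (R N₀ K : Subgroup G) [hRn : R.Normal]
    (hRab : ∀ a ∈ R, ∀ b ∈ R, a * b = b * a) (c : G) (hcR : c ∈ R)
    (hcP : ∀ g ∈ (P : Subgroup G), g * c = c * g) (hPK : (P : Subgroup G) ≤ K)
    (hKc : ∀ k ∈ K, (k * c * k⁻¹)⁻¹ * c ∈ N₀) :
    ∃ m : ℕ, ∃ n ∈ N₀, m.Coprime p ∧ c ^ m * n ∈ R ∧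
      ∀ k ∈ K, k * (c ^ m * n) = (c ^ m * n) * k := by
  classical
  letI : CommGroup R :=
    { (inferInstance : Group R) with
      mul_comm := fun a b => Subtype.ext (hRab a a.2 b b.2) }
  set T : Subgroup K := (P : Subgroup G).subgroupOf K with hT
  haveI : Fintype (K ⧸ T) := Fintype.ofFinite _
  let f₀ : K → R := fun k => ⟨(k : G) * c * (k : G)⁻¹, hRn.conj_mem c hcR k⟩
  have hf₀ : ∀ a b : K, QuotientGroup.leftRel T a b → f₀ a = f₀ b := by
    intro a b hab
    rw [QuotientGroup.leftRel_apply] at hab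
    have hu : ((a⁻¹ * b : K) : G) ∈ (P : Subgroup G) := Subgroup.mem_subgroupOf.mp hab
    have hcu := hcP _ hu
    apply Subtype.ext
    show (a : G) * c * (a : G)⁻¹ = (b : G) * c * (b : G)⁻¹
    have hb : (b : G) = (a : G) * ((a⁻¹ * b : K) : G) := by
      simp
    rw [hb]
    set u : G := ((a⁻¹ * b : K) : G) with hu_def
    calc (a : G) * c * (a : G)⁻¹ = (a : G) * (c * u * u⁻¹) * (a : G)⁻¹ := by
          rw [mul_inv_cancel_right]
      _ = (a : G) * (u * c * u⁻¹) * (a : G)⁻¹ := by rw [hcu]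
      _ = (a : G) * u * c * ((a : G) * u)⁻¹ := by rw [mul_inv_rev]; group
  let f : K ⧸ T → R := fun q => Quotient.liftOn' q f₀ hf₀
  have hf_mk : ∀ a : K, f (QuotientGroup.mk a) = f₀ a := fun a => rfl
  let s : R := ∏ q : K ⧸ T, f q
  set m := Nat.card (K ⧸ T) with hm
  have hmcop : m.Coprime p := by
    have h1 : m = (P : Subgroup G).relIndex K := by
      rw [hm, ← Subgroup.index_eq_card]; rfl
    have h2 : (P : Subgroup G).relIndex K ∣ (P : Subgroup G).index :=
      Subgroup.relIndex_dvd_index_of_le hPK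
    have h3 : ¬ p ∣ m := by
      rw [h1]
      exact fun h => P.not_dvd_index (h.trans h2)
    exact ((Nat.Prime.coprime_iff_not_dvd hp.out).mpr h3).symm
  -- invariance under `K`
  have hinv : ∀ k ∈ K, k * (s : G) * k⁻¹ = (s : G) := by
    intro k hk
    have h1 : (MulAut.conjNormal k : R ≃* R) s = ∏ q : K ⧸ T, (MulAut.conjNormal k : R ≃* R) (f q) :=
      map_prod (MulAut.conjNormal k : R ≃* R) f Finset.univ
    have h2 : ∀ q : K ⧸ T, (MulAut.conjNormal k : R ≃* R) (f q) = f ((⟨k, hk⟩ : K) • q) := by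
      intro q
      induction q using QuotientGroup.induction_on with
      | _ a =>
        rw [hf_mk]
        have : ((⟨k, hk⟩ : K) • (QuotientGroup.mk a : K ⧸ T)) = QuotientGroup.mk (⟨k, hk⟩ * a) := rfl
        rw [this, hf_mk]
        apply Subtype.ext
        rw [MulAut.conjNormal_apply]
        show k * ((a : G) * c * (a : G)⁻¹) * k⁻¹ = (k * (a : G)) * c * (k * (a : G))⁻¹
        rw [mul_inv_rev]; group
    have h3 : ∏ q : K ⧸ T, f ((⟨k, hk⟩ : K) • q) = ∏ q : K ⧸ T, f q :=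
      Equiv.prod_comp (MulAction.toPerm (⟨k, hk⟩ : K)) f
    have h4 : (MulAut.conjNormal k : R ≃* R) s = s := by
      calc (MulAut.conjNormal k : R ≃* R) s
          = ∏ q : K ⧸ T, (MulAut.conjNormal k : R ≃* R) (f q) := h1
        _ = ∏ q : K ⧸ T, f ((⟨k, hk⟩ : K) • q) := Finset.prod_congr rfl (fun q _ => h2 q)
        _ = ∏ q : K ⧸ T, f q := h3
        _ = s := rfl
    have h5 := congrArg Subtype.val h4
    rw [MulAut.conjNormal_apply] at h5
    exact h5
  -- congruence modulo `N₀`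
  let ρ : R →* R ⧸ N₀.subgroupOf R := QuotientGroup.mk' (N₀.subgroupOf R)
  have hρf : ∀ q : K ⧸ T, ρ (f q) = ρ ⟨c, hcR⟩ := by
    intro q
    induction q using QuotientGroup.induction_on with
    | _ a =>
      rw [hf_mk]
      show (QuotientGroup.mk (f₀ a) : R ⧸ N₀.subgroupOf R) = QuotientGroup.mk ⟨c, hcR⟩
      rw [QuotientGroup.eq, Subgroup.mem_subgroupOf]
      exact hKc a a.2
  have hρs : ρ s = ρ (⟨c, hcR⟩ ^ m) := by
    show ρ (∏ q : K ⧸ T, f q) = _
    rw [map_prod, map_pow, Finset.prod_congr rfl (fun q _ => hρf q), Finset.prod_const,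
      Finset.card_univ, hm, Nat.card_eq_fintype_card]
  have hn : (c ^ m)⁻¹ * (s : G) ∈ N₀ := by
    have h1 : (QuotientGroup.mk ((⟨c, hcR⟩ : R) ^ m) : R ⧸ N₀.subgroupOf R) = QuotientGroup.mk s :=
      hρs.symm
    have h2 := QuotientGroup.eq.mp h1
    rw [Subgroup.mem_subgroupOf] at h2
    exact h2
  refine ⟨m, (c ^ m)⁻¹ * (s : G), hn, hmcop, ?_, ?_⟩
  · rw [mul_inv_cancel_left]; exact s.2
  · intro k hk
    rw [mul_inv_cancel_left]
    have := hinv k hk
    calc k * (s : G) = k * (s : G) * k⁻¹ * k := by group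
      _ = (s : G) * k := by rw [this]

end Averaging

end Cfsg.Agent.Helper1.TwoGenSyl
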