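import Mathlib
import Cfsg.Prelude.Def_Local
import Cfsg.Agent.Lib.Helper1.TwoGenSylA
import Cfsg.Agent.Lib.Helper1.TwoGenSylB
import Cfsg.Agent.Lib.Helper7.FStar
import Cfsg.Agent.Lib.Helper7.FStar2
import Cfsg.Agent.Lib.Helper7.FStarP
import Cfsg.Agent.Lib.Helper7.Layer
import Cfsg.Agent.Lib.Helper7.Layer3
import Cfsg.Agent.Lib.Helper7.Components2
import Cfsg.Agent.Lib.Helper7.Fitting
import Cfsg.Agent.Lib.Helper7.Cores
import Cfsg.Agent.Lib.Helper7.Bender
import Cfsg.Agent.Lib.Helper7.PLocal
import Cfsg.Agent.Lib.Helper14.Normalize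
import Cfsg.Agent.Lib.Helper21.PGroupFrattini

/-!
# Groups with a non-abelian two-generated Sylow `p`-subgroup, `O_{p'}(G) = 1` and core-free `Φ(P)`
(helper1)
-/

set_option autoImplicit false

namespace Cfsg.Agent.Helper1.TwoGenSyl

open scoped commutatorElement Pointwise
open Cfsg.Agent.Helper7

universe u

variable {G : Type u} [Group G] [Finite G] {p : ℕ} [hp : Fact p.Prime]

/-- the hypotheses -/
structure Hyp (P : Sylow p G) : Prop where
  hna : ¬ IsMulCommutative (P : Subgroup G)
  hgen : (frattini ↥(P : Subgroup G)).index = p ^ 2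
  hcore : Cfsg.pPrimeCore p G = ⊥
  hfrat : ((frattini ↥(P : Subgroup G)).map (P : Subgroup G).subtype).normalCore = ⊥

/-- `P' ≤ Φ(P)` in the ambient group -/
theorem commutator_le_map_frattini (P : Sylow p G) :
    ⁅(P : Subgroup G), (P : Subgroup G)⁆ ≤
      (frattini ↥(P : Subgroup G)).map (P : Subgroup G).subtype := by
  rw [← Subgroup.map_subtype_commutator]
  apply Subgroup.map_mono
  rw [commutator_def, Subgroup.commutator_le]
  intro x _ y _
  rw [commutatorElement_def]
  exact Cfsg.Agent.Helper21.commutator_mem_frattini_of_isPGroup P.isPGroup' x y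

namespace Hyp

variable {P : Sylow p G}

theorem commutator_ne_bot (h : Hyp P) : ⁅(P : Subgroup G), (P : Subgroup G)⁆ ≠ ⊥ := by
  intro hb
  apply h.hna
  rw [Subgroup.commutator_eq_bot_iff_le_centralizer] at hb
  refine ⟨⟨fun a b => Subtype.ext ?_⟩⟩
  have := Subgroup.mem_centralizer_iff.mp (hb a.2) b b.2
  exact this.symm

/-- every nontrivial normal subgroup contains `P'`, and `P` is cyclic modulo it -/
theorem normal_spec (h : Hyp P) (N : Subgroup G) [N.Normal] (hN : N ≠ ⊥) :
    ⁅(P : Subgroup G), (P : Subgroup G)⁆ ≤ N ∧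
      ∃ y ∈ (P : Subgroup G), ∀ g ∈ (P : Subgroup G),
        ∃ a ∈ N ⊓ (P : Subgroup G), ∃ i : ℤ, g = a * y ^ i := by
  apply commutator_le_of_not_le_frattini (P : Subgroup G) P.isPGroup' h.hgen.le N
  · rw [Subgroup.normalizer_eq_top]; exact le_top
  · exact not_le_frattini_of_normal P h.hcore h.hfrat N hN

/-- the unique minimal normal subgroup -/
def minNormal (P : Sylow p G) : Subgroup G :=
  Subgroup.normalClosure ((⁅(P : Subgroup G), (P : Subgroup G)⁆ : Subgroup G) : Set G)

instance (P : Sylow p G) : (minNormal P).Normal := Subgroup.normalClosure_normal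

theorem minNormal_ne_bot (h : Hyp P) : minNormal P ≠ ⊥ := by
  intro hb
  apply h.commutator_ne_bot
  rw [eq_bot_iff, ← hb]
  exact Subgroup.le_normalClosure

theorem minNormal_le (h : Hyp P) (N : Subgroup G) [N.Normal] (hN : N ≠ ⊥) : minNormal P ≤ N :=
  Subgroup.normalClosure_le_normal (h.normal_spec N hN).1

theorem fstar_ne_bot (h : Hyp P) : Cfsg.generalizedFittingSubgroup G ≠ ⊥ := by
  intro hF
  have h1 := centralizer_generalizedFittingSubgroup_le (G := G)
  rw [hF] at h1
  have htop : Subgroup.centralizer ((⊥ : Subgroup G) : Set G) = ⊤ := by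
    rw [Subgroup.centralizer_eq_top_iff_subset]
    intro x hx
    have : x = 1 := hx
    rw [this]
    exact Subgroup.one_mem _
  have hall : ∀ g : G, g = 1 := fun g => by
    have : g ∈ (⊥ : Subgroup G) := h1 (htop ▸ Subgroup.mem_top g)
    exact Subgroup.mem_bot.mp this
  apply h.hna
  refine ⟨⟨fun a b => Subtype.ext ?_⟩⟩
  show (a : G) * b = b * a
  rw [hall (a : G), hall (b : G)]

theorem minNormal_le_fstar (h : Hyp P) [hFn : (Cfsg.generalizedFittingSubgroup G).Normal] :
    minNormal P ≤ Cfsg.generalizedFittingSubgroup G :=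
  h.minNormal_le _ h.fstar_ne_bot

theorem pCore_le (P : Sylow p G) : Cfsg.pCore p G ≤ (P : Subgroup G) :=
  (pCore_isPGroup p).le_sylow_of_normal P

theorem fitting_le (h : Hyp P) : Cfsg.fittingSubgroup G ≤ (P : Subgroup G) :=
  (fittingSubgroup_le_pCore_of_pPrimeCore_eq_bot p h.hcore).trans (pCore_le P)

/-- a normal subgroup inside `Φ(P)` is trivial -/
theorem eq_bot_of_le_frattini (h : Hyp P) (N : Subgroup G) [N.Normal]
    (hN : N ≤ (frattini ↥(P : Subgroup G)).map (P : Subgroup G).subtype) : N = ⊥ := by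
  have h4 := (Subgroup.normal_le_normalCore (N := N)).mpr hN
  rw [h.hfrat, le_bot_iff] at h4
  exact h4

/-- the nonabelian case -/
theorem case_nonabelian (h : Hyp P) [hFn : (Cfsg.generalizedFittingSubgroup G).Normal]
    (hnab : ¬ ∀ a ∈ minNormal P, ∀ b ∈ minNormal P, a * b = b * a) :
    Subgroup.centralizer (minNormal P : Set G) = ⊥ ∧ Cfsg.layer G = minNormal P ∧
      Cfsg.generalizedFittingSubgroup G = minNormal P := by
  have hC : Subgroup.centralizer (minNormal P : Set G) = ⊥ := by
    by_contra hne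
    apply hnab
    have hle := h.minNormal_le (Subgroup.centralizer (minNormal P : Set G)) hne
    intro a ha b hb
    exact (Subgroup.mem_centralizer_iff.mp (hle ha) b hb).symm
  have hOp : Cfsg.pCore p G = ⊥ := by
    by_contra hne
    have hle := h.minNormal_le (Cfsg.pCore p G) hne
    have hNp : IsPGroup p (minNormal P) := (pCore_isPGroup p).to_le hle
    haveI : Nontrivial (minNormal P) :=
      (Subgroup.nontrivial_iff_ne_bot _).mpr h.minNormal_ne_bot
    haveI := hNp.center_nontrivial
    obtain ⟨z, hz⟩ := exists_ne (1 : Subgroup.center (minNormal P))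
    have hzc : ((z : minNormal P) : G) ∈ Subgroup.centralizer (minNormal P : Set G) := by
      rw [Subgroup.mem_centralizer_iff]
      intro x hx
      have := Subgroup.mem_center_iff.mp z.2 ⟨x, hx⟩
      exact congrArg Subtype.val this
    rw [hC, Subgroup.mem_bot] at hzc
    apply hz
    apply Subtype.ext
    apply Subtype.ext
    exact hzc
  have hF : Cfsg.fittingSubgroup G = ⊥ := by
    have := fittingSubgroup_le_pCore_of_pPrimeCore_eq_bot p h.hcore
    rw [hOp] at this
    exact le_bot_iff.mp this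
  have hlayer : Cfsg.layer G ≤ minNormal P := by
    unfold Cfsg.layer
    apply sSup_le
    intro L hL
    rcases component_le_or_commutator_eq_bot' L (minNormal P) hL
      (inferInstance : (minNormal P).Normal).isSubnormal with h1 | h1
    · exact h1
    · exfalso
      rw [Subgroup.commutator_eq_bot_iff_le_centralizer, hC, le_bot_iff] at h1
      exact component_ne_bot hL h1
  have hFs : Cfsg.generalizedFittingSubgroup G = Cfsg.layer G := by
    unfold Cfsg.generalizedFittingSubgroup
    rw [hF, sup_bot_eq]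
  have hle := h.minNormal_le_fstar
  rw [hFs] at hle
  have heq : Cfsg.layer G = minNormal P := le_antisymm hlayer hle
  exact ⟨hC, heq, hFs.trans heq⟩

/-- the abelian case -/
theorem case_abelian (h : Hyp P) [hFn : (Cfsg.generalizedFittingSubgroup G).Normal]
    (hab : ∀ a ∈ minNormal P, ∀ b ∈ minNormal P, a * b = b * a) :
    Cfsg.generalizedFittingSubgroup G = minNormal P := by
  set N₀ := minNormal P with hN₀
  have hN₀ne : N₀ ≠ ⊥ := h.minNormal_ne_bot
  haveI : IsMulCommutative N₀ := ⟨⟨fun a b => Subtype.ext (hab a a.2 b b.2)⟩⟩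
  have hN₀F : N₀ ≤ Cfsg.fittingSubgroup G :=
    le_fittingSubgroup N₀ (isNilpotent_of_isMulCommutative N₀)
  have hFP : Cfsg.fittingSubgroup G ≤ (P : Subgroup G) := h.fitting_le
  have hN₀P : N₀ ≤ (P : Subgroup G) := hN₀F.trans hFP
  haveI hEn : (Cfsg.layer G).Normal := by
    haveI := layer_characteristic (G := G)
    exact Subgroup.normal_of_characteristic _
  haveI hRn : (Cfsg.fittingSubgroup G).Normal := fittingSubgroup_normal'
  -- the layer is trivial
  have hE : Cfsg.layer G = ⊥ := by
    by_contra hne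
    have hle := h.minNormal_le (Cfsg.layer G) hne
    apply hN₀ne
    apply h.eq_bot_of_le_frattini
    refine le_trans ?_ (commutator_le_map_frattini P)
    intro z hz
    apply mem_commutator_of_central_normal P (Cfsg.layer G) layer_perfect z (hN₀P hz) (hle hz)
    intro e he
    have h1 := layer_commutator_fittingSubgroup (G := G)
    rw [Subgroup.commutator_eq_bot_iff_le_centralizer] at h1
    exact (Subgroup.mem_centralizer_iff.mp (h1 he) z (hN₀F hz)).symm
  have hFs : Cfsg.generalizedFittingSubgroup G = Cfsg.fittingSubgroup G := by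
    unfold Cfsg.generalizedFittingSubgroup
    rw [hE, bot_sup_eq]
  set R := Cfsg.fittingSubgroup G with hR
  -- `R` is abelian
  have hRab : ∀ a ∈ R, ∀ b ∈ R, a * b = b * a := by
    have h1 : ⁅R, R⁆ = ⊥ := by
      apply h.eq_bot_of_le_frattini
      exact (Subgroup.commutator_mono hFP hFP).trans (commutator_le_map_frattini P)
    rw [Subgroup.commutator_eq_bot_iff_le_centralizer] at h1
    intro a ha b hb
    exact (Subgroup.mem_centralizer_iff.mp (h1 ha) b hb).symm
  have hCR : Subgroup.centralizer (R : Set G) ≤ R := by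
    have := centralizer_generalizedFittingSubgroup_le (G := G)
    rw [hFs] at this
    exact this
  rw [hFs]
  apply le_antisymm _ hN₀F
  by_contra hRN
  obtain ⟨r₀, hr₀R, hr₀N⟩ := SetLike.not_le_iff_exists.mp hRN
  obtain ⟨hPN, y, hyP, hy⟩ := h.normal_spec N₀ hN₀ne
  -- the centraliser of `R / N₀`
  set π := QuotientGroup.mk' N₀ with hπ
  haveI : (R.map π).Normal := Subgroup.Normal.map hRn π (QuotientGroup.mk'_surjective N₀)
  set K : Subgroup G := (Subgroup.centralizer ((R.map π : Subgroup (G ⧸ N₀)) : Set (G ⧸ N₀))).comap π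
    with hK
  haveI hKn : K.Normal := by rw [hK]; infer_instance
  have hK_iff : ∀ g, g ∈ K ↔ ∀ r ∈ R, π r * π g = π g * π r := by
    intro g
    rw [hK, Subgroup.mem_comap, Subgroup.mem_centralizer_iff]
    constructor
    · intro hg r hr
      exact hg (π r) ⟨r, hr, rfl⟩
    · rintro hg _ ⟨r, hr, rfl⟩
      exact hg r hr
  have hPK : (P : Subgroup G) ≤ K := by
    intro g hg
    rw [hK_iff]
    intro r hr
    have h1 : ⁅g, r⁆ ∈ N₀ := hPN (Subgroup.commutator_mem_commutator hg (hFP hr))
    have h2 : π ⁅g, r⁆ = 1 := (QuotientGroup.eq_one_iff _).mpr h1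
    rw [map_commutatorElement, commutatorElement_eq_one_iff_mul_comm] at h2
    exact h2.symm
  have hKc : ∀ c ∈ R, ∀ k ∈ K, (k * c * k⁻¹)⁻¹ * c ∈ N₀ := by
    intro c hc k hk
    have hcomm := (hK_iff k).mp hk c hc
    rw [← QuotientGroup.eq_one_iff, ← QuotientGroup.mk'_apply, ← hπ, map_mul, map_inv, map_mul,
      map_mul, map_inv, ← hcomm, mul_inv_cancel_right, inv_mul_cancel]
  set D : Subgroup G := R ⊓ Subgroup.centralizer (K : Set G) with hD
  haveI hDn : D.Normal := by rw [hD]; infer_instance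
  have key : ∀ r ∈ R, r ∉ N₀ → N₀ ≤ D ∧ r ∈ D := by
    intro r hrR hrN
    obtain ⟨a, ⟨haN, haP⟩, i, hri⟩ := hy r (hFP hrR)
    set c := y ^ i with hc
    have hcR : c ∈ R := by
      have : c = a⁻¹ * r := by rw [hri]; group
      rw [this]
      exact R.mul_mem (R.inv_mem (hN₀F haN)) hrR
    have hcN : c ∉ N₀ := by
      intro hcN
      apply hrN
      rw [hri]
      exact N₀.mul_mem haN hcN
    have hcP : ∀ g ∈ (P : Subgroup G), g * c = c * g := by
      intro g hg
      obtain ⟨a', ⟨ha'N, -⟩, j, hgj⟩ := hy g hg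
      have h1 : a' * c = c * a' := hRab a' (hN₀F ha'N) c hcR
      have h2 : y ^ j * c = c * y ^ j := by
        rw [hc, ← zpow_add, ← zpow_add, add_comm]
      rw [hgj, mul_assoc, h2, ← mul_assoc, h1, mul_assoc]
    obtain ⟨m, n, hn, hmcop, hsR, hsK⟩ :=
      exists_centralized P R N₀ K hRab c hcR hcP hPK (hKc c hcR)
    have hsD : c ^ m * n ∈ D := by
      refine Subgroup.mem_inf.mpr ⟨hsR, ?_⟩
      rw [Subgroup.mem_centralizer_iff]
      intro k hk
      exact hsK k hk
    have hcpow : c ∈ (P : Subgroup G) := hFP hcR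
    obtain ⟨j, hj⟩ := (IsPGroup.iff_orderOf.mp P.isPGroup') ⟨c, hcpow⟩
    rw [Subgroup.orderOf_mk] at hj
    have hcop : m.Coprime (orderOf c) := by
      rw [hj]; exact Nat.Coprime.pow_right j hmcop
    obtain ⟨t, ht⟩ := exists_pow_eq_self_of_coprime hcop
    have hsN : c ^ m * n ∉ N₀ := by
      intro hs
      apply hcN
      have h1 : c ^ m ∈ N₀ := by
        have : c ^ m = (c ^ m * n) * n⁻¹ := by group
        rw [this]
        exact N₀.mul_mem hs (N₀.inv_mem hn)
      rw [← ht]
      exact N₀.pow_mem h1 t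
    have hDne : D ≠ ⊥ := by
      intro hb
      rw [hb, Subgroup.mem_bot] at hsD
      apply hsN
      rw [hsD]
      exact N₀.one_mem
    have hN₀D : N₀ ≤ D := h.minNormal_le D hDne
    refine ⟨hN₀D, ?_⟩
    have h1 : c ^ m ∈ D := by
      have : c ^ m = (c ^ m * n) * n⁻¹ := by group
      rw [this]
      exact D.mul_mem hsD (D.inv_mem (hN₀D hn))
    have h2 : c ∈ D := by
      rw [← ht]
      exact D.pow_mem h1 t
    rw [hri]
    exact D.mul_mem (hN₀D haN) h2
  have hN₀D : N₀ ≤ D := (key r₀ hr₀R hr₀N).1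
  have hRD : R ≤ D := by
    intro r hr
    by_cases hrN : r ∈ N₀
    · exact hN₀D hrN
    · exact (key r hr hrN).2
  have hKR : K ≤ R := by
    refine le_trans ?_ hCR
    rw [Subgroup.le_centralizer_iff]
    exact hRD.trans inf_le_right
  apply h.hna
  refine ⟨⟨fun a b => Subtype.ext ?_⟩⟩
  exact hRab a (hKR (hPK a.2)) b (hKR (hPK b.2))

end Hyp

end Cfsg.Agent.Helper1.TwoGenSyl
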