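import Mathlib
import Cfsg.Agent.Lib.Helper1.TwoGenSylC

/-!
# Transitivity of a two-generated Sylow subgroup on the components (helper1)
-/

set_option autoImplicit false

namespace Cfsg.Agent.Helper1.TwoGenSyl

open scoped commutatorElement Pointwise
open Cfsg.Agent.Helper7

universe u

variable {G : Type u} [Group G] [Finite G] {p : ℕ} [hp : Fact p.Prime]

namespace Hyp

variable {P : Sylow p G}

theorem dvd_card_component (h : Hyp P) {L : Subgroup G} (hL : Cfsg.IsComponent L) :
    p ∣ Nat.card L := by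
  by_contra hnd
  have hcop : (Nat.card L).Coprime p := ((Nat.Prime.coprime_iff_not_dvd hp.out).mpr hnd).symm
  have := subnormal_coprime_le_pPrimeCore p L hL.1 hcop
  rw [h.hcore, le_bot_iff] at this
  exact component_ne_bot hL this

theorem cyclic (h : Hyp P) [hFn : (Cfsg.generalizedFittingSubgroup G).Normal] :
    IsCyclic ↥((P : Subgroup G).map (QuotientGroup.mk' (Cfsg.generalizedFittingSubgroup G))) := by
  obtain ⟨-, y, hyP, hy⟩ := h.normal_spec (Cfsg.generalizedFittingSubgroup G) h.fstar_ne_bot
  refine ⟨⟨⟨QuotientGroup.mk' _ y, ⟨y, hyP, rfl⟩⟩, fun x => ?_⟩⟩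
  obtain ⟨_, g, hg, rfl⟩ := x
  obtain ⟨a, ⟨haN, -⟩, i, hgi⟩ := hy g hg
  refine ⟨i, Subtype.ext ?_⟩
  show ((⟨QuotientGroup.mk' _ y, _⟩ : ↥((P : Subgroup G).map
    (QuotientGroup.mk' (Cfsg.generalizedFittingSubgroup G)))) ^ i).1 = QuotientGroup.mk' _ g
  rw [Subgroup.coe_zpow]
  show (QuotientGroup.mk' _ y) ^ i = QuotientGroup.mk' _ g
  have ha1 : QuotientGroup.mk' (Cfsg.generalizedFittingSubgroup G) a = 1 :=
    (QuotientGroup.eq_one_iff a).mpr haN
  rw [hgi, map_mul, map_zpow, ha1, one_mul]

theorem transitive (h : Hyp P) (hC : Subgroup.centralizer (minNormal P : Set G) = ⊥)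
    (hlay : Cfsg.layer G = minNormal P) (K L : Subgroup G) (hK : Cfsg.IsComponent K)
    (hL : Cfsg.IsComponent L) :
    ∃ x ∈ (P : Subgroup G), L = K.map (MulAut.conj x).toMonoidHom := by
  by_contra hno
  push Not at hno
  let cj : G → Subgroup G := fun x => K.map (MulAut.conj x).toMonoidHom
  have hcj : ∀ x, Cfsg.IsComponent (cj x) := fun x => isComponent_map_mulEquiv (MulAut.conj x) hK
  set A : Subgroup G := ⨆ x : (P : Subgroup G), cj (x : G) with hA
  let famB := {L' : Subgroup G // Cfsg.IsComponent L' ∧ ∀ x ∈ (P : Subgroup G), L' ≠ cj x}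
  set B : Subgroup G := ⨆ L' : famB, (L' : Subgroup G) with hB
  have hcjmul : ∀ u x : G, (cj x).map (MulAut.conj u).toMonoidHom = cj (u * x) := by
    intro u x
    show (K.map _).map _ = K.map _
    rw [Subgroup.map_map]
    congr 1
    ext g
    simp [MulAut.conj_apply, mul_assoc]
  have hcancel : ∀ (u : G) (M : Subgroup G),
      (M.map (MulAut.conj u).toMonoidHom).map (MulAut.conj u⁻¹).toMonoidHom = M := by
    intro u M
    rw [Subgroup.map_map]
    have : (MulAut.conj u⁻¹).toMonoidHom.comp (MulAut.conj u).toMonoidHom = MonoidHom.id G := by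
      ext g
      simp [MulAut.conj_apply, mul_assoc]
    rw [this, Subgroup.map_id]
  have hAB : A ≤ Subgroup.centralizer (B : Set G) := by
    rw [hA]
    apply iSup_le
    intro x
    rw [Subgroup.le_centralizer_iff, hB]
    apply iSup_le
    rintro ⟨L', hL', hne⟩
    have hne' : L' ≠ cj (x : G) := hne x x.2
    exact Subgroup.commutator_eq_bot_iff_le_centralizer.mp
      (component_commutator_eq_bot_of_ne hL' (hcj x) hne')
  have hcover : minNormal P ≤ A ⊔ B := by
    rw [← hlay]
    unfold Cfsg.layer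
    apply sSup_le
    intro L' hL'
    by_cases hx : ∃ x ∈ (P : Subgroup G), L' = cj x
    · obtain ⟨x, hxP, rfl⟩ := hx
      exact le_trans (le_iSup (fun x : (P : Subgroup G) => cj (x : G)) ⟨x, hxP⟩) le_sup_left
    · push Not at hx
      exact le_trans (le_iSup (fun L' : famB => (L' : Subgroup G)) ⟨L', hL', hx⟩) le_sup_right
  have hdisj : A ⊓ B = ⊥ := by
    rw [eq_bot_iff]
    rintro z ⟨hzA, hzB⟩
    have h1 : z ∈ Subgroup.centralizer (B : Set G) := hAB hzA
    have h2 : z ∈ Subgroup.centralizer (A : Set G) := (Subgroup.le_centralizer_iff.mp hAB) hzB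
    have h3 : A ⊔ B ≤ Subgroup.centralizer ({z} : Set G) := by
      apply sup_le
      · intro a ha
        rw [Subgroup.mem_centralizer_iff]
        intro w hw
        rw [Set.mem_singleton_iff] at hw
        rw [hw]
        exact (Subgroup.mem_centralizer_iff.mp h2 a ha).symm
      · intro b hb
        rw [Subgroup.mem_centralizer_iff]
        intro w hw
        rw [Set.mem_singleton_iff] at hw
        rw [hw]
        exact (Subgroup.mem_centralizer_iff.mp h1 b hb).symm
    have h4 : z ∈ Subgroup.centralizer (minNormal P : Set G) := by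
      rw [Subgroup.mem_centralizer_iff]
      intro n hn
      have := Subgroup.mem_centralizer_iff.mp (h3 (hcover hn)) z (Set.mem_singleton z)
      exact this.symm
    rw [hC] at h4
    exact h4
  have hPA : (P : Subgroup G) ≤ Subgroup.normalizer (A : Set G) := by
    apply Cfsg.Agent.Helper14.le_normalizer_of_map_conj_le
    intro g hg
    rw [hA, Subgroup.map_iSup]
    apply iSup_le
    intro x
    rw [hcjmul]
    exact le_iSup (fun x : (P : Subgroup G) => cj (x : G)) ⟨g * x, mul_mem hg x.2⟩
  have hPB : (P : Subgroup G) ≤ Subgroup.normalizer (B : Set G) := by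
    apply Cfsg.Agent.Helper14.le_normalizer_of_map_conj_le
    intro g hg
    rw [hB, Subgroup.map_iSup]
    apply iSup_le
    rintro ⟨L', hL', hne⟩
    have hmem : Cfsg.IsComponent (L'.map (MulAut.conj g).toMonoidHom) ∧
        ∀ x ∈ (P : Subgroup G), L'.map (MulAut.conj g).toMonoidHom ≠ cj x := by
      refine ⟨isComponent_map_mulEquiv (MulAut.conj g) hL', fun x hx heq => ?_⟩
      apply hne (g⁻¹ * x) (mul_mem (inv_mem hg) hx)
      rw [← hcjmul, ← heq, hcancel]
    exact le_iSup (fun L' : famB => (L' : Subgroup G)) ⟨_, hmem⟩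
  have hperfA : ⁅A, A⁆ = A := by
    apply le_antisymm (Subgroup.commutator_le_self A)
    conv_lhs => rw [hA]
    apply iSup_le
    intro x
    have hle : cj (x : G) ≤ A := le_iSup (fun x : (P : Subgroup G) => cj (x : G)) x
    calc cj (x : G) = ⁅cj (x : G), cj (x : G)⁆ := (component_perfect (hcj x)).symm
      _ ≤ ⁅A, A⁆ := Subgroup.commutator_mono hle hle
  have hperfB : ⁅B, B⁆ = B := by
    apply le_antisymm (Subgroup.commutator_le_self B)
    conv_lhs => rw [hB]
    apply iSup_le
    intro L'
    have hle : (L' : Subgroup G) ≤ B := le_iSup (fun L' : famB => (L' : Subgroup G)) L'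
    calc (L' : Subgroup G) = ⁅(L' : Subgroup G), (L' : Subgroup G)⁆ :=
          (component_perfect L'.2.1).symm
      _ ≤ ⁅B, B⁆ := Subgroup.commutator_mono hle hle
  have hdvdA : p ∣ Nat.card A := by
    have hle : cj ((1 : (P : Subgroup G)) : G) ≤ A :=
      le_iSup (fun x : (P : Subgroup G) => cj (x : G)) 1
    exact (h.dvd_card_component (hcj _)).trans (Subgroup.card_dvd_of_le hle)
  have hdvdB : p ∣ Nat.card B := by
    have hle : L ≤ B := le_iSup (fun L' : famB => (L' : Subgroup G)) ⟨L, hL, hno⟩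
    exact (h.dvd_card_component hL).trans (Subgroup.card_dvd_of_le hle)
  have hA' := (commutator_le_of_not_le_frattini (P : Subgroup G) P.isPGroup' h.hgen.le A hPA
    (not_le_frattini_of_perfect P A hPA hperfA hdvdA)).1
  have hB' := (commutator_le_of_not_le_frattini (P : Subgroup G) P.isPGroup' h.hgen.le B hPB
    (not_le_frattini_of_perfect P B hPB hperfB hdvdB)).1
  apply h.commutator_ne_bot
  rw [eq_bot_iff, ← hdisj]
  exact le_inf hA' hB'

end Hyp

end Cfsg.Agent.Helper1.TwoGenSyl
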