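import Mathlib
import Cfsg.Agent.Lib.Helper6.UniDefs

/-!
# S2314 PIECE UNI-IDX (helper1): `|R| |B| = |U| |H|` for `B = U T`, `T ≤ H ≤ B`, `R = U ∩ H`,
and its instance `SplitData.card_R_mul`.
-/

set_option autoImplicit false
set_option linter.unusedSectionVars false
set_option linter.unusedVariables false

namespace Cfsg.Agent.Helper6.Uni

open Cfsg Cfsg.Agent.Helper2.WordLen Cfsg.Agent.Helper2.BN Cfsg.Agent.Helper17.BNCox

section Generic

variable {M : Type*} [Group M]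

/-- PIECE UNI-IDX (pure Mathlib): `|R| |B| = |U| |H|` when `B = U T`, `T ≤ H ≤ B`, `R = U ∩ H`, `U ⊴ B`. -/
theorem card_mul_card_of_split [Finite M] (B U T H R : Subgroup M) (hUB : U ≤ B)
    (hUn : ∀ b ∈ B, ∀ u ∈ U, b * u * b⁻¹ ∈ U) (hTH : T ≤ H) (hHB : H ≤ B)
    (hB : ∀ b ∈ B, ∃ u ∈ U, ∃ t ∈ T, b = u * t) (hR : ∀ x, x ∈ R ↔ x ∈ U ∧ x ∈ H) :
    Nat.card R * Nat.card B = Nat.card U * Nat.card H := by
  classical
  -- a section of the product map `U × H → B`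
  have hsec : ∀ b : B, ∃ uh : U × H, (uh.1 : M) * (uh.2 : M) = (b : M) := by
    intro b
    obtain ⟨u, hu, t, ht, e⟩ := hB b.1 b.2
    exact ⟨(⟨u, hu⟩, ⟨t, hTH ht⟩), e.symm⟩
  choose sec hsec' using hsec
  -- the bijection `R × B → U × H`
  let Fn : R × B → U × H := fun rb =>
    (⟨((sec rb.2).1 : M) * (rb.1 : M), U.mul_mem (sec rb.2).1.2 ((hR _).1 rb.1.2).1⟩,
      ⟨((rb.1 : M))⁻¹ * ((sec rb.2).2 : M), H.mul_mem (H.inv_mem ((hR _).1 rb.1.2).2) (sec rb.2).2.2⟩)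
  have hprod : ∀ rb : R × B, (((Fn rb).1 : U) : M) * (((Fn rb).2 : H) : M) = (rb.2 : M) := by
    intro rb
    show ((sec rb.2).1 : M) * (rb.1 : M) * (((rb.1 : M))⁻¹ * ((sec rb.2).2 : M)) = (rb.2 : M)
    rw [← hsec' rb.2]
    group
  have hbij : Function.Bijective Fn := by
    constructor
    · intro rb rb' h
      have hb : rb.2 = rb'.2 := by
        apply Subtype.ext
        rw [← hprod rb, ← hprod rb', h]
      have h1 : (((Fn rb).1 : U) : M) = (((Fn rb').1 : U) : M) := by rw [h]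
      have h1' : ((sec rb.2).1 : M) * (rb.1 : M) = ((sec rb'.2).1 : M) * (rb'.1 : M) := h1
      rw [hb] at h1'
      have hr : rb.1 = rb'.1 := Subtype.ext (mul_left_cancel h1')
      exact Prod.ext hr hb
    · intro uh
      have hbB : (uh.1 : M) * (uh.2 : M) ∈ B := B.mul_mem (hUB uh.1.2) (hHB uh.2.2)
      set b : B := ⟨(uh.1 : M) * (uh.2 : M), hbB⟩ with hb
      have hs : ((sec b).1 : M) * ((sec b).2 : M) = (uh.1 : M) * (uh.2 : M) := hsec' b
      have hrU : ((sec b).1 : M)⁻¹ * (uh.1 : M) ∈ U := U.mul_mem (U.inv_mem (sec b).1.2) uh.1.2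
      have hrH : ((sec b).1 : M)⁻¹ * (uh.1 : M) ∈ H := by
        have e : ((sec b).1 : M)⁻¹ * (uh.1 : M) = ((sec b).2 : M) * ((uh.2 : M))⁻¹ := by
          calc ((sec b).1 : M)⁻¹ * (uh.1 : M)
              = ((sec b).1 : M)⁻¹ * ((uh.1 : M) * (uh.2 : M)) * ((uh.2 : M))⁻¹ := by group
            _ = ((sec b).1 : M)⁻¹ * (((sec b).1 : M) * ((sec b).2 : M)) * ((uh.2 : M))⁻¹ := by rw [hs]
            _ = ((sec b).2 : M) * ((uh.2 : M))⁻¹ := by group
        rw [e]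
        exact H.mul_mem (sec b).2.2 (H.inv_mem uh.2.2)
      refine ⟨(⟨((sec b).1 : M)⁻¹ * (uh.1 : M), (hR _).2 ⟨hrU, hrH⟩⟩, b), ?_⟩
      apply Prod.ext
      · apply Subtype.ext
        show ((sec b).1 : M) * (((sec b).1 : M)⁻¹ * (uh.1 : M)) = (uh.1 : M)
        group
      · apply Subtype.ext
        show (((sec b).1 : M)⁻¹ * (uh.1 : M))⁻¹ * ((sec b).2 : M) = (uh.2 : M)
        calc (((sec b).1 : M)⁻¹ * (uh.1 : M))⁻¹ * ((sec b).2 : M)
            = ((uh.1 : M))⁻¹ * (((sec b).1 : M) * ((sec b).2 : M)) := by group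
          _ = ((uh.1 : M))⁻¹ * ((uh.1 : M) * (uh.2 : M)) := by rw [hs]
          _ = (uh.2 : M) := by group
  have := Nat.card_congr (Equiv.ofBijective Fn hbij)
  rwa [Nat.card_prod, Nat.card_prod] at this

end Generic

variable {G : Type*} [Group G] (P : Cfsg.BNPair G)

namespace SplitData

variable {P} {p : ℕ} (D : SplitData P p)

/-- PIECE UNI-IDXA: `|R_A| |B| = |U| |B ∩ n_A B n_A⁻¹|` (UNI-IDX). -/
theorem card_R_mul [Finite G] (A : Finset P.S) :
    Nat.card (D.R A) * Nat.card P.B = Nat.card D.U * Nat.card (Hn P (D.n A)) := by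
  apply card_mul_card_of_split P.B D.U D.T (Hn P (D.n A)) (D.R A) D.U_le D.U_norm
  · intro t ht
    rw [mem_Hn]
    exact ⟨D.T_le ht, D.T_conj A t ht⟩
  · exact Hn_le P _
  · exact D.B_eq
  · intro x
    rw [D.R_mem, mem_Hn]
    constructor
    · rintro ⟨h1, h2⟩
      exact ⟨h1, D.U_le h1, h2⟩
    · rintro ⟨h1, _, h2⟩
      exact ⟨h1, h2⟩

end SplitData

end Cfsg.Agent.Helper6.Uni
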