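import Mathlib
import Cfsg.Agent.Lib.Helper22.W2PDefs
import Cfsg.Agent.Lib.Helper18.PermCharOrbits
import Cfsg.Agent.Lib.Helper24.CharOrtho
import Cfsg.Agent.Lib.Helper24.CharLinear
import Cfsg.Agent.S0719

/-!
# S0720 piece RK3 (helper1): the rank 3 case (`Y = {ψ}`), via S0719

`rank_three_case` with the exact signature of `plans/W2P_Skel.lean.txt`.
-/

set_option autoImplicit false
set_option linter.unusedVariables false

namespace Cfsg.Agent.Helper22.W2P

open Cfsg Cfsg.Agent.Helper22.PermCent Cfsg.Agent.Helper24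

open scoped ComplexConjugate

universe u v

variable {G : Type u} [Group G] [Fintype G] {Ω : Type v} [Fintype Ω] [DecidableEq Ω]
  [MulAction G Ω]

/-- PIECE RK3. -/
theorem rank_three_case (hprim : MulAction.IsPreprimitive G Ω) (p : ℕ) [Fact p.Prime]
    (hΩ : Fintype.card Ω = 2 * p) (π : G) {χ₁ ψ : G → ℂ} (hD : Decomp Ω p π χ₁ {ψ})
    (hψ : ψ 1 = (p : ℂ) - 1) (a₀ : Ω) :
    Nat.card (MulAction.orbitRel.Quotient (MulAction.stabilizer G a₀) Ω) = 3 ∧
      ∃ a : ℕ, 0 < a ∧ p = 2 * a ^ 2 + 2 * a + 1 ∧ ∀ b : Ω, b ≠ a₀ →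
        Nat.card (MulAction.orbit (MulAction.stabilizer G a₀) b) = a * (2 * a + 1) ∨
        Nat.card (MulAction.orbit (MulAction.stabilizer G a₀) b) = (a + 1) * (2 * a + 1) := by
  haveI := hprim.toIsPretransitive
  have hψirr := hD.irrY ψ (Finset.mem_singleton_self ψ)
  have h1irr : IsIrrCharacter G (fun _ : G => (1 : ℂ)) := Cfsg.Agent.Helper24.isIrrCharacter_one
  have hψ1 : ψ ≠ fun _ => 1 := fun h =>
    hD.one_notMem (by rw [← h]; exact Finset.mem_singleton_self ψ)
  have hχψ : χ₁ ≠ ψ := fun h => hD.chi_notMem (by rw [h]; exact Finset.mem_singleton_self ψ)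
  have hθ : theta G Ω = (fun _ => (1 : ℂ)) + χ₁ + ψ := by
    rw [hD.theta_eq]
    funext g
    simp [Finset.sum_singleton]
  have hrank : Nat.card (MulAction.orbitRel.Quotient (MulAction.stabilizer G a₀) Ω) = 3 := by
    have h := Cfsg.Agent.Helper18.inner_permChar_self (G := G) (X := Ω) a₀
    have h' : classInner (theta G Ω) (theta G Ω) = 3 := by
      rw [hθ]
      simp only [classInner_add_left, classInner_add_right]
      rw [irr_orthogonality h1irr h1irr, irr_orthogonality h1irr hD.irr₁,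
        irr_orthogonality h1irr hψirr, irr_orthogonality hD.irr₁ h1irr,
        irr_orthogonality hD.irr₁ hD.irr₁, irr_orthogonality hD.irr₁ hψirr,
        irr_orthogonality hψirr h1irr, irr_orthogonality hψirr hD.irr₁,
        irr_orthogonality hψirr hψirr, if_pos rfl, if_pos rfl, if_pos rfl,
        if_neg (Ne.symm hD.ne_one₁), if_neg (Ne.symm hψ1), if_neg hD.ne_one₁, if_neg hχψ,
        if_neg hψ1, if_neg (Ne.symm hχψ)]
      norm_num
    have e : Cfsg.Agent.Helper18.permChar G Ω = theta G Ω := rfl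
    rw [e, h'] at h
    exact_mod_cast h.symm
  refine ⟨hrank, ?_⟩
  refine Cfsg.Agent.S0719.result hprim hΩ a₀ hrank ψ χ₁ hψirr hD.irr₁ ?_ hψ hD.deg₁
  show theta G Ω = _
  rw [hD.theta_eq]
  funext g
  rw [Finset.sum_singleton]
  ring

end Cfsg.Agent.Helper22.W2P
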