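import Mathlib
import Cfsg.Agent.Lib.Helper18.WCDefs

/-!
# S2244 piece WC-BNORM: a weakly closed subgroup of `U` is normalised by `B`
-/

set_option autoImplicit false
set_option linter.unusedSectionVars false
set_option linter.unusedVariables false

namespace Cfsg.Agent.Helper18.WC

open Cfsg Cfsg.Lie Cfsg.Agent.Lead.Chev Cfsg.Agent.Helper6.ChevL Cfsg.Agent.Helper6.Uni
open scoped commutatorElement

section Chev

variable {F : Type*} [Field F] {D : ChevalleyDatum} (hF : ChevFacts D F)

include hF

/-- WC-BNORM: a weakly closed subgroup of `U` is normalised by `B` -/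
theorem conj_mem_of_borel (X : Subgroup (GL D.Idx F)) (hXU : X ≤ D.posUnipotent F)
    (hwc : ∀ g ∈ D.group F, X.map (MulAut.conj g).toMonoidHom ≤ D.posUnipotent F →
      X.map (MulAut.conj g).toMonoidHom = X)
    (b : GL D.Idx F) (hb : b ∈ D.borelSubgroup F) (y : GL D.Idx F) (hy : y ∈ X) :
    b * y * b⁻¹ ∈ X := by
  have hBN : D.borelSubgroup F ≤ Subgroup.normalizer (D.posUnipotent F : Set (GL D.Idx F)) := by
    unfold ChevalleyDatum.borelSubgroup
    apply sup_le
    · exact Subgroup.le_normalizer
    · exact diagonalSubgroup_le_normalizer D hF.hall hF.hconj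
  have hbN := hBN hb
  have hle : X.map (MulAut.conj b).toMonoidHom ≤ D.posUnipotent F := by
    rintro _ ⟨x, hx, rfl⟩
    show b * x * b⁻¹ ∈ _
    exact (Subgroup.mem_normalizer_iff.mp hbN x).mp (hXU hx)
  have heq := hwc b (hF.borel_le_group hb) hle
  rw [← heq]
  exact ⟨y, hy, rfl⟩

end Chev

end Cfsg.Agent.Helper18.WC
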