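import Mathlib
import Cfsg.Agent.Lib.Helper18.WCDefs

/-!
# S2244 piece WC-CCSTEP: the generic step of Claim C
-/

set_option autoImplicit false
set_option linter.unusedSectionVars false
set_option linter.unusedVariables false

namespace Cfsg.Agent.Helper18.WC

open Cfsg Cfsg.Lie Cfsg.Agent.Lead.Chev Cfsg.Agent.Helper6.ChevL Cfsg.Agent.Helper6.Uni
open scoped commutatorElement

section Chev

variable {F : Type*} [Field F] {D : ChevalleyDatum} (hF : ChevFacts D F)

include hF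

omit hF in
/-- a word lies in a subgroup as soon as all its letters do -/
theorem wc_ccstep_wordGL_mem (hX : XAdd D F) (K : Subgroup (GL D.Idx F)) (w : List (ℕ × F))
    (hw : ∀ q ∈ w, xGL D hX q.1 q.2 ∈ K) : wordGL D hX w ∈ K := by
  induction w with
  | nil => rw [wordGL_nil]; exact one_mem _
  | cons q w ih =>
    rw [wordGL_cons]
    exact mul_mem (hw q List.mem_cons_self) (ih fun q' hq' => hw q' (List.mem_cons_of_mem _ hq'))

/-- one orientation of the step: `s ∉ Φ_J`, formula for the pair `(a, s)` -/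
theorem wc_ccstep_aux (hC : CommJ D) (hNS : CommNS D) (J : Set ℕ) (r a s : ℕ) (N : ℤ)
    (ha : D.IsPosRoot a) (hs : D.IsPosRoot s) (hne : s ≠ a)
    (hhead : (D.commTerms a s).head? = some (r, N, 1, 1))
    (htail : ∀ c ∈ (D.commTerms a s).tail, r < c.1)
    (hsJ : ¬ D.InRootSub J s) (hN : (N : F) ≠ 0)
    (ih : ∀ r', r < r' → QJns D J r' → ∀ t : F,
      xGL D hF.xadd r' t ∈ ⁅D.unipotentRadical F J, D.posUnipotent F⁆) :
    ∀ t : F, xGL D hF.xadd r t ∈ ⁅D.unipotentRadical F J, D.posUnipotent F⁆ := by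
  intro t'
  obtain ⟨tl, htl⟩ : ∃ tl, D.commTerms a s = (r, N, 1, 1) :: tl := by
    cases hl : D.commTerms a s with
    | nil => rw [hl] at hhead; simp at hhead
    | cons c l =>
      rw [hl] at hhead
      simp only [List.head?_cons, Option.some.injEq] at hhead
      exact ⟨l, by rw [hhead]⟩
  have htail' : ∀ c ∈ tl, r < c.1 := by
    intro c hc
    apply htail
    rw [htl, List.tail_cons]
    exact hc
  have hmemt : ∀ c ∈ tl, c ∈ D.commTerms a s := by
    intro c hc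
    rw [htl]
    exact List.mem_cons_of_mem _ hc
  have hsna : s ≠ D.neg a := by
    intro h
    rw [h] at hs
    exact hF.sign.not_both _ hs (hF.sign.neg_of_pos a ha)
  have hc := hF.comm a ha.1 s hs.1 hne hsna
  have hcomm := comm_GL D hF.xadd a s hc (-t' / (N : F)) 1
  have hmem : ⁅(xGL D hF.xadd s (1 : F))⁻¹, (xGL D hF.xadd a (-t' / (N : F)))⁻¹⁆ ∈
      ⁅D.unipotentRadical F J, D.posUnipotent F⁆ := by
    apply Subgroup.commutator_mem_commutator
    · apply inv_mem
      rw [unipotentRadical_eq]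
      exact xGL_mem_rootGen hF.xadd _ s ⟨hs, hsJ⟩ 1
    · exact inv_mem (xGL_mem_posUnipotent D hF.xadd a ha _)
  rw [hcomm] at hmem
  unfold ChevalleyDatum.commWord at hmem
  rw [htl, List.map_cons, wordGL_cons] at hmem
  have htailmem : wordGL D hF.xadd (tl.map fun c =>
      (c.1, (c.2.1 : F) * (-(-t' / (N : F))) ^ c.2.2.1 * (1 : F) ^ c.2.2.2)) ∈
      ⁅D.unipotentRadical F J, D.posUnipotent F⁆ := by
    apply wc_ccstep_wordGL_mem
    intro q hq
    obtain ⟨c, hc', rfl⟩ := List.mem_map.1 hq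
    obtain ⟨hpos, hsupp⟩ := hC a s ha hs hne c (hmemt c hc')
    have hns := hNS a s ha hs hne c (hmemt c hc')
    apply ih c.1 (htail' c hc')
    refine ⟨hpos, ?_, hns⟩
    rw [not_inRootSub_iff J _ hpos.1]
    obtain ⟨i, hi, hiJ, hne'⟩ := (not_inRootSub_iff J s hs.1).1 hsJ
    exact ⟨i, hi, hiJ, hsupp i hi hne'⟩
  have h3 := (Subgroup.mul_mem_cancel_right _ htailmem).mp hmem
  have e : ((N : ℤ) : F) * (-(-t' / (N : F))) ^ 1 * (1 : F) ^ 1 = t' := by
    field_simp
  simp only at h3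
  rw [e] at h3
  exact h3

/-- WC-CCSTEP: the generic step of Claim C -/
theorem cc_step (hC : CommJ D) (hNS : CommNS D) (J : Set ℕ) (r a s : ℕ) (N N' : ℤ)
    (hdec : DecOK D r a s N N') (hN : (N : F) ≠ 0) (hN' : (N' : F) ≠ 0) (hr : QJns D J r)
    (ih : ∀ r', r < r' → QJns D J r' → ∀ t : F,
      xGL D hF.xadd r' t ∈ ⁅D.unipotentRadical F J, D.posUnipotent F⁆) :
    ∀ t : F, xGL D hF.xadd r t ∈ ⁅D.unipotentRadical F J, D.posUnipotent F⁆ := by
  obtain ⟨ha, hs, hne, hh1, ht1, hh2, ht2, hsupp⟩ := hdec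
  obtain ⟨i, hi, hiJ, hri⟩ := (not_inRootSub_iff J r hr.1.1).1 hr.2.1
  rcases hsupp i hi hri with h | h
  · -- `a ∉ Φ_J`: use the pair `(s, a)`
    have haJ : ¬ D.InRootSub J a := (not_inRootSub_iff J a ha.1).2 ⟨i, hi, hiJ, h⟩
    exact wc_ccstep_aux hF hC hNS J r s a N' hs ha hne hh2 ht2 haJ hN' ih
  · -- `s ∉ Φ_J`: use the pair `(a, s)`
    have hsJ : ¬ D.InRootSub J s := (not_inRootSub_iff J s hs.1).2 ⟨i, hi, hiJ, h⟩
    exact wc_ccstep_aux hF hC hNS J r a s N ha hs (Ne.symm hne) hh1 ht1 hsJ hN ih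

end Chev

end Cfsg.Agent.Helper18.WC
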