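import Mathlib
import Cfsg.Agent.Lib.Helper18.WCDefs

/-!
# S2244 piece WC-SEPT (tables): `SqOK`, `SepOK`
-/

set_option autoImplicit false
set_option linter.unusedSectionVars false
set_option linter.unusedVariables false

namespace Cfsg.Agent.Helper18.WC

open Cfsg Cfsg.Lie Cfsg.Agent.Lead.Chev Cfsg.Agent.Helper6.ChevL Cfsg.Agent.Helper6.Uni
open scoped commutatorElement

/-- table check of `SepOK` against a list of witnesses `(j, j', r)` -/
def wc_sept_chk (D : ChevalleyDatum) (two : Bool) (W : List (ℕ × ℕ × ℕ)) : Bool :=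
  (List.range D.rank).all fun j => (List.range D.rank).all fun j' =>
    decide (j = j') || W.any fun w => decide (w.1 = j) && decide (w.2.1 = j') &&
      decide (w.2.2 < D.nroots) && decide (corSum D w.2.2 (D.simple j') = 0) &&
      (decide (corSum D w.2.2 (D.simple j) = 1) || decide (corSum D w.2.2 (D.simple j) = -1) ||
        (two && (decide (corSum D w.2.2 (D.simple j) = 2) ||
          decide (corSum D w.2.2 (D.simple j) = -2))))

theorem wc_sept_of_chk (D : ChevalleyDatum) (two : Bool) (W : List (ℕ × ℕ × ℕ))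
    (h : wc_sept_chk D two W = true) : SepOK D two := by
  intro j hj j' hj' hne
  unfold wc_sept_chk at h
  rw [List.all_eq_true] at h
  have h1 := h j (List.mem_range.2 hj)
  rw [List.all_eq_true] at h1
  have h2 := h1 j' (List.mem_range.2 hj')
  rw [Bool.or_eq_true] at h2
  rcases h2 with h2 | h2
  · exact absurd (of_decide_eq_true h2) hne
  · rw [List.any_eq_true] at h2
    obtain ⟨w, _, hw⟩ := h2
    simp only [Bool.and_eq_true, Bool.or_eq_true, decide_eq_true_eq] at hw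
    obtain ⟨⟨⟨⟨hw1, hw2⟩, hw3⟩, hw4⟩, hw5⟩ := hw
    subst hw1 hw2
    refine ⟨w.2.2, hw3, hw4, ?_⟩
    rcases hw5 with (h5 | h5) | ⟨h5, h6⟩
    · exact Or.inl h5
    · exact Or.inr (Or.inl h5)
    · exact Or.inr (Or.inr ⟨h5, h6⟩)

theorem wc_sept_sep_G2 : wc_sept_chk chevG2 false
    [(0, 1, 2), (1, 0, 0)] = true := by
  decide +kernel

theorem wc_sept_sep_B2 : wc_sept_chk chevB2 true
    [(0, 1, 0), (1, 0, 1)] = true := by
  decide +kernel

theorem wc_sept_sep_D4 : wc_sept_chk chevD4 true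
    [(0, 1, 2), (0, 2, 5), (0, 3, 5), (1, 0, 0), (1, 2, 0), (1, 3, 0), (2, 0, 10), (2, 1, 2), (2, 3, 10), (3, 0, 11), (3, 1, 2), (3, 2, 11)] = true := by
  decide +kernel

theorem wc_sept_sep_F4 : wc_sept_chk chevF4 false
    [(0, 1, 3), (0, 2, 3), (0, 3, 3), (1, 0, 2), (1, 2, 7), (1, 3, 2), (2, 0, 1), (2, 1, 1), (2, 3, 2), (3, 0, 0), (3, 1, 0), (3, 2, 0)] = true := by
  decide +kernel

theorem wc_sept_sep_E6 : wc_sept_chk chevE6 false
    [(0, 1, 5), (0, 2, 8), (0, 3, 5), (0, 4, 7), (0, 5, 5), (1, 0, 0), (1, 2, 0), (1, 3, 0), (1, 4, 0), (1, 5, 0), (2, 0, 2), (2, 1, 2), (2, 3, 3), (2, 4, 4), (2, 5, 2), (3, 0, 1), (3, 1, 2), (3, 2, 1), (3, 4, 1), (3, 5, 1), (4, 0, 2), (4, 1, 2), (4, 2, 9), (4, 3, 3), (4, 5, 2), (5, 0, 3), (5, 1, 3), (5, 2, 8), (5, 3, 3), (5, 4, 4)] = true := by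
  decide +kernel

theorem wc_sept_sep_E7 : wc_sept_chk chevE7 false
    [(0, 1, 0), (0, 2, 0), (0, 3, 0), (0, 4, 0), (0, 5, 0), (0, 6, 0), (1, 0, 3), (1, 2, 3), (1, 3, 4), (1, 4, 5), (1, 5, 3), (1, 6, 3), (2, 0, 2), (2, 1, 1), (2, 3, 1), (2, 4, 1), (2, 5, 1), (2, 6, 1), (3, 0, 2), (3, 1, 2), (3, 2, 3), (3, 4, 2), (3, 5, 2), (3, 6, 2), (4, 0, 3), (4, 1, 12), (4, 2, 3), (4, 3, 4), (4, 5, 3), (4, 6, 3), (5, 0, 4), (5, 1, 11), (5, 2, 4), (5, 3, 4), (5, 4, 5), (5, 6, 4), (6, 0, 5), (6, 1, 12), (6, 2, 5), (6, 3, 5), (6, 4, 5), (6, 5, 6)] = true := by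
  decide +kernel

theorem wc_sept_sep_E8 : wc_sept_chk chevE8 false
    [(0, 1, 9), (0, 2, 9), (0, 3, 6), (0, 4, 6), (0, 5, 6), (0, 6, 6), (0, 7, 6), (1, 0, 5), (1, 2, 14), (1, 3, 6), (1, 4, 5), (1, 5, 5), (1, 6, 5), (1, 7, 5), (2, 0, 5), (2, 1, 16), (2, 3, 6), (2, 4, 5), (2, 5, 5), (2, 6, 5), (2, 7, 5), (3, 0, 4), (3, 1, 4), (3, 2, 4), (3, 4, 5), (3, 5, 4), (3, 6, 4), (3, 7, 4), (4, 0, 3), (4, 1, 3), (4, 2, 3), (4, 3, 3), (4, 5, 4), (4, 6, 3), (4, 7, 3), (5, 0, 2), (5, 1, 2), (5, 2, 2), (5, 3, 2), (5, 4, 2), (5, 6, 3), (5, 7, 2), (6, 0, 1), (6, 1, 1), (6, 2, 1), (6, 3, 1), (6, 4, 1), (6, 5, 1), (6, 7, 2), (7, 0, 0), (7, 1, 0), (7, 2, 0), (7, 3, 0), (7, 4, 0), (7, 5, 0), (7, 6, 0)] = true := by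
  decide +kernel

theorem wc_sept_sq_G2 : SqOK chevG2 := by
  unfold SqOK
  decide +kernel

theorem wc_sept_sq_B2 : SqOK chevB2 := by
  unfold SqOK
  decide +kernel

theorem wc_sept_sq_D4 : SqOK chevD4 := by
  unfold SqOK
  decide +kernel

theorem wc_sept_sq_F4 : SqOK chevF4 := by
  unfold SqOK
  decide +kernel

theorem wc_sept_sq_E6 : SqOK chevE6 := by
  unfold SqOK
  decide +kernel

theorem wc_sept_sq_E7 : SqOK chevE7 := by
  unfold SqOK
  decide +kernel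

theorem wc_sept_sq_E8 : SqOK chevE8 := by
  unfold SqOK
  decide +kernel

section Chev

variable {F : Type*} [Field F] {D : ChevalleyDatum} (hF : ChevFacts D F)

include hF

omit hF in
/-- WC-SEPT (tables) -/
theorem sqOK_of_mem (D : ChevalleyDatum)
    (hD : D ∈ [chevG2, chevB2, chevD4, chevF4, chevE6, chevE7, chevE8]) : SqOK D := by
  simp only [List.mem_cons, List.mem_nil_iff, or_false] at hD
  rcases hD with rfl | rfl | rfl | rfl | rfl | rfl | rfl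
  · exact wc_sept_sq_G2
  · exact wc_sept_sq_B2
  · exact wc_sept_sq_D4
  · exact wc_sept_sq_F4
  · exact wc_sept_sq_E6
  · exact wc_sept_sq_E7
  · exact wc_sept_sq_E8

omit hF in
theorem sepOK_of_mem (D : ChevalleyDatum)
    (hD : D ∈ [chevG2, chevF4, chevE6, chevE7, chevE8]) : SepOK D false := by
  simp only [List.mem_cons, List.mem_nil_iff, or_false] at hD
  rcases hD with rfl | rfl | rfl | rfl | rfl
  · exact wc_sept_of_chk _ _ _ wc_sept_sep_G2
  · exact wc_sept_of_chk _ _ _ wc_sept_sep_F4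
  · exact wc_sept_of_chk _ _ _ wc_sept_sep_E6
  · exact wc_sept_of_chk _ _ _ wc_sept_sep_E7
  · exact wc_sept_of_chk _ _ _ wc_sept_sep_E8

omit hF in
theorem sepOK_two_of_mem (D : ChevalleyDatum) (hD : D ∈ [chevB2, chevD4]) : SepOK D true := by
  simp only [List.mem_cons, List.mem_nil_iff, or_false] at hD
  rcases hD with rfl | rfl
  · exact wc_sept_of_chk _ _ _ wc_sept_sep_B2
  · exact wc_sept_of_chk _ _ _ wc_sept_sep_D4

end Chev

end Cfsg.Agent.Helper18.WC
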