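import Mathlib
import Cfsg.Agent.Lib.Helper1.S3FSemi
import Cfsg.Agent.Lib.Helper1.FpfThompson
import Cfsg.Agent.Lib.Helper1.Coprime
import Cfsg.Agent.Lib.Helper1.CoprimeProd
import Cfsg.Agent.Lib.Helper1.CommutatorBasic
import Cfsg.Agent.Lib.Helper21.PiSubgroup

/-!
# Ward's theorem: generalities on the action (helper1)

An elementary abelian group `P` of order `p ^ 2` acts on a finite group `G` without fixed points
(`Hyp φ p`).  Invariant subgroups, quotients, liftings of fixed points, Thompson's theorem for the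
centralisers of the non-trivial elements of `P`, minimal invariant normal subgroups.
-/

set_option autoImplicit false
set_option linter.unusedSectionVars false

namespace Cfsg.Agent.Helper1.Ward

open Cfsg.Agent.Helper1.Fpf Cfsg.Agent.Helper1.S3F Cfsg.Agent.Helper1.CoprimeProd SemidirectProduct
open scoped commutatorElement

section Inv

variable {P : Type*} [Group P] {G : Type*} [Group G] [Finite G] (φ : P →* MulAut G)

theorem inv_commutator {N : Subgroup G} (hN : InvA φ N) : InvA φ ⁅N, N⁆ := by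
  intro a x hx
  have h1 : (⁅N, N⁆).map (φ a).toMonoidHom = ⁅N, N⁆ := by
    rw [Subgroup.map_commutator, (hN a).map_eq]
  rw [← h1]
  exact Subgroup.mem_map_of_mem _ hx

theorem inv_inf {N M : Subgroup G} (hN : InvA φ N) (hM : InvA φ M) : InvA φ (N ⊓ M) :=
  fun a x hx => ⟨hN a x hx.1, hM a x hx.2⟩

theorem inv_centralizer (V : Subgroup G) (hV : InvA φ V) :
    InvA φ (Subgroup.centralizer (V : Set G)) := by
  intro a x hx
  rw [Subgroup.mem_centralizer_iff] at hx ⊢
  intro v hv
  have hv' : (φ a).symm v ∈ V := (hV a).symm v hv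
  have h1 := hx _ hv'
  have h2 := congrArg (φ a) h1
  rw [map_mul, map_mul, MulEquiv.apply_symm_apply] at h2
  exact h2

theorem inv_top : InvA φ (⊤ : Subgroup G) := fun _ _ _ => Subgroup.mem_top _

theorem inv_of_characteristic (N : Subgroup G) [hN : N.Characteristic] : InvA φ N := by
  intro a x hx
  have h2 : N.map (φ a).toMonoidHom = N := Subgroup.characteristic_iff_map_eq.mp hN (φ a)
  rw [← h2]
  exact Subgroup.mem_map_of_mem _ hx

theorem inv_comap_mk (K : Subgroup G) [K.Normal] (hK : InvA φ K) {T : Subgroup (G ⧸ K)}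
    (hT : InvA (quotHom φ K hK) T) : InvA φ (T.comap (QuotientGroup.mk' K)) := by
  intro a x hx
  rw [Subgroup.mem_comap] at hx ⊢
  have h1 := hT a _ hx
  rw [QuotientGroup.mk'_apply, quotHom_mk] at h1
  exact h1

end Inv

section Lift

variable {P : Type*} [Group P] [Finite P] {G : Type*} [Group G] [Finite G] (φ : P →* MulAut G)

/-- a coset of an invariant subgroup fixed by a subgroup of the acting group contains a fixed
element (coprime action) -/
theorem lift_fixed_sub [Group.IsSolvable P] (B : Subgroup P) (N : Subgroup G) (hN : InvA φ N)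
    (hcop : (Nat.card B).Coprime (Nat.card N)) (g : G) (hg : ∀ a ∈ B, g⁻¹ * φ a g ∈ N) :
    ∃ c, (∀ a ∈ B, φ a c = c) ∧ g⁻¹ * c ∈ N := by
  have hAD : B.map (inr : P →* G ⋊[φ] P) ≤
      Subgroup.normalizer ((N.map (inl : G →* G ⋊[φ] P) : Subgroup _) : Set (G ⋊[φ] P)) := by
    apply le_normalizer_of_forall_conj_mem
    rintro _ ⟨a, ha, rfl⟩ _ ⟨n, hn, rfl⟩
    rw [inr_conj_inl]
    exact ⟨_, hN a n hn, rfl⟩
  have hcop' : (Nat.card ↥(B.map (inr : P →* G ⋊[φ] P))).Coprime
      (Nat.card ↥(N.map (inl : G →* G ⋊[φ] P))) := by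
    rw [Subgroup.card_map_of_injective inr_injective, Subgroup.card_map_of_injective inl_injective]
    exact hcop
  have hsolv : Group.IsSolvable ↥(B.map (inr : P →* G ⋊[φ] P)) :=
    solvable_of_surjective (f := (B.equivMapOfInjective inr inr_injective).toMonoidHom)
      (B.equivMapOfInjective inr inr_injective).surjective
  obtain ⟨c', hc', hcD⟩ := exists_centralizer_mem_coset (N.map (inl : G →* G ⋊[φ] P))
    (B.map (inr : P →* G ⋊[φ] P)) hAD hcop' (Or.inl hsolv) (inl g) (by
      rintro _ ⟨a, ha, rfl⟩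
      have e : ((inl g : G ⋊[φ] P))⁻¹ * inr a * inl g * (inr a)⁻¹ = inl (g⁻¹ * φ a g) := by
        rw [map_mul, map_inv, ← inr_conj_inl]
        group
      rw [e]
      exact ⟨_, hg a ha, rfl⟩)
  obtain ⟨n, hn, hnc⟩ := hcD
  have hc : c' = inl (g * n) := by
    rw [map_mul, hnc]
    group
  refine ⟨g * n, ?_, ?_⟩
  · intro a ha
    rw [Subgroup.mem_centralizer_iff] at hc'
    have h1 := hc' (inr a) ⟨a, ha, rfl⟩
    apply inl_injective (φ := φ)
    rw [← inr_conj_inl, ← hc, h1, mul_inv_cancel_right]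
  · rw [inv_mul_cancel_left]
    exact hn

end Lift

/-- the standing hypotheses: an elementary abelian group of order `p ^ 2` acting without fixed
points -/
structure Hyp {P : Type*} [Group P] {G : Type*} [Group G] (φ : P →* MulAut G) (p : ℕ) : Prop where
  hp : p.Prime
  comm : ∀ a b : P, a * b = b * a
  exp : ∀ a : P, a ^ p = 1
  card : Nat.card P = p ^ 2
  fpf : ∀ g : G, (∀ a, φ a g = g) → g = 1

/-- the elements of the acting group fixing a given element -/
def fixer {P : Type*} [Group P] {G : Type*} [Group G] (φ : P →* MulAut G) (x : G) : Subgroup P where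
  carrier := {a | φ a x = x}
  one_mem' := by
    show φ 1 x = x
    rw [map_one]
    rfl
  mul_mem' := by
    intro a b ha hb
    have ha' : φ a x = x := ha
    have hb' : φ b x = x := hb
    show φ (a * b) x = x
    rw [map_mul, MulAut.mul_apply, hb', ha']
  inv_mem' := by
    intro a ha
    have ha' : φ a x = x := ha
    show φ a⁻¹ x = x
    rw [map_inv]
    conv_lhs => rw [← ha']
    exact MulAut.inv_apply_self _ _ _

theorem mem_fixer {P : Type*} [Group P] {G : Type*} [Group G] {φ : P →* MulAut G} {x : G} {a : P} :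
    a ∈ fixer φ x ↔ φ a x = x := Iff.rfl

namespace Hyp

variable {P : Type*} [Group P] [Finite P] {G : Type*} [Group G] [Finite G] {φ : P →* MulAut G}
  {p : ℕ} (h : Hyp φ p)
include h

theorem not_dvd : ¬ p ∣ Nat.card G := by
  haveI : Fact p.Prime := ⟨h.hp⟩
  have hP : IsPGroup p P := IsPGroup.of_card h.card
  letI : MulAction P G := MulAction.compHom G φ
  have hmod := hP.card_modEq_card_fixedPoints G
  have hfix : MulAction.fixedPoints P G = {1} := by
    ext g
    rw [MulAction.mem_fixedPoints, Set.mem_singleton_iff]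
    constructor
    · intro hg
      exact h.fpf g (fun a => hg a)
    · rintro rfl a
      exact map_one (φ a)
  intro hdvd
  have h1 : Nat.card ↥(MulAction.fixedPoints P G) = 1 := by
    rw [hfix]
    simp
  rw [h1] at hmod
  have h2 : Nat.card G % p = 1 % p := hmod
  rw [Nat.mod_eq_zero_of_dvd hdvd, Nat.mod_eq_of_lt h.hp.one_lt] at h2
  exact absurd h2 (by norm_num)

theorem coprime : (Nat.card P).Coprime (Nat.card G) := by
  rw [h.card]
  exact Nat.Coprime.pow_left 2 ((Nat.Prime.coprime_iff_not_dvd h.hp).mpr h.not_dvd)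

omit [Finite P] [Finite G] in
theorem solvP : Group.IsSolvable P := Group.isSolvable_of_comm h.comm

/-- the action on a quotient has no fixed points -/
theorem quot_fpf (N : Subgroup G) [N.Normal] (hN : InvA φ N) :
    ∀ q : G ⧸ N, (∀ a, quotHom φ N hN a q = q) → q = 1 := by
  haveI := h.solvP
  intro q hq
  induction q using QuotientGroup.induction_on with
  | H g =>
    have hmem : ∀ a ∈ (⊤ : Subgroup P), g⁻¹ * φ a g ∈ N := by
      intro a _
      have h1 := hq a
      rw [quotHom_mk] at h1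
      have h2 := h1.symm
      rwa [QuotientGroup.eq] at h2
    obtain ⟨c, hc, hcN⟩ := lift_fixed_sub φ ⊤ N hN (by
      rw [Subgroup.card_top]
      exact Nat.Coprime.coprime_dvd_right (Subgroup.card_subgroup_dvd_card N) h.coprime) g hmem
    have hc1 : c = 1 := h.fpf c (fun a => hc a (Subgroup.mem_top a))
    rw [hc1, mul_one] at hcN
    rw [QuotientGroup.eq_one_iff]
    have := N.inv_mem hcN
    rwa [inv_inv] at this

theorem quot (N : Subgroup G) [N.Normal] (hN : InvA φ N) : Hyp (quotHom φ N hN) p :=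
  ⟨h.hp, h.comm, h.exp, h.card, h.quot_fpf N hN⟩

omit [Finite P] [Finite G] in
theorem orderOf_eq {b : P} (hb1 : b ≠ 1) : orderOf b = p := by
  have h1 : orderOf b ∣ p := orderOf_dvd_of_pow_eq_one (h.exp b)
  rcases (Nat.dvd_prime h.hp).mp h1 with h2 | h2
  · exact absurd (orderOf_eq_one_iff.mp h2) hb1
  · exact h2

omit [Finite G] in
/-- a subgroup of the acting group containing two independent elements is everything -/
theorem eq_top_of_mem (B : Subgroup P) {a b : P} (hb1 : b ≠ 1) (hb : b ∈ B) (ha : a ∈ B)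
    (hab : a ∉ Subgroup.zpowers b) : B = ⊤ := by
  have hzc : Nat.card (Subgroup.zpowers b) = p := by rw [Nat.card_zpowers, h.orderOf_eq hb1]
  have hzB : Subgroup.zpowers b ≤ B := Subgroup.zpowers_le.mpr hb
  have hdvd : Nat.card B ∣ p ^ 2 := by
    rw [← h.card]
    exact Subgroup.card_subgroup_dvd_card B
  obtain ⟨k, hk, hcard⟩ := (Nat.dvd_prime_pow h.hp).mp hdvd
  have hpd : p ∣ Nat.card B := by
    rw [← hzc]
    exact Subgroup.card_dvd_of_le hzB
  interval_cases k
  · exfalso
    rw [hcard, pow_zero, Nat.dvd_one] at hpd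
    exact h.hp.one_lt.ne' hpd
  · exfalso
    rw [pow_one] at hcard
    have e1 : Subgroup.zpowers b = B := Subgroup.eq_of_le_of_card_ge hzB (by rw [hcard, hzc])
    apply hab
    rw [e1]
    exact ha
  · apply Subgroup.eq_top_of_card_eq
    rw [hcard, h.card]

omit [Finite G] in
theorem eq_one_of_fixed {a b : P} (hb1 : b ≠ 1) (hab : a ∉ Subgroup.zpowers b) {x : G}
    (hbx : φ b x = x) (hax : φ a x = x) : x = 1 := by
  apply h.fpf
  intro c
  have htop : fixer φ x = ⊤ := h.eq_top_of_mem (fixer φ x) hb1 hbx hax hab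
  have hc : c ∈ fixer φ x := by
    rw [htop]
    exact Subgroup.mem_top c
  exact hc

omit [Finite G] in
theorem exists_not_mem (B : Subgroup P) (hB : Nat.card B = p) : ∃ a, a ∉ B := by
  by_contra hcon
  push Not at hcon
  have htop : B = ⊤ := by
    rw [eq_top_iff]
    intro x _
    exact hcon x
  rw [htop, Subgroup.card_top, h.card] at hB
  have h3 : p * p = p * 1 := by rw [← pow_two, hB, mul_one]
  exact absurd (Nat.eq_of_mul_eq_mul_left h.hp.pos h3) h.hp.one_lt.ne'

omit [Finite P] [Finite G] in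
theorem inv_fixSub (a : P) : InvA φ (fixSub (φ a)) := by
  intro c x hx
  rw [mem_fixSub] at hx ⊢
  have hcomm : φ a * φ c = φ c * φ a := by rw [← map_mul, ← map_mul, h.comm]
  have h1 : φ a (φ c x) = φ c (φ a x) := by
    rw [← MulAut.mul_apply, ← MulAut.mul_apply, hcomm]
  rw [h1, hx]

/-- **Thompson**: the fixed points of a non-trivial element form a nilpotent group -/
theorem fix_nilpotent {a : P} (ha : a ≠ 1) : Group.IsNilpotent ↥(fixSub (φ a)) := by
  obtain ⟨a₁, ha₁⟩ := h.exists_not_mem (Subgroup.zpowers a)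
    (by rw [Nat.card_zpowers, h.orderOf_eq ha])
  set θ : MulAut ↥(fixSub (φ a)) := restrictHom φ _ (h.inv_fixSub a) a₁ with hθ
  have hfpf : MonoidHom.FixedPointFree θ := by
    intro x hx
    apply Subtype.ext
    have h1 : φ a₁ (x : G) = x := by
      have := congrArg Subtype.val hx
      rwa [hθ, restrictHom_apply] at this
    exact h.eq_one_of_fixed ha ha₁ x.2 h1
  have hθp : θ ^ p = 1 := by rw [hθ, ← map_pow, h.exp, map_one]
  exact fpf_nilpotent θ hfpf h.hp hθp

/-- an element of the quotient by `K ≤ C(V)`, fixed by `a` and of order prime to `t`, lifts to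
an element centralising the fixed points of `a` on the `t`-group `V` -/
theorem thompson_lift (V K : Subgroup G) [K.Normal] (hKinv : InvA φ K)
    (hKV : K ≤ Subgroup.centralizer (V : Set G)) {t : ℕ} (ht : t.Prime)
    (hVt : ∀ v ∈ V, v ^ t = 1) {a : P} (ha : a ≠ 1) (x : G ⧸ K)
    (hx : quotHom φ K hKinv a x = x) (hxt : (orderOf x).Coprime t) :
    ∃ c : G, (c : G ⧸ K) = x ∧ ∀ v ∈ V, φ a v = v → c * v = v * c := by
  haveI := h.solvP
  obtain ⟨g, rfl⟩ := QuotientGroup.mk_surjective x
  have hzf : Subgroup.zpowers a ≤ fixer (quotHom φ K hKinv) (g : G ⧸ K) :=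
    Subgroup.zpowers_le.mpr hx
  have hg : ∀ a' ∈ Subgroup.zpowers a, g⁻¹ * φ a' g ∈ K := by
    intro a' ha'
    have h1 : quotHom φ K hKinv a' (g : G ⧸ K) = g := hzf ha'
    rw [quotHom_mk] at h1
    have h2 := h1.symm
    rwa [QuotientGroup.eq] at h2
  have hcop : (Nat.card (Subgroup.zpowers a)).Coprime (Nat.card K) :=
    Nat.Coprime.coprime_dvd_left (Subgroup.card_subgroup_dvd_card _)
      (Nat.Coprime.coprime_dvd_right (Subgroup.card_subgroup_dvd_card K) h.coprime)
  obtain ⟨c, hc, hcK⟩ := lift_fixed_sub φ (Subgroup.zpowers a) K hKinv hcop g hg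
  have hca : φ a c = c := hc a (Subgroup.mem_zpowers a)
  have hmk : (c : G ⧸ K) = (g : G ⧸ K) := by
    rw [QuotientGroup.eq]
    have := K.inv_mem hcK
    rwa [mul_inv_rev, inv_inv] at this
  refine ⟨c, hmk, ?_⟩
  intro v hv hav
  haveI hnil := h.fix_nilpotent ha
  obtain ⟨e, s, hs, hn⟩ := Nat.exists_eq_pow_mul_and_not_dvd (orderOf_pos c).ne' t ht.ne_one
  have hot : (orderOf (c : G ⧸ K)).Coprime t := by
    rw [hmk]
    exact hxt
  have hcoK : c ^ orderOf (c : G ⧸ K) ∈ K := by
    rw [← QuotientGroup.eq_one_iff, QuotientGroup.mk_pow, pow_orderOf_eq_one]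
  have hcomm1 : Commute (c ^ orderOf (c : G ⧸ K)) v := by
    have h1 := hKV hcoK
    rw [Subgroup.mem_centralizer_iff] at h1
    exact (h1 v hv).symm
  have hcomm2 : Commute (c ^ (t ^ e)) v := by
    have hcC : c ^ (t ^ e) ∈ fixSub (φ a) := Subgroup.pow_mem _ hca _
    have hvC : v ∈ fixSub (φ a) := hav
    have ho1 : orderOf (⟨c ^ (t ^ e), hcC⟩ : ↥(fixSub (φ a))) ∣ s := by
      apply orderOf_dvd_of_pow_eq_one
      apply Subtype.ext
      show (c ^ (t ^ e)) ^ s = 1
      rw [← pow_mul, ← hn, pow_orderOf_eq_one]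
    have ho2 : orderOf (⟨v, hvC⟩ : ↥(fixSub (φ a))) ∣ t := by
      apply orderOf_dvd_of_pow_eq_one
      apply Subtype.ext
      exact hVt v hv
    have hst : s.Coprime t := ((Nat.Prime.coprime_iff_not_dvd ht).mpr hs).symm
    have h1 := Cfsg.Agent.Helper21.commute_of_coprime_of_nilpotent ↥(fixSub (φ a))
      ⟨c ^ (t ^ e), hcC⟩ ⟨v, hvC⟩ (isOfFinOrder_of_finite _) (isOfFinOrder_of_finite _)
      (Nat.Coprime.coprime_dvd_left ho1 (Nat.Coprime.coprime_dvd_right ho2 hst))
    exact congrArg Subtype.val h1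
  have hcop2 : Nat.Coprime (orderOf (c : G ⧸ K)) (t ^ e) := Nat.Coprime.pow_right e hot
  have hbez := Nat.gcd_eq_gcd_ab (orderOf (c : G ⧸ K)) (t ^ e)
  rw [Nat.Coprime.gcd_eq_one hcop2] at hbez
  have hc1 : c = (c ^ orderOf (c : G ⧸ K)) ^ (Nat.gcdA (orderOf (c : G ⧸ K)) (t ^ e)) *
      (c ^ (t ^ e)) ^ (Nat.gcdB (orderOf (c : G ⧸ K)) (t ^ e)) := by
    rw [← zpow_natCast c (orderOf (c : G ⧸ K)), ← zpow_natCast c (t ^ e), ← zpow_mul, ← zpow_mul,
      ← zpow_add, ← hbez]
    simp
  have hfin : Commute c v := by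
    rw [hc1]
    exact (hcomm1.zpow_left _).mul_left (hcomm2.zpow_left _)
  exact hfin.eq

end Hyp

section Minimal

variable {P : Type*} [Group P] {G : Type*} [Group G] [Finite G] (φ : P →* MulAut G)

/-- a minimal invariant normal subgroup of a solvable group is elementary abelian -/
theorem exists_prime_exp [Group.IsSolvable G] (V : Subgroup G) [hVn : V.Normal]
    (hVinv : InvA φ V) (hV1 : V ≠ ⊥)
    (hmin : ∀ N : Subgroup G, N.Normal → InvA φ N → N ≤ V → N = ⊥ ∨ N = V) :
    (∀ a ∈ V, ∀ b ∈ V, a * b = b * a) ∧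
      ∃ r : ℕ, r.Prime ∧ r ∣ Nat.card V ∧ ∀ a ∈ V, a ^ r = 1 := by
  have hVab : ∀ a ∈ V, ∀ b ∈ V, a * b = b * a := by
    have hD : ⁅V, V⁆ = ⊥ := by
      have hlt : ⁅V, V⁆ < V := Group.IsSolvable.commutator_lt_of_ne_bot hV1
      rcases hmin ⁅V, V⁆ inferInstance (inv_commutator φ hVinv) hlt.le with h | h
      · exact h
      · exact absurd h hlt.ne
    rw [Subgroup.commutator_eq_bot_iff_le_centralizer] at hD
    intro a ha b hb
    exact (Subgroup.mem_centralizer_iff.mp (hD ha) b hb).symm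
  refine ⟨hVab, ?_⟩
  have hVcard : Nat.card V ≠ 1 := fun h => hV1 (Subgroup.card_eq_one.mp h)
  obtain ⟨r, hr, hrdvd⟩ := Nat.exists_prime_and_dvd hVcard
  haveI : Fact r.Prime := ⟨hr⟩
  refine ⟨r, hr, hrdvd, ?_⟩
  let W : Subgroup G :=
    { carrier := {a | a ∈ V ∧ a ^ r = 1}
      one_mem' := ⟨V.one_mem, one_pow r⟩
      mul_mem' := fun {a b} ha hb =>
        ⟨V.mul_mem ha.1 hb.1, by
          rw [(show Commute a b from hVab a ha.1 b hb.1).mul_pow, ha.2, hb.2, one_mul]⟩
      inv_mem' := fun {a} ha => ⟨V.inv_mem ha.1, by rw [inv_pow, ha.2, inv_one]⟩ }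
  have hWn : W.Normal := ⟨fun a ha x => ⟨hVn.conj_mem a ha.1 x, by
    rw [conj_pow, ha.2, mul_one, mul_inv_cancel]⟩⟩
  have hWinv : InvA φ W := fun c a ha => ⟨hVinv c a ha.1, by rw [← map_pow, ha.2, map_one]⟩
  have hWV : W ≤ V := fun a ha => ha.1
  have hW1 : W ≠ ⊥ := by
    obtain ⟨x, hx⟩ := exists_prime_orderOf_dvd_card' (G := V) r hrdvd
    intro hbot
    have hxW : (x : G) ∈ W := by
      refine ⟨x.2, ?_⟩
      have : x ^ r = 1 := by rw [← hx]; exact pow_orderOf_eq_one x
      have h2 := congrArg Subtype.val this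
      simpa using h2
    rw [hbot, Subgroup.mem_bot] at hxW
    have : x = 1 := Subtype.ext hxW
    rw [this, orderOf_one] at hx
    exact hr.one_lt.ne hx
  have hWeq : W = V := (hmin W hWn hWinv hWV).resolve_left hW1
  intro a ha
  have : a ∈ W := hWeq ▸ ha
  exact this.2

/-- an invariant normal subgroup acting as a `t`-group on a minimal invariant normal `t`-subgroup
centralises it -/
theorem le_centralizer_of_pgroup (V : Subgroup G) [hVn : V.Normal] (hVinv : InvA φ V)
    (hmin : ∀ N : Subgroup G, N.Normal → InvA φ N → N ≤ V → N = ⊥ ∨ N = V)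
    (t : ℕ) [ht : Fact t.Prime] (htV : t ∣ Nat.card V) (T : Subgroup G) [hTn : T.Normal]
    (hTinv : InvA φ T)
    (hT : ∀ x ∈ T, ∃ k : ℕ, x ^ (t ^ k) ∈ Subgroup.centralizer (V : Set G)) :
    T ≤ Subgroup.centralizer (V : Set G) := by
  have hZn : (V ⊓ Subgroup.centralizer (T : Set G)).Normal := inferInstance
  have hZinv : InvA φ (V ⊓ Subgroup.centralizer (T : Set G)) :=
    inv_inf φ hVinv (inv_centralizer φ _ hTinv)
  have hZ1 : V ⊓ Subgroup.centralizer (T : Set G) ≠ ⊥ := by
    let f : ↥T →* MulAut ↥V := (MulAut.conjNormal (H := V)).comp T.subtype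
    have hP : IsPGroup t ↥f.range := by
      rintro ⟨_, x, rfl⟩
      obtain ⟨k, hk⟩ := hT x x.2
      refine ⟨k, ?_⟩
      apply Subtype.ext
      show (f x) ^ (t ^ k) = 1
      rw [← map_pow]
      apply MulEquiv.ext
      intro v
      apply Subtype.ext
      show ((MulAut.conjNormal ((x ^ (t ^ k) : ↥T) : G) v : ↥V) : G) = v
      rw [MulAut.conjNormal_apply]
      have h1 : ((x ^ (t ^ k) : ↥T) : G) ∈ Subgroup.centralizer (V : Set G) := by
        push_cast
        exact hk
      rw [Subgroup.mem_centralizer_iff] at h1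
      rw [← h1 v v.2, mul_inv_cancel_right]
    have hfix1 : (1 : ↥V) ∈ MulAction.fixedPoints ↥f.range ↥V := by
      intro q
      show (q : MulAut ↥V) 1 = 1
      exact map_one _
    obtain ⟨b, hb, hb1⟩ := hP.exists_fixed_point_of_prime_dvd_card_of_fixed_point ↥V htV hfix1
    intro h
    have h1 : (b : G) ∈ V ⊓ Subgroup.centralizer (T : Set G) := by
      refine Subgroup.mem_inf.mpr ⟨b.2, ?_⟩
      rw [Subgroup.mem_centralizer_iff]
      intro x hx
      have h2 : (⟨f ⟨x, hx⟩, ⟨x, hx⟩, rfl⟩ : ↥f.range) • b = b := hb _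
      have h3 : f ⟨x, hx⟩ b = b := h2
      have h4 := congrArg Subtype.val h3
      have h5 : ((f ⟨x, hx⟩ b : ↥V) : G) = x * b * x⁻¹ := MulAut.conjNormal_apply _ _
      rw [h5] at h4
      calc x * (b : G) = (x * b * x⁻¹) * x := by group
        _ = b * x := by rw [h4]
    rw [h, Subgroup.mem_bot] at h1
    exact hb1 (Subtype.ext h1).symm
  have hZV := (hmin _ hZn hZinv inf_le_left).resolve_left hZ1
  have hVle : V ≤ Subgroup.centralizer (T : Set G) := by
    rw [← hZV]
    exact inf_le_right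
  exact Subgroup.le_centralizer_iff.mp hVle

end Minimal

end Cfsg.Agent.Helper1.Ward
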