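import Mathlib
import Cfsg.Agent.Lib.Helper1.S3FWeight
import Cfsg.Agent.Lib.Helper1.Glauberman

/-!
# Ward's theorem, the linear part (helper1)

`Γ = H A` acts on a vector space `W`; `A` is elementary abelian of order `p ^ 2` with no fixed
vectors, `D` is a minimal normal subgroup of `Γ` inside `H`, abelian of order prime to the
characteristic and without fixed vectors.  The hypothesis `hThom` records the consequence of
Thompson's theorem: elements of `H` of order prime to `t` which commute with `y ∈ A` fix the fixed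
vectors of `y`.  Conclusion (`LSetup.main`): there is a subgroup `B₀` of order `p` of `A` such that
no non-trivial element of `H` of order prime to `t` commutes with an element of `A` outside `B₀`.
-/

set_option autoImplicit false
set_option linter.unusedSectionVars false

namespace Cfsg.Agent.Helper1.Ward

open Cfsg.Agent.Helper8.FrobLin Cfsg.Agent.Helper8.HHLin Cfsg.Agent.Helper1.S3F
open scoped Classical

attribute [local instance] dualAct

variable {F : Type*} [Field F] [IsAlgClosed F] {Γ : Type*} [Group Γ] [Finite Γ]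
  {W : Type*} [AddCommGroup W] [Module F W]

section Gen

variable (ρ : Representation F Γ W) (D : Subgroup Γ) [D.Normal] [Fintype ↥D]

theorem rho_pow_fix {x : Γ} {u : W} (h : ρ x u = u) (m : ℕ) : ρ (x ^ m) u = u := by
  induction m with
  | zero => rw [pow_zero, map_one]; rfl
  | succ m ih => rw [pow_succ, rho_mul_apply, h, ih]

theorem Wt_smul_ne_bot {χ : Ch F D} (hχ : Wt ρ D χ ≠ ⊥) (g : Γ) : Wt ρ D (g • χ) ≠ ⊥ := by
  obtain ⟨w, hw, hw0⟩ := exists_ne_zero_of_ne_bot ρ D hχ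
  intro hbot
  have h1 := rho_mem_Wt ρ D g hw
  rw [hbot, Submodule.mem_bot] at h1
  apply hw0
  have h2 := rho_inv_rho ρ g w
  rw [h1, map_zero] at h2
  exact h2.symm

theorem smul_of_pow_smul {α : Type*} [MulAction Γ α] {y : Γ} {p : ℕ} (hp : p.Prime)
    (hy : y ^ p = 1) {j : ℕ} (hj : ¬ p ∣ j) {x : α} (h : y ^ j • x = x) : y • x = x := by
  have hcop : Nat.Coprime j p := ((Nat.Prime.coprime_iff_not_dvd hp).mpr hj).symm
  obtain ⟨m, -, hm⟩ := Nat.exists_mul_mod_eq_one_of_coprime hcop hp.one_lt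
  have h1 : y ^ (j * m) = y := by
    conv_lhs => rw [← Nat.mod_add_div (j * m) p, hm, pow_add, pow_mul, hy, one_pow, mul_one,
      pow_one]
  have h2 : ∀ n : ℕ, (y ^ j) ^ n • x = x := by
    intro n
    induction n with
    | zero => rw [pow_zero, one_smul]
    | succ n ih => rw [pow_succ, mul_smul, h, ih]
  have h3 := h2 m
  rw [← pow_mul, h1] at h3
  exact h3

/-- the stabiliser of a weight in the acting group -/
def stb (A : Subgroup Γ) (χ : Ch F D) : Subgroup Γ := A ⊓ MulAction.stabilizer Γ χ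

theorem mem_stb {A : Subgroup Γ} {χ : Ch F D} {a : Γ} :
    a ∈ stb D A χ ↔ a ∈ A ∧ a • χ = χ := by
  unfold stb
  rw [Subgroup.mem_inf, MulAction.mem_stabilizer_iff]

end Gen

/-- the standing hypotheses -/
structure LSetup (ρ : Representation F Γ W) (H A D : Subgroup Γ) (p t : ℕ) : Prop where
  hp : p.Prime
  hAc : ∀ a ∈ A, ∀ b ∈ A, a * b = b * a
  hAp : ∀ a ∈ A, a ^ p = 1
  hAcard : Nat.card A = p ^ 2
  hpH : (Nat.card H).Coprime p
  hΓ : ∀ γ : Γ, ∃ h ∈ H, ∃ a ∈ A, γ = h * a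
  hDH : D ≤ H
  hDab : ∀ a ∈ D, ∀ b ∈ D, a * b = b * a
  hDF : (Nat.card ↥D : F) ≠ 0
  hDt : (Nat.card ↥D).Coprime t
  hDmin : ∀ N : Subgroup Γ, N.Normal → N ≤ D → N = ⊥ ∨ N = D
  hD1 : D ≠ ⊥
  hfixD : ∀ w : W, (∀ d ∈ D, ρ d w = w) → w = 0
  hfixA : ∀ w : W, (∀ a ∈ A, ρ a w = w) → w = 0
  hfaith : ∀ h ∈ H, ρ h = 1 → h = 1
  hCDA : ∀ d ∈ D, (∀ a ∈ A, a * d = d * a) → d = 1
  hThom : ∀ y ∈ A, y ≠ 1 → ∀ h ∈ H, h * y = y * h → (orderOf h).Coprime t →
    ∀ w : W, ρ y w = w → ρ h w = w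

variable {ρ : Representation F Γ W} {H A D : Subgroup Γ} {p t : ℕ}

namespace LSetup

variable (S : LSetup ρ H A D p t) [hHn : H.Normal] [hDn : D.Normal] [Fintype ↥D]
include S

omit hHn in
theorem chi_conj {χ : Ch F D} {a : Γ} (h : a • χ = χ) (d : ↥D) :
    χ (QuotientGroup.mk (MulAut.conjNormal a d)) = χ (QuotientGroup.mk d) := by
  have h1 := (smul_eq_iff D a⁻¹ χ).mp (smul_inv_eq D h) d
  rwa [inv_inv] at h1

omit hHn in
/-- a coset of the kernel of an invariant character contains an element centralising the acting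
group -/
theorem exists_comm_same (B : Subgroup Γ) (hBA : B ≤ A) (χ : Ch F D) (hB : ∀ b ∈ B, b • χ = χ)
    (d : ↥D) : ∃ c : ↥D, (∀ b ∈ B, b * (c : Γ) = (c : Γ) * b) ∧
      χ (QuotientGroup.mk c) = χ (QuotientGroup.mk d) := by
  set K : Subgroup Γ :=
    ((χ.comp (QuotientGroup.mk' ((⊥ : Subgroup Γ).subgroupOf D))).ker).map D.subtype with hK
  have hmemK : ∀ x : Γ, x ∈ K ↔ ∃ e : ↥D, χ (QuotientGroup.mk e) = 1 ∧ (e : Γ) = x := by
    intro x
    rw [hK, Subgroup.mem_map]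
    constructor
    · rintro ⟨e, he, rfl⟩
      exact ⟨e, he, rfl⟩
    · rintro ⟨e, he, rfl⟩
      exact ⟨e, he, rfl⟩
  have hKD : K ≤ D := by
    rw [hK]
    exact Subgroup.map_subtype_le _
  have hconj : ∀ b ∈ B, ∀ x ∈ K, b * x * b⁻¹ ∈ K := by
    intro b hb x hx
    obtain ⟨e, he, rfl⟩ := (hmemK x).mp hx
    rw [hmemK]
    refine ⟨MulAut.conjNormal b e, ?_, ?_⟩
    · rw [S.chi_conj (hB b hb), he]
    · rw [MulAut.conjNormal_apply]
  have hBK : B ≤ Subgroup.normalizer (K : Set Γ) := by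
    intro b hb
    rw [Subgroup.mem_normalizer_iff]
    intro x
    constructor
    · exact hconj b hb x
    · intro hx
      have h1 := hconj b⁻¹ (B.inv_mem hb) _ hx
      have h2 : b⁻¹ * (b * x * b⁻¹) * b⁻¹⁻¹ = x := by group
      rwa [h2] at h1
  have hcop : (Nat.card B).Coprime (Nat.card K) := by
    have h1 : Nat.card B ∣ p ^ 2 := by
      rw [← S.hAcard]
      exact Subgroup.card_dvd_of_le hBA
    have h2 : Nat.card K ∣ Nat.card H := Subgroup.card_dvd_of_le (hKD.trans S.hDH)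
    exact Nat.Coprime.coprime_dvd_left h1
      (Nat.Coprime.coprime_dvd_right h2 (Nat.Coprime.pow_left 2 S.hpH.symm))
  have hsolv : Group.IsSolvable ↥B :=
    Group.isSolvable_of_comm (fun a b => Subtype.ext (S.hAc a (hBA a.2) b (hBA b.2)))
  obtain ⟨c, hc, hcK⟩ := exists_centralizer_mem_coset K B hBK hcop (Or.inl hsolv) (d : Γ) (by
    intro b hb
    rw [hmemK]
    refine ⟨d⁻¹ * MulAut.conjNormal b d, ?_, ?_⟩
    · rw [QuotientGroup.mk_mul, QuotientGroup.mk_inv, map_mul, map_inv, S.chi_conj (hB b hb),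
        inv_mul_cancel]
    · rw [Subgroup.coe_mul, Subgroup.coe_inv, MulAut.conjNormal_apply]
      group)
  obtain ⟨e, he, hec⟩ := (hmemK _).mp hcK
  have hcD : c ∈ D := by
    have h1 : c = (d : Γ) * ((d : Γ)⁻¹ * c) := by group
    rw [h1]
    exact D.mul_mem d.2 (hKD hcK)
  refine ⟨⟨c, hcD⟩, ?_, ?_⟩
  · intro b hb
    rw [Subgroup.mem_centralizer_iff] at hc
    exact hc b hb
  · have h1 : (⟨c, hcD⟩ : ↥D) = d * e := by
      apply Subtype.ext
      rw [Subgroup.coe_mul, hec]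
      simp
    rw [h1, QuotientGroup.mk_mul, map_mul, he, mul_one]

omit hHn in
/-- no weight is fixed by the whole acting group -/
theorem exists_not_fix {χ : Ch F D} (hχ : Wt ρ D χ ≠ ⊥) : ∃ a ∈ A, a • χ ≠ χ := by
  by_contra hcon
  push Not at hcon
  obtain ⟨w, hw, hw0⟩ := exists_ne_zero_of_ne_bot ρ D hχ
  apply hw0
  apply S.hfixD
  intro d hd
  obtain ⟨c, hc, hcd⟩ := S.exists_comm_same A le_rfl χ hcon ⟨d, hd⟩
  have hc1 : (c : Γ) = 1 := S.hCDA c c.2 hc
  have hc1' : c = 1 := Subtype.ext hc1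
  rw [hc1', QuotientGroup.mk_one, map_one] at hcd
  have h1 := rho_D_apply ρ D S.hDF hw ⟨d, hd⟩
  rw [h1]
  unfold ev
  rw [← hcd]
  simp

omit hHn in
/-- every weight is fixed by a non-trivial element of the acting group -/
theorem exists_fix {χ : Ch F D} (hχ : Wt ρ D χ ≠ ⊥) : ∃ a ∈ A, a ≠ 1 ∧ a • χ = χ := by
  by_contra hcon
  push Not at hcon
  obtain ⟨w, hw, hw0⟩ := exists_ne_zero_of_ne_bot ρ D hχ
  apply hw0
  letI : Fintype ↥A := Fintype.ofFinite _
  set u : W := ∑ a : ↥A, ρ (a : Γ) w with hu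
  have hfix : ∀ b ∈ A, ρ b u = u := by
    intro b hb
    rw [hu, map_sum]
    rw [← Equiv.sum_comp (Equiv.mulLeft (⟨b, hb⟩ : ↥A)) (fun c : ↥A => ρ (c : Γ) w)]
    apply Finset.sum_congr rfl
    intro c _
    rw [← rho_mul_apply]
    rfl
  have hu0 : u = 0 := S.hfixA u hfix
  have h1 := congrArg (wproj ρ D ⊥ χ) hu0
  rw [map_zero, hu, map_sum] at h1
  rw [Finset.sum_eq_single (1 : ↥A)] at h1
  · rw [wproj_rho ρ D S.hDF hw, if_pos (by rw [Subgroup.coe_one, one_smul])] at h1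
    rw [Subgroup.coe_one, map_one] at h1
    exact h1
  · intro a _ ha
    rw [wproj_rho ρ D S.hDF hw, if_neg]
    apply hcon (a : Γ) a.2
    intro h
    exact ha (Subtype.ext h)
  · intro h
    exact absurd (Finset.mem_univ _) h

omit hHn in
theorem card_stb {χ : Ch F D} (hχ : Wt ρ D χ ≠ ⊥) : Nat.card (stb D A χ) = p := by
  have hle : stb D A χ ≤ A := inf_le_left
  have hdvd : Nat.card (stb D A χ) ∣ p ^ 2 := by
    rw [← S.hAcard]
    exact Subgroup.card_dvd_of_le hle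
  obtain ⟨k, hk, hcard⟩ := (Nat.dvd_prime_pow S.hp).mp hdvd
  interval_cases k
  · exfalso
    rw [pow_zero, Subgroup.card_eq_one] at hcard
    obtain ⟨a, ha, ha1, hfix⟩ := S.exists_fix hχ
    have : a ∈ stb D A χ := (mem_stb D).mpr ⟨ha, hfix⟩
    rw [hcard, Subgroup.mem_bot] at this
    exact ha1 this
  · rw [hcard, pow_one]
  · exfalso
    have heq : stb D A χ = A := Subgroup.eq_of_le_of_card_ge hle (by rw [hcard, S.hAcard])
    obtain ⟨a, ha, hne⟩ := S.exists_not_fix hχ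
    rw [← heq] at ha
    exact hne ((mem_stb D).mp ha).2

omit hHn in
theorem stb_smul_A (χ : Ch F D) {a : Γ} (ha : a ∈ A) : stb D A (a • χ) = stb D A χ := by
  ext b
  rw [mem_stb, mem_stb]
  constructor
  · rintro ⟨hb, h⟩
    refine ⟨hb, ?_⟩
    rw [← mul_smul, S.hAc b hb a ha, mul_smul] at h
    exact smul_left_cancel a h
  · rintro ⟨hb, h⟩
    refine ⟨hb, ?_⟩
    rw [← mul_smul, S.hAc b hb a ha, mul_smul, h]

/-- elements of `H` preserve the stabilisers of the weights -/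
theorem stb_smul_H {χ : Ch F D} (hχ : Wt ρ D χ ≠ ⊥) {h : Γ} (hh : h ∈ H) :
    stb D A (h • χ) = stb D A χ := by
  by_contra hne
  have hχ' := Wt_smul_ne_bot ρ D hχ h
  have hc1 := S.card_stb hχ
  have hc2 := S.card_stb hχ'
  let A' : Subgroup Γ :=
    { carrier := {a | a ∈ A ∧ ∃ k ∈ H, a • χ = k • χ}
      one_mem' := ⟨A.one_mem, 1, H.one_mem, rfl⟩
      mul_mem' := by
        rintro a1 a2 ⟨ha1, k1, hk1, e1⟩ ⟨ha2, k2, hk2, e2⟩
        refine ⟨A.mul_mem ha1 ha2, a1 * k2 * a1⁻¹ * k1,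
          H.mul_mem (hHn.conj_mem k2 hk2 a1) hk1, ?_⟩
        have e3 : (a1 * k2 * a1⁻¹ * k1) • χ = (a1 * k2 * a1⁻¹) • (a1 • χ) := by
          rw [mul_smul (a1 * k2 * a1⁻¹) k1 χ, e1]
        rw [e3, mul_smul a1 a2 χ, e2, mul_smul (a1 * k2) a1⁻¹ (a1 • χ), inv_smul_smul,
          mul_smul a1 k2 χ]
      inv_mem' := by
        rintro a ⟨ha, k, hk, e⟩
        refine ⟨A.inv_mem ha, a⁻¹ * k⁻¹ * a, ?_, ?_⟩
        · have h1 := hHn.conj_mem k⁻¹ (H.inv_mem hk) a⁻¹
          rwa [inv_inv] at h1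
        · rw [mul_smul, mul_smul, e, inv_smul_smul] }
  have hS1 : stb D A χ ≤ A' := by
    intro a ha
    obtain ⟨ha1, ha2⟩ := (mem_stb D).mp ha
    exact ⟨ha1, 1, H.one_mem, by rw [ha2, one_smul]⟩
  have hS2 : stb D A (h • χ) ≤ A' := by
    intro a ha
    obtain ⟨ha1, ha2⟩ := (mem_stb D).mp ha
    refine ⟨ha1, a * h⁻¹ * a⁻¹ * h, H.mul_mem (hHn.conj_mem h⁻¹ (H.inv_mem hh) a) hh, ?_⟩
    have h3 : a⁻¹ • (h • χ) = h • χ := by rw [inv_smul_eq_iff, ha2]
    rw [mul_smul, mul_smul, h3, mul_smul, inv_smul_smul]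
  have hsupA : stb D A χ ⊔ stb D A (h • χ) ≤ A := sup_le inf_le_left inf_le_left
  have hsup : stb D A χ ⊔ stb D A (h • χ) = A := by
    have hdvd : Nat.card ↥(stb D A χ ⊔ stb D A (h • χ)) ∣ p ^ 2 := by
      rw [← S.hAcard]
      exact Subgroup.card_dvd_of_le hsupA
    have hpd : p ∣ Nat.card ↥(stb D A χ ⊔ stb D A (h • χ)) := by
      rw [← hc1]
      exact Subgroup.card_dvd_of_le le_sup_left
    obtain ⟨k, hk, hcard⟩ := (Nat.dvd_prime_pow S.hp).mp hdvd
    interval_cases k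
    · exfalso
      rw [hcard, pow_zero, Nat.dvd_one] at hpd
      exact S.hp.one_lt.ne' hpd
    · exfalso
      rw [pow_one] at hcard
      have e1 : stb D A χ = stb D A χ ⊔ stb D A (h • χ) :=
        Subgroup.eq_of_le_of_card_ge le_sup_left (by rw [hcard, hc1])
      have e2 : stb D A (h • χ) ≤ stb D A χ := by
        rw [e1]
        exact le_sup_right
      exact hne (Subgroup.eq_of_le_of_card_ge e2 (by rw [hc1, hc2]))
    · exact Subgroup.eq_of_le_of_card_ge hsupA (by rw [hcard, S.hAcard])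
  have hAA' : A ≤ A' := by
    rw [← hsup]
    exact sup_le hS1 hS2
  have hcop : (Nat.card A).Coprime (Nat.card H) := by
    rw [S.hAcard]
    exact Nat.Coprime.pow_left 2 S.hpH.symm
  have hsolv : Group.IsSolvable ↥A :=
    Group.isSolvable_of_comm (fun a b => Subtype.ext (S.hAc a a.2 b b.2))
  obtain ⟨k, hk, hfix⟩ := glauberman_exists_fixed A H hcop (Or.inl hsolv) χ
    (fun a ha => (hAA' ha).2)
  obtain ⟨a, ha, hne'⟩ := S.exists_not_fix (Wt_smul_ne_bot ρ D hχ k)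
  exact hne' (hfix a ha)

theorem stb_smul {χ : Ch F D} (hχ : Wt ρ D χ ≠ ⊥) (γ : Γ) : stb D A (γ • χ) = stb D A χ := by
  obtain ⟨h, hh, a, ha, rfl⟩ := S.hΓ γ
  rw [mul_smul, S.stb_smul_H (Wt_smul_ne_bot ρ D hχ a) hh, S.stb_smul_A χ ha]

/-- a first approximation to `fix_of_not_stb`: some `y ^ k * h` fixes the vector -/
theorem exists_pow_fix {y : Γ} (hy : y ∈ A) {h : Γ} (hh : h ∈ H) (hcomm : h * y = y * h)
    (hht : (orderOf h).Coprime t) {χ : Ch F D} (hχ : Wt ρ D χ ≠ ⊥) (hyχ : y • χ ≠ χ)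
    {w : W} (hw : w ∈ Wt ρ D χ) : ∃ k : ℕ, ρ (y ^ k * h) w = w := by
  have hy1 : y ≠ 1 := by
    rintro rfl
    exact hyχ (one_smul _ _)
  have hyp : y ^ p = 1 := S.hAp y hy
  by_cases hw0 : w = 0
  · exact ⟨0, by rw [hw0, map_zero]⟩
  have hpow : ∀ k, 0 < k → k < p → y ^ k • χ ≠ χ := fun k hk0 hkp hfix =>
    hyχ (smul_of_pow_smul S.hp hyp (Nat.not_dvd_of_pos_of_lt hk0 hkp) hfix)
  set u : W := ∑ k ∈ Finset.range p, ρ (y ^ k) w with hu
  have hyu : ρ y u = u := by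
    rw [hu, map_sum]
    have e1 : ∀ k ∈ Finset.range p, ρ y (ρ (y ^ k) w) = ρ (y ^ (k + 1)) w := by
      intro k _
      rw [← rho_mul_apply, ← pow_succ']
    rw [Finset.sum_congr rfl e1]
    have e2 := Finset.sum_range_succ' (fun k => ρ (y ^ k) w) p
    have e3 := Finset.sum_range_succ (fun k => ρ (y ^ k) w) p
    rw [e3, hyp, pow_zero] at e2
    exact (add_right_cancel e2).symm
  have hhu : ρ h u = u := S.hThom y hy hy1 h hh hcomm hht u hyu
  have hcomk : ∀ k : ℕ, h * y ^ k = y ^ k * h := fun k =>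
    ((show Commute h y from hcomm).pow_right k).eq
  have e1 : ρ h u = ∑ k ∈ Finset.range p, ρ (y ^ k * h) w := by
    rw [hu, map_sum]
    apply Finset.sum_congr rfl
    intro k _
    rw [← rho_mul_apply, hcomk]
  have e2 := congrArg (wproj ρ D ⊥ χ) (e1.symm.trans hhu)
  rw [hu, map_sum, map_sum] at e2
  have r1 : ∑ k ∈ Finset.range p, wproj ρ D ⊥ χ (ρ (y ^ k) w) = w := by
    rw [Finset.sum_eq_single 0]
    · rw [wproj_rho ρ D S.hDF hw, if_pos (by rw [pow_zero, one_smul]), pow_zero, map_one]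
      rfl
    · intro k hk hk0
      rw [wproj_rho ρ D S.hDF hw, if_neg]
      exact hpow k (Nat.pos_of_ne_zero hk0) (Finset.mem_range.mp hk)
    · intro h0
      exact absurd (Finset.mem_range.mpr S.hp.pos) h0
  rw [r1] at e2
  -- the weight `h • χ` is not fixed by `y`
  have hyψ : y • (h • χ) ≠ h • χ := by
    intro hfix
    have h1 : y ∈ stb D A (h • χ) := (mem_stb D).mpr ⟨hy, hfix⟩
    rw [S.stb_smul_H hχ hh] at h1
    exact hyχ ((mem_stb D).mp h1).2
  have huniq : ∀ k l : ℕ, k ≤ l → l < p → y ^ k • (h • χ) = y ^ l • (h • χ) → k = l := by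
    intro k l hkl hlp e
    by_contra hne
    have hlt : k < l := lt_of_le_of_ne hkl hne
    have e' : y ^ l = y ^ k * y ^ (l - k) := by
      rw [← pow_add]
      congr 1
      omega
    rw [e', mul_smul] at e
    have e'' := (smul_left_cancel _ e).symm
    exact hyψ (smul_of_pow_smul S.hp hyp
      (Nat.not_dvd_of_pos_of_lt (by omega) (by omega)) e'')
  -- some `k` fixes the weight
  have hex : ∃ k ∈ Finset.range p, (y ^ k * h) • χ = χ := by
    by_contra hcon
    push Not at hcon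
    apply hw0
    rw [← e2]
    apply Finset.sum_eq_zero
    intro k hk
    rw [wproj_rho ρ D S.hDF hw, if_neg (hcon k hk)]
  obtain ⟨k₀, hk₀, hfix₀⟩ := hex
  refine ⟨k₀, ?_⟩
  rw [Finset.sum_eq_single k₀] at e2
  · rw [wproj_rho ρ D S.hDF hw, if_pos hfix₀] at e2
    exact e2
  · intro k hk hne
    rw [wproj_rho ρ D S.hDF hw, if_neg]
    intro hfix
    apply hne
    have e3 : y ^ k • (h • χ) = y ^ k₀ • (h • χ) := by
      rw [← mul_smul, ← mul_smul, hfix, hfix₀]
    rcases le_total k k₀ with hle | hle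
    · exact huniq k k₀ hle (Finset.mem_range.mp hk₀) e3
    · exact (huniq k₀ k hle (Finset.mem_range.mp hk) e3.symm).symm
  · intro h0
    exact absurd hk₀ h0

/-- an element of `H` of order prime to `t` commuting with `y` fixes pointwise the weight spaces
whose weight is moved by `y` -/
theorem fix_of_not_stb {y : Γ} (hy : y ∈ A) {h : Γ} (hh : h ∈ H) (hcomm : h * y = y * h)
    (hht : (orderOf h).Coprime t) {χ : Ch F D} (hχ : Wt ρ D χ ≠ ⊥) (hyχ : y • χ ≠ χ)
    {w : W} (hw : w ∈ Wt ρ D χ) : ρ h w = w := by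
  have hyp : y ^ p = 1 := S.hAp y hy
  have hord : orderOf h ∣ Nat.card H := by
    have h1 : orderOf (⟨h, hh⟩ : ↥H) = orderOf h := Subgroup.orderOf_mk h hh
    rw [← h1]
    exact orderOf_dvd_natCard _
  have hcop : p.Coprime (orderOf h) := (Nat.Coprime.coprime_dvd_left hord S.hpH).symm
  obtain ⟨m, hm⟩ := exists_pow_eq_self_of_coprime hcop
  have hh'p : (h ^ m) ^ p = h := by
    rw [← pow_mul, mul_comm, pow_mul, hm]
  have hcomm' : Commute (h ^ m) y := (show Commute h y from hcomm).pow_left m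
  obtain ⟨k, hk⟩ := S.exists_pow_fix hy (H.pow_mem hh m) hcomm'.eq
    (Nat.Coprime.coprime_dvd_left (orderOf_pow_dvd m) hht) hχ hyχ hw
  have hc2 : Commute (y ^ k) (h ^ m) := (hcomm'.pow_right k).symm
  have e : (y ^ k * h ^ m) ^ p = h := by
    rw [hc2.mul_pow, ← pow_mul, mul_comm k p, pow_mul, hyp, one_pow, one_mul, hh'p]
  rw [← e]
  exact rho_pow_fix ρ hk p

/-- all weights have the same stabiliser -/
theorem stb_eq {χ₁ χ₂ : Ch F D} (h₁ : Wt ρ D χ₁ ≠ ⊥) (h₂ : Wt ρ D χ₂ ≠ ⊥) :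
    stb D A χ₁ = stb D A χ₂ := by
  by_contra hne
  have hc1 := S.card_stb h₁
  have hc2 := S.card_stb h₂
  -- the elements of `D` acting trivially on the weight spaces of the type of `χ₂`
  let N : Subgroup Γ :=
    { carrier := {d | d ∈ D ∧ ∀ χ : Ch F D, Wt ρ D χ ≠ ⊥ → stb D A χ = stb D A χ₂ →
        ∀ w ∈ Wt ρ D χ, ρ d w = w}
      one_mem' := ⟨D.one_mem, fun χ _ _ w _ => by rw [map_one]; rfl⟩
      mul_mem' := by
        rintro a b ⟨ha, ha'⟩ ⟨hb, hb'⟩
        refine ⟨D.mul_mem ha hb, fun χ hχ hs w hw => ?_⟩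
        rw [rho_mul_apply, hb' χ hχ hs w hw, ha' χ hχ hs w hw]
      inv_mem' := by
        rintro a ⟨ha, ha'⟩
        refine ⟨D.inv_mem ha, fun χ hχ hs w hw => ?_⟩
        have h1 := rho_inv_rho ρ a w
        rwa [ha' χ hχ hs w hw] at h1 }
  have hNn : N.Normal := by
    constructor
    rintro d ⟨hd, hd'⟩ γ
    refine ⟨hDn.conj_mem d hd γ, fun χ hχ hs w hw => ?_⟩
    have hw' : ρ γ⁻¹ w ∈ Wt ρ D (γ⁻¹ • χ) := rho_mem_Wt ρ D γ⁻¹ hw
    have hχ' := Wt_smul_ne_bot ρ D hχ γ⁻¹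
    have hs' : stb D A (γ⁻¹ • χ) = stb D A χ₂ := by rw [S.stb_smul hχ, hs]
    rw [rho_mul_apply, rho_mul_apply, hd' _ hχ' hs' _ hw']
    have h1 := rho_inv_rho ρ γ⁻¹ w
    rwa [inv_inv] at h1
  have hND : N ≤ D := fun d hd => hd.1
  -- a non-trivial element of `N`
  have hN1 : N ≠ ⊥ := by
    have hgt : 1 < Nat.card (stb D A χ₁) := by
      rw [hc1]
      exact S.hp.one_lt
    obtain ⟨y, hy1⟩ := (Subgroup.one_lt_card_iff_ne_bot _).mp hgt |> (Subgroup.ne_bot_iff_exists_ne_one).mp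
    obtain ⟨hyA, hyχ₁⟩ := (mem_stb D).mp y.2
    -- `y` is not in the second stabiliser
    have hy2 : (y : Γ) ∉ stb D A χ₂ := by
      intro hy2
      have hinf : stb D A χ₁ ⊓ stb D A χ₂ ≠ ⊥ := by
        intro hbot
        have : (y : Γ) ∈ stb D A χ₁ ⊓ stb D A χ₂ := Subgroup.mem_inf.mpr ⟨y.2, hy2⟩
        rw [hbot, Subgroup.mem_bot] at this
        exact hy1 (Subtype.ext this)
      have hdvd : Nat.card ↥(stb D A χ₁ ⊓ stb D A χ₂) ∣ p := by
        rw [← hc1]
        exact Subgroup.card_dvd_of_le inf_le_left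
      rcases (Nat.dvd_prime S.hp).mp hdvd with h1 | h1
      · exact hinf (Subgroup.card_eq_one.mp h1)
      · have e1 : stb D A χ₁ ⊓ stb D A χ₂ = stb D A χ₁ :=
          Subgroup.eq_of_le_of_card_ge inf_le_left (by rw [h1, hc1])
        have e2 : stb D A χ₁ ⊓ stb D A χ₂ = stb D A χ₂ :=
          Subgroup.eq_of_le_of_card_ge inf_le_right (by rw [h1, hc2])
        exact hne (e1.symm.trans e2)
    -- a non-trivial value of `χ₁`
    have hexd : ∃ d : ↥D, χ₁ (QuotientGroup.mk d) ≠ 1 := by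
      by_contra hcon
      push Not at hcon
      obtain ⟨w, hw, hw0⟩ := exists_ne_zero_of_ne_bot ρ D h₁
      apply hw0
      apply S.hfixD
      intro d hd
      rw [rho_D_apply ρ D S.hDF hw ⟨d, hd⟩]
      unfold ev
      rw [hcon ⟨d, hd⟩]
      simp
    obtain ⟨d, hd⟩ := hexd
    obtain ⟨c, hc, hcd⟩ := S.exists_comm_same (stb D A χ₁) inf_le_left χ₁
      (fun b hb => ((mem_stb D).mp hb).2) d
    have hc1' : (c : Γ) ≠ 1 := by
      intro h
      have : c = 1 := Subtype.ext h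
      rw [this, QuotientGroup.mk_one, map_one] at hcd
      exact hd hcd.symm
    have hcN : (c : Γ) ∈ N := by
      refine ⟨c.2, fun χ hχ hs w hw => ?_⟩
      have hyχ : (y : Γ) • χ ≠ χ := by
        intro hfix
        apply hy2
        rw [← hs]
        exact (mem_stb D).mpr ⟨hyA, hfix⟩
      have hct : (orderOf (c : Γ)).Coprime t := by
        have h1 : orderOf (c : Γ) ∣ Nat.card ↥D := by
          rw [Subgroup.orderOf_coe]
          exact orderOf_dvd_natCard c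
        exact Nat.Coprime.coprime_dvd_left h1 S.hDt
      exact S.fix_of_not_stb hyA (S.hDH c.2) (hc (y : Γ) y.2).symm hct hχ hyχ hw
    intro hbot
    rw [hbot, Subgroup.mem_bot] at hcN
    exact hc1' hcN
  have hNeq : N = D := (S.hDmin N hNn hND).resolve_left hN1
  obtain ⟨w, hw, hw0⟩ := exists_ne_zero_of_ne_bot ρ D h₂
  apply hw0
  apply S.hfixD
  intro d hd
  have hdN : d ∈ N := by rw [hNeq]; exact hd
  exact hdN.2 χ₂ h₂ rfl w hw

/-- **the main statement of the linear part** -/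
theorem main : ∃ B₀ : Subgroup Γ, B₀ ≤ A ∧ Nat.card B₀ = p ∧
    ∀ y ∈ A, y ∉ B₀ → ∀ h ∈ H, h * y = y * h → (orderOf h).Coprime t → h = 1 := by
  letI : Fintype (Ch F D) := Fintype.ofFinite _
  -- some weight space is non-trivial
  have hex : ∃ χ₀ : Ch F D, Wt ρ D χ₀ ≠ ⊥ := by
    by_contra hcon
    push Not at hcon
    apply S.hD1
    rw [eq_bot_iff]
    intro d hd
    rw [Subgroup.mem_bot]
    apply S.hfaith d (S.hDH hd)
    apply rho_eq_one_of_Wt ρ D S.hDab S.hDF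
    intro χ w hw
    rw [hcon χ, Submodule.mem_bot] at hw
    rw [hw, map_zero]
  obtain ⟨χ₀, hχ₀⟩ := hex
  refine ⟨stb D A χ₀, inf_le_left, S.card_stb hχ₀, ?_⟩
  intro y hy hyB h hh hcomm hht
  apply S.hfaith h hh
  apply rho_eq_one_of_Wt ρ D S.hDab S.hDF
  intro χ w hw
  by_cases hχ : Wt ρ D χ = ⊥
  · rw [hχ, Submodule.mem_bot] at hw
    rw [hw, map_zero]
  · have hyχ : y • χ ≠ χ := by
      intro hfix
      apply hyB
      rw [S.stb_eq hχ₀ hχ]
      exact (mem_stb D).mpr ⟨hy, hfix⟩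
    exact S.fix_of_not_stb hy hh hcomm hht hχ hyχ hw

end LSetup

end Cfsg.Agent.Helper1.Ward
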