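import Mathlib
import Cfsg.Agent.Lib.Helper1.WardLin
import Cfsg.Agent.Lib.Helper1.WardAct
import Cfsg.Agent.Lib.Helper8.SecRep9

/-!
# Ward's theorem: from the linear statement to the group (helper1)

`kf_real`: `V` a minimal invariant normal subgroup of `G`, `K = C_G(V)`; then there is a subgroup
`B₀` of order `p` of the acting group such that the fixed points on `G ⧸ K` of the elements outside
`B₀` are `t`-groups.
-/

set_option autoImplicit false
set_option linter.unusedSectionVars false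

namespace Cfsg.Agent.Helper1.Ward

open Cfsg.Agent.Helper1.Fpf Cfsg.Agent.Helper1.S3F SemidirectProduct
open Cfsg.Agent.Helper8.SecRep Cfsg.Agent.Helper8.FrobLin TensorProduct

section BC

variable {k : Type*} [Field k] (K : Type*) [Field K] [Algebra k K] {Γ : Type*} [Group Γ]
  {W₀ : Type*} [AddCommGroup W₀] [Module k W₀]

theorem natCast_ne_zero_bc {n : ℕ} (hk : (n : k) ≠ 0) : (n : K) ≠ 0 := by
  intro h0
  apply hk
  have : algebraMap k K (n : k) = 0 := by rw [map_natCast]; exact h0
  exact (map_eq_zero (algebraMap k K)).mp this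

/-- no fixed vectors before extension of scalars, no fixed vectors after -/
theorem bc_fixed_eq_zero (ρ₀ : Representation k Γ W₀) (B : Subgroup Γ) [Finite B]
    (hk : (Nat.card B : k) ≠ 0) (h0 : ∀ u : W₀, (∀ b ∈ B, ρ₀ b u = u) → u = 0)
    (w : K ⊗[k] W₀) (hw : ∀ b ∈ B, bc K ρ₀ b w = w) : w = 0 := by
  letI : Fintype B := Fintype.ofFinite B
  have hk' : (Fintype.card B : k) ≠ 0 := by rwa [← Nat.card_eq_fintype_card]
  have hK : (Fintype.card B : K) ≠ 0 := natCast_ne_zero_bc K hk'
  have hmem : w ∈ fixedBy (bc K ρ₀) B := (mem_fixedBy _ _ _).mpr hw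
  have h1 := avg_of_fixed (bc K ρ₀) B hK hmem
  rw [← avg_bc] at h1
  have h2 : avg ρ₀ B = 0 := by
    apply LinearMap.ext
    intro u
    rw [LinearMap.zero_apply]
    apply h0
    intro b hb
    exact rho_avg ρ₀ B b hb u
  rw [h2, LinearMap.baseChange_zero] at h1
  exact h1.symm

/-- an element fixing the fixed vectors of `B` before extension of scalars does so after -/
theorem bc_fix_of_fix (ρ₀ : Representation k Γ W₀) (B : Subgroup Γ) [Finite B]
    (hk : (Nat.card B : k) ≠ 0) (g : Γ) (h0 : ∀ u : W₀, (∀ b ∈ B, ρ₀ b u = u) → ρ₀ g u = u)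
    (w : K ⊗[k] W₀) (hw : ∀ b ∈ B, bc K ρ₀ b w = w) : bc K ρ₀ g w = w := by
  letI : Fintype B := Fintype.ofFinite B
  have hk' : (Fintype.card B : k) ≠ 0 := by rwa [← Nat.card_eq_fintype_card]
  have hK : (Fintype.card B : K) ≠ 0 := natCast_ne_zero_bc K hk'
  have hmem : w ∈ fixedBy (bc K ρ₀) B := (mem_fixedBy _ _ _).mpr hw
  have h1 := avg_of_fixed (bc K ρ₀) B hK hmem
  rw [← avg_bc] at h1
  have h2 : ρ₀ g ∘ₗ avg ρ₀ B = avg ρ₀ B := by
    apply LinearMap.ext
    intro u
    rw [LinearMap.comp_apply]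
    exact h0 _ (fun b hb => rho_avg ρ₀ B b hb u)
  rw [bc_apply]
  conv_lhs => rw [← h1]
  rw [← LinearMap.comp_apply, ← LinearMap.baseChange_comp, h2, h1]

theorem bc_eq_one (ρ₀ : Representation k Γ W₀) (g : Γ) (h : bc K ρ₀ g = 1) : ρ₀ g = 1 := by
  have hinj : Function.Injective (TensorProduct.mk k K W₀ 1) :=
    Module.Flat.tensorProduct_mk_injective k W₀ K
  apply LinearMap.ext
  intro w
  apply hinj
  have := LinearMap.congr_fun h ((1 : K) ⊗ₜ[k] w)
  rw [bc_apply, LinearMap.baseChange_tmul] at this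
  exact this

end BC

section Abs

variable {P : Type*} [Group P] [Finite P] {Q : Type*} [Group Q] [Finite Q] (ψ : P →* MulAut Q)

open scoped Classical in
theorem kf_abs {p : ℕ} (hψ : Hyp ψ p) (t : ℕ)
    (Db : Subgroup Q) [hDbn : Db.Normal] (hDinv : InvA ψ Db)
    (hDab : ∀ a ∈ Db, ∀ b ∈ Db, a * b = b * a)
    (hDt : (Nat.card Db).Coprime t) (hD1 : Db ≠ ⊥)
    (hDmin : ∀ N : Subgroup Q, N.Normal → InvA ψ N → N ≤ Db → N = ⊥ ∨ N = Db)
    {F : Type*} [Field F] [IsAlgClosed F] (hF : ∀ n : ℕ, n.Coprime t → (n : F) ≠ 0)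
    {Γ : Type*} [Group Γ] [Finite Γ] {W : Type*} [AddCommGroup W] [Module F W]
    (ρ : Representation F Γ W) (ι : Q →* Γ) (j : P →* Γ)
    (hι : Function.Injective ι) (hj : Function.Injective j)
    (hconj : ∀ a x, j a * ι x * (j a)⁻¹ = ι (ψ a x))
    (hgen : ∀ γ : Γ, ∃ x a, γ = ι x * j a)
    (hfixD : ∀ w : W, (∀ d ∈ Db, ρ (ι d) w = w) → w = 0)
    (hfixA : ∀ w : W, (∀ a, ρ (j a) w = w) → w = 0)
    (hfaith : ∀ x, ρ (ι x) = 1 → x = 1)
    (hThom : ∀ a : P, a ≠ 1 → ∀ x : Q, ψ a x = x → (orderOf x).Coprime t →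
      ∀ w, ρ (j a) w = w → ρ (ι x) w = w) :
    ∃ B₀ : Subgroup P, Nat.card B₀ = p ∧
      ∀ a : P, a ∉ B₀ → ∀ x : Q, ψ a x = x → (orderOf x).Coprime t → x = 1 := by
  -- conjugation formulas
  have hconjγ : ∀ (γ : Γ) (x : Q), ∃ y : Q, γ * ι x * γ⁻¹ = ι y ∧
      (∀ N : Subgroup Q, N.Normal → InvA ψ N → x ∈ N → y ∈ N) := by
    intro γ x
    obtain ⟨y, a, rfl⟩ := hgen γ
    refine ⟨y * ψ a x * y⁻¹, ?_, ?_⟩
    · rw [map_mul, map_mul, map_inv, ← hconj]
      group
    · intro N hNn hNinv hx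
      exact hNn.conj_mem _ (hNinv a x hx) y
  have hHn : (ι.range).Normal := by
    constructor
    rintro _ ⟨x, rfl⟩ γ
    obtain ⟨y, hy, -⟩ := hconjγ γ x
    exact ⟨y, hy.symm⟩
  have hDn : (Db.map ι).Normal := by
    constructor
    rintro _ ⟨x, hx, rfl⟩ γ
    obtain ⟨y, hy, hy'⟩ := hconjγ γ x
    exact ⟨y, hy' Db hDbn hDinv hx, hy.symm⟩
  have hfix_of_comm : ∀ (a : P) (x : Q), ι x * j a = j a * ι x → ψ a x = x := by
    intro a x hc
    apply hι
    rw [← hconj, ← hc, mul_inv_cancel_right]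
  have hpQ : (Nat.card Q).Coprime p :=
    ((Nat.Prime.coprime_iff_not_dvd hψ.hp).mpr hψ.not_dvd).symm
  letI : Fintype ↥(Db.map ι) := Fintype.ofFinite _
  have S : LSetup ρ ι.range j.range (Db.map ι) p t :=
    { hp := hψ.hp
      hAc := by
        rintro _ ⟨a, rfl⟩ _ ⟨b, rfl⟩
        rw [← map_mul, ← map_mul, hψ.comm]
      hAp := by
        rintro _ ⟨a, rfl⟩
        rw [← map_pow, hψ.exp, map_one]
      hAcard := by
        rw [← hψ.card]
        exact (Nat.card_congr (MonoidHom.ofInjective hj).toEquiv).symm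
      hpH := Nat.Coprime.coprime_dvd_left (Subgroup.card_range_dvd ι) hpQ
      hΓ := by
        intro γ
        obtain ⟨x, a, rfl⟩ := hgen γ
        exact ⟨ι x, ⟨x, rfl⟩, j a, ⟨a, rfl⟩, rfl⟩
      hDH := Subgroup.map_le_range ι Db
      hDab := by
        rintro _ ⟨x, hx, rfl⟩ _ ⟨y, hy, rfl⟩
        rw [← map_mul, ← map_mul, hDab x hx y hy]
      hDF := by
        apply hF
        rw [Subgroup.card_map_of_injective hι]
        exact hDt
      hDt := by
        rw [Subgroup.card_map_of_injective hι]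
        exact hDt
      hDmin := by
        intro N hNn hND
        have hN'n : (N.comap ι).Normal := hNn.comap ι
        have hN'inv : InvA ψ (N.comap ι) := by
          intro a x hx
          rw [Subgroup.mem_comap] at hx ⊢
          rw [← hconj]
          exact hNn.conj_mem _ hx _
        have hN'D : N.comap ι ≤ Db := by
          intro x hx
          obtain ⟨d, hd, hdx⟩ := hND hx
          rw [← hι hdx]
          exact hd
        have hNr : N ≤ ι.range := hND.trans (Subgroup.map_le_range ι Db)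
        rcases hDmin _ hN'n hN'inv hN'D with h | h
        · left
          rw [← Subgroup.map_comap_eq_self hNr, h, Subgroup.map_bot]
        · right
          rw [← Subgroup.map_comap_eq_self hNr, h]
      hD1 := by
        intro h
        exact hD1 ((Subgroup.map_eq_bot_iff_of_injective Db hι).mp h)
      hfixD := by
        intro w hw
        apply hfixD
        intro d hd
        exact hw (ι d) ⟨d, hd, rfl⟩
      hfixA := by
        intro w hw
        apply hfixA
        intro a
        exact hw (j a) ⟨a, rfl⟩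
      hfaith := by
        rintro _ ⟨x, rfl⟩ h1
        rw [hfaith x h1, map_one]
      hCDA := by
        rintro _ ⟨x, hx, rfl⟩ hc
        have : x = 1 := by
          apply hψ.fpf
          intro a
          exact hfix_of_comm a x (hc (j a) ⟨a, rfl⟩).symm
        rw [this, map_one]
      hThom := by
        rintro _ ⟨a, rfl⟩ ha1 _ ⟨x, rfl⟩ hc hot w hw
        have ha : a ≠ 1 := by
          rintro rfl
          exact ha1 (map_one j)
        rw [orderOf_injective ι hι x] at hot
        exact hThom a ha x (hfix_of_comm a x hc) hot w hw }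
  obtain ⟨B₀', hB₀A, hB₀card, hmain⟩ := S.main (hHn := hHn) (hDn := hDn)
  refine ⟨B₀'.comap j, ?_, ?_⟩
  · rw [← hB₀card, ← Subgroup.card_map_of_injective hj, Subgroup.map_comap_eq_self hB₀A]
  · intro a ha x hx hxt
    have h1 : ι x = 1 := by
      apply hmain (j a) ⟨a, rfl⟩ ha (ι x) ⟨x, rfl⟩
      · have := hconj a x
        rw [hx] at this
        calc ι x * j a = (j a * ι x * (j a)⁻¹) * j a := by rw [this]
          _ = j a * ι x := by group
      · rw [orderOf_injective ι hι x]
        exact hxt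
    apply hι
    rw [h1, map_one]

end Abs

end Cfsg.Agent.Helper1.Ward
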