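import Mathlib
import Cfsg.Agent.Lib.Helper1.WardGlue

/-!
# Ward's theorem: the linear realisation (helper1)

`kf_real`: `V` a minimal invariant normal subgroup of `G`, `K = C_G(V)`, `Db` a minimal invariant
normal subgroup of `G ⧸ K` of order prime to `t`; then there is a subgroup `B₀` of order `p` of the
acting group such that the fixed points on `G ⧸ K` of the elements outside `B₀` are `t`-groups.
-/

set_option autoImplicit false
set_option linter.unusedSectionVars false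

namespace Cfsg.Agent.Helper1.Ward

open Cfsg.Agent.Helper1.Fpf Cfsg.Agent.Helper1.S3F SemidirectProduct
open Cfsg.Agent.Helper8.SecRep Cfsg.Agent.Helper8.FrobLin TensorProduct

section Real

variable {P : Type*} [Group P] [Finite P] {G : Type*} [Group G] [Finite G] (φ : P →* MulAut G)

theorem kf_real {p : ℕ} (h : Hyp φ p) (V : Subgroup G) [hVn : V.Normal] (hVinv : InvA φ V)
    (t : ℕ) [ht : Fact t.Prime] (htV : t ∣ Nat.card V)
    (hVc : ∀ x ∈ V, ∀ y ∈ V, x * y = y * x) (hVp : ∀ x ∈ V, x ^ t = 1)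
    (hVmin : ∀ N : Subgroup G, N.Normal → InvA φ N → N ≤ V → N = ⊥ ∨ N = V)
    (K : Subgroup G) [hKn : K.Normal] (hKV : K = Subgroup.centralizer (V : Set G))
    (hKinv : InvA φ K)
    (Db : Subgroup (G ⧸ K)) [hDn : Db.Normal] (hDinv : InvA (quotHom φ K hKinv) Db)
    (hDab : ∀ a ∈ Db, ∀ b ∈ Db, a * b = b * a) (hDt : (Nat.card Db).Coprime t) (hD1 : Db ≠ ⊥)
    (hDmin : ∀ N : Subgroup (G ⧸ K), N.Normal → InvA (quotHom φ K hKinv) N → N ≤ Db →
      N = ⊥ ∨ N = Db) :
    ∃ B₀ : Subgroup P, Nat.card B₀ = p ∧ ∀ a : P, a ∉ B₀ → ∀ x : G ⧸ K,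
      quotHom φ K hKinv a x = x → (orderOf x).Coprime t → x = 1 := by
  have hpt : t ≠ p := by
    rintro rfl
    exact h.not_dvd (htV.trans (Subgroup.card_subgroup_dvd_card V))
  have htp : ¬ t ∣ p := fun hd => hpt ((Nat.prime_dvd_prime_iff_eq ht.out h.hp).mp hd)
  set V₀ : Subgroup (G ⋊[φ] P) := V.map inl with hV₀
  set C₀ : Subgroup (G ⋊[φ] P) := K.map inl with hC₀
  have hV₀c : ∀ x ∈ V₀, ∀ y ∈ V₀, x * y = y * x := by
    rintro _ ⟨x, hx, rfl⟩ _ ⟨y, hy, rfl⟩
    rw [← map_mul, ← map_mul, hVc x hx y hy]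
  have hV₀p : ∀ x ∈ V₀, x ^ t = 1 := by
    rintro _ ⟨x, hx, rfl⟩
    rw [← map_pow, hVp x hx, map_one]
  haveI hV₀n : V₀.Normal := map_inl_normal φ V hVinv
  haveI hC₀n : C₀.Normal := map_inl_normal φ K hKinv
  have hΓ : (⊤ : Subgroup (G ⋊[φ] P)) ≤ Subgroup.normalizer (V₀ : Set (G ⋊[φ] P)) := by
    rw [Subgroup.normalizer_eq_top]
  have hcent : ∀ g : G, (inl g : G ⋊[φ] P) ∈ Subgroup.centralizer (V₀ : Set (G ⋊[φ] P)) ↔
      g ∈ K := by
    intro g
    rw [hKV, Subgroup.mem_centralizer_iff, Subgroup.mem_centralizer_iff]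
    constructor
    · intro h1 v hv
      have h2 := h1 (inl v) ⟨v, hv, rfl⟩
      rw [← map_mul, ← map_mul] at h2
      exact inl_injective h2
    · rintro h1 _ ⟨v, hv, rfl⟩
      rw [← map_mul, ← map_mul, h1 v hv]
  have hsec := isSec_bot V₀ t hV₀c hV₀p
  set ρ₁₀ : (G ⋊[φ] P) →* Module.End (ZMod t) (SecW hsec) :=
    (linRep₀ V₀ ⊤ t hV₀c hV₀p hΓ).comp (Subgroup.topEquiv (G := G ⋊[φ] P)).symm.toMonoidHom
    with hρ₁₀
  have hmemV₀ : ∀ v, v ∈ V → (inl v : G ⋊[φ] P) ∈ V₀ := fun v hv => ⟨v, hv, rfl⟩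
  have hvec : ∀ u : SecW hsec, ∃ v, ∃ hv : v ∈ V, u = secMk hsec ⟨inl v, hmemV₀ v hv⟩ := by
    intro u
    obtain ⟨⟨_, v, hv, rfl⟩, rfl⟩ := secMk_surjective hsec u
    exact ⟨v, hv, rfl⟩
  have hvec_congr : ∀ v v' (hv : v ∈ V) (hv' : v' ∈ V), v = v' →
      secMk hsec ⟨inl v, hmemV₀ v hv⟩ = secMk hsec ⟨inl v', hmemV₀ v' hv'⟩ := by
    intro v v' hv hv' e
    subst e
    rfl
  have hvec_inj : ∀ v v' (hv : v ∈ V) (hv' : v' ∈ V),
      secMk hsec ⟨inl v, hmemV₀ v hv⟩ = secMk hsec ⟨inl v', hmemV₀ v' hv'⟩ → v = v' := by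
    intro v v' hv hv' e
    rw [secMk_eq_iff, Subgroup.mem_bot] at e
    have e' : (inl (v⁻¹ * v') : G ⋊[φ] P) = inl 1 := by
      rw [map_mul, map_inv, map_one]
      exact e
    have := inl_injective e'
    exact inv_mul_eq_one.mp this
  have hvec_one : ∀ hv : (1 : G) ∈ V, secMk hsec ⟨inl 1, hmemV₀ 1 hv⟩ = 0 := by
    intro hv
    rw [secMk_eq_zero, Subgroup.mem_bot]
    exact map_one _
  have hact : ∀ (x : G ⋊[φ] P) (v : G) (hv : v ∈ V) (v' : G) (hv' : v' ∈ V),
      x * inl v * x⁻¹ = inl v' →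
      ρ₁₀ x (secMk hsec ⟨inl v, hmemV₀ v hv⟩) = secMk hsec ⟨inl v', hmemV₀ v' hv'⟩ := by
    intro x v hv v' hv' e
    have h1 := linRep₀_mk V₀ ⊤ t hV₀c hV₀p hΓ ⟨x, Subgroup.mem_top x⟩ ⟨inl v, hmemV₀ v hv⟩
    have h2 : ρ₁₀ x = linRep₀ V₀ ⊤ t hV₀c hV₀p hΓ ⟨x, Subgroup.mem_top x⟩ := rfl
    rw [h2, h1]
    congr 1
    apply Subtype.ext
    exact e
  have hact_inl : ∀ (g v : G) (hv : v ∈ V),
      ρ₁₀ (inl g) (secMk hsec ⟨inl v, hmemV₀ v hv⟩) =
        secMk hsec ⟨inl (g * v * g⁻¹), hmemV₀ _ (hVn.conj_mem v hv g)⟩ := by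
    intro g v hv
    exact hact (inl g) v hv _ (hVn.conj_mem v hv g) (by rw [map_mul, map_mul, map_inv])
  have hact_inr : ∀ (a : P) (v : G) (hv : v ∈ V),
      ρ₁₀ (inr a) (secMk hsec ⟨inl v, hmemV₀ v hv⟩) =
        secMk hsec ⟨inl (φ a v), hmemV₀ _ (hVinv a v hv)⟩ := by
    intro a v hv
    exact hact (inr a) v hv _ (hVinv a v hv) (inr_conj_inl φ a v)
  have hker : C₀ ≤ ρ₁₀.ker := by
    rintro _ ⟨k, hk, rfl⟩
    rw [MonoidHom.mem_ker]
    exact (linRep₀_eq_one_iff V₀ ⊤ t hV₀c hV₀p hΓ ⟨inl k, Subgroup.mem_top _⟩).mpr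
      ((hcent k).mpr hk)
  set ρ₀Γ : Representation (ZMod t) ((G ⋊[φ] P) ⧸ C₀) (SecW hsec) :=
    QuotientGroup.lift C₀ ρ₁₀ hker with hρ₀Γ
  have hρmk : ∀ x : G ⋊[φ] P, ρ₀Γ (QuotientGroup.mk x) = ρ₁₀ x := fun x => rfl
  have hle : K ≤ C₀.comap (inl : G →* G ⋊[φ] P) := fun k hk => ⟨k, hk, rfl⟩
  set ι : G ⧸ K →* (G ⋊[φ] P) ⧸ C₀ := QuotientGroup.map K C₀ inl hle with hι
  have hιmk : ∀ g : G, ι (QuotientGroup.mk g) = QuotientGroup.mk (inl g) := fun g => rfl
  set j : P →* (G ⋊[φ] P) ⧸ C₀ := (QuotientGroup.mk' C₀).comp inr with hj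
  have hjmk : ∀ a : P, j a = QuotientGroup.mk (inr a) := fun a => rfl
  have hιinj : Function.Injective ι := by
    rw [injective_iff_map_eq_one]
    intro x hx
    induction x using QuotientGroup.induction_on with
    | H g =>
      rw [hιmk, QuotientGroup.eq_one_iff] at hx
      rw [QuotientGroup.eq_one_iff]
      exact (mem_map_inl φ).mp hx
  have hjinj : Function.Injective j := by
    rw [injective_iff_map_eq_one]
    intro a ha
    rw [hjmk, QuotientGroup.eq_one_iff] at ha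
    obtain ⟨k, hk, e⟩ := ha
    have := congrArg (fun x : G ⋊[φ] P => x.right) e
    simpa using this.symm
  refine kf_abs (quotHom φ K hKinv) (h.quot K hKinv) t Db hDinv hDab hDt hD1 hDmin (F := LK t)
    ?hF (bc (LK t) ρ₀Γ) ι j hιinj hjinj ?hconj ?hgen ?hfixD ?hfixA ?hfaith ?hThom
  case hF =>
    intro n hn
    exact natCast_ne_zero_of_not_dvd (ℓ := t) (LK t)
      (fun hd => (Nat.Prime.coprime_iff_not_dvd ht.out).mp hn.symm hd)
  case hconj =>
    intro a x
    induction x using QuotientGroup.induction_on with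
    | H g =>
      rw [quotHom_mk, hιmk, hιmk, hjmk, ← QuotientGroup.mk_inv, ← QuotientGroup.mk_mul,
        ← QuotientGroup.mk_mul, inr_conj_inl]
  case hgen =>
    intro γ
    obtain ⟨x, rfl⟩ := QuotientGroup.mk_surjective γ
    refine ⟨QuotientGroup.mk x.left, x.right, ?_⟩
    rw [hιmk, hjmk, ← QuotientGroup.mk_mul, inl_left_mul_inr_right]
  case hfixD =>
    intro w hw
    have hcardne : ¬ t ∣ Nat.card ↥(Db.map ι) := by
      rw [Subgroup.card_map_of_injective hιinj]
      exact (Nat.Prime.coprime_iff_not_dvd ht.out).mp hDt.symm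
    refine bc_fixed_eq_zero (LK t) ρ₀Γ (Db.map ι)
      (natCast_ne_zero_of_not_dvd (ℓ := t) (ZMod t) hcardne) ?_ w ?_
    · intro u hu
      obtain ⟨v, hv, rfl⟩ := hvec u
      have hcv : ∀ m : G, (m : G ⧸ K) ∈ Db → m * v * m⁻¹ = v := by
        intro m hm
        have h1 := hu (ι (QuotientGroup.mk m)) ⟨QuotientGroup.mk m, hm, rfl⟩
        rw [hιmk, hρmk, hact_inl m v hv] at h1
        exact hvec_inj _ _ (hVn.conj_mem v hv m) hv h1
      have hv1 : v = 1 := by
        set M : Subgroup G := Db.comap (QuotientGroup.mk' K) with hM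
        haveI hMn : M.Normal := hDn.comap _
        have hMinv : InvA φ M := inv_comap_mk φ K hKinv hDinv
        have hNn : (V ⊓ Subgroup.centralizer (M : Set G)).Normal := inferInstance
        have hNinv : InvA φ (V ⊓ Subgroup.centralizer (M : Set G)) :=
          inv_inf φ hVinv (inv_centralizer φ M hMinv)
        have hvN : v ∈ V ⊓ Subgroup.centralizer (M : Set G) := by
          refine Subgroup.mem_inf.mpr ⟨hv, ?_⟩
          rw [Subgroup.mem_centralizer_iff]
          intro m hm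
          have h2 := hcv m hm
          calc m * v = (m * v * m⁻¹) * m := by group
            _ = v * m := by rw [h2]
        rcases hVmin _ hNn hNinv inf_le_left with hN | hN
        · rw [hN, Subgroup.mem_bot] at hvN
          exact hvN
        · exfalso
          apply hD1
          have hVle : V ≤ Subgroup.centralizer (M : Set G) := by
            rw [← hN]
            exact inf_le_right
          have hMK : M ≤ K := by
            rw [hKV]
            exact Subgroup.le_centralizer_iff.mp hVle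
          rw [eq_bot_iff]
          intro d hd
          obtain ⟨m, rfl⟩ := QuotientGroup.mk_surjective d
          rw [Subgroup.mem_bot, QuotientGroup.eq_one_iff]
          exact hMK (show m ∈ M from hd)
      subst hv1
      exact hvec_one hv
    · rintro _ ⟨d, hd, rfl⟩
      exact hw d hd
  case hfixA =>
    intro w hw
    have hcardne : ¬ t ∣ Nat.card ↥j.range := by
      have h1 : Nat.card ↥j.range = p ^ 2 := by
        rw [← h.card]
        exact (Nat.card_congr (MonoidHom.ofInjective hjinj).toEquiv).symm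
      rw [h1]
      intro hd
      exact htp (ht.out.dvd_of_dvd_pow hd)
    refine bc_fixed_eq_zero (LK t) ρ₀Γ j.range
      (natCast_ne_zero_of_not_dvd (ℓ := t) (ZMod t) hcardne) ?_ w ?_
    · intro u hu
      obtain ⟨v, hv, rfl⟩ := hvec u
      have hv1 : v = 1 := by
        apply h.fpf
        intro a
        have h1 := hu (j a) ⟨a, rfl⟩
        rw [hjmk, hρmk, hact_inr a v hv] at h1
        exact hvec_inj _ _ (hVinv a v hv) hv h1
      subst hv1
      exact hvec_one hv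
    · rintro _ ⟨a, rfl⟩
      exact hw a
  case hfaith =>
    intro x hx
    induction x using QuotientGroup.induction_on with
    | H g =>
      rw [hιmk] at hx
      have h1 := bc_eq_one (LK t) ρ₀Γ _ hx
      rw [hρmk] at h1
      have h2 := (linRep₀_eq_one_iff V₀ ⊤ t hV₀c hV₀p hΓ ⟨inl g, Subgroup.mem_top _⟩).mp h1
      rw [QuotientGroup.eq_one_iff]
      exact (hcent g).mp h2
  case hThom =>
    intro a ha x hx hxt w hw
    obtain ⟨c, rfl, hc⟩ := h.thompson_lift V K hKinv hKV.le ht.out hVp ha x hx hxt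
    have hjp : (j a) ^ p = 1 := by rw [← map_pow, h.exp, map_one]
    have hcardne : ¬ t ∣ Nat.card ↥(Subgroup.zpowers (j a)) := by
      rw [Nat.card_zpowers]
      intro hd
      exact htp (hd.trans (orderOf_dvd_of_pow_eq_one hjp))
    refine bc_fix_of_fix (LK t) ρ₀Γ (Subgroup.zpowers (j a))
      (natCast_ne_zero_of_not_dvd (ℓ := t) (ZMod t) hcardne) _ ?_ w ?_
    · intro u hu
      obtain ⟨v, hv, rfl⟩ := hvec u
      have hav : φ a v = v := by
        have h1 := hu (j a) (Subgroup.mem_zpowers _)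
        rw [hjmk, hρmk, hact_inr a v hv] at h1
        exact hvec_inj _ _ (hVinv a v hv) hv h1
      rw [hιmk, hρmk, hact_inl c v hv]
      exact hvec_congr _ _ (hVn.conj_mem v hv c) hv (by rw [hc v hv hav, mul_inv_cancel_right])
    · intro b hb
      rw [← mem_powers_iff_mem_zpowers, Submonoid.mem_powers_iff] at hb
      obtain ⟨n, rfl⟩ := hb
      exact rho_pow_fix (bc (LK t) ρ₀Γ) hw n

end Real

end Cfsg.Agent.Helper1.Ward
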