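import Mathlib
import Cfsg.Agent.Lib.Helper1.WardReal
import Cfsg.Agent.Lib.Helper1.FittingSolvable
import Cfsg.Agent.Lib.Helper7.Fitting2

/-!
# Ward's theorem (helper1)

An elementary abelian group of order `p ^ 2` acting without fixed points on a finite solvable group
`G`: then `G` has a normal nilpotent subgroup with nilpotent quotient (`main_aux`).
-/

set_option autoImplicit false
set_option linter.unusedSectionVars false

namespace Cfsg.Agent.Helper1.Ward

open Cfsg.Agent.Helper1.Fpf Cfsg.Agent.Helper1.S3F Cfsg.Agent.Helper1.CoprimeProd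
open Cfsg.Agent.Helper7
open scoped commutatorElement

universe u v

section End

variable {P : Type v} [Group P] [Finite P] {p : ℕ}

/-- the end of the proof: if the fixed points of the elements outside a subgroup `B₀` of order `p`
are `t`-groups and there are no invariant normal `t`-subgroups, the group is nilpotent -/
theorem Hyp.endgame {Q : Type u} [Group Q] [Finite Q] {ψ : P →* MulAut Q} (h : Hyp ψ p)
    [Group.IsSolvable Q] (t : ℕ) [ht : Fact t.Prime]
    (hOT : ∀ T : Subgroup Q, T.Normal → InvA ψ T → IsPGroup t T → T = ⊥)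
    (B₀ : Subgroup P) (hB₀ : Nat.card B₀ = p)
    (hKF : ∀ a : P, a ∉ B₀ → ∀ x : Q, ψ a x = x → (orderOf x).Coprime t → x = 1) :
    Group.IsNilpotent Q := by
  haveI : Fact p.Prime := ⟨h.hp⟩
  have hpQ : ¬ p ∣ Nat.card Q := h.not_dvd
  have hcore : Cfsg.pCore t Q = ⊥ := by
    haveI := pCore_characteristic (G := Q) t
    exact hOT _ inferInstance (inv_of_characteristic ψ _) (pCore_isPGroup t)
  set F : Subgroup Q := Cfsg.fittingSubgroup Q with hF
  haveI hFn : F.Normal := fittingSubgroup_normal'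
  haveI hFnil : Group.IsNilpotent ↥F := fittingSubgroup_isNilpotent
  have hCF : Subgroup.centralizer (F : Set Q) ≤ F := centralizer_fittingSubgroup_le_of_isSolvable
  have hFinv : InvA ψ F := by
    haveI := fittingSubgroup_characteristic (G := Q)
    exact inv_of_characteristic ψ _
  have hFt : ¬ t ∣ Nat.card F := by
    intro hd
    obtain ⟨S⟩ : Nonempty (Sylow t ↥F) := inferInstance
    have hSne : (S : Subgroup ↥F) ≠ ⊥ := S.ne_bot_of_dvd_card hd
    have hSnormal : (S : Subgroup ↥F).Normal := by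
      have h1 := (isNilpotent_of_finite_tfae (G := ↥F)).out 0 3
      exact (h1.mp hFnil) t inferInstance S
    haveI := hSnormal
    haveI : (S : Subgroup ↥F).Characteristic := S.characteristic_of_normal hSnormal
    have hS'n : ((S : Subgroup ↥F).map F.subtype).Normal := by
      rw [← Subgroup.normalizer_eq_top_iff, eq_top_iff]
      have := normalizer_le_normalizer_map_of_characteristic F (S : Subgroup ↥F)
      rwa [Subgroup.normalizer_eq_top] at this
    have hS'p : IsPGroup t ↥((S : Subgroup ↥F).map F.subtype) := S.2.map F.subtype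
    have hle : (S : Subgroup ↥F).map F.subtype ≤ Cfsg.pCore t Q := le_pCore hS'n hS'p
    rw [hcore, le_bot_iff] at hle
    exact hSne ((Subgroup.map_eq_bot_iff_of_injective _ (Subgroup.subtype_injective _)).mp hle)
  obtain ⟨b, hb1⟩ : ∃ b : ↥B₀, b ≠ 1 := by
    have hgt : 1 < Nat.card B₀ := by
      rw [hB₀]
      exact h.hp.one_lt
    exact (Subgroup.ne_bot_iff_exists_ne_one).mp ((Subgroup.one_lt_card_iff_ne_bot _).mp hgt)
  have hb1' : (b : P) ≠ 1 := fun e => hb1 (Subtype.ext e)
  obtain ⟨a, ha⟩ := h.exists_not_mem B₀ hB₀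
  have hzb : Subgroup.zpowers (b : P) ≤ B₀ := Subgroup.zpowers_le.mpr b.2
  have habj : ∀ j : ℕ, a * (b : P) ^ j ∉ B₀ := by
    intro j hmem
    apply ha
    have := B₀.mul_mem hmem (B₀.inv_mem (B₀.pow_mem b.2 j))
    rwa [mul_inv_cancel_right] at this
  set γ : MulAut ↥F := restrictHom ψ F hFinv a with hγ
  set δ : MulAut ↥F := restrictHom ψ F hFinv (b : P) with hδ
  have hc : γ * δ = δ * γ := by rw [hγ, hδ, ← map_mul, ← map_mul, h.comm]
  have hγp : γ ^ p = 1 := by rw [hγ, ← map_pow, h.exp, map_one]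
  have hδp : δ ^ p = 1 := by rw [hδ, ← map_pow, h.exp, map_one]
  have hfix : ∀ j : ℕ, fixSub (γ * δ ^ j) = ⊥ := by
    intro j
    rw [eq_bot_iff]
    intro f hf
    rw [mem_fixSub] at hf
    rw [Subgroup.mem_bot]
    have e1 : γ * δ ^ j = restrictHom ψ F hFinv (a * (b : P) ^ j) := by
      rw [hγ, hδ, map_mul, map_pow]
    rw [e1] at hf
    have h1 : ψ (a * (b : P) ^ j) (f : Q) = f := by
      have := congrArg Subtype.val hf
      rwa [restrictHom_apply] at this
    have hord : (orderOf (f : Q)).Coprime t := by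
      rw [Subgroup.orderOf_coe]
      exact Nat.Coprime.coprime_dvd_left (orderOf_dvd_natCard f)
        ((Nat.Prime.coprime_iff_not_dvd ht.out).mpr hFt).symm
    exact Subtype.ext (hKF _ (habj j) _ h1 hord)
  have hbw := bw_aut p (fun hd => hpQ (hd.trans (Subgroup.card_subgroup_dvd_card F))) γ δ hc hγp hδp
  have hγ0 : fixSub γ = ⊥ := by
    have := hfix 0
    rwa [pow_zero, mul_one] at this
  have hprod : ∏ j ∈ Finset.range p, Nat.card (fixSub (γ * δ ^ j)) = 1 := by
    apply Finset.prod_eq_one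
    intro j _
    rw [hfix j, Subgroup.card_bot]
  rw [hprod, hγ0, bot_inf_eq, Subgroup.card_bot, one_pow, mul_one, one_mul] at hbw
  have hδtop : fixSub δ = ⊤ := Subgroup.eq_top_of_card_eq _ hbw.symm
  have hbF : ∀ f ∈ F, ψ (b : P) f = f := by
    intro f hf
    have h1 : (⟨f, hf⟩ : ↥F) ∈ fixSub δ := by
      rw [hδtop]
      exact Subgroup.mem_top _
    rw [mem_fixSub] at h1
    have := congrArg Subtype.val h1
    rwa [hδ, restrictHom_apply] at this
  have hbQ : ∀ g : Q, ψ (b : P) g = g := by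
    intro g
    have hzC : g⁻¹ * ψ (b : P) g ∈ Subgroup.centralizer (F : Set Q) := by
      rw [Subgroup.mem_centralizer_iff]
      intro f hf
      have h1 := hbF (g * f * g⁻¹) (hFn.conj_mem f hf g)
      rw [map_mul, map_mul, map_inv, hbF f hf] at h1
      calc f * (g⁻¹ * ψ (b : P) g) = g⁻¹ * (g * f * g⁻¹) * ψ (b : P) g := by group
        _ = g⁻¹ * (ψ (b : P) g * f * (ψ (b : P) g)⁻¹) * ψ (b : P) g := by rw [h1]
        _ = g⁻¹ * ψ (b : P) g * f := by group
    have hzF : g⁻¹ * ψ (b : P) g ∈ F := hCF hzC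
    have hzfix : ψ (b : P) (g⁻¹ * ψ (b : P) g) = g⁻¹ * ψ (b : P) g := hbF _ hzF
    have hbg : ψ (b : P) g = g * (g⁻¹ * ψ (b : P) g) := by group
    have hpow : ∀ k : ℕ, (ψ (b : P) ^ k) g = g * (g⁻¹ * ψ (b : P) g) ^ k := by
      intro k
      induction k with
      | zero => simp
      | succ k ih =>
        rw [pow_apply_succ, ih, map_mul, map_pow, hzfix, pow_succ', ← mul_assoc, ← hbg]
    have hzp : (g⁻¹ * ψ (b : P) g) ^ p = 1 := by
      have h1 := hpow p
      rw [← map_pow, h.exp, map_one] at h1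
      have h2 : g * 1 = g * (g⁻¹ * ψ (b : P) g) ^ p := by
        rw [mul_one]
        exact h1
      exact (mul_left_cancel h2).symm
    have hz1 : g⁻¹ * ψ (b : P) g = 1 := by
      have h1 : orderOf (g⁻¹ * ψ (b : P) g) ∣ p := orderOf_dvd_of_pow_eq_one hzp
      have h2 : orderOf (g⁻¹ * ψ (b : P) g) ∣ Nat.card Q := orderOf_dvd_natCard _
      have h3 : orderOf (g⁻¹ * ψ (b : P) g) = 1 := by
        rcases (Nat.dvd_prime h.hp).mp h1 with h4 | h4
        · exact h4
        · exfalso
          rw [h4] at h2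
          exact hpQ h2
      exact orderOf_eq_one_iff.mp h3
    rw [hbg, hz1, mul_one]
  have hθ : MonoidHom.FixedPointFree (ψ a) := by
    intro x hx
    exact h.eq_one_of_fixed hb1' (fun hmem => ha (hzb hmem)) (hbQ x) hx
  exact fpf_nilpotent (ψ a) hθ h.hp (by rw [← map_pow, h.exp, map_one])

/-- the quotient by the centraliser of a minimal invariant normal subgroup is nilpotent -/
theorem Hyp.core {G : Type u} [Group G] [Finite G] {φ : P →* MulAut G} (h : Hyp φ p)
    [Group.IsSolvable G] (V : Subgroup G) [hVn : V.Normal] (hVinv : InvA φ V) (hV1 : V ≠ ⊥)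
    (hmin : ∀ N : Subgroup G, N.Normal → InvA φ N → N ≤ V → N = ⊥ ∨ N = V) :
    ∃ k, (⊤ : Subgroup G).lowerCentralSeries k ≤ Subgroup.centralizer (V : Set G) := by
  obtain ⟨hVab, t, ht, htV, hVexp⟩ := exists_prime_exp φ V hVinv hV1 hmin
  haveI : Fact t.Prime := ⟨ht⟩
  have hKinv : InvA φ (Subgroup.centralizer (V : Set G)) := inv_centralizer φ V hVinv
  have hψ := h.quot (Subgroup.centralizer (V : Set G)) hKinv
  suffices hnil : Group.IsNilpotent (G ⧸ Subgroup.centralizer (V : Set G)) by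
    obtain ⟨k, hk⟩ := Subgroup.nilpotent_iff_lowerCentralSeries.mp hnil
    refine ⟨k, ?_⟩
    have h1 : ((⊤ : Subgroup G).lowerCentralSeries k).map
        (QuotientGroup.mk' (Subgroup.centralizer (V : Set G))) = ⊥ := by
      rw [Subgroup.map_lowerCentralSeries,
        Subgroup.map_top_of_surjective _ (QuotientGroup.mk'_surjective _)]
      exact hk
    have h2 := (Subgroup.map_eq_bot_iff _).mp h1
    rwa [QuotientGroup.ker_mk'] at h2
  by_cases hQ : Subsingleton (G ⧸ Subgroup.centralizer (V : Set G))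
  · exact Group.isNilpotent_of_subsingleton
  rw [not_subsingleton_iff_nontrivial] at hQ
  obtain ⟨Db, hDbmin⟩ := exists_minimal_of_wellFoundedLT
    (fun N : Subgroup (G ⧸ Subgroup.centralizer (V : Set G)) =>
      N.Normal ∧ InvA (quotHom φ _ hKinv) N ∧ N ≠ ⊥)
    ⟨⊤, inferInstance, inv_top _, top_ne_bot⟩
  obtain ⟨hDn, hDinv, hD1⟩ := hDbmin.prop
  haveI := hDn
  have hDmin : ∀ N : Subgroup (G ⧸ Subgroup.centralizer (V : Set G)), N.Normal →
      InvA (quotHom φ _ hKinv) N → N ≤ Db → N = ⊥ ∨ N = Db := by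
    intro N hNn hNinv hND
    by_cases hN1 : N = ⊥
    · exact Or.inl hN1
    · exact Or.inr (le_antisymm hND (hDbmin.le_of_le ⟨hNn, hNinv, hN1⟩ hND))
  obtain ⟨hDab, r, hr, hrD, hDexp⟩ := exists_prime_exp (quotHom φ _ hKinv) Db hDinv hD1 hDmin
  have hOT : ∀ T : Subgroup (G ⧸ Subgroup.centralizer (V : Set G)), T.Normal →
      InvA (quotHom φ _ hKinv) T → IsPGroup t T → T = ⊥ := by
    intro T hTn hTinv hTp
    haveI hT'n : (T.comap (QuotientGroup.mk' (Subgroup.centralizer (V : Set G)))).Normal :=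
      hTn.comap _
    have hle := le_centralizer_of_pgroup φ V hVinv hmin t htV
      (T.comap (QuotientGroup.mk' (Subgroup.centralizer (V : Set G))))
      (inv_comap_mk φ _ hKinv hTinv) (by
        intro x hx
        obtain ⟨k, hk⟩ := hTp ⟨(x : G ⧸ Subgroup.centralizer (V : Set G)), hx⟩
        refine ⟨k, ?_⟩
        have h1 := congrArg Subtype.val hk
        rw [Subgroup.coe_pow, Subgroup.coe_one] at h1
        have h2 : ((x ^ t ^ k : G) : G ⧸ Subgroup.centralizer (V : Set G)) = 1 := by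
          rw [QuotientGroup.mk_pow]
          exact h1
        exact (QuotientGroup.eq_one_iff _).mp h2)
    rw [eq_bot_iff]
    intro d hd
    obtain ⟨m, rfl⟩ := QuotientGroup.mk_surjective d
    rw [Subgroup.mem_bot, QuotientGroup.eq_one_iff]
    exact hle (show m ∈ T.comap (QuotientGroup.mk' (Subgroup.centralizer (V : Set G))) from hd)
  have hDpow : ∀ x : ↥Db, x ^ r ^ 1 = 1 := by
    intro x
    apply Subtype.ext
    rw [pow_one, Subgroup.coe_pow, Subgroup.coe_one]
    exact hDexp x x.2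
  have hrt : r ≠ t := by
    intro hrt
    apply hD1
    apply hOT Db hDn hDinv
    intro x
    exact ⟨1, hrt ▸ hDpow x⟩
  have hDt : (Nat.card Db).Coprime t := by
    haveI : Fact r.Prime := ⟨hr⟩
    have hDp : IsPGroup r ↥Db := fun x => ⟨1, hDpow x⟩
    obtain ⟨k, hk⟩ := hDp.exists_card_eq
    rw [hk]
    exact Nat.Coprime.pow_left k ((Nat.coprime_primes hr ht).mpr hrt)
  obtain ⟨B₀, hB₀, hKF⟩ := kf_real φ h V hVinv t htV hVab hVexp hmin
    (Subgroup.centralizer (V : Set G)) rfl hKinv Db hDinv hDab hDt hD1 hDmin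
  exact hψ.endgame t hOT B₀ hB₀ hKF

theorem main_aux : ∀ (n : ℕ) (G : Type u) [Group G] [Finite G], Nat.card G = n →
    Group.IsSolvable G → ∀ φ : P →* MulAut G, Hyp φ p →
    ∃ N : Subgroup G, N.Normal ∧ (∃ k, N.lowerCentralSeries k = ⊥) ∧
      ∃ k, (⊤ : Subgroup G).lowerCentralSeries k ≤ N := by
  intro n
  induction n using Nat.strong_induction_on with
  | _ n ih =>
  intro G _ _ hcard hsol φ h
  haveI := hsol
  by_cases hG : Subsingleton G
  · refine ⟨⊥, inferInstance, ⟨0, rfl⟩, ⟨0, ?_⟩⟩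
    intro x _
    rw [Subgroup.mem_bot]
    exact Subsingleton.elim x 1
  rw [not_subsingleton_iff_nontrivial] at hG
  obtain ⟨V, hVmin⟩ := exists_minimal_of_wellFoundedLT
    (fun N : Subgroup G => N.Normal ∧ InvA φ N ∧ N ≠ ⊥) ⟨⊤, inferInstance, inv_top φ, top_ne_bot⟩
  obtain ⟨hVn, hVinv, hV1⟩ := hVmin.prop
  haveI := hVn
  have hmin : ∀ N : Subgroup G, N.Normal → InvA φ N → N ≤ V → N = ⊥ ∨ N = V := by
    intro N hNn hNinv hNV
    by_cases hN1 : N = ⊥
    · exact Or.inl hN1
    · exact Or.inr (le_antisymm hNV (hVmin.le_of_le ⟨hNn, hNinv, hN1⟩ hNV))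
  obtain ⟨k₃, hk₃⟩ := h.core V hVinv hV1 hmin
  have hlt : Nat.card (G ⧸ V) < n := by
    rw [← hcard, Subgroup.card_eq_card_quotient_mul_card_subgroup V]
    have h1 : 1 < Nat.card V := (Subgroup.one_lt_card_iff_ne_bot V).mpr hV1
    have h2 : 0 < Nat.card (G ⧸ V) := Nat.card_pos
    exact lt_mul_of_one_lt_right h2 h1
  obtain ⟨Nb, hNbn, ⟨k₁, hk₁⟩, ⟨k₂, hk₂⟩⟩ := ih _ hlt (G ⧸ V) rfl inferInstance
    (quotHom φ V hVinv) (h.quot V hVinv)
  haveI := hNbn
  haveI hN₁n : (Nb.comap (QuotientGroup.mk' V)).Normal := hNbn.comap _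
  have hN₁map : (Nb.comap (QuotientGroup.mk' V)).map (QuotientGroup.mk' V) = Nb :=
    Subgroup.map_comap_eq_self_of_surjective (QuotientGroup.mk'_surjective V) Nb
  have hle1 : (Nb.comap (QuotientGroup.mk' V)).lowerCentralSeries k₁ ≤ V := by
    have h1 : ((Nb.comap (QuotientGroup.mk' V)).lowerCentralSeries k₁).map
        (QuotientGroup.mk' V) = ⊥ := by
      rw [Subgroup.map_lowerCentralSeries, hN₁map, hk₁]
    have h2 := (Subgroup.map_eq_bot_iff _).mp h1
    rwa [QuotientGroup.ker_mk'] at h2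
  have hle2 : (⊤ : Subgroup G).lowerCentralSeries k₂ ≤ Nb.comap (QuotientGroup.mk' V) := by
    rw [← Subgroup.map_le_iff_le_comap, Subgroup.map_lowerCentralSeries,
      Subgroup.map_top_of_surjective _ (QuotientGroup.mk'_surjective V)]
    exact hk₂
  refine ⟨Nb.comap (QuotientGroup.mk' V) ⊓ Subgroup.centralizer (V : Set G), inferInstance,
    ⟨k₁ + 1, ?_⟩, ⟨max k₂ k₃, ?_⟩⟩
  · rw [Subgroup.lowerCentralSeries_succ, eq_bot_iff]
    have h3' : (Nb.comap (QuotientGroup.mk' V) ⊓
        Subgroup.centralizer (V : Set G)).lowerCentralSeries k₁ ≤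
        (Nb.comap (QuotientGroup.mk' V)).lowerCentralSeries k₁ :=
      Subgroup.lowerCentralSeries_mono k₁ inf_le_left
    have h3 := le_trans h3' hle1
    calc ⁅(Nb.comap (QuotientGroup.mk' V) ⊓
          Subgroup.centralizer (V : Set G)).lowerCentralSeries k₁,
          Nb.comap (QuotientGroup.mk' V) ⊓ Subgroup.centralizer (V : Set G)⁆
        ≤ ⁅V, Subgroup.centralizer (V : Set G)⁆ := Subgroup.commutator_mono h3 inf_le_right
      _ = ⊥ := by
        rw [Subgroup.commutator_eq_bot_iff_le_centralizer]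
        exact Subgroup.le_centralizer_iff.mp le_rfl
  · refine le_inf ?_ ?_
    · exact le_trans (Subgroup.lowerCentralSeries_antitone ⊤ (le_max_left k₂ k₃)) hle2
    · exact le_trans (Subgroup.lowerCentralSeries_antitone ⊤ (le_max_right k₂ k₃)) hk₃

end End

end Cfsg.Agent.Helper1.Ward
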