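import Mathlib
import Cfsg.Agent.Lib.Helper1.ZJFusion
import Cfsg.Agent.Lib.Helper10.WPGeneric

/-!
# Local-to-global control of strong fusion through well placed subgroups containing `Z(S)`

A variant of helper10's `wellPlaced_fusion_aux` where the local control hypothesis is only needed
for the well placed subgroups containing `Z(S)`, for functors `W` with `Z(Q) ≤ W(Q)`.
-/

set_option autoImplicit false

namespace Cfsg.Agent.Helper1.ZJF

open Cfsg Subgroup
open Cfsg.Agent.Helper10 (rcs rcg rcs_congr isWellPlaced_next lt_inf_normalizer_of_lt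
  cf_normalizer_le card_lt_card_of_lt)

section tower

variable {G : Type*} [Group G] [Finite G] {p : ℕ} [Fact p.Prime] {S : Subgroup G}
  (hS : IsPGroup p S) {W : Subgroup G → Subgroup G} (hW : IsConjugacyFunctor p W)
  (hWZ : ∀ Q : Subgroup G, IsPGroup p Q → Q ⊓ centralizer (Q : Set G) ≤ W Q)
  (hloc : ∀ T : Subgroup G, IsWellPlaced p W S T → S ⊓ centralizer (S : Set G) ≤ T →
    ∀ (B : Set G) (x : G), x ∈ normalizer (T : Set G) →
      B ⊆ ((S ⊓ normalizer (T : Set G) : Subgroup G) : Set G) →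
      rcs x B ⊆ ((S ⊓ normalizer (T : Set G) : Subgroup G) : Set G) →
      ∃ y ∈ normalizer (T : Set G) ⊓ normalizer ((W (S ⊓ normalizer (T : Set G)) : Subgroup G) : Set G),
        ∀ b ∈ B, y⁻¹ * b * y = x⁻¹ * b * x)

include hS hW hWZ hloc in
theorem tower (n : ℕ) : ∀ T : Subgroup G, IsWellPlaced p W S T → S ⊓ centralizer (S : Set G) ≤ T →
    Nat.card S - Nat.card ↥(S ⊓ normalizer (T : Set G)) ≤ n →
    ∀ (B : Set G) (x : G), x ∈ normalizer (T : Set G) →
      B ⊆ ((S ⊓ normalizer (T : Set G) : Subgroup G) : Set G) →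
      rcs x B ⊆ ((S ⊓ normalizer (T : Set G) : Subgroup G) : Set G) →
      ∃ y ∈ normalizer ((W S : Subgroup G) : Set G), ∀ b ∈ B, y⁻¹ * b * y = x⁻¹ * b * x := by
  induction n with
  | zero =>
    intro T hT hZT hcard B x hx hB hxB
    set R := S ⊓ normalizer (T : Set G) with hR
    have hRS : R = S := by
      apply Subgroup.eq_of_le_of_card_ge inf_le_left
      have h0 : Nat.card S - Nat.card R ≤ 0 := hcard
      show Nat.card S ≤ Nat.card R
      omega
    obtain ⟨y, hy, hyB⟩ := hloc T hT hZT B x hx hB hxB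
    rw [← hR, hRS] at hy
    exact ⟨y, hy.2, hyB⟩
  | succ n ih =>
    intro T hT hZT hcard B x hx hB hxB
    set R := S ⊓ normalizer (T : Set G) with hR
    have hRp : IsPGroup p R := hS.to_le inf_le_left
    obtain ⟨y₁, hy₁, hy₁B⟩ := hloc T hT hZT B x hx hB hxB
    rw [← hR] at hy₁
    by_cases hRS : R = S
    · rw [hRS] at hy₁
      exact ⟨y₁, hy₁.2, hy₁B⟩
    have hlt : R < S := lt_of_le_of_ne inf_le_left hRS
    haveI hnil : Group.IsNilpotent S := hS.isNilpotent
    have h1 := lt_inf_normalizer_of_lt S R hlt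
    set T₁ := W R with hT₁
    have hT₁wp : IsWellPlaced p W S T₁ := isWellPlaced_next hW hS hT
    have hTR : T ≤ R := le_inf hT.1 Subgroup.le_normalizer
    have hZT₁ : S ⊓ centralizer (S : Set G) ≤ T₁ := by
      refine le_trans ?_ (hWZ R hRp)
      refine le_inf (hZT.trans hTR) ?_
      exact inf_le_right.trans (Subgroup.centralizer_le
        (show (R : Set G) ⊆ (S : Set G) from SetLike.coe_subset_coe.mpr inf_le_left))
    set R₁ := S ⊓ normalizer (T₁ : Set G) with hR₁
    have h2 : S ⊓ normalizer (R : Set G) ≤ R₁ := inf_le_inf_left S (cf_normalizer_le hW hRp)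
    have hRR₁ : R < R₁ := lt_of_lt_of_le h1 h2
    have hcard1 : Nat.card S - Nat.card R₁ ≤ n := by
      have := card_lt_card_of_lt hRR₁
      have h3 : Nat.card R₁ ≤ Nat.card S := Subgroup.card_le_of_le inf_le_left
      have h0 : Nat.card S - Nat.card R ≤ n + 1 := hcard
      omega
    have hrc : rcs y₁ B = rcs x B := rcs_congr hy₁B
    obtain ⟨y, hy, hyB⟩ := ih T₁ hT₁wp hZT₁ hcard1 B y₁ hy₁.2
      (fun b hb => hRR₁.le (hB hb))
      (by rw [hrc]; exact fun b hb => hRR₁.le (hxB hb))
    exact ⟨y, hy, fun b hb => (hyB b hb).trans (hy₁B b hb)⟩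

end tower

end Cfsg.Agent.Helper1.ZJF
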