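import Mathlib
import Cfsg.Agent.Lib.Helper7.ZStar3
import Cfsg.Agent.Lib.Helper9.PPrimeCoreSub
import Cfsg.Agent.Lib.Helper10.SylowMore

/-!
# The `Z*`-theorem for weakly closed 2-elements (helper1's library)

`WC S x`: the element `x` of `S` is the only conjugate of itself lying in `S`.  If all powers of the
2-element `x` have this property (for a Sylow 2-subgroup `S`), then `x` is central modulo `O(G)`.
-/

set_option autoImplicit false
set_option linter.unusedSectionVars false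
set_option linter.style.haveILetI false

universe u

namespace Cfsg.Agent.Helper1.ZW

open Cfsg Cfsg.Agent.Helper10

/-- `x ∈ S` is the only `G`-conjugate of `x` lying in `S` -/
def WC {G : Type u} [Group G] (S : Subgroup G) (x : G) : Prop :=
  x ∈ S ∧ ∀ g : G, g * x * g⁻¹ ∈ S → g * x * g⁻¹ = x

theorem orderOf_two_pow {G : Type u} [Group G] [Finite G] (S : Sylow 2 G) {x : G}
    (hx : x ∈ (S : Subgroup G)) : ∃ k : ℕ, orderOf x = 2 ^ k := by
  haveI : Fact (Nat.Prime 2) := ⟨Nat.prime_two⟩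
  obtain ⟨k, hk⟩ := (IsPGroup.iff_orderOf.mp S.2) ⟨x, hx⟩
  exact ⟨k, by rw [← hk, Subgroup.orderOf_mk]⟩

theorem not_dvd_relIndex_sylow {G : Type u} [Group G] [Finite G] (S : Sylow 2 G) (H : Subgroup G)
    (hSH : (S : Subgroup G) ≤ H) : ¬ 2 ∣ (S : Subgroup G).relIndex H := by
  haveI : Fact (Nat.Prime 2) := ⟨Nat.prime_two⟩
  intro h
  exact S.not_dvd_index (h.trans (Dvd.intro _ (Subgroup.relIndex_mul_index hSH)))

theorem wc_map {G : Type u} [Group G] [Finite G] (S : Sylow 2 G) (N : Subgroup G) [hN : N.Normal]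
    {x : G} (hx : WC (S : Subgroup G) x) :
    WC ((S : Subgroup G).map (QuotientGroup.mk' N)) (QuotientGroup.mk' N x) := by
  haveI : Fact (Nat.Prime 2) := ⟨Nat.prime_two⟩
  refine ⟨Subgroup.mem_map_of_mem _ hx.1, ?_⟩
  intro gb hgb
  obtain ⟨g, rfl⟩ := QuotientGroup.mk'_surjective N gb
  obtain ⟨s, hs, hsg⟩ := hgb
  set y := g * x * g⁻¹ with hy
  have hsg' : QuotientGroup.mk' N s = QuotientGroup.mk' N y := by
    rw [hsg, hy]; simp
  have hyH : y ∈ (S : Subgroup G) ⊔ N := by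
    have h1 : s⁻¹ * y ∈ N := by
      rw [← QuotientGroup.eq_one_iff, ← QuotientGroup.mk'_apply, map_mul, map_inv, hsg']
      simp
    have : y = s * (s⁻¹ * y) := by group
    rw [this]
    exact Subgroup.mul_mem _ (Subgroup.mem_sup_left hs) (Subgroup.mem_sup_right h1)
  obtain ⟨k, hk⟩ := orderOf_two_pow S hx.1
  have hyo : orderOf y = 2 ^ k := by
    rw [hy, ← hk]
    exact Cfsg.Agent.Helper7.ZStar.orderOf_conj' g x
  obtain ⟨c, hcH, hc⟩ := conj_into_relSylow (p := 2) ((S : Subgroup G) ⊔ N) (S : Subgroup G)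
    (Subgroup.zpowers y) le_sup_left S.2 (not_dvd_relIndex_sylow S _ le_sup_left)
    (by rw [Subgroup.zpowers_le]; exact hyH)
    (Cfsg.Agent.Helper15.isPGroup_zpowers_of_orderOf ⟨k, hyo⟩)
  have h1 : c⁻¹ * y * c ∈ (S : Subgroup G) := by
    apply hc
    rw [mem_rcg]
    have : c * (c⁻¹ * y * c) * c⁻¹ = y := by group
    rw [this]
    exact Subgroup.mem_zpowers y
  have h2 : (c⁻¹ * g) * x * (c⁻¹ * g)⁻¹ = c⁻¹ * y * c := by rw [hy]; group
  have h3 := hx.2 (c⁻¹ * g) (by rw [h2]; exact h1)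
  rw [h2] at h3
  have h4 : y = c * x * c⁻¹ := by rw [← h3]; group
  obtain ⟨s', hs', n, hn, rfl⟩ := Subgroup.mem_sup_of_normal_right.mp hcH
  have h5 : s' * x * s'⁻¹ = x :=
    hx.2 s' (Subgroup.mul_mem _ (Subgroup.mul_mem _ hs' hx.1) (Subgroup.inv_mem _ hs'))
  have hn1 : QuotientGroup.mk' N n = 1 := by
    rw [QuotientGroup.mk'_apply, QuotientGroup.eq_one_iff]; exact hn
  have h6 : QuotientGroup.mk' N (g * x * g⁻¹) = QuotientGroup.mk' N x := by
    rw [← hy, h4]
    simp only [map_mul, map_inv, hn1, mul_one]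
    rw [← map_inv, ← map_mul, ← map_mul, h5]
  simpa using h6

theorem wc_zstar_aux : ∀ n : ℕ, ∀ (G : Type u) [Group G] [Finite G] (S : Sylow 2 G) (x : G),
    orderOf x = 2 ^ n → (∀ y ∈ Subgroup.zpowers x, WC (S : Subgroup G) y) → Cfsg.InZStar 2 x := by
  intro n
  induction n using Nat.strong_induction_on with
  | _ n ih =>
    intro G _ _ S x hord hall
    haveI : Fact (Nat.Prime 2) := ⟨Nat.prime_two⟩
    rcases Nat.eq_zero_or_pos n with hn0 | hnpos
    · subst hn0
      rw [pow_zero, orderOf_eq_one_iff] at hord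
      subst hord
      intro g
      simp
    obtain ⟨m, rfl⟩ : ∃ m, n = m + 1 := ⟨n - 1, by omega⟩
    set t := x ^ (2 ^ m) with ht
    have hto : orderOf t = 2 := by
      rw [ht, orderOf_pow_of_dvd (by positivity) (by rw [hord]; exact ⟨2, by ring⟩), hord,
        pow_succ]
      simp
    have htz : t ∈ Subgroup.zpowers x := Subgroup.pow_mem _ (Subgroup.mem_zpowers x) _
    have htwc := hall t htz
    have htiso : IsIsolated t :=
      Cfsg.Agent.Helper7.ZStar.isIsolated_of_sylow S t hto htwc.1 htwc.2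
    have htZ : InZStar 2 t := Cfsg.Agent.Helper7.ZStar.zstar t hto htiso
    set K := Cfsg.pPrimeCore 2 G with hK
    haveI hKn : K.Normal := Cfsg.Agent.Helper22.pPrimeCore_normal 2
    set π1 := QuotientGroup.mk' K with hπ1
    have hπ1s : Function.Surjective π1 := QuotientGroup.mk'_surjective K
    -- the image of t is central
    have htc : π1 t ∈ Subgroup.center (G ⧸ K) := by
      rw [Subgroup.mem_center_iff]
      intro gb
      obtain ⟨g, rfl⟩ := hπ1s gb
      have h1 : π1 (g * t * g⁻¹ * t⁻¹) = 1 := by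
        rw [hπ1, QuotientGroup.mk'_apply, QuotientGroup.eq_one_iff]; exact htZ g
      rw [map_mul, map_mul, map_mul, map_inv, map_inv] at h1
      have : π1 g * π1 t = (π1 g * π1 t * (π1 g)⁻¹ * (π1 t)⁻¹) * π1 t * π1 g := by group
      rw [this, h1, one_mul]
    set Zb := Subgroup.zpowers (π1 t) with hZb
    have hZc : Zb ≤ Subgroup.center (G ⧸ K) := by
      rw [hZb, Subgroup.zpowers_le]; exact htc
    haveI hZn : Zb.Normal := by
      refine ⟨fun z hz g => ?_⟩
      have := Subgroup.mem_center_iff.mp (hZc hz) g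
      have e : g * z * g⁻¹ = z := by rw [this]; group
      rw [e]; exact hz
    have hZp : IsPGroup 2 ↥Zb := by
      apply Cfsg.Agent.Helper15.isPGroup_zpowers_of_orderOf
      have h2 : (π1 t) ^ 2 = 1 := by rw [← map_pow, ← hto, pow_orderOf_eq_one, map_one]
      have h3 : orderOf (π1 t) ∣ 2 ^ 1 := by rw [pow_one]; exact orderOf_dvd_of_pow_eq_one h2
      obtain ⟨k, -, hk⟩ := (Nat.dvd_prime_pow Nat.prime_two).mp h3
      exact ⟨k, hk⟩
    set S1 : Sylow 2 (G ⧸ K) := S.mapSurjective hπ1s with hS1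
    have hS1c : (S1 : Subgroup (G ⧸ K)) = (S : Subgroup G).map π1 := Sylow.coe_mapSurjective hπ1s S
    set π2 := QuotientGroup.mk' Zb with hπ2
    have hπ2s : Function.Surjective π2 := QuotientGroup.mk'_surjective Zb
    set S2 : Sylow 2 ((G ⧸ K) ⧸ Zb) := S1.mapSurjective hπ2s with hS2
    have hS2c : (S2 : Subgroup ((G ⧸ K) ⧸ Zb)) = (S1 : Subgroup (G ⧸ K)).map π2 :=
      Sylow.coe_mapSurjective hπ2s S1
    -- weak closure of powers of x in both quotients
    have hwc1 : ∀ y ∈ Subgroup.zpowers x, WC (S1 : Subgroup (G ⧸ K)) (π1 y) := by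
      intro y hy
      rw [hS1c]
      exact wc_map S K (hall y hy)
    have hwc2 : ∀ y ∈ Subgroup.zpowers x, WC (S2 : Subgroup ((G ⧸ K) ⧸ Zb)) (π2 (π1 y)) := by
      intro y hy
      rw [hS2c]
      exact wc_map S1 Zb (hwc1 y hy)
    -- the order of the image of x in the double quotient
    have hpow : (π2 (π1 x)) ^ (2 ^ m) = 1 := by
      rw [← map_pow, ← map_pow, ← ht, hπ2, QuotientGroup.mk'_apply, QuotientGroup.eq_one_iff]
      exact Subgroup.mem_zpowers _
    obtain ⟨k, hkm, hk⟩ := (Nat.dvd_prime_pow Nat.prime_two).mp (orderOf_dvd_of_pow_eq_one hpow)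
    have hall2 : ∀ yb ∈ Subgroup.zpowers (π2 (π1 x)), WC (S2 : Subgroup ((G ⧸ K) ⧸ Zb)) yb := by
      intro yb hyb
      obtain ⟨j, rfl⟩ := Subgroup.mem_zpowers_iff.mp hyb
      have := hwc2 (x ^ j) (Subgroup.zpow_mem _ (Subgroup.mem_zpowers x) j)
      rwa [map_zpow, map_zpow] at this
    have hZ2 := ih k (by omega) ((G ⧸ K) ⧸ Zb) S2 (π2 (π1 x)) hk hall2
    have hO1 : Cfsg.pPrimeCore 2 (G ⧸ K) = ⊥ := Cfsg.Agent.Helper9.pPrimeCore_quotient_eq_bot 2
    have hO2 : Cfsg.pPrimeCore 2 ((G ⧸ K) ⧸ Zb) = ⊥ :=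
      Cfsg.Agent.Helper15.ZStarMin.pPrimeCore_quotient_eq_bot_of_central hZc hZp hO1
    have hZS : Zb ≤ (S1 : Subgroup (G ⧸ K)) := by
      rw [hZb, Subgroup.zpowers_le, hS1c]
      exact Subgroup.mem_map_of_mem _ htwc.1
    have hxwc := hwc1 x (Subgroup.mem_zpowers x)
    intro g
    have h1 := hZ2 (π2 (π1 g))
    rw [hO2, Subgroup.mem_bot] at h1
    have h1' : π2 (π1 (g * x * g⁻¹ * x⁻¹)) = 1 := by
      rw [← h1]; simp only [map_mul, map_inv]
    rw [hπ2, QuotientGroup.mk'_apply, QuotientGroup.eq_one_iff] at h1'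
    have h2 : π1 g * π1 x * (π1 g)⁻¹ ∈ (S1 : Subgroup (G ⧸ K)) := by
      have : π1 g * π1 x * (π1 g)⁻¹ = π1 (g * x * g⁻¹ * x⁻¹) * π1 x := by
        simp only [map_mul, map_inv]; group
      rw [this]
      exact Subgroup.mul_mem _ (hZS h1') hxwc.1
    have h3 := hxwc.2 (π1 g) h2
    show g * x * g⁻¹ * x⁻¹ ∈ K
    rw [← QuotientGroup.eq_one_iff, ← QuotientGroup.mk'_apply, ← hπ1]
    simp only [map_mul, map_inv]
    rw [h3, mul_inv_cancel]

/-- `Z*` for a 2-element all of whose powers are weakly closed in a Sylow 2-subgroup -/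
theorem wc_zstar {G : Type u} [Group G] [Finite G] (S : Sylow 2 G) (x : G)
    (hall : ∀ y ∈ Subgroup.zpowers x, WC (S : Subgroup G) y) : Cfsg.InZStar 2 x := by
  obtain ⟨k, hk⟩ := orderOf_two_pow S (hall x (Subgroup.mem_zpowers x)).1
  exact wc_zstar_aux k G S x hk hall

end Cfsg.Agent.Helper1.ZW
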