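import Mathlib

/-!
# Zassenhaus' theorem on perfect fixed-point-free groups: shared definitions (helper1)

Ring world: a group `G` with a homomorphism `ι : G →* Rˣ` into the units of a ring such that
`ι g - 1` is a unit for every `g ≠ 1` ("fixed-point-free").

Group world: an abstract finite group `H` with a distinguished involution `z` satisfying the
consequences (`Setting`) that the ring world provides.
-/

set_option autoImplicit false

namespace Cfsg.Agent.Helper1.Zas

section ring

variable {R : Type*} [Ring R] {G : Type*} [Group G]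

/-- the "trace" `u + u⁻¹` of a unit -/
def tr (u : Rˣ) : R := (u : R) + ((u⁻¹ : Rˣ) : R)

/-- fixed-point-freeness, ring form -/
def Fpf (ι : G →* Rˣ) : Prop := ∀ g : G, g ≠ 1 → IsUnit (((ι g : Rˣ) : R) - 1)

/-- central traces on a subgroup -/
def CT (ι : G →* Rˣ) (M : Subgroup G) : Prop :=
  ∀ g ∈ M, ∀ h ∈ M, Commute (tr (ι g)) ((ι h : Rˣ) : R)

end ring

section group

variable {H : Type*} [Group H]

/-- the trichotomy for a subgroup generated by elements of order three -/
def Tri (z : H) (M : Subgroup H) : Prop :=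
  Nat.card M ∣ 3 ∨
  (z ∈ M ∧ ∃ f : M →* alternatingGroup (Fin 4), Function.Surjective f ∧
      ∀ m : M, f m = 1 ↔ ((m : H) = 1 ∨ (m : H) = z)) ∨
  (z ∈ M ∧ ∃ f : M →* alternatingGroup (Fin 5), Function.Surjective f ∧
      ∀ m : M, f m = 1 ↔ ((m : H) = 1 ∨ (m : H) = z))

/-- a quaternion triple: `a, b` generate a quaternion group of order `8` on which the element
`x` of order three acts by `a ↦ b ↦ a b` -/
structure QT (a b x : H) : Prop where
  ha : orderOf a = 4
  hb : b * b = a * a
  hba : b * a * b⁻¹ = a⁻¹
  hxa : x * a * x⁻¹ = b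
  hxb : x * b * x⁻¹ = a * b
  hx : orderOf x = 3

/-- what the ring world says about the abstract group -/
structure Setting (z : H) : Prop where
  z_sq : z * z = 1
  z_ne : z ≠ 1
  z_unique : ∀ g : H, g * g = 1 → g = 1 ∨ g = z
  comm_prime : ∀ p : ℕ, p.Prime → ∀ x y : H, orderOf x = p → orderOf y = p → x * y = y * x →
    y ∈ Subgroup.zpowers x
  tri2 : ∀ x y : H, orderOf x = 3 → orderOf y = 3 → Tri z (Subgroup.closure {x, y})
  tri4 : ∀ a b x y : H, QT a b x → orderOf y = 3 → Tri z (Subgroup.closure {a, b, x, y})

/-- an icosahedral subgroup with its map onto `A₅` -/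
structure Ico (z : H) (M : Subgroup H) (f : M →* alternatingGroup (Fin 5)) : Prop where
  zmem : z ∈ M
  surj : Function.Surjective f
  ker : ∀ m : M, f m = 1 ↔ ((m : H) = 1 ∨ (m : H) = z)

end group

end Cfsg.Agent.Helper1.Zas
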