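import Mathlib

/-!
# Quaternion coordinates in a noncommutative ring (helper1, for Zassenhaus' theorem)

`a, b, c` with the quaternion relations in a ring `R`; elements of the centraliser of `a, b`
serve as coordinates.
-/

set_option autoImplicit false

namespace Cfsg.Agent.Helper1.Zas

variable {R : Type*} [Ring R]

/-- the quaternion relations -/
structure QS (a b c : R) : Prop where
  aa : a * a = -1
  bb : b * b = -1
  cc : c * c = -1
  ab : a * b = c
  ba : b * a = -c
  bc : b * c = a
  cb : c * b = -a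
  ca : c * a = b
  ac : a * c = -b

theorem QS.mk' {a b : R} (haa : a * a = -1) (hbb : b * b = -1) (hab : a * b = -(b * a)) :
    QS a b (a * b) where
  aa := haa
  bb := hbb
  cc := by
    have h : a * b * (a * b) = a * (b * a) * b := by noncomm_ring
    rw [h, show b * a = -(a * b) by rw [hab, neg_neg]]
    have h2 : a * -(a * b) * b = -((a * a) * (b * b)) := by noncomm_ring
    rw [h2, haa, hbb]; noncomm_ring
  ab := rfl
  ba := by rw [hab, neg_neg]
  bc := by
    have h : b * (a * b) = (b * a) * b := by noncomm_ring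
    rw [h, show b * a = -(a * b) by rw [hab, neg_neg]]
    have h2 : -(a * b) * b = -(a * (b * b)) := by noncomm_ring
    rw [h2, hbb]; noncomm_ring
  cb := by
    have h : a * b * b = a * (b * b) := by noncomm_ring
    rw [h, hbb]; noncomm_ring
  ca := by
    have h : a * b * a = a * (b * a) := by noncomm_ring
    rw [h, show b * a = -(a * b) by rw [hab, neg_neg]]
    have h2 : a * -(a * b) = -((a * a) * b) := by noncomm_ring
    rw [h2, haa]; noncomm_ring
  ac := by
    have h : a * (a * b) = (a * a) * b := by noncomm_ring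
    rw [h, haa]; noncomm_ring

/-- centralising `a` and `b` -/
def Cn (a b e : R) : Prop := e * a = a * e ∧ e * b = b * e

namespace Cn

variable {a b c : R}

theorem zero : Cn a b 0 := ⟨by simp, by simp⟩
theorem one : Cn a b 1 := ⟨by simp, by simp⟩

theorem add {e f : R} (he : Cn a b e) (hf : Cn a b f) : Cn a b (e + f) :=
  ⟨by rw [add_mul, mul_add, he.1, hf.1], by rw [add_mul, mul_add, he.2, hf.2]⟩

theorem neg {e : R} (he : Cn a b e) : Cn a b (-e) :=
  ⟨by rw [neg_mul, mul_neg, he.1], by rw [neg_mul, mul_neg, he.2]⟩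

theorem sub {e f : R} (he : Cn a b e) (hf : Cn a b f) : Cn a b (e - f) := by
  rw [sub_eq_add_neg]; exact he.add hf.neg

theorem mul {e f : R} (he : Cn a b e) (hf : Cn a b f) : Cn a b (e * f) :=
  ⟨by rw [mul_assoc, hf.1, ← mul_assoc, he.1, mul_assoc],
   by rw [mul_assoc, hf.2, ← mul_assoc, he.2, mul_assoc]⟩

theorem natCast (n : ℕ) : Cn a b (n : R) :=
  ⟨(Nat.cast_commute n a).eq, (Nat.cast_commute n b).eq⟩

theorem intCast (n : ℤ) : Cn a b (n : R) :=
  ⟨(Int.cast_commute n a).eq, (Int.cast_commute n b).eq⟩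

theorem ofNat (n : ℕ) [n.AtLeastTwo] : Cn a b (OfNat.ofNat n : R) := by
  have := natCast (a := a) (b := b) (OfNat.ofNat n)
  rwa [Nat.cast_ofNat] at this

theorem comm_c {e : R} (q : QS a b c) (he : Cn a b e) : e * c = c * e := by
  rw [← q.ab, ← mul_assoc, he.1, mul_assoc, he.2, mul_assoc]

end Cn

section coord

variable {a b c : R}

/-- a quaternion with coordinates `e0..e3` -/
def qv (a b c e0 e1 e2 e3 : R) : R := e0 + e1 * a + e2 * b + e3 * c

theorem swap4 (e f q q' : R) (h : f * q = q * f) : e * q * (f * q') = e * f * (q * q') := by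
  rw [mul_assoc, ← mul_assoc q, ← h]; noncomm_ring

/-- multiplication in coordinates -/
theorem mul_coord (q : QS a b c) (e0 e1 e2 e3 : R) {f0 f1 f2 f3 : R}
    (h0 : Cn a b f0) (h1 : Cn a b f1) (h2 : Cn a b f2) (h3 : Cn a b f3) :
    qv a b c e0 e1 e2 e3 * qv a b c f0 f1 f2 f3 =
      qv a b c (e0 * f0 - e1 * f1 - e2 * f2 - e3 * f3) (e0 * f1 + e1 * f0 + e2 * f3 - e3 * f2)
        (e0 * f2 - e1 * f3 + e2 * f0 + e3 * f1) (e0 * f3 + e1 * f2 - e2 * f1 + e3 * f0) := by
  unfold qv
  have c0 := h0.comm_c q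
  have c1 := h1.comm_c q
  have c2 := h2.comm_c q
  have c3 := h3.comm_c q
  have t (e f x y : R) (h : f * x = x * f) : e * x * (f * y) = e * f * (x * y) := swap4 e f x y h
  have t' (e f x : R) (h : f * x = x * f) : e * x * f = e * f * x := by
    rw [mul_assoc, ← h, ← mul_assoc]
  simp only [add_mul, mul_add]
  rw [t' e1 f0 a h0.1, t' e2 f0 b h0.2, t' e3 f0 c c0,
    t e1 f1 a a h1.1, t e2 f1 b a h1.2, t e3 f1 c a c1,
    t e1 f2 a b h2.1, t e2 f2 b b h2.2, t e3 f2 c b c2,
    t e1 f3 a c h3.1, t e2 f3 b c h3.2, t e3 f3 c c c3,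
    q.aa, q.bb, q.cc, q.ab, q.ba, q.bc, q.cb, q.ca, q.ac]
  noncomm_ring

end coord

end Cfsg.Agent.Helper1.Zas
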