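import Mathlib
import Cfsg.Agent.Lib.Helper1.ZasQuatA

/-!
# Quaternion coordinates: uniqueness and existence (helper1, for Zassenhaus' theorem)
-/

set_option autoImplicit false

namespace Cfsg.Agent.Helper1.Zas

variable {R : Type*} [Ring R] {a b c : R}

theorem qv_sub (e0 e1 e2 e3 f0 f1 f2 f3 : R) :
    qv a b c e0 e1 e2 e3 - qv a b c f0 f1 f2 f3 = qv a b c (e0 - f0) (e1 - f1) (e2 - f2) (e3 - f3) := by
  unfold qv; noncomm_ring

theorem qv_add (e0 e1 e2 e3 f0 f1 f2 f3 : R) :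
    qv a b c e0 e1 e2 e3 + qv a b c f0 f1 f2 f3 = qv a b c (e0 + f0) (e1 + f1) (e2 + f2) (e3 + f3) := by
  unfold qv; noncomm_ring

theorem qv_a : qv a b c 0 1 0 0 = a := by unfold qv; noncomm_ring
theorem qv_b : qv a b c 0 0 1 0 = b := by unfold qv; noncomm_ring
theorem qv_c : qv a b c 0 0 0 1 = c := by unfold qv; noncomm_ring
theorem qv_scalar (e : R) : qv a b c e 0 0 0 = e := by unfold qv; noncomm_ring

theorem qv_mul_a (q : QS a b c) (e0 e1 e2 e3 : R) :
    qv a b c e0 e1 e2 e3 * a = qv a b c (-e1) e0 e3 (-e2) := by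
  have h := mul_coord q e0 e1 e2 e3 (Cn.zero (a := a) (b := b)) Cn.one Cn.zero Cn.zero
  rw [qv_a] at h
  rw [h]; unfold qv; noncomm_ring

theorem qv_mul_b (q : QS a b c) (e0 e1 e2 e3 : R) :
    qv a b c e0 e1 e2 e3 * b = qv a b c (-e2) (-e3) e0 e1 := by
  have h := mul_coord q e0 e1 e2 e3 (Cn.zero (a := a) (b := b)) Cn.zero Cn.one Cn.zero
  rw [qv_b] at h
  rw [h]; unfold qv; noncomm_ring

theorem qv_mul_c (q : QS a b c) (e0 e1 e2 e3 : R) :
    qv a b c e0 e1 e2 e3 * c = qv a b c (-e3) e2 (-e1) e0 := by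
  have h := mul_coord q e0 e1 e2 e3 (Cn.zero (a := a) (b := b)) Cn.zero Cn.zero Cn.one
  rw [qv_c] at h
  rw [h]; unfold qv; noncomm_ring

theorem a_mul_qv (q : QS a b c) {f0 f1 f2 f3 : R}
    (h0 : Cn a b f0) (h1 : Cn a b f1) (h2 : Cn a b f2) (h3 : Cn a b f3) :
    a * qv a b c f0 f1 f2 f3 = qv a b c (-f1) f0 (-f3) f2 := by
  have h := mul_coord q 0 1 0 0 h0 h1 h2 h3
  rw [qv_a] at h
  rw [h]; unfold qv; noncomm_ring

theorem b_mul_qv (q : QS a b c) {f0 f1 f2 f3 : R}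
    (h0 : Cn a b f0) (h1 : Cn a b f1) (h2 : Cn a b f2) (h3 : Cn a b f3) :
    b * qv a b c f0 f1 f2 f3 = qv a b c (-f2) f3 f0 (-f1) := by
  have h := mul_coord q 0 0 1 0 h0 h1 h2 h3
  rw [qv_b] at h
  rw [h]; unfold qv; noncomm_ring

theorem c_mul_qv (q : QS a b c) {f0 f1 f2 f3 : R}
    (h0 : Cn a b f0) (h1 : Cn a b f1) (h2 : Cn a b f2) (h3 : Cn a b f3) :
    c * qv a b c f0 f1 f2 f3 = qv a b c (-f3) (-f2) f1 f0 := by
  have h := mul_coord q 0 0 0 1 h0 h1 h2 h3
  rw [qv_c] at h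
  rw [h]; unfold qv; noncomm_ring

/-- the projection onto the centraliser of `a, b` (times four) -/
def proj (a b c g : R) : R := g - a * g * a - b * g * b - c * g * c

theorem proj_qv (q : QS a b c) {e0 e1 e2 e3 : R}
    (h0 : Cn a b e0) (h1 : Cn a b e1) (h2 : Cn a b e2) (h3 : Cn a b e3) :
    proj a b c (qv a b c e0 e1 e2 e3) = 4 * e0 := by
  unfold proj
  rw [a_mul_qv q h0 h1 h2 h3, qv_mul_a q, b_mul_qv q h0 h1 h2 h3, qv_mul_b q,
    c_mul_qv q h0 h1 h2 h3, qv_mul_c q]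
  unfold qv; noncomm_ring

theorem coord_zero (q : QS a b c) (h2c : ∀ r : R, 2 * r = 0 → r = 0) {e0 e1 e2 e3 : R}
    (h0 : Cn a b e0) (h1 : Cn a b e1) (h2 : Cn a b e2) (h3 : Cn a b e3)
    (h : qv a b c e0 e1 e2 e3 = 0) : e0 = 0 ∧ e1 = 0 ∧ e2 = 0 ∧ e3 = 0 := by
  have key : ∀ {f0 f1 f2 f3 : R}, Cn a b f0 → Cn a b f1 → Cn a b f2 → Cn a b f3 →
      qv a b c f0 f1 f2 f3 = 0 → f0 = 0 := by
    intro f0 f1 f2 f3 g0 g1 g2 g3 hf
    have hp := proj_qv q g0 g1 g2 g3
    rw [hf] at hp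
    have hz : proj a b c (0 : R) = 0 := by unfold proj; noncomm_ring
    rw [hz] at hp
    have h4 : (2 : R) * (2 * f0) = 0 := by rw [← mul_assoc]; norm_num; exact hp.symm
    exact h2c _ (h2c _ h4)
  refine ⟨key h0 h1 h2 h3 h, ?_, ?_, ?_⟩
  · have ha : qv a b c e0 e1 e2 e3 * a = 0 := by rw [h, zero_mul]
    rw [qv_mul_a q] at ha
    have := key h1.neg h0 h3 h2.neg ha
    exact neg_eq_zero.mp this
  · have hb : qv a b c e0 e1 e2 e3 * b = 0 := by rw [h, zero_mul]
    rw [qv_mul_b q] at hb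
    have := key h2.neg h3.neg h0 h1 hb
    exact neg_eq_zero.mp this
  · have hc : qv a b c e0 e1 e2 e3 * c = 0 := by rw [h, zero_mul]
    rw [qv_mul_c q] at hc
    have := key h3.neg h2 h1.neg h0 hc
    exact neg_eq_zero.mp this

theorem coord_unique (q : QS a b c) (h2c : ∀ r : R, 2 * r = 0 → r = 0) {e0 e1 e2 e3 f0 f1 f2 f3 : R}
    (h0 : Cn a b e0) (h1 : Cn a b e1) (h2 : Cn a b e2) (h3 : Cn a b e3)
    (g0 : Cn a b f0) (g1 : Cn a b f1) (g2 : Cn a b f2) (g3 : Cn a b f3)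
    (h : qv a b c e0 e1 e2 e3 = qv a b c f0 f1 f2 f3) :
    e0 = f0 ∧ e1 = f1 ∧ e2 = f2 ∧ e3 = f3 := by
  have hz : qv a b c (e0 - f0) (e1 - f1) (e2 - f2) (e3 - f3) = 0 := by
    rw [← qv_sub, h, sub_self]
  obtain ⟨z0, z1, z2, z3⟩ := coord_zero q h2c (h0.sub g0) (h1.sub g1) (h2.sub g2) (h3.sub g3) hz
  exact ⟨sub_eq_zero.mp z0, sub_eq_zero.mp z1, sub_eq_zero.mp z2, sub_eq_zero.mp z3⟩

/-- the projection lands in the centraliser -/
theorem proj_cn (q : QS a b c) (g : R) : Cn a b (proj a b c g) := by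
  constructor
  · unfold proj
    have e1 : (g - a * g * a - b * g * b - c * g * c) * a =
        g * a - a * g * (a * a) - b * g * (b * a) - c * g * (c * a) := by noncomm_ring
    have e2 : a * (g - a * g * a - b * g * b - c * g * c) =
        a * g - (a * a) * g * a - (a * b) * g * b - (a * c) * g * c := by noncomm_ring
    rw [e1, e2, q.aa, q.ba, q.ca, q.ab, q.ac]
    noncomm_ring
  · unfold proj
    have e1 : (g - a * g * a - b * g * b - c * g * c) * b =
        g * b - a * g * (a * b) - b * g * (b * b) - c * g * (c * b) := by noncomm_ring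
    have e2 : b * (g - a * g * a - b * g * b - c * g * c) =
        b * g - (b * a) * g * a - (b * b) * g * b - (b * c) * g * c := by noncomm_ring
    rw [e1, e2, q.ab, q.bb, q.cb, q.ba, q.bc]
    noncomm_ring

/-- every element has coordinates (after multiplying by four) -/
theorem four_mul_eq (q : QS a b c) (g : R) :
    4 * g = qv a b c (proj a b c g) (-proj a b c (g * a)) (-proj a b c (g * b))
      (-proj a b c (g * c)) := by
  unfold qv proj
  have ea : (g * a - a * (g * a) * a - b * (g * a) * b - c * (g * a) * c) * a =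
      g * (a * a) - a * g * (a * (a * a)) - b * g * (a * (b * a)) - c * g * (a * (c * a)) := by
    noncomm_ring
  have eb : (g * b - a * (g * b) * a - b * (g * b) * b - c * (g * b) * c) * b =
      g * (b * b) - a * g * (b * (a * b)) - b * g * (b * (b * b)) - c * g * (b * (c * b)) := by
    noncomm_ring
  have ec : (g * c - a * (g * c) * a - b * (g * c) * b - c * (g * c) * c) * c =
      g * (c * c) - a * g * (c * (a * c)) - b * g * (c * (b * c)) - c * g * (c * (c * c)) := by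
    noncomm_ring
  rw [neg_mul, neg_mul, neg_mul, ea, eb, ec, q.aa, q.bb, q.cc, q.ba, q.ca, q.ab, q.cb, q.ac, q.bc]
  simp only [mul_neg, mul_one, q.ac, q.ab, q.ba, q.bc, q.ca, q.cb, neg_neg]
  noncomm_ring

theorem exists_coord (q : QS a b c) (t : R) (ht : 2 * t = 1) (htc : ∀ r : R, t * r = r * t)
    (g : R) : ∃ e0 e1 e2 e3 : R, Cn a b e0 ∧ Cn a b e1 ∧ Cn a b e2 ∧ Cn a b e3 ∧
      g = qv a b c e0 e1 e2 e3 := by
  have htcn : Cn a b (t * t) := ⟨by rw [mul_assoc, htc a, ← mul_assoc, htc a, mul_assoc],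
    by rw [mul_assoc, htc b, ← mul_assoc, htc b, mul_assoc]⟩
  refine ⟨t * t * proj a b c g, t * t * -proj a b c (g * a), t * t * -proj a b c (g * b),
    t * t * -proj a b c (g * c), htcn.mul (proj_cn q _), htcn.mul (proj_cn q _).neg,
    htcn.mul (proj_cn q _).neg, htcn.mul (proj_cn q _).neg, ?_⟩
  have h4 : t * t * (4 * g) = g := by
    have h22 : (4 : R) = 2 * 2 := by norm_num
    have ht' : t * 2 = 1 := by rw [htc 2, ht]
    calc t * t * (4 * g) = t * ((t * 2) * (2 * g)) := by rw [h22]; simp only [mul_assoc]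
      _ = (t * 2) * g := by rw [ht', one_mul, ← mul_assoc, ht']
      _ = g := by rw [ht', one_mul]
  calc g = t * t * (4 * g) := h4.symm
    _ = t * t * qv a b c (proj a b c g) (-proj a b c (g * a)) (-proj a b c (g * b))
        (-proj a b c (g * c)) := by rw [← four_mul_eq q g]
    _ = _ := by unfold qv; noncomm_ring

end Cfsg.Agent.Helper1.Zas
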