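import Mathlib
import Cfsg.Agent.Lib.Helper1.ZasQuatB

/-!
# The key ring computation for Zassenhaus' theorem (helper1)
-/

set_option autoImplicit false

namespace Cfsg.Agent.Helper1.Zas

variable {R : Type*} [Ring R] {a b c : R}

theorem qv_two_mul (e0 e1 e2 e3 : R) :
    2 * qv a b c e0 e1 e2 e3 = qv a b c (2 * e0) (2 * e1) (2 * e2) (2 * e3) := by
  unfold qv; simp only [mul_add, mul_assoc]

theorem qv_neg (e0 e1 e2 e3 : R) :
    -qv a b c e0 e1 e2 e3 = qv a b c (-e0) (-e1) (-e2) (-e3) := by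
  unfold qv; noncomm_ring

theorem qv_add_scalar (e0 e1 e2 e3 l : R) :
    qv a b c e0 e1 e2 e3 + l = qv a b c (e0 + l) e1 e2 e3 := by
  unfold qv; abel

theorem qv_sub_scalar (e0 e1 e2 e3 l : R) :
    qv a b c e0 e1 e2 e3 - l = qv a b c (e0 - l) e1 e2 e3 := by
  unfold qv; abel

/-- the relations coming from `N² + 2N + 4 = 0` -/
theorem rel_of_cube (q : QS a b c) (h2c : ∀ r : R, 2 * r = 0 → r = 0) {n0 n1 n2 n3 : R}
    (h0 : Cn a b n0) (h1 : Cn a b n1) (h2 : Cn a b n2) (h3 : Cn a b n3)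
    (hN : qv a b c n0 n1 n2 n3 * qv a b c n0 n1 n2 n3 + 2 * qv a b c n0 n1 n2 n3 + 4 = 0) :
    (n0 * n0 - n1 * n1 - n2 * n2 - n3 * n3 + 2 * n0 + 4 = 0) ∧
    (n0 * n1 + n1 * n0 + n2 * n3 - n3 * n2 + 2 * n1 = 0) ∧
    (n0 * n2 - n1 * n3 + n2 * n0 + n3 * n1 + 2 * n2 = 0) ∧
    (n0 * n3 + n1 * n2 - n2 * n1 + n3 * n0 + 2 * n3 = 0) := by
  rw [mul_coord q n0 n1 n2 n3 h0 h1 h2 h3, qv_two_mul, qv_add, qv_add_scalar] at hN
  have t2 : Cn a b (2 : R) := Cn.ofNat 2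
  have t4 : Cn a b (4 : R) := Cn.ofNat 4
  have := coord_zero q h2c
    ((((((h0.mul h0).sub (h1.mul h1)).sub (h2.mul h2)).sub (h3.mul h3)).add (t2.mul h0)).add t4)
    (((((h0.mul h1).add (h1.mul h0)).add (h2.mul h3)).sub (h3.mul h2)).add (t2.mul h1))
    (((((h0.mul h2).sub (h1.mul h3)).add (h2.mul h0)).add (h3.mul h1)).add (t2.mul h2))
    (((((h0.mul h3).add (h1.mul h2)).sub (h2.mul h1)).add (h3.mul h0)).add (t2.mul h3)) hN
  exact this

/-- square of a quaternion `A + u (s1 a + s2 b + s3 c)` with signs `s_i` -/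
theorem sq_signed (q : QS a b c) {A u : R} (hA : Cn a b A) (hu : Cn a b u) {s1 s2 s3 : R}
    (hs1 : s1 = 1 ∨ s1 = -1) (hs2 : s2 = 1 ∨ s2 = -1) (hs3 : s3 = 1 ∨ s3 = -1) :
    qv a b c A (s1 * u) (s2 * u) (s3 * u) * qv a b c A (s1 * u) (s2 * u) (s3 * u) =
      qv a b c (A * A - 3 * (u * u)) (s1 * (A * u + u * A)) (s2 * (A * u + u * A))
        (s3 * (A * u + u * A)) := by
  have hsu : ∀ s : R, (s = 1 ∨ s = -1) → Cn a b (s * u) := by
    rintro s (rfl | rfl)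
    · simpa using hu
    · simpa using hu.neg
  rw [mul_coord q A (s1 * u) (s2 * u) (s3 * u) hA (hsu s1 hs1) (hsu s2 hs2) (hsu s3 hs3)]
  rcases hs1 with rfl | rfl <;> rcases hs2 with rfl | rfl <;> rcases hs3 with rfl | rfl <;>
    (unfold qv; noncomm_ring)

theorem cancel_sign {s X : R} (hs : s = 1 ∨ s = -1) (h : s * X = 0) : X = 0 := by
  rcases hs with rfl | rfl
  · simpa using h
  · simpa using h

/-- consequences of the quadratic equations for a signed quaternion -/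
theorem gold_signed (q : QS a b c) (h2c : ∀ r : R, 2 * r = 0 → r = 0) {A u : R}
    (hA : Cn a b A) (hu : Cn a b u) {s1 s2 s3 : R}
    (hs1 : s1 = 1 ∨ s1 = -1) (hs2 : s2 = 1 ∨ s2 = -1) (hs3 : s3 = 1 ∨ s3 = -1) {e : R}
    (he : e = 1 ∨ e = -1)
    (h : qv a b c A (s1 * u) (s2 * u) (s3 * u) * qv a b c A (s1 * u) (s2 * u) (s3 * u) +
      2 * (e * qv a b c A (s1 * u) (s2 * u) (s3 * u)) - 4 = 0) :
    A * A - 3 * (u * u) + 2 * (e * A) - 4 = 0 ∧ A * u + u * A + 2 * (e * u) = 0 := by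
  have hsu : ∀ s : R, (s = 1 ∨ s = -1) → Cn a b (s * u) := by
    rintro s (rfl | rfl)
    · simpa using hu
    · simpa using hu.neg
  have hsc : ∀ s : R, (s = 1 ∨ s = -1) → Cn a b s := by
    rintro s (rfl | rfl)
    · exact Cn.one
    · exact Cn.one.neg
  have heq : e * qv a b c A (s1 * u) (s2 * u) (s3 * u) =
      qv a b c (e * A) (e * (s1 * u)) (e * (s2 * u)) (e * (s3 * u)) := by
    unfold qv; simp only [mul_add, mul_assoc]
  rw [sq_signed q hA hu hs1 hs2 hs3, heq, qv_two_mul, qv_add, qv_sub_scalar] at h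
  have t2 : Cn a b (2 : R) := Cn.ofNat 2
  have t3 : Cn a b (3 : R) := Cn.ofNat 3
  have t4 : Cn a b (4 : R) := Cn.ofNat 4
  have hAu : Cn a b (A * u + u * A) := (hA.mul hu).add (hu.mul hA)
  obtain ⟨z0, z1, -, -⟩ := coord_zero q h2c
    ((((hA.mul hA).sub (t3.mul (hu.mul hu))).add (t2.mul ((hsc e he).mul hA))).sub t4)
    (((hsc s1 hs1).mul hAu).add (t2.mul ((hsc e he).mul (hsu s1 hs1))))
    (((hsc s2 hs2).mul hAu).add (t2.mul ((hsc e he).mul (hsu s2 hs2))))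
    (((hsc s3 hs3).mul hAu).add (t2.mul ((hsc e he).mul (hsu s3 hs3)))) h
  refine ⟨z0, ?_⟩
  apply cancel_sign hs1
  rw [← z1]
  rcases hs1 with rfl | rfl <;> rcases he with rfl | rfl <;> noncomm_ring

end Cfsg.Agent.Helper1.Zas
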