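import Mathlib
import Cfsg.Agent.Lib.Helper1.ZasQuatC

/-!
# The key ring computation for Zassenhaus' theorem, part 2 (helper1)
-/

set_option autoImplicit false

namespace Cfsg.Agent.Helper1.Zas

variable {R : Type*} [Ring R] {a b c : R}

/-- the doubled trace of `x_σ y` -/
def tau (a b c n0 n1 n2 n3 s1 s2 s3 : R) : R :=
  qv a b c (1 - (s1 * n1 + s2 * n2 + s3 * n3)) (s1 * (n0 + 1)) (s2 * (n0 + 1)) (s3 * (n0 + 1))

/-- the hypothesis on a doubled trace -/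
def TauHyp (a b t : R) : Prop :=
  (∃ l : R, Cn a b l ∧ t = l) ∨ t * t + 2 * t - 4 = 0 ∨ t * t - 2 * t - 4 = 0

theorem step_s (q : QS a b c) (h2c : ∀ r : R, 2 * r = 0 → r = 0) {n0 n1 n2 n3 : R}
    (h0 : Cn a b n0) (h1 : Cn a b n1) (h2 : Cn a b n2) (h3 : Cn a b n3) {s1 s2 s3 : R}
    (hs1 : s1 = 1 ∨ s1 = -1) (hs2 : s2 = 1 ∨ s2 = -1) (hs3 : s3 = 1 ∨ s3 = -1)
    (h : TauHyp a b (tau a b c n0 n1 n2 n3 s1 s2 s3)) :
    n0 + 1 = 0 ∨
    (s1 * n1 + s2 * n2 + s3 * n3) * (n0 + 1) + (n0 + 1) * (s1 * n1 + s2 * n2 + s3 * n3) =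
      4 * (n0 + 1) ∨
    ((s1 * n1 + s2 * n2 + s3 * n3) * (n0 + 1) + (n0 + 1) * (s1 * n1 + s2 * n2 + s3 * n3) = 0 ∧
      (s1 * n1 + s2 * n2 + s3 * n3) * (s1 * n1 + s2 * n2 + s3 * n3) =
        3 * ((n0 + 1) * (n0 + 1)) + 5) := by
  have hsc : ∀ s : R, (s = 1 ∨ s = -1) → Cn a b s := by
    rintro s (rfl | rfl)
    · exact Cn.one
    · exact Cn.one.neg
  have hu : Cn a b (n0 + 1) := h0.add Cn.one
  have hW : Cn a b (s1 * n1 + s2 * n2 + s3 * n3) :=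
    (((hsc s1 hs1).mul h1).add ((hsc s2 hs2).mul h2)).add ((hsc s3 hs3).mul h3)
  have hA : Cn a b (1 - (s1 * n1 + s2 * n2 + s3 * n3)) := Cn.one.sub hW
  unfold tau at h
  rcases h with ⟨l, hl, hleq⟩ | hg | hg
  · left
    rw [← qv_scalar (a := a) (b := b) (c := c) l] at hleq
    obtain ⟨-, z1, -, -⟩ := coord_unique q h2c hA ((hsc s1 hs1).mul hu) ((hsc s2 hs2).mul hu)
      ((hsc s3 hs3).mul hu) hl Cn.zero Cn.zero Cn.zero hleq
    exact cancel_sign hs1 z1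
  · right; left
    have hg' : qv a b c (1 - (s1 * n1 + s2 * n2 + s3 * n3)) (s1 * (n0 + 1)) (s2 * (n0 + 1))
        (s3 * (n0 + 1)) * qv a b c (1 - (s1 * n1 + s2 * n2 + s3 * n3)) (s1 * (n0 + 1))
        (s2 * (n0 + 1)) (s3 * (n0 + 1)) + 2 * (1 * qv a b c (1 - (s1 * n1 + s2 * n2 + s3 * n3))
        (s1 * (n0 + 1)) (s2 * (n0 + 1)) (s3 * (n0 + 1))) - 4 = 0 := by rw [one_mul]; exact hg
    obtain ⟨-, z⟩ := gold_signed q h2c hA hu hs1 hs2 hs3 (Or.inl rfl) hg'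
    have e : (s1 * n1 + s2 * n2 + s3 * n3) * (n0 + 1) + (n0 + 1) * (s1 * n1 + s2 * n2 + s3 * n3) =
        4 * (n0 + 1) - ((1 - (s1 * n1 + s2 * n2 + s3 * n3)) * (n0 + 1) +
          (n0 + 1) * (1 - (s1 * n1 + s2 * n2 + s3 * n3)) + 2 * (1 * (n0 + 1))) := by
      noncomm_ring
    rw [e, z, sub_zero]
  · right; right
    have hg' : qv a b c (1 - (s1 * n1 + s2 * n2 + s3 * n3)) (s1 * (n0 + 1)) (s2 * (n0 + 1))
        (s3 * (n0 + 1)) * qv a b c (1 - (s1 * n1 + s2 * n2 + s3 * n3)) (s1 * (n0 + 1))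
        (s2 * (n0 + 1)) (s3 * (n0 + 1)) + 2 * (-1 * qv a b c (1 - (s1 * n1 + s2 * n2 + s3 * n3))
        (s1 * (n0 + 1)) (s2 * (n0 + 1)) (s3 * (n0 + 1))) - 4 = 0 := by
      rw [← hg]; noncomm_ring
    obtain ⟨z0, z⟩ := gold_signed q h2c hA hu hs1 hs2 hs3 (Or.inr rfl) hg'
    constructor
    · have e : (s1 * n1 + s2 * n2 + s3 * n3) * (n0 + 1) +
          (n0 + 1) * (s1 * n1 + s2 * n2 + s3 * n3) =
          -((1 - (s1 * n1 + s2 * n2 + s3 * n3)) * (n0 + 1) +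
            (n0 + 1) * (1 - (s1 * n1 + s2 * n2 + s3 * n3)) + 2 * (-1 * (n0 + 1))) := by
        noncomm_ring
      rw [e, z, neg_zero]
    · have e : (s1 * n1 + s2 * n2 + s3 * n3) * (s1 * n1 + s2 * n2 + s3 * n3) =
          ((1 - (s1 * n1 + s2 * n2 + s3 * n3)) * (1 - (s1 * n1 + s2 * n2 + s3 * n3)) -
            3 * ((n0 + 1) * (n0 + 1)) + 2 * (-1 * (1 - (s1 * n1 + s2 * n2 + s3 * n3))) - 4) +
          (3 * ((n0 + 1) * (n0 + 1)) + 5) := by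
        rw [show (5 : R) = 1 + 1 + 1 + 1 + 1 by norm_num, show (4 : R) = 1 + 1 + 1 + 1 by norm_num,
          show (3 : R) = 1 + 1 + 1 by norm_num, show (2 : R) = 1 + 1 by norm_num]
        noncomm_ring
      rw [e, z0, zero_add]

theorem neg_sign {s : R} (hs : s = 1 ∨ s = -1) : -s = 1 ∨ -s = -1 := by
  rcases hs with rfl | rfl
  · right; rfl
  · left; simp

theorem pair_s (q : QS a b c) (h2c : ∀ r : R, 2 * r = 0 → r = 0) {n0 n1 n2 n3 : R}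
    (h0 : Cn a b n0) (h1 : Cn a b n1) (h2 : Cn a b n2) (h3 : Cn a b n3) {s1 s2 s3 : R}
    (hs1 : s1 = 1 ∨ s1 = -1) (hs2 : s2 = 1 ∨ s2 = -1) (hs3 : s3 = 1 ∨ s3 = -1)
    (h : TauHyp a b (tau a b c n0 n1 n2 n3 s1 s2 s3))
    (h' : TauHyp a b (tau a b c n0 n1 n2 n3 (-s1) (-s2) (-s3))) :
    n0 + 1 = 0 ∨
    ((s1 * n1 + s2 * n2 + s3 * n3) * (n0 + 1) + (n0 + 1) * (s1 * n1 + s2 * n2 + s3 * n3) = 0 ∧
      (s1 * n1 + s2 * n2 + s3 * n3) * (s1 * n1 + s2 * n2 + s3 * n3) =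
        3 * ((n0 + 1) * (n0 + 1)) + 5) := by
  have four : ∀ r : R, 4 * r = 0 → r = 0 := by
    intro r hr
    apply h2c; apply h2c
    rw [← mul_assoc]; norm_num; exact hr
  have hneg : ((-s1) * n1 + (-s2) * n2 + (-s3) * n3) * (n0 + 1) +
      (n0 + 1) * ((-s1) * n1 + (-s2) * n2 + (-s3) * n3) =
      -((s1 * n1 + s2 * n2 + s3 * n3) * (n0 + 1) + (n0 + 1) * (s1 * n1 + s2 * n2 + s3 * n3)) := by
    noncomm_ring
  rcases step_s q h2c h0 h1 h2 h3 hs1 hs2 hs3 h with hu | hw | hw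
  · exact Or.inl hu
  · left
    rcases step_s q h2c h0 h1 h2 h3 (neg_sign hs1) (neg_sign hs2) (neg_sign hs3) h' with
      hu | hw' | hw'
    · exact hu
    · rw [hneg, hw] at hw'
      -- -(4u) = 4u
      have h8 : (4 : R) * (2 * (n0 + 1)) = 0 := by
        have e : (4 : R) * (2 * (n0 + 1)) = 4 * (n0 + 1) - -(4 * (n0 + 1)) := by
          rw [show (2 : R) = 1 + 1 by norm_num]; noncomm_ring
        rw [e, hw', sub_self]
      exact h2c _ (four _ h8)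
    · rw [hneg, hw] at hw'
      exact four _ (neg_eq_zero.mp hw'.1)
  · exact Or.inr hw

/-- **the key lemma**: the coordinates of an element of order three -/
theorem pi_core (q : QS a b c) (h2c : ∀ r : R, 2 * r = 0 → r = 0) {n0 n1 n2 n3 : R}
    (h0 : Cn a b n0) (h1 : Cn a b n1) (h2 : Cn a b n2) (h3 : Cn a b n3)
    (hN : qv a b c n0 n1 n2 n3 * qv a b c n0 n1 n2 n3 + 2 * qv a b c n0 n1 n2 n3 + 4 = 0)
    (hσ : ∀ s1 s2 s3 : R, (s1 = 1 ∨ s1 = -1) → (s2 = 1 ∨ s2 = -1) → (s3 = 1 ∨ s3 = -1) →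
      TauHyp a b (tau a b c n0 n1 n2 n3 s1 s2 s3))
    (hT1 : IsUnit (qv a b c (-n1) (n0 + 1) 0 0 * qv a b c (-n1) (n0 + 1) 0 0 - 1) ∨
      ∃ l : R, Cn a b l ∧ qv a b c (-n1) (n0 + 1) 0 0 = l)
    (hT2 : IsUnit (qv a b c (-n2) 0 (n0 + 1) 0 * qv a b c (-n2) 0 (n0 + 1) 0 - 1) ∨
      ∃ l : R, Cn a b l ∧ qv a b c (-n2) 0 (n0 + 1) 0 = l) :
    n0 + 1 = 0 := by
  have o1 : (1 : R) = 1 ∨ (1 : R) = -1 := Or.inl rfl
  have om : (-1 : R) = 1 ∨ (-1 : R) = -1 := Or.inr rfl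
  have hu : Cn a b (n0 + 1) := h0.add Cn.one
  obtain ⟨E0, E1, E2, E3⟩ := rel_of_cube q h2c h0 h1 h2 h3 hN
  -- the four pairs
  have P1 := pair_s q h2c h0 h1 h2 h3 o1 o1 o1 (hσ 1 1 1 o1 o1 o1)
    (hσ (-1) (-1) (-1) om om om)
  have P2 := pair_s q h2c h0 h1 h2 h3 o1 o1 om (hσ 1 1 (-1) o1 o1 om)
    (by simpa using hσ (-1) (-1) 1 om om o1)
  have P3 := pair_s q h2c h0 h1 h2 h3 o1 om o1 (hσ 1 (-1) 1 o1 om o1)
    (by simpa using hσ (-1) 1 (-1) om o1 om)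
  have P4 := pair_s q h2c h0 h1 h2 h3 om o1 o1 (hσ (-1) 1 1 om o1 o1)
    (by simpa using hσ 1 (-1) (-1) o1 om om)
  rcases P1 with hz | ⟨A1, S1⟩
  · exact hz
  rcases P2 with hz | ⟨A2, S2⟩
  · exact hz
  rcases P3 with hz | ⟨A3, S3⟩
  · exact hz
  rcases P4 with hz | ⟨A4, S4⟩
  · exact hz
  -- anticommutation of u with each n_j
  have a1 : n1 * (n0 + 1) + (n0 + 1) * n1 = 0 := by
    apply h2c
    have e : 2 * (n1 * (n0 + 1) + (n0 + 1) * n1) =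
        ((1 * n1 + 1 * n2 + 1 * n3) * (n0 + 1) + (n0 + 1) * (1 * n1 + 1 * n2 + 1 * n3)) -
        ((-1 * n1 + 1 * n2 + 1 * n3) * (n0 + 1) + (n0 + 1) * (-1 * n1 + 1 * n2 + 1 * n3)) := by
      rw [show (2 : R) = 1 + 1 by norm_num]; noncomm_ring
    rw [e, A1, A4, sub_self]
  have a2 : n2 * (n0 + 1) + (n0 + 1) * n2 = 0 := by
    apply h2c
    have e : 2 * (n2 * (n0 + 1) + (n0 + 1) * n2) =
        ((1 * n1 + 1 * n2 + 1 * n3) * (n0 + 1) + (n0 + 1) * (1 * n1 + 1 * n2 + 1 * n3)) -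
        ((1 * n1 + -1 * n2 + 1 * n3) * (n0 + 1) + (n0 + 1) * (1 * n1 + -1 * n2 + 1 * n3)) := by
      rw [show (2 : R) = 1 + 1 by norm_num]; noncomm_ring
    rw [e, A1, A3, sub_self]
  have a3 : n3 * (n0 + 1) + (n0 + 1) * n3 = 0 := by
    apply h2c
    have e : 2 * (n3 * (n0 + 1) + (n0 + 1) * n3) =
        ((1 * n1 + 1 * n2 + 1 * n3) * (n0 + 1) + (n0 + 1) * (1 * n1 + 1 * n2 + 1 * n3)) -
        ((1 * n1 + 1 * n2 + -1 * n3) * (n0 + 1) + (n0 + 1) * (1 * n1 + 1 * n2 + -1 * n3)) := by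
      rw [show (2 : R) = 1 + 1 by norm_num]; noncomm_ring
    rw [e, A1, A2, sub_self]
  -- the n_j commute
  have c23 : n2 * n3 = n3 * n2 := by
    have e : n2 * n3 - n3 * n2 = (n0 * n1 + n1 * n0 + n2 * n3 - n3 * n2 + 2 * n1) -
        (n1 * (n0 + 1) + (n0 + 1) * n1) := by
      rw [show (2 : R) = 1 + 1 by norm_num]; noncomm_ring
    rw [E1, a1, sub_self] at e
    exact sub_eq_zero.mp e
  have c13 : n1 * n3 = n3 * n1 := by
    have e : n3 * n1 - n1 * n3 = (n0 * n2 - n1 * n3 + n2 * n0 + n3 * n1 + 2 * n2) -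
        (n2 * (n0 + 1) + (n0 + 1) * n2) := by
      rw [show (2 : R) = 1 + 1 by norm_num]; noncomm_ring
    rw [E2, a2, sub_self] at e
    exact (sub_eq_zero.mp e).symm
  have c12 : n1 * n2 = n2 * n1 := by
    have e : n1 * n2 - n2 * n1 = (n0 * n3 + n1 * n2 - n2 * n1 + n3 * n0 + 2 * n3) -
        (n3 * (n0 + 1) + (n0 + 1) * n3) := by
      rw [show (2 : R) = 1 + 1 by norm_num]; noncomm_ring
    rw [E3, a3, sub_self] at e
    exact sub_eq_zero.mp e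
  have four : ∀ r : R, 4 * r = 0 → r = 0 := by
    intro r hr
    apply h2c; apply h2c
    rw [← mul_assoc]; norm_num; exact hr
  -- the mixed products vanish
  have m13 : n1 * n3 + n2 * n3 = 0 := by
    apply four
    have e : 4 * (n1 * n3 + n2 * n3) =
        (1 * n1 + 1 * n2 + 1 * n3) * (1 * n1 + 1 * n2 + 1 * n3) -
        (1 * n1 + 1 * n2 + -1 * n3) * (1 * n1 + 1 * n2 + -1 * n3) +
        2 * (n1 * n3 - n3 * n1) + 2 * (n2 * n3 - n3 * n2) := by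
      rw [show (4 : R) = 1 + 1 + 1 + 1 by norm_num, show (2 : R) = 1 + 1 by norm_num]
      noncomm_ring
    rw [e, S1, S2, c13, c23]; noncomm_ring
  have m12 : n1 * n2 + n2 * n3 = 0 := by
    apply four
    have e : 4 * (n1 * n2 + n2 * n3) =
        (1 * n1 + 1 * n2 + 1 * n3) * (1 * n1 + 1 * n2 + 1 * n3) -
        (1 * n1 + -1 * n2 + 1 * n3) * (1 * n1 + -1 * n2 + 1 * n3) +
        2 * (n1 * n2 - n2 * n1) + 2 * (n2 * n3 - n3 * n2) := by
      rw [show (4 : R) = 1 + 1 + 1 + 1 by norm_num, show (2 : R) = 1 + 1 by norm_num]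
      noncomm_ring
    rw [e, S1, S3, c12, c23]; noncomm_ring
  have m11 : n1 * n2 + n1 * n3 = 0 := by
    apply four
    have e : 4 * (n1 * n2 + n1 * n3) =
        (1 * n1 + 1 * n2 + 1 * n3) * (1 * n1 + 1 * n2 + 1 * n3) -
        (-1 * n1 + 1 * n2 + 1 * n3) * (-1 * n1 + 1 * n2 + 1 * n3) +
        2 * (n1 * n2 - n2 * n1) + 2 * (n1 * n3 - n3 * n1) := by
      rw [show (4 : R) = 1 + 1 + 1 + 1 by norm_num, show (2 : R) = 1 + 1 by norm_num]
      noncomm_ring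
    rw [e, S1, S4, c12, c13]; noncomm_ring
  have p23 : n2 * n3 = 0 := by
    apply h2c
    have e : 2 * (n2 * n3) = (n1 * n3 + n2 * n3) + (n1 * n2 + n2 * n3) - (n1 * n2 + n1 * n3) := by
      rw [show (2 : R) = 1 + 1 by norm_num]; noncomm_ring
    rw [e, m13, m12, m11]; simp
  have p13 : n1 * n3 = 0 := by
    have := m13; rw [p23, add_zero] at this; exact this
  have p12 : n1 * n2 = 0 := by
    have := m12; rw [p23, add_zero] at this; exact this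
  -- the sum of squares, two ways
  have sq1 : n1 * n1 + n2 * n2 + n3 * n3 = 3 * ((n0 + 1) * (n0 + 1)) + 5 := by
    rw [← S1]
    have e : (1 * n1 + 1 * n2 + 1 * n3) * (1 * n1 + 1 * n2 + 1 * n3) =
        n1 * n1 + n2 * n2 + n3 * n3 + (n1 * n2 + n1 * n3 + n2 * n3) +
        (n2 * n1 + n3 * n1 + n3 * n2) := by noncomm_ring
    rw [e, ← c12, ← c13, ← c23, p12, p13, p23]; simp
  have sq2 : n1 * n1 + n2 * n2 + n3 * n3 = (n0 + 1) * (n0 + 1) + 3 := by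
    have e : n1 * n1 + n2 * n2 + n3 * n3 = (n0 + 1) * (n0 + 1) + 3 -
        (n0 * n0 - n1 * n1 - n2 * n2 - n3 * n3 + 2 * n0 + 4) := by
      rw [show (4 : R) = 1 + 1 + 1 + 1 by norm_num, show (3 : R) = 1 + 1 + 1 by norm_num,
        show (2 : R) = 1 + 1 by norm_num]
      noncomm_ring
    rw [e, E0, sub_zero]
  have uu : (n0 + 1) * (n0 + 1) = -1 := by
    have e : 2 * ((n0 + 1) * (n0 + 1) + 1) = (3 * ((n0 + 1) * (n0 + 1)) + 5) -
        ((n0 + 1) * (n0 + 1) + 3) := by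
      rw [show (5 : R) = 1 + 1 + 1 + 1 + 1 by norm_num, show (3 : R) = 1 + 1 + 1 by norm_num,
        show (2 : R) = 1 + 1 by norm_num]
      noncomm_ring
    rw [← sq1, ← sq2, sub_self] at e
    exact eq_neg_of_add_eq_zero_left (h2c _ e)
  -- the squares of T1, T2
  have T1 : qv a b c (-n1) (n0 + 1) 0 0 * qv a b c (-n1) (n0 + 1) 0 0 - 1 = n1 * n1 := by
    rw [mul_coord q (-n1) (n0 + 1) 0 0 h1.neg hu Cn.zero Cn.zero]
    unfold qv
    have e : -n1 * (n0 + 1) + (n0 + 1) * -n1 = -(n1 * (n0 + 1) + (n0 + 1) * n1) := by noncomm_ring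
    simp only [mul_zero, zero_mul, sub_zero, add_zero, zero_add, sub_self]
    rw [e, a1, uu]; noncomm_ring
  have T2 : qv a b c (-n2) 0 (n0 + 1) 0 * qv a b c (-n2) 0 (n0 + 1) 0 - 1 = n2 * n2 := by
    rw [mul_coord q (-n2) 0 (n0 + 1) 0 h2.neg Cn.zero hu Cn.zero]
    unfold qv
    have e : -n2 * (n0 + 1) + (n0 + 1) * -n2 = -(n2 * (n0 + 1) + (n0 + 1) * n2) := by noncomm_ring
    simp only [mul_zero, zero_mul, sub_zero, add_zero, zero_add, sub_self]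
    rw [e, a2, uu]; noncomm_ring
  rcases hT1 with hU1 | ⟨l, hl, hleq⟩
  · rcases hT2 with hU2 | ⟨l, hl, hleq⟩
    · rw [T1] at hU1
      rw [T2] at hU2
      have h0u : IsUnit ((n1 * n1) * (n2 * n2)) := hU1.mul hU2
      have e : (n1 * n1) * (n2 * n2) = n1 * (n1 * n2) * n2 := by noncomm_ring
      rw [e, p12, mul_zero, zero_mul] at h0u
      obtain ⟨v, hv⟩ := h0u.exists_right_inv
      rw [zero_mul] at hv
      calc n0 + 1 = (n0 + 1) * 1 := (mul_one _).symm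
        _ = (n0 + 1) * 0 := by rw [hv]
        _ = 0 := mul_zero _
    · rw [← qv_scalar (a := a) (b := b) (c := c) l] at hleq
      obtain ⟨-, -, z2, -⟩ := coord_unique q h2c h2.neg Cn.zero hu Cn.zero hl Cn.zero Cn.zero
        Cn.zero hleq
      exact z2
  · rw [← qv_scalar (a := a) (b := b) (c := c) l] at hleq
    obtain ⟨-, z1, -, -⟩ := coord_unique q h2c h1.neg hu Cn.zero Cn.zero hl Cn.zero Cn.zero
      Cn.zero hleq
    exact z1

end Cfsg.Agent.Helper1.Zas
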